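import Mathlib.RingTheory.Smooth.StandardSmooth

/-!
Prescribing the values of distinguished variables in a submersive presentation.
-/

namespace Groth.Agent.SmoothingLib

open MvPolynomial

universe u

variable {A : Type u} [CommRing A] {k : ℕ} (v : Fin k → A)

theorem ker_aeval_eq_span :
    RingHom.ker (aeval v : MvPolynomial (Fin k) A →ₐ[A] A).toRingHom =
      Ideal.span (Set.range fun i => X i - C (v i)) := by
  apply le_antisymm
  · intro p hp
    have key : ∀ q : MvPolynomial (Fin k) A,
        q - C (aeval v q) ∈ Ideal.span (Set.range fun i => X i - C (v i)) := by
      intro q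
      induction q using MvPolynomial.induction_on with
      | C a => simp
      | add q q' hq hq' =>
        have := Ideal.add_mem _ hq hq'
        convert this using 1
        simp only [map_add]; ring
      | mul_X q i hq =>
        have := Ideal.add_mem _ (Ideal.mul_mem_right (X i) _ hq)
          (Ideal.mul_mem_left _ (C (aeval v q))
            (Ideal.subset_span ⟨i, rfl⟩ : X i - C (v i) ∈
              Ideal.span (Set.range fun i => X i - C (v i))))
        convert this using 1
        simp only [map_mul, aeval_X]; ring
    have := key p
    rwa [show aeval v p = 0 from hp, map_zero, sub_zero] at this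
  · rw [Ideal.span_le]
    rintro _ ⟨i, rfl⟩
    show aeval v (X i - C (v i)) = 0
    simp

/-- `A = A[x]/(x - v)` -/
noncomputable def pointPresentation : Algebra.SubmersivePresentation A A (Fin k) (Fin k) where
  val := v
  σ' := C
  aeval_val_σ' s := by simp
  relation i := X i - C (v i)
  span_range_relation_eq_ker := (ker_aeval_eq_span v).symm
  map := id
  map_inj := Function.injective_id
  jacobian_isUnit := by
    rw [Algebra.PreSubmersivePresentation.jacobian_eq_jacobiMatrix_det, RingHom.map_det]
    refine (congrArg IsUnit ?_).mpr isUnit_one
    convert Matrix.det_one (n := Fin k) (R := A)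
    ext i j
    rw [RingHom.mapMatrix_apply, Matrix.map_apply,
      Algebra.PreSubmersivePresentation.jacobiMatrix_apply]
    simp [pderiv_X, Matrix.one_apply, Pi.single_apply, eq_comm, apply_ite]
    split_ifs <;> simp_all

end Groth.Agent.SmoothingLib
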