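import Groth.Agent.SmoothingLib.IdemLift
import Mathlib.RingTheory.Smooth.Basic
import Mathlib.RingTheory.Etale.Basic

/-!
Smooth algebras lift along surjections of base rings.
-/

namespace Groth.Agent.SmoothingLib.LiftQuotient

open MvPolynomial FreeKaehler IdemLift

universe u

/-- derivations extend to localizations -/
theorem exists_extend {R C' : Type u} [CommRing R] [CommRing C'] [Algebra R C'] {n : ℕ}
    (D : Derivation R C' (Fin n → C')) (v : C') :
    ∃ D' : Derivation R (Localization.Away v) (Fin n → Localization.Away v),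
      ∀ c i, D' (algebraMap C' _ c) i = algebraMap C' _ (D c i) := by
  classical
  let j : C' →+* Localization.Away v := algebraMap _ _
  let ρ : C' →+* TrivSqZeroExt (Localization.Away v) (Fin n → Localization.Away v) :=
    { toFun := fun c => TrivSqZeroExt.inl (j c) + TrivSqZeroExt.inr (fun i => j (D c i))
      map_one' := by
        refine TrivSqZeroExt.ext (by simp) ?_
        funext i
        simp
      map_zero' := by
        refine TrivSqZeroExt.ext (by simp) ?_
        funext i
        simp
      map_add' := fun p q => by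
        refine TrivSqZeroExt.ext (by simp) ?_
        funext i
        simp
      map_mul' := fun p q => by
        refine TrivSqZeroExt.ext (by simp) ?_
        funext i
        simp [TrivSqZeroExt.snd_mul, Derivation.leibniz, mul_comm, add_comm] }
  have hu : IsUnit (ρ v) := by
    rw [TrivSqZeroExt.isUnit_iff_isUnit_fst]
    simpa [ρ] using (IsLocalization.Away.algebraMap_isUnit v :
      IsUnit (algebraMap C' (Localization.Away v) v))
  let F : Localization.Away v →+* _ := IsLocalization.Away.lift v hu
  have hF : ∀ c, F (j c) = ρ c := fun c => IsLocalization.Away.lift_eq v hu c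
  have hFfst : ∀ t, (F t).fst = t := fun t => by
    have h : (TrivSqZeroExt.fstHom (Localization.Away v) (Localization.Away v)
        (Fin n → Localization.Away v)).toRingHom.comp F = RingHom.id _ :=
      IsLocalization.ringHom_ext (Submonoid.powers v) (RingHom.ext fun c => by
        show (F (j c)).fst = j c
        rw [hF]; simp [ρ])
    exact RingHom.congr_fun h t
  let DL : Localization.Away v →ₗ[R] (Fin n → Localization.Away v) :=
    { toFun := fun t => (F t).snd
      map_add' := fun s t => by simp
      map_smul' := fun c t => by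
        have h0 : (F (algebraMap R (Localization.Away v) c)).snd = 0 := by
          rw [IsScalarTower.algebraMap_apply R C' (Localization.Away v), hF]
          funext i; simp [ρ]
        rw [RingHom.id_apply, Algebra.smul_def c t, map_mul, TrivSqZeroExt.snd_mul, h0, hFfst,
          hFfst]
        funext i
        simp [Algebra.smul_def] }
  refine ⟨Derivation.mk' DL fun s t => ?_, fun c i => ?_⟩
  · show (F (s * t)).snd = s • (F t).snd + t • (F s).snd
    rw [map_mul, TrivSqZeroExt.snd_mul, hFfst, hFfst]
    simp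
  · show (F (j c)).snd i = j (D c i)
    rw [hF]
    simp [ρ]

/-- Jacobian criterion with a projective conormal module. -/
theorem smooth_quotient_of_frame {R S : Type u} [CommRing R] [CommRing S] [Algebra R S]
    [Algebra.Smooth R S] {n m : ℕ} (D : Derivation R S (Fin n → S)) (h : Fin m → S)
    (E : Matrix (Fin m) (Fin m) S) (T : Matrix (Fin m) (Fin n) S)
    (hEh : ∀ k, h k = ∑ j, E j k * h j)
    (hT : ∀ j k, ∑ x, T j x * D (h k) x - E j k ∈ Ideal.span (Set.range h)) :
    Algebra.Smooth R (S ⧸ Ideal.span (Set.range h)) := by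
  classical
  set K := Ideal.span (Set.range h) with hKdef
  have hK : ∀ j, h j ∈ K := fun j => Ideal.subset_span ⟨j, rfl⟩
  have hfp : Algebra.FinitePresentation R (S ⧸ K) :=
    Algebra.FinitePresentation.quotient (Submodule.fg_def.2 ⟨_, Set.finite_range _, rfl⟩)
  refine ⟨?_, hfp⟩
  let f : S →ₐ[R] S ⧸ K := Ideal.Quotient.mkₐ R K
  have hfK : RingHom.ker f.toRingHom = K := Ideal.Quotient.mkₐ_ker R K
  set L := RingHom.ker f.toRingHom ^ 2
  let ξ : S → S := fun s => ∑ j, (∑ x, T j x * D s x) * h j
  have hξK : ∀ s, ξ s ∈ K := fun s => K.sum_mem fun j _ => K.mul_mem_left _ (hK j)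
  have hξ2 : ∀ s t, ξ s * ξ t ∈ L := fun s t => by
    rw [show L = K * K by rw [← pow_two, ← hfK]]
    exact Ideal.mul_mem_mul (hξK s) (hξK t)
  have hξmul : ∀ s t, ξ (s * t) = s * ξ t + t * ξ s := fun s t => by
    simp only [ξ, Derivation.leibniz, Pi.add_apply, Pi.smul_apply, smul_eq_mul, mul_add,
      Finset.sum_add_distrib, add_mul, Finset.mul_sum, Finset.sum_mul]
    congr 1 <;> exact Finset.sum_congr rfl fun j _ => Finset.sum_congr rfl fun x _ => by ring
  have hξadd : ∀ s t, ξ (s + t) = ξ s + ξ t := fun s t => by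
    simp only [ξ, map_add, Pi.add_apply, mul_add, Finset.sum_add_distrib, add_mul]
  have hξR : ∀ c, ξ (algebraMap R S c) = 0 := fun c => by
    simp [ξ, Derivation.map_algebraMap]
  have hξ0 : ξ 0 = 0 := by simp [ξ]
  have hξ1 : ξ 1 = 0 := by simp [ξ]
  let q : S →+* S ⧸ L := Ideal.Quotient.mk L
  let σ : S →ₐ[R] S ⧸ L :=
    { toFun := fun s => q (s - ξ s)
      map_one' := by rw [hξ1, sub_zero, map_one]
      map_zero' := by rw [hξ0, sub_zero, map_zero]
      map_add' := fun s t => by rw [hξadd, ← map_add]; congr 1; ring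
      map_mul' := fun s t => by
        rw [← map_mul, Ideal.Quotient.eq, hξmul]
        rw [show s * t - (s * ξ t + t * ξ s) - (s - ξ s) * (t - ξ t) = -(ξ s * ξ t) by ring]
        exact L.neg_mem (hξ2 s t)
      commutes' := fun c => by rw [hξR, sub_zero]; rfl }
  have hσh : ∀ k, σ (h k) = 0 := fun k => by
    show q (h k - ξ (h k)) = 0
    rw [Ideal.Quotient.eq_zero_iff_mem]
    nth_rewrite 1 [hEh k]
    simp only [ξ, ← Finset.sum_sub_distrib, ← sub_mul]
    refine L.sum_mem fun j _ => ?_
    rw [show L = K * K by rw [← pow_two, ← hfK]]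
    refine Ideal.mul_mem_mul ?_ (hK j)
    rw [← neg_sub]
    exact K.neg_mem (hT j k)
  have hσK : ∀ s ∈ K, σ s = 0 := by
    have hle : K ≤ RingHom.ker σ.toRingHom := Ideal.span_le.2 (by
      rintro _ ⟨k, rfl⟩
      exact hσh k)
    exact fun s hs => hle hs
  refine Algebra.FormallySmooth.of_split f (Ideal.Quotient.liftₐ K σ hσK) ?_
  apply Ideal.Quotient.algHom_ext
  refine AlgHom.ext fun s => ?_
  show f.kerSquareLift (q (s - ξ s)) = f s
  refine Eq.trans (show f.kerSquareLift (q (s - ξ s)) = f (s - ξ s) from rfl) ?_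
  rw [map_sub, show f (ξ s) = 0 from Ideal.Quotient.eq_zero_iff_mem.2 (hξK s), sub_zero]

set_option maxHeartbeats 1000000 in
theorem exists_smooth_lift {R A₀ : Type u} [CommRing R] (I : Ideal R) [CommRing A₀]
    [Algebra (R ⧸ I) A₀] [Algebra.Smooth (R ⧸ I) A₀] :
    ∃ (A : Type u) (_ : CommRing A) (_ : Algebra R A), Algebra.Smooth R A ∧
      Nonempty ((A ⧸ I.map (algebraMap R A)) ≃ₐ[R ⧸ I] A₀) := by
  classical
  obtain ⟨n, φ, hφ, hfg⟩ := ‹Algebra.Smooth (R ⧸ I) A₀›.finitePresentation.out
  obtain ⟨m, f, hf⟩ := Submodule.fg_iff_exists_fin_generating_family.1 hfg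
  have hker : RingHom.ker φ.toRingHom = Ideal.span (Set.range f) := hf.symm
  have : Algebra.Smooth A₀ (Localization.Away (1 : A₀)) :=
    Algebra.Smooth.of_isLocalization_Away (1 : A₀)
  have : Algebra.Smooth (R ⧸ I) (Localization.Away (1 : A₀)) :=
    Algebra.Smooth.comp (R ⧸ I) A₀ (Localization.Away (1 : A₀))
  obtain ⟨N, P, hP⟩ := exists_splitting f φ hφ hker (1 : A₀)
  choose l hl using hP
  simp only [one_pow, one_mul] at hl
  let G : Matrix (Fin n) (Fin m) A₀ := Matrix.of fun k j => φ (pderiv k (f j))
  let P₀ : Matrix (Fin m) (Fin n) A₀ := Matrix.of P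
  let F₀ := P₀ * G
  have hGF : G * F₀ = G := by
    ext k j
    have h := rel_jacobian f φ hker (hl j) k
    simp only [sub_mul, ite_mul, one_mul, zero_mul, Finset.sum_sub_distrib, Finset.sum_ite_eq',
      Finset.mem_univ, if_true, sub_eq_zero] at h
    refine Eq.trans ?_ h.symm
    simp only [F₀, P₀, G, Matrix.mul_apply, Matrix.of_apply, Finset.mul_sum, Finset.sum_mul]
    exact Finset.sum_congr rfl fun i _ => Finset.sum_congr rfl fun x _ => by ring
  have hF₀ : F₀ * F₀ = F₀ := by
    show P₀ * G * F₀ = F₀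
    rw [Matrix.mul_assoc, hGF]
  -- lift the presentation
  let mk : MvPolynomial (Fin n) R →+* MvPolynomial (Fin n) (R ⧸ I) :=
    MvPolynomial.map (Ideal.Quotient.mk I)
  have hmk : Function.Surjective mk :=
    MvPolynomial.map_surjective _ Ideal.Quotient.mk_surjective
  let π : MvPolynomial (Fin n) R →+* A₀ := φ.toRingHom.comp mk
  choose g hg using fun j => hmk (f j)
  obtain ⟨C', _, _, _, π', hππ', hπ', hJ', E, hE, hEF⟩ :=
    IdemLift.exists_nhd π (hφ.comp hmk) F₀ hF₀
  let al : MvPolynomial (Fin n) R →+* C' := algebraMap _ _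
  letI : Algebra R C' := (al.comp MvPolynomial.C).toAlgebra
  haveI : IsScalarTower R (MvPolynomial (Fin n) R) C' := IsScalarTower.of_algebraMap_eq fun _ => rfl
  haveI : Algebra.Smooth R (MvPolynomial (Fin n) R) := ⟨inferInstance, inferInstance⟩
  haveI : Algebra.Smooth R C' := Algebra.Smooth.comp R (MvPolynomial (Fin n) R) C'
  obtain ⟨D, hD⟩ := IdemLift.exists_derivation (R := R) (n := n) C'
  let IC : Ideal C' := I.map (algebraMap R C')
  let g' : Fin m → C' := fun i => al (g i)
  have hπal : ∀ p, π' (al p) = φ (mk p) := fun p => RingHom.congr_fun hππ' p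
  have hfI : ∀ j, φ (f j) = 0 := fun j => by
    have h1 : f j ∈ Ideal.span (Set.range f) := Ideal.subset_span ⟨j, rfl⟩
    rw [← hker] at h1; exact h1
  have hgJ : ∀ i, g' i ∈ RingHom.ker π' := fun i => by
    show π' (al (g i)) = 0
    rw [hπal, hg, hfI]
  have hIC : ∀ p, mk p = 0 → al p ∈ IC := fun p hp => by
    have hmem : p ∈ RingHom.ker mk := hp
    rw [show RingHom.ker mk = I.map (MvPolynomial.C (σ := Fin n)) by
      rw [MvPolynomial.ker_map, Ideal.mk_ker]] at hmem
    have h := Ideal.mem_map_of_mem al hmem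
    rw [Ideal.map_map] at h
    exact h
  have hJle : RingHom.ker π' ≤ Ideal.span (Set.range g') ⊔ IC := by
    rw [hJ', Ideal.map_le_iff_le_comap]
    intro z hz
    rw [Ideal.mem_comap]
    have hz' : mk z ∈ Ideal.span (Set.range f) := by rw [← hker]; exact hz
    obtain ⟨c, hc⟩ := Ideal.mem_span_range_iff_exists_fun.1 hz'
    choose c' hc' using fun j => hmk (c j)
    have h0 : mk (z - ∑ j, c' j * g j) = 0 := by
      simp [map_sub, map_sum, map_mul, hc', hg, hc]
    show al z ∈ Ideal.span (Set.range g') ⊔ IC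
    rw [show al z = (∑ j, al (c' j) * g' j) + al (z - ∑ j, c' j * g j) by simp [g', map_sum]]
    exact Submodule.add_mem_sup
      (Ideal.sum_mem _ fun j _ => Ideal.mul_mem_left _ _ (Ideal.subset_span ⟨j, rfl⟩)) (hIC _ h0)
  let h : Fin m → C' := fun k => ∑ i, E i k * g' i
  set K' := Ideal.span (Set.range h) ⊔ IC with hK'
  set J₂ := RingHom.ker π' * Ideal.span (Set.range g')
  have hstep : ∀ j, g' j ∈ K' ⊔ J₂ := by
    intro j
    obtain ⟨p, hp, hmem⟩ := hl j
    choose p' hp' using fun i => hmk (p i)
    have h1 : ∑ i, al (p' i) * g' i ∈ IC ⊔ J₂ := by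
      have h2 : mk (∑ i, p' i * g i) ∈ Ideal.span (Set.range f) * Ideal.span (Set.range f) := by
        rw [← pow_two]; simpa [map_sum, hp', hg] using hmem
      have h3 : Ideal.span (Set.range f) = (Ideal.span (Set.range g)).map mk := by
        rw [Ideal.map_span, ← Set.range_comp]
        congr 1
        ext z; simp [hg]
      rw [h3, ← Ideal.map_mul, Ideal.mem_map_iff_of_surjective _ hmk] at h2
      obtain ⟨w, hw, hwe⟩ := h2
      have h4 : al w ∈ J₂ := by
        have h5 := Ideal.mem_map_of_mem al hw
        rw [Ideal.map_mul, Ideal.map_span, ← Set.range_comp] at h5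
        exact Ideal.mul_mono_left (Ideal.span_le.2 (by rintro _ ⟨i, rfl⟩; exact hgJ i)) h5
      have h6 := Submodule.add_mem_sup (hIC (∑ i, p' i * g i - w) (by rw [map_sub, hwe, sub_self])) h4
      simpa [g', map_sum] using h6
    have h7 : ∑ i, ((if i = j then 1 else 0) - E i j - al (p' i)) * g' i ∈ J₂ := by
      refine Ideal.sum_mem _ fun i _ => Ideal.mul_mem_mul ?_ (Ideal.subset_span ⟨i, rfl⟩)
      show π' _ = 0
      rw [map_sub, map_sub, hπal, hp', hp, show π' (E i j) = F₀ i j from congrFun (congrFun hEF i) j,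
        apply_ite π', map_one, map_zero]
      simp only [F₀, P₀, G, Matrix.mul_apply, Matrix.of_apply, sub_eq_zero]
      congr 1
      exact Finset.sum_congr rfl fun x _ => mul_comm _ _
    have h8 : g' j = h j + (∑ i, al (p' i) * g' i +
        ∑ i, ((if i = j then 1 else 0) - E i j - al (p' i)) * g' i) := by
      simp only [sub_mul, ite_mul, one_mul, zero_mul, Finset.sum_sub_distrib, Finset.sum_ite_eq',
        Finset.mem_univ, if_true, h]
      ring
    rw [h8]
    refine Ideal.add_mem _ (Ideal.mem_sup_left (Ideal.mem_sup_left (Ideal.subset_span ⟨j, rfl⟩)))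
      (Ideal.add_mem _ ?_ (Ideal.mem_sup_right h7))
    exact sup_le_sup_right (le_sup_right : IC ≤ K') J₂ h1
  obtain ⟨r, hr, hrK⟩ : ∃ r : C', r - 1 ∈ RingHom.ker π' ∧ ∀ i, r * g' i ∈ K' := by
    let M := (Ideal.span (Set.range g')).map (Ideal.Quotient.mk K')
    let N : Submodule C' (C' ⧸ K') := Submodule.map K'.mkQ (Ideal.span (Set.range g'))
    have hle : N ≤ RingHom.ker π' • N := by
      have h1 : Ideal.span (Set.range g') ≤ K' ⊔ J₂ :=
        Ideal.span_le.2 (by rintro _ ⟨i, rfl⟩; exact hstep i)
      have h2 := Submodule.map_mono (f := K'.mkQ) h1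
      rw [Submodule.map_sup, Submodule.mkQ_map_self, bot_sup_eq,
        show J₂ = RingHom.ker π' • Ideal.span (Set.range g') from rfl, Submodule.map_smul''] at h2
      exact h2
    obtain ⟨r, hr, hr0⟩ := Submodule.exists_sub_one_mem_and_smul_eq_zero_of_fg_of_le_smul
      (RingHom.ker π') N (Submodule.FG.map _ (Submodule.fg_def.2 ⟨_, Set.finite_range _, rfl⟩)) hle
    refine ⟨r, hr, fun i => ?_⟩
    have h1 := hr0 (K'.mkQ (g' i)) ⟨g' i, Ideal.subset_span ⟨i, rfl⟩, rfl⟩
    rw [← map_smul, Submodule.mkQ_apply, Submodule.Quotient.mk_eq_zero] at h1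
    exact h1
  choose P₁ hP₁ using fun x : Fin m × Fin n => hπ' (P x.1 x.2)
  let Lm : Matrix (Fin m) (Fin n) C' := Matrix.of fun i k => P₁ (i, k)
  let Dh : Matrix (Fin n) (Fin m) C' := Matrix.of fun x k => D (h k) x
  let M := E * Lm * Dh * E
  let M' := M + 1 - E
  have hπM : M'.map π' = 1 := by
    have hDh : Dh.map π' = G * F₀ := by
      ext x k
      show π' (D (∑ i, E i k * g' i) x) = _
      simp only [map_sum, Finset.sum_apply, Derivation.leibniz, Pi.add_apply, Pi.smul_apply,
        smul_eq_mul, map_add, map_mul, show ∀ i, π' (g' i) = 0 from hgJ, zero_mul, add_zero,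
        Matrix.mul_apply]
      refine Finset.sum_congr rfl fun i _ => ?_
      rw [hD, hπal, show π' (E i k) = F₀ i k from congrFun (congrFun hEF i) k,
        show mk (pderiv x (g i)) = pderiv x (f i) by rw [← hg, MvPolynomial.pderiv_map]]
      exact mul_comm _ _
    have hLm : Lm.map π' = P₀ := by ext i k; exact hP₁ (i, k)
    rw [show M' = M + 1 - E from rfl, Matrix.map_sub π' (map_sub π'), Matrix.map_add π' (map_add π'),
      Matrix.map_one π' (map_zero π') (map_one π'), hEF,
      show M = E * Lm * Dh * E from rfl, Matrix.map_mul, Matrix.map_mul, Matrix.map_mul, hEF, hLm, hDh,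
      hGF, show F₀ * P₀ * G = F₀ * F₀ from Matrix.mul_assoc _ _ _, hF₀, hF₀, add_sub_cancel_left]
  have hπδ : π' M'.det = 1 := by
    rw [RingHom.map_det, RingHom.mapMatrix_apply, hπM, Matrix.det_one]
  let v := M'.det * r
  have hπv : π' v = 1 := by
    have hr' : π' (r - 1) = 0 := hr
    rw [map_sub, map_one, sub_eq_zero] at hr'
    rw [map_mul, hπδ, hr', one_mul]
  let S := Localization.Away v
  let j : C' →+* Localization.Away v := algebraMap _ _
  obtain ⟨D', hD'⟩ := exists_extend D v
  haveI : Algebra.Smooth C' (Localization.Away v) := Algebra.Smooth.of_isLocalization_Away v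
  haveI : Algebra.Smooth R (Localization.Away v) := Algebra.Smooth.comp R C' (Localization.Away v)
  let hS : Fin m → Localization.Away v := fun k => j (h k)
  have hδu : IsUnit (j M'.det) :=
    isUnit_of_mul_isUnit_left (show IsUnit (j M'.det * j r) by
      rw [← map_mul]; exact IsLocalization.Away.algebraMap_isUnit v)
  let T : Matrix (Fin m) (Fin n) (Localization.Away v) :=
    (↑hδu.unit⁻¹ : Localization.Away v) • (M'.adjugate * (E * Lm)).map j
  have hEh : ∀ k, h k = ∑ i, E i k * h i := fun k => by
    calc h k = ∑ i, (E * E) i k * g' i := by rw [hE]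
      _ = ∑ i, ∑ p, E i p * E p k * g' i := Finset.sum_congr rfl fun i _ => by
          rw [Matrix.mul_apply, Finset.sum_mul]
      _ = _ := by
          rw [Finset.sum_comm]
          refine Finset.sum_congr rfl fun p _ => ?_
          rw [Finset.mul_sum]
          exact Finset.sum_congr rfl fun i _ => by ring
  have hM'E : M'.adjugate * M = M'.det • E := by
    have h1 : M' * E = M := by
      show (M + 1 - E) * E = M
      rw [Matrix.sub_mul, Matrix.add_mul, Matrix.one_mul, hE, add_sub_cancel_right,
        show M = E * Lm * Dh * E from rfl, Matrix.mul_assoc _ E E, hE]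
    calc M'.adjugate * M = M'.adjugate * (M' * E) := by rw [h1]
      _ = M'.det • E := by rw [← Matrix.mul_assoc, Matrix.adjugate_mul, Matrix.smul_mul, Matrix.one_mul]
  have hT : ∀ i k, ∑ x, T i x * D' (hS k) x - (E.map j) i k ∈ Ideal.span (Set.range hS) := by
    intro i k
    have hmem : ∀ x, Dh x k - (Dh * E) x k ∈ Ideal.span (Set.range h) := fun x => by
      have h1 : Dh x k = (Dh * E) x k + ∑ p, h p * D (E p k) x := by
        show D (h k) x = _
        conv_lhs => rw [hEh k]
        simp only [map_sum, Derivation.leibniz, Pi.add_apply, Pi.smul_apply, Finset.sum_apply,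
          smul_eq_mul, Finset.sum_add_distrib, Matrix.mul_apply, Dh, Matrix.of_apply]
        congr 1
        exact Finset.sum_congr rfl fun p _ => mul_comm _ _
      rw [h1, add_sub_cancel_left]
      exact Ideal.sum_mem _ fun p _ => Ideal.mul_mem_right _ _ (Ideal.subset_span ⟨p, rfl⟩)
    have h2 : (M'.adjugate * (E * Lm) * Dh) i k - (M'.det • E) i k ∈ Ideal.span (Set.range h) := by
      rw [← hM'E, show M'.adjugate * M = M'.adjugate * (E * Lm) * (Dh * E) by
        simp only [M, Matrix.mul_assoc], Matrix.mul_apply, Matrix.mul_apply (N := Dh * E),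
        ← Finset.sum_sub_distrib]
      exact Ideal.sum_mem _ fun x _ => by rw [← mul_sub]; exact Ideal.mul_mem_left _ _ (hmem x)
    have h3 := Ideal.mem_map_of_mem j h2
    rw [Ideal.map_span, ← Set.range_comp] at h3
    have h4 := Ideal.mul_mem_left _ (↑hδu.unit⁻¹ : Localization.Away v) h3
    rw [map_sub, mul_sub, Matrix.smul_apply, smul_eq_mul, map_mul, ← mul_assoc,
      hδu.val_inv_mul, one_mul, Matrix.mul_apply, map_sum, Finset.mul_sum] at h4
    refine Eq.mp (congrArg₂ (· ∈ Ideal.span ·) ?_ rfl) h4
    refine congrArg₂ (· - ·) (Finset.sum_congr rfl fun x _ => ?_) rfl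
    show _ = T i x * D' (j (h k)) x
    rw [hD', map_mul, ← mul_assoc]
    rfl
  haveI hsm := smooth_quotient_of_frame D' hS (E.map j) T (fun k => by
    show j (h k) = ∑ i, j (E i k) * j (h i)
    rw [hEh k]; simp only [map_sum, map_mul]) hT
  set KS := Ideal.span (Set.range hS)
  -- the comparison with `A₀`
  let πS : Localization.Away v →+* A₀ := IsLocalization.Away.lift v (by rw [hπv]; exact isUnit_one)
  have hπS : ∀ c, πS (j c) = π' c := fun c => IsLocalization.Away.lift_eq v _ c
  have hπh : ∀ k, π' (h k) = 0 := fun k => by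
    simp [h, map_sum, map_mul, show ∀ i, π' (g' i) = 0 from hgJ]
  let πA : Localization.Away v ⧸ KS →+* A₀ := Ideal.Quotient.lift KS πS (by
    have hle : KS ≤ RingHom.ker πS := Ideal.span_le.2 (by
      rintro _ ⟨k, rfl⟩
      exact (hπS _).trans (hπh k))
    exact fun s hs => hle hs)
  let IA : Ideal (Localization.Away v ⧸ KS) := I.map (algebraMap R _)
  have hπR : ∀ c : R, πA (algebraMap R _ c) = algebraMap (R ⧸ I) A₀ (Ideal.Quotient.mk I c) := by
    intro c
    show πS (algebraMap R (Localization.Away v) c) = _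
    rw [IsScalarTower.algebraMap_apply R C' (Localization.Away v), hπS,
      show π' (algebraMap R C' c) = φ (mk (MvPolynomial.C c)) from hπal _,
      show mk (MvPolynomial.C c) = MvPolynomial.C (Ideal.Quotient.mk I c) from MvPolynomial.map_C _ _,
      ← MvPolynomial.algebraMap_eq, AlgHom.commutes]
  have hsurj : Function.Surjective πA := fun t => by
    obtain ⟨c, rfl⟩ := hπ' t
    exact ⟨Ideal.Quotient.mk KS (j c), hπS c⟩
  have hkerA : RingHom.ker πA = IA := by
    refine le_antisymm (fun t ht => ?_) (Ideal.map_le_iff_le_comap.2 fun c hc => ?_)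
    · obtain ⟨s, rfl⟩ := Ideal.Quotient.mk_surjective t
      obtain ⟨⟨c, ⟨_, e, rfl⟩⟩, hc⟩ := IsLocalization.surj (Submonoid.powers v) s
      have hcJ : c ∈ RingHom.ker π' := by
        show π' c = 0
        rw [← hπS, show j c = s * j (v ^ e) from hc.symm, map_mul,
          show πS s = 0 from ht, zero_mul]
      have hvc : v * c ∈ K' := by
        obtain ⟨y, hy, z, hz, rfl⟩ := Submodule.mem_sup.1 (hJle hcJ)
        rw [mul_add]
        refine K'.add_mem ?_ (K'.mul_mem_left _ (Ideal.mem_sup_right hz))
        have hle : Ideal.span (Set.range g') ≤ Submodule.comap (LinearMap.mulLeft C' v) K' :=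
          Ideal.span_le.2 (by
            rintro _ ⟨i, rfl⟩
            show v * g' i ∈ K'
            rw [show v * g' i = M'.det * (r * g' i) from mul_assoc _ _ _]
            exact K'.mul_mem_left _ (hrK i))
        exact hle hy
      let qC : C' →+* Localization.Away v ⧸ KS := (Ideal.Quotient.mk KS).comp j
      have hK'A : K'.map qC ≤ IA := by
        rw [hK', Ideal.map_sup]
        refine sup_le ?_ ?_
        · rw [Ideal.map_span, Ideal.span_le]
          rintro _ ⟨_, ⟨k, rfl⟩, rfl⟩
          rw [SetLike.mem_coe, show qC (h k) = 0 from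
            Ideal.Quotient.eq_zero_iff_mem.2 (Ideal.subset_span ⟨k, rfl⟩)]
          exact IA.zero_mem
        · rw [Ideal.map_map]
          exact le_of_eq (congrArg (fun ψ => I.map ψ) (RingHom.ext fun c => by
            show Ideal.Quotient.mk KS (j (algebraMap R C' c)) = algebraMap R (_ ⧸ KS) c
            rw [← IsScalarTower.algebraMap_apply R C' (Localization.Away v)]
            rfl))
      have h1 : qC (v * c) ∈ IA := hK'A (Ideal.mem_map_of_mem _ hvc)
      have hu : IsUnit (qC (v ^ (e + 1))) := by
        rw [map_pow]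
        exact ((IsLocalization.Away.algebraMap_isUnit v).map (Ideal.Quotient.mk KS)).pow _
      refine (Ideal.unit_mul_mem_iff_mem IA hu).1 ?_
      convert h1 using 1
      show Ideal.Quotient.mk KS (j (v ^ (e + 1))) * Ideal.Quotient.mk KS s = _
      rw [← map_mul, pow_succ', map_mul j, mul_assoc, mul_comm (j (v ^ e)),
        show s * j (v ^ e) = j c from hc, ← map_mul]
      rfl
    · show πA (algebraMap R _ c) = 0
      rw [hπR, Ideal.Quotient.eq_zero_iff_mem.2 hc, map_zero]
  let e₁ : (Localization.Away v ⧸ KS) ⧸ IA ≃+* A₀ :=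
    (Ideal.quotEquivOfEq hkerA.symm).trans (RingHom.quotientKerEquivOfSurjective hsurj)
  refine ⟨Localization.Away v ⧸ KS, inferInstance, inferInstance, hsm, ⟨AlgEquiv.ofRingEquiv (f := e₁) ?_⟩⟩
  intro c
  obtain ⟨c, rfl⟩ := Ideal.Quotient.mk_surjective c
  exact hπR c

end Groth.Agent.SmoothingLib.LiftQuotient
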