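import Groth.Agent.SmoothingLib.LiftQuotient
import Mathlib.RingTheory.Flat.EquationalCriterion

/-!
Ind-smoothness along nilpotent flat deformations, in terms of polynomial systems.
-/

namespace Groth.Agent.SmoothingLib.IndNilp

open MvPolynomial

universe u

variable {R : Type u} [CommRing R] {Λ : Type u} [CommRing Λ] [Algebra R Λ]

/-- every system solvable modulo `I` in `Λ` has a solution modulo `I` in a smooth algebra -/
def Solvable (I : Ideal R) (Λ : Type u) [CommRing Λ] [Algebra R Λ] : Prop :=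
  ∀ (σ τ : Type) [Fintype σ] [Fintype τ] (F : τ → MvPolynomial σ R) (x : σ → Λ),
    (∀ j, aeval x (F j) ∈ I.map (algebraMap R Λ)) →
      ∃ (B : Type u) (_ : CommRing B) (_ : Algebra R B), Algebra.Smooth R B ∧
        ∃ (k : B →ₐ[R] Λ) (b : σ → B), (∀ j, aeval b (F j) ∈ I.map (algebraMap R B)) ∧
          ∀ i, k (b i) - x i ∈ I.map (algebraMap R Λ)

theorem exists_decomp {S : Type u} [CommRing S] [Algebra R S] (I : Ideal R) {y : S}
    (hy : y ∈ I.map (algebraMap R S)) :
    ∃ (L : ℕ) (r : Fin L → R) (c : Fin L → S), (∀ l, r l ∈ I) ∧ y = ∑ l, algebraMap R S (r l) * c l := by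
  refine Submodule.span_induction ?_ ?_ ?_ ?_ hy
  · rintro _ ⟨r, hr, rfl⟩
    exact ⟨1, fun _ => r, fun _ => 1, fun _ => hr, by simp⟩
  · exact ⟨0, Fin.elim0, Fin.elim0, fun l => l.elim0, by simp⟩
  · rintro y z _ _ ⟨L, r, c, hr, rfl⟩ ⟨L', r', c', hr', rfl⟩
    exact ⟨L + L', Fin.append r r', Fin.append c c',
      Fin.addCases (by simpa using hr) (by simpa using hr'), by simp [Fin.sum_univ_add]⟩
  · rintro s y _ ⟨L, r, c, hr, rfl⟩
    exact ⟨L, r, fun l => s * c l, hr, by simp [Finset.mul_sum, mul_left_comm]⟩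

theorem algebraMap_mem {S : Type u} [CommRing S] [Algebra R S] {I : Ideal R} {r : R} (hr : r ∈ I) :
    algebraMap R S r ∈ I.map (algebraMap R S) :=
  Ideal.mem_map_of_mem _ hr

theorem map_mem {S T : Type u} [CommRing S] [Algebra R S] [CommRing T] [Algebra R T] (f : S →ₐ[R] T)
    {I : Ideal R} {y : S} (hy : y ∈ I.map (algebraMap R S)) : f y ∈ I.map (algebraMap R T) := by
  have h := Ideal.mem_map_of_mem f.toRingHom hy
  rw [Ideal.map_map, show (f.toRingHom).comp (algebraMap R S) = algebraMap R T from f.comp_algebraMap] at h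
  exact h

theorem mul_mem_map {S : Type u} [CommRing S] [Algebra R S] {I K : Ideal R} (hIK : I * I ≤ K) {y z : S}
    (hy : y ∈ I.map (algebraMap R S)) (hz : z ∈ I.map (algebraMap R S)) :
    y * z ∈ K.map (algebraMap R S) := by
  have h := Ideal.mul_mem_mul hy hz
  rw [← Ideal.map_mul] at h
  exact Ideal.map_mono hIK h

theorem aeval_sub_mem {S : Type u} [CommRing S] [Algebra R S] (J : Ideal S) {σ : Type}
    {a a' : σ → S} (h : ∀ i, a i - a' i ∈ J) (p : MvPolynomial σ R) : aeval a p - aeval a' p ∈ J := by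
  induction p using MvPolynomial.induction_on with
  | C r => simp
  | add p q hp hq =>
    rw [map_add, map_add, add_sub_add_comm]
    exact J.add_mem hp hq
  | mul_X p i hp =>
    simp only [map_mul, aeval_X]
    rw [show aeval a p * a i - aeval a' p * a' i =
      (aeval a p - aeval a' p) * a i + aeval a' p * (a i - a' i) by ring]
    exact J.add_mem (J.mul_mem_right _ hp) (J.mul_mem_left _ (h i))

theorem taylor {S : Type u} [CommRing S] [Algebra R S] {σ : Type} [Fintype σ] (J K : Ideal S)
    (hJK : J * J ≤ K) {a u : σ → S} (hu : ∀ i, u i ∈ J) (p : MvPolynomial σ R) :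
    aeval (fun i => a i + u i) p - aeval a p - ∑ s, aeval a (pderiv s p) * u s ∈ K := by
  classical
  induction p using MvPolynomial.induction_on with
  | C r => simp
  | add p q hp hq =>
    simp only [map_add, add_mul, Finset.sum_add_distrib]
    convert K.add_mem hp hq using 1
    ring
  | mul_X p i hp =>
    have h1 : ∑ s, aeval a (pderiv s (p * X i)) * u s =
        (∑ s, aeval a (pderiv s p) * u s) * a i + aeval a p * u i := by
      simp only [Derivation.leibniz, pderiv_X, smul_eq_mul, map_add, map_mul, aeval_X, add_mul,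
        Finset.sum_add_distrib, Finset.sum_mul]
      rw [add_comm]
      congr 1
      · exact Finset.sum_congr rfl fun s _ => by ring
      · simp [Pi.single_apply, apply_ite (aeval a), mul_ite, ite_mul]
    have h2 : aeval (fun i => a i + u i) p - aeval a p ∈ J :=
      aeval_sub_mem J (fun s => by rw [add_sub_cancel_left]; exact hu s) p
    rw [h1, map_mul, map_mul, aeval_X, aeval_X]
    rw [show aeval (fun i => a i + u i) p * (a i + u i) - aeval a p * a i -
      ((∑ s, aeval a (pderiv s p) * u s) * a i + aeval a p * u i) =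
      (aeval (fun i => a i + u i) p - aeval a p - ∑ s, aeval a (pderiv s p) * u s) * a i +
        (aeval (fun i => a i + u i) p - aeval a p) * u i by ring]
    exact K.add_mem (K.mul_mem_right _ hp) (hJK (Ideal.mul_mem_mul h2 (hu i)))

theorem smooth_mvPolynomial (B : Type u) [CommRing B] [Algebra R B] [Algebra.Smooth R B] (σ : Type)
    [Finite σ] : Algebra.Smooth R (MvPolynomial σ B) := by
  haveI : Algebra.Smooth B (MvPolynomial σ B) := ⟨inferInstance, inferInstance⟩
  exact Algebra.Smooth.comp R B (MvPolynomial σ B)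

/-- Make the values exact by adding variables. -/
theorem exists_exact {I : Ideal R} (hS : Solvable I Λ) (σ τ : Type) [Fintype σ] [Fintype τ]
    (F : τ → MvPolynomial σ R) (x : σ → Λ) (hx : ∀ j, aeval x (F j) ∈ I.map (algebraMap R Λ)) :
    ∃ (B : Type u) (_ : CommRing B) (_ : Algebra R B), Algebra.Smooth R B ∧
      ∃ (k : B →ₐ[R] Λ) (b : σ → B), (∀ j, aeval b (F j) ∈ I.map (algebraMap R B)) ∧
        ∀ i, k (b i) = x i := by
  classical
  obtain ⟨B, _, _, hB, k, b, hb, hk⟩ := hS σ τ F x hx
  choose L r c hr hc using fun i => exists_decomp I (hk i)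
  haveI := hB
  let k' : (MvPolynomial (Σ i, Fin (L i)) B) →ₐ[R] Λ := MvPolynomial.aevalTower k fun v => c v.1 v.2
  let b' : σ → (MvPolynomial (Σ i, Fin (L i)) B) := fun i => MvPolynomial.C (b i) - ∑ l, algebraMap R (MvPolynomial (Σ i, Fin (L i)) B) (r i l) * X ⟨i, l⟩
  refine ⟨(MvPolynomial (Σ i, Fin (L i)) B), inferInstance, inferInstance, smooth_mvPolynomial B _, k', b', fun j => ?_, fun i => ?_⟩
  · let ι : B →ₐ[R] (MvPolynomial (Σ i, Fin (L i)) B) := IsScalarTower.toAlgHom R B (MvPolynomial (Σ i, Fin (L i)) B)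
    have h1 : aeval b' (F j) - ι (aeval b (F j)) ∈ I.map (algebraMap R (MvPolynomial (Σ i, Fin (L i)) B)) := by
      rw [show ι (aeval b (F j)) = aeval (fun i => ι (b i)) (F j) from
        DFunLike.congr_fun (MvPolynomial.comp_aeval b ι) (F j)]
      refine aeval_sub_mem _ (fun i => ?_) _
      simp only [b', ι, IsScalarTower.coe_toAlgHom', MvPolynomial.algebraMap_eq, sub_sub_cancel_left]
      exact neg_mem (Ideal.sum_mem _ fun l _ =>
        Ideal.mul_mem_right _ _ (algebraMap_mem (hr i l)))
    have h2 := Ideal.add_mem _ h1 (map_mem ι (hb j))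
    rwa [sub_add_cancel] at h2
  · simp only [b', k', map_sub, map_sum, map_mul, AlgHom.commutes, MvPolynomial.aevalTower_C,
      MvPolynomial.aevalTower_X]
    rw [← hc i]
    ring

/-- Kill finitely many elements of `I B` which vanish modulo `K` in `Λ`. -/
theorem exists_kill [Module.Flat R Λ] {I K : Ideal R} (hKI : K ≤ I) (hIK : I * I ≤ K)
    (hS : Solvable I Λ) {N M : ℕ} {B : Type u} [CommRing B] [Algebra R B] [Algebra.Smooth R B]
    (π : MvPolynomial (Fin N) R →ₐ[R] B) (G : Fin M → MvPolynomial (Fin N) R)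
    (hπ : Function.Surjective π) (hker : RingHom.ker π.toRingHom = Ideal.span (Set.range G))
    (k : B →ₐ[R] Λ) {τ : Type} [Fintype τ] (E : τ → MvPolynomial (Fin N) R)
    (hE : ∀ j, π (E j) ∈ I.map (algebraMap R B)) (hkE : ∀ j, k (π (E j)) ∈ K.map (algebraMap R Λ)) :
    ∃ (C : Type u) (_ : CommRing C) (_ : Algebra R C), Algebra.Smooth R C ∧
      ∃ (kC : C →ₐ[R] Λ) (d : Fin N → C), (∀ p, aeval d (G p) ∈ K.map (algebraMap R C)) ∧
        (∀ j, aeval d (E j) ∈ K.map (algebraMap R C)) ∧
        ∀ s, kC (d s) - k (π (X s)) ∈ I.map (algebraMap R Λ) := by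
  classical
  have hev : ∀ p, aeval (fun s => k (π (X s))) p = k (π p) := fun p =>
    (DFunLike.congr_fun (show (aeval fun s => k (π (X s))) = k.comp π from
      algHom_ext fun s => by simp) p)
  choose L r w hr hw using fun j => exists_decomp I (hE j)
  choose X' hX' using fun (j : τ) (l : Fin (L j)) => hπ (w j l)
  choose L' s μ hs hμ using fun j => exists_decomp K (hkE j)
  have htriv : ∀ j, ∃ (m : ℕ) (a : Fin (L j) → Fin m → R) (y : Fin m → Λ),
      (∀ l, k (w j l) = ∑ q, algebraMap R Λ (a l q) * y q) ∧ ∀ q, ∑ l, r j l * a l q ∈ K := by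
    intro j
    have h0 : ∑ v : Fin (L j) ⊕ Fin (L' j), Sum.elim (r j) (fun l => -s j l) v •
        Sum.elim (fun l => k (w j l)) (μ j) v = 0 := by
      simp only [Fintype.sum_sum_type, Sum.elim_inl, Sum.elim_inr, Algebra.smul_def, map_neg, neg_mul,
        Finset.sum_neg_distrib]
      rw [← hμ j, hw j, map_sum]
      simp [AlgHom.commutes]
    obtain ⟨m, a, y, hy, ha⟩ := Module.Flat.isTrivialRelation_of_sum_smul_eq_zero h0
    refine ⟨m, fun l => a (Sum.inl l), y, fun l => ?_, fun q => ?_⟩
    · have h1 := hy (Sum.inl l)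
      simp only [Sum.elim_inl, Algebra.smul_def] at h1
      exact h1
    · have h1 := ha q
      simp only [Fintype.sum_sum_type, Sum.elim_inl, Sum.elim_inr] at h1
      rw [add_eq_zero_iff_eq_neg] at h1
      rw [h1]
      exact K.neg_mem (K.sum_mem fun l _ => K.mul_mem_right _ (K.neg_mem (hs j l)))
  choose m a y hy ha using htriv
  let F' : Fin M ⊕ (Σ j, Fin (L j)) → MvPolynomial (Fin N ⊕ (Σ j, Fin (m j))) R :=
    Sum.elim (fun p => rename Sum.inl (G p))
      fun v => rename Sum.inl (X' v.1 v.2) - ∑ q, MvPolynomial.C (a v.1 v.2 q) * X (Sum.inr ⟨v.1, q⟩)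
  let x' : (Fin N ⊕ (Σ j, Fin (m j))) → Λ := Sum.elim (fun i => k (π (X i))) fun v => y v.1 v.2
  have hx' : ∀ v, aeval x' (F' v) ∈ I.map (algebraMap R Λ) := by
    rintro (p | ⟨j, l⟩)
    · have hG : π (G p) = 0 := by
        have h1 : G p ∈ Ideal.span (Set.range G) := Ideal.subset_span ⟨p, rfl⟩
        rw [← hker] at h1; exact h1
      simp only [F', Sum.elim_inl, aeval_rename, x', Sum.elim_comp_inl, hev, hG, map_zero]
      exact Submodule.zero_mem _
    · simp only [F', Sum.elim_inr, map_sub, map_sum, map_mul, aeval_C, aeval_X, aeval_rename, x',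
        Sum.elim_comp_inl, Sum.elim_inr, hev, hX', hy, sub_self]
      exact Submodule.zero_mem _
  obtain ⟨C, _, _, hC, kC, c, hc, hkc⟩ := hS (Fin N ⊕ (Σ j, Fin (m j))) _ F' x' hx'
  let IC := I.map (algebraMap R C)
  let KC := K.map (algebraMap R C)
  let q : C ⧸ KC →ₐ[R] C ⧸ IC := Ideal.Quotient.factorₐ R (Ideal.map_mono hKI)
  have hq : Function.Surjective q := fun t => by
    obtain ⟨t, rfl⟩ := Ideal.Quotient.mk_surjective t
    exact ⟨Ideal.Quotient.mk KC t, rfl⟩
  have hnil : IsNilpotent (RingHom.ker (q : C ⧸ KC →+* C ⧸ IC)) := by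
    refine ⟨2, ?_⟩
    rw [Ideal.zero_eq_bot, eq_bot_iff]
    rw [show (2 : ℕ) = 1 + 1 from rfl, Submodule.pow_succ, Submodule.pow_one, Ideal.mul_le]
    intro u hu v hv
    obtain ⟨u, rfl⟩ := Ideal.Quotient.mk_surjective u
    obtain ⟨v, rfl⟩ := Ideal.Quotient.mk_surjective v
    rw [Ideal.mem_bot, ← map_mul, Ideal.Quotient.eq_zero_iff_mem]
    exact mul_mem_map hIK (Ideal.Quotient.eq_zero_iff_mem.1 hu) (Ideal.Quotient.eq_zero_iff_mem.1 hv)
  have hGc : ∀ p, aeval (fun i => c (Sum.inl i)) (G p) ∈ IC := fun p => by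
    have h1 := hc (Sum.inl p)
    simp only [F', Sum.elim_inl, aeval_rename] at h1
    exact h1
  let ψ₀ : MvPolynomial (Fin N) R →ₐ[R] C ⧸ IC :=
    (Ideal.Quotient.mkₐ R IC).comp (aeval fun i => c (Sum.inl i))
  have hψ : RingHom.ker π.toRingHom ≤ RingHom.ker ψ₀.toRingHom := by
    rw [hker, Ideal.span_le]
    rintro _ ⟨p, rfl⟩
    exact Ideal.Quotient.eq_zero_iff_mem.2 (hGc p)
  let ψ : B →ₐ[R] C ⧸ IC := AlgHom.liftOfSurjective π hπ ψ₀ hψ
  let χ := Algebra.FormallySmooth.liftOfSurjective ψ q hq hnil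
  choose d hd using fun i => Ideal.Quotient.mk_surjective (χ (π (X i)))
  have hdχ : ∀ p, Ideal.Quotient.mk KC (aeval d p) = χ (π p) := fun p =>
    DFunLike.congr_fun (show (Ideal.Quotient.mkₐ R KC).comp (aeval d) = χ.comp π from
      algHom_ext fun i => by simp [hd]) p
  have hdc : ∀ i, d i - c (Sum.inl i) ∈ IC := fun i => by
    rw [← Ideal.Quotient.eq]
    have h1 := Algebra.FormallySmooth.liftOfSurjective_apply ψ q hq hnil (π (X i))
    change q (χ (π (X i))) = _ at h1
    rw [← hd, show ψ (π (X i)) = ψ₀ (X i) from AlgHom.liftOfSurjective_apply π hπ _ hψ _] at h1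
    have h2 : q (Ideal.Quotient.mk KC (d i)) = Ideal.Quotient.mk IC (d i) := rfl
    rw [h2] at h1
    simpa [ψ₀] using h1
  refine ⟨C, inferInstance, inferInstance, hC, kC, d, fun p => ?_, fun j => ?_, fun i => ?_⟩
  · rw [← Ideal.Quotient.eq_zero_iff_mem, hdχ]
    have h1 : π (G p) = 0 := by
      have h1 : G p ∈ Ideal.span (Set.range G) := Ideal.subset_span ⟨p, rfl⟩
      rw [← hker] at h1; exact h1
    rw [h1, map_zero]
  · have h1 : ∀ l, aeval d (X' j l) - ∑ q, algebraMap R C (a j l q) * c (Sum.inr ⟨j, q⟩) ∈ IC := by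
      intro l
      have h2 := hc (Sum.inr ⟨j, l⟩)
      simp only [F', Sum.elim_inr, map_sub, map_sum, map_mul, aeval_C, aeval_X, aeval_rename] at h2
      have h3 := aeval_sub_mem IC hdc (X' j l)
      have h4 := IC.add_mem h3 h2
      simpa [Function.comp_def, sub_add_sub_cancel] using h4
    have h2 : aeval d (E j) - ∑ l, algebraMap R C (r j l) * aeval d (X' j l) ∈ KC := by
      rw [← Ideal.Quotient.eq, hdχ, map_sum, hw j, map_sum]
      refine Finset.sum_congr rfl fun l _ => ?_
      rw [map_mul, map_mul, hdχ, hX', AlgHom.commutes]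
      rfl
    have h3 : ∑ l, algebraMap R C (r j l) * aeval d (X' j l) ∈ KC := by
      rw [show ∑ l, algebraMap R C (r j l) * aeval d (X' j l) =
        ∑ l, algebraMap R C (r j l) *
            (aeval d (X' j l) - ∑ q, algebraMap R C (a j l q) * c (Sum.inr ⟨j, q⟩)) +
          ∑ q, algebraMap R C (∑ l, r j l * a j l q) * c (Sum.inr ⟨j, q⟩) by
        simp only [mul_sub, Finset.sum_sub_distrib, Finset.mul_sum, map_sum, map_mul, Finset.sum_mul,
          mul_assoc]
        rw [Finset.sum_comm (γ := Fin (m j))]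
        ring]
      refine KC.add_mem (KC.sum_mem fun l _ => mul_mem_map hIK (algebraMap_mem (hr j l)) (h1 l))
        (KC.sum_mem fun q _ => KC.mul_mem_right _ (algebraMap_mem (ha j q)))
    have h4 := KC.add_mem h2 h3
    rwa [sub_add_cancel] at h4
  · rw [show kC (d i) - k (π (X i)) = kC (d i - c (Sum.inl i)) + (kC (c (Sum.inl i)) - x' (Sum.inl i)) by
      simp [x']]
    exact Ideal.add_mem _ (map_mem kC (hdc i)) (hkc _)

/-- the inductive step -/
theorem solvable_step [Module.Flat R Λ] {I K : Ideal R} (hKI : K ≤ I) (hIK : I * I ≤ K)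
    (hS : Solvable I Λ) : Solvable K Λ := by
  classical
  intro σ τ _ _ F x hx
  obtain ⟨B, _, _, hB, k, b, hb, hkb⟩ :=
    exists_exact hS σ τ F x fun j => Ideal.map_mono hKI (hx j)
  haveI := hB
  obtain ⟨N, π, hπ, hfg⟩ := hB.finitePresentation.out
  obtain ⟨M, G, hG⟩ := Submodule.fg_iff_exists_fin_generating_family.1 hfg
  have hker : RingHom.ker π.toRingHom = Ideal.span (Set.range G) := hG.symm
  choose P hP using fun i => hπ (b i)
  have hπF : ∀ p, π (aeval P p) = aeval b p := fun p =>
    DFunLike.congr_fun (show π.comp (aeval P) = aeval b from algHom_ext fun i => by simp [hP]) p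
  obtain ⟨C, _, _, hC, kC, d, hdG, hdE, hkd⟩ := exists_kill hKI hIK hS π G hπ hker k
    (fun j => aeval P (F j)) (fun j => by rw [hπF]; exact hb j) (fun j => by
      rw [hπF, show k (aeval b (F j)) = aeval (fun i => k (b i)) (F j) from
        DFunLike.congr_fun (MvPolynomial.comp_aeval b k) (F j)]
      simpa only [hkb] using hx j)
  haveI := hC
  -- the splitting of the conormal sequence of `B`
  haveI : Algebra.Smooth B (Localization.Away (1 : B)) :=
    Algebra.Smooth.of_isLocalization_Away (1 : B)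
  haveI : Algebra.Smooth R (Localization.Away (1 : B)) := Algebra.Smooth.comp R B _
  obtain ⟨_, Lb, hLb⟩ := FreeKaehler.exists_splitting G π hπ hker (1 : B)
  choose lb hlb using hLb
  simp only [one_pow, one_mul] at hlb
  choose Lp hLp using fun (i : Fin M) (s : Fin N) => hπ (Lb i s)
  have hGLG : ∀ s p, ∑ i, (∑ q, pderiv q (G p) * Lp i q) * pderiv s (G i) - pderiv s (G p) ∈
      Ideal.span (Set.range G) := fun s p => by
    rw [← hker]
    show π _ = 0
    have h1 := FreeKaehler.rel_jacobian G π hker (hlb p) s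
    simp only [sub_mul, ite_mul, one_mul, zero_mul, Finset.sum_sub_distrib, Finset.sum_ite_eq',
      Finset.mem_univ, if_true, sub_eq_zero] at h1
    simp only [map_sub, map_sum, map_mul, hLp, sub_eq_zero]
    exact h1.symm
  -- the correction
  let T := fun s => k (π (X s)) - kC (d s)
  choose Lc rc cc hrc hcc using fun s : Fin N =>
    exists_decomp I (show T s ∈ I.map (algebraMap R Λ) by
      show k (π (X s)) - kC (d s) ∈ _
      rw [← neg_sub]; exact neg_mem (hkd s))
  let ι : C →ₐ[R] (MvPolynomial (Σ s, Fin (Lc s)) C) := IsScalarTower.toAlgHom R C (MvPolynomial (Σ s, Fin (Lc s)) C)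
  let kW : (MvPolynomial (Σ s, Fin (Lc s)) C) →ₐ[R] Λ := MvPolynomial.aevalTower kC fun v => cc v.1 v.2
  let tw : Fin N → (MvPolynomial (Σ s, Fin (Lc s)) C) := fun s => ∑ l, algebraMap R (MvPolynomial (Σ s, Fin (Lc s)) C) (rc s l) * X ⟨s, l⟩
  have htw : ∀ s, tw s ∈ I.map (algebraMap R (MvPolynomial (Σ s, Fin (Lc s)) C)) := fun s =>
    Ideal.sum_mem _ fun l _ => Ideal.mul_mem_right _ _ (algebraMap_mem (hrc s l))
  have hkι : ∀ t, kW (ι t) = kC t := fun t => by
    simp [kW, ι, IsScalarTower.coe_toAlgHom', MvPolynomial.algebraMap_eq]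
  have hktw : ∀ s, kW (tw s) = T s := fun s => by
    rw [hcc s]
    simp [kW, tw, MvPolynomial.aevalTower_X]
  let h : σ → Fin N → MvPolynomial (Fin N) R := fun i s =>
    pderiv s (P i) - ∑ j, (∑ q, pderiv q (P i) * Lp j q) * pderiv s (G j)
  let e : Fin N → (MvPolynomial (Σ s, Fin (Lc s)) C) := fun s => ι (d s)
  let δ : σ → (MvPolynomial (Σ s, Fin (Lc s)) C) := fun i => ∑ s, aeval e (h i s) * tw s
  have hδ : ∀ i, δ i ∈ I.map (algebraMap R (MvPolynomial (Σ s, Fin (Lc s)) C)) := fun i =>
    Ideal.sum_mem _ fun s _ => Ideal.mul_mem_left _ _ (htw s)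
  have he : ∀ p, ι (aeval d p) = aeval e p := fun p =>
    DFunLike.congr_fun (MvPolynomial.comp_aeval d ι) p
  let KW := K.map (algebraMap R (MvPolynomial (Σ s, Fin (Lc s)) C))
  have hGe : ∀ p ∈ Ideal.span (Set.range G), aeval e p ∈ KW := by
    have hle : Ideal.span (Set.range G) ≤ KW.comap (aeval e : MvPolynomial (Fin N) R →ₐ[R] (MvPolynomial (Σ s, Fin (Lc s)) C)).toRingHom :=
      Ideal.span_le.2 (by
        rintro _ ⟨p, rfl⟩
        show aeval e (G p) ∈ KW
        rw [← he]; exact map_mem ι (hdG p))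
    exact fun p hp => hle hp
  refine ⟨(MvPolynomial (Σ s, Fin (Lc s)) C), inferInstance, inferInstance, smooth_mvPolynomial C _, kW,
    fun i => aeval e (P i) + δ i, fun j => ?_, fun i => ?_⟩
  · have h1 := taylor (I.map (algebraMap R (MvPolynomial (Σ s, Fin (Lc s)) C))) KW (by rw [← Ideal.map_mul]; exact Ideal.map_mono hIK)
      (a := fun i => aeval e (P i)) hδ (F j)
    have hcomp : ∀ p : MvPolynomial σ R, aeval (fun i => aeval e (P i)) p = aeval e (aeval P p) :=
      fun p => (DFunLike.congr_fun (MvPolynomial.comp_aeval P (aeval e)) p).symm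
    have h2 : aeval (fun i => aeval e (P i)) (F j) ∈ KW := by
      rw [hcomp, ← he]; exact map_mem ι (hdE j)
    have h3 : ∑ i, aeval (fun i => aeval e (P i)) (pderiv i (F j)) * δ i ∈ KW := by
      let H : Fin N → MvPolynomial (Fin N) R := fun s => ∑ i, aeval P (pderiv i (F j)) * h i s
      have hH : ∑ i, aeval (fun i => aeval e (P i)) (pderiv i (F j)) * δ i =
          ∑ s, aeval e (H s) * tw s := by
        simp only [δ, H, map_sum, map_mul, Finset.mul_sum, Finset.sum_mul, hcomp]
        rw [Finset.sum_comm]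
        exact Finset.sum_congr rfl fun s _ => Finset.sum_congr rfl fun i _ => (mul_assoc _ _ _).symm
      rw [hH]
      refine KW.sum_mem fun s _ => ?_
      have hHs : H s = pderiv s (aeval P (F j)) -
          ∑ i, (∑ q, pderiv q (aeval P (F j)) * Lp i q) * pderiv s (G i) := by
        have hch : ∀ q, pderiv q (aeval P (F j)) =
            ∑ i, aeval P (pderiv i (F j)) * pderiv q (P i) := fun q => by
          rw [derivation_aeval']
        simp only [H, h, hch, mul_sub, Finset.sum_sub_distrib, Finset.mul_sum, Finset.sum_mul]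
        congr 1
        rw [Finset.sum_comm]
        refine Finset.sum_congr rfl fun i _ => ?_
        rw [Finset.sum_comm]
        exact Finset.sum_congr rfl fun q _ => Finset.sum_congr rfl fun i' _ => by ring
      obtain ⟨L, r, w, hr, hw⟩ := exists_decomp I (show π (aeval P (F j)) ∈ I.map (algebraMap R B) by
        rw [hπF]; exact hb j)
      choose w' hw' using fun l => hπ (w l)
      have hD : aeval P (F j) - ∑ l, MvPolynomial.C (r l) * w' l ∈ Ideal.span (Set.range G) := by
        rw [← hker]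
        show π _ = 0
        rw [map_sub, map_sum, sub_eq_zero, hw]
        refine Finset.sum_congr rfl fun l _ => ?_
        rw [map_mul, hw', ← MvPolynomial.algebraMap_eq, AlgHom.commutes]
      let op : MvPolynomial (Fin N) R → (MvPolynomial (Σ s, Fin (Lc s)) C) := fun p =>
        aeval e (pderiv s p - ∑ i, (∑ q, pderiv q p * Lp i q) * pderiv s (G i))
      have hop_add : ∀ p p', op (p + p') = op p + op p' := fun p p' => by
        simp only [op, map_add, add_mul, Finset.sum_add_distrib, map_sub]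
        ring
      have hop_mul : ∀ p p', op (p * p') = aeval e p * op p' + aeval e p' * op p := fun p p' => by
        simp only [op, Derivation.leibniz, smul_eq_mul, add_mul, mul_assoc, Finset.sum_add_distrib,
          ← Finset.mul_sum, map_sub, map_add, map_mul]
        ring
      have hopG : ∀ p ∈ Ideal.span (Set.range G), op p ∈ KW := by
        intro p hp
        induction hp using Submodule.span_induction with
        | mem p hp =>
          obtain ⟨p, rfl⟩ := hp
          simp only [op]
          rw [← neg_sub, map_neg]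
          exact KW.neg_mem (hGe _ (hGLG s p))
        | zero => simp [op]
        | add p p' _ _ hp hp' => rw [hop_add]; exact KW.add_mem hp hp'
        | smul t p hp' hp =>
          rw [smul_eq_mul, hop_mul]
          exact KW.add_mem (KW.mul_mem_left _ hp) (KW.mul_mem_right _ (hGe p hp'))
      have hopC : ∀ c w, op (MvPolynomial.C c * w) = algebraMap R (MvPolynomial (Σ s, Fin (Lc s)) C) c * op w := fun c w => by
        rw [hop_mul, show op (MvPolynomial.C c) = 0 by simp [op], mul_zero, add_zero, aeval_C]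
      have h4 : op (aeval P (F j)) - ∑ l, algebraMap R (MvPolynomial (Σ s, Fin (Lc s)) C) (r l) * op (w' l) ∈ KW := by
        have h5 := hopG _ hD
        rw [show op (aeval P (F j) - ∑ l, MvPolynomial.C (r l) * w' l) =
          op (aeval P (F j)) - ∑ l, algebraMap R (MvPolynomial (Σ s, Fin (Lc s)) C) (r l) * op (w' l) by
          rw [eq_sub_iff_add_eq, ← Finset.sum_congr rfl fun l _ => hopC (r l) (w' l)]
          let opH : MvPolynomial (Fin N) R →+ (MvPolynomial (Σ s, Fin (Lc s)) C) := AddMonoidHom.mk' op hop_add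
          show opH _ + ∑ l, opH _ = opH _
          rw [← map_sum, ← map_add, sub_add_cancel]] at h5
        exact h5
      rw [hHs]
      change op (aeval P (F j)) * tw s ∈ KW
      rw [show op (aeval P (F j)) * tw s =
        (op (aeval P (F j)) - ∑ l, algebraMap R _ (r l) * op (w' l)) * tw s +
          ∑ l, op (w' l) * (algebraMap R _ (r l) * tw s) by
        rw [sub_mul, Finset.sum_mul, Finset.sum_congr rfl fun l _ =>
          (mul_left_comm (op (w' l)) (algebraMap R _ (r l)) (tw s)).trans (mul_assoc _ _ _).symm,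
          sub_add_cancel]]
      exact KW.add_mem (KW.mul_mem_right _ h4)
        (KW.sum_mem fun l _ => KW.mul_mem_left _ (mul_mem_map hIK (algebraMap_mem (hr l)) (htw s)))
    have h6 := KW.add_mem (KW.add_mem h1 h2) h3
    convert h6 using 1
    ring
  · let KL := K.map (algebraMap R Λ)
    let z : Fin N → Λ := fun s => k (π (X s))
    have hevz : ∀ p, aeval z p = k (π p) := fun p =>
      (DFunLike.congr_fun (show (aeval z) = k.comp π from algHom_ext fun s => by simp [z]) p)
    have hke : ∀ p, kW (aeval e p) = aeval (fun s => kC (d s)) p := fun p => by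
      rw [show kW (aeval e p) = aeval (fun s => kW (e s)) p from
        DFunLike.congr_fun (MvPolynomial.comp_aeval e kW) p]
      simp only [e, hkι]
    have hkC : ∀ p, aeval (fun s => kC (d s)) p = kC (aeval d p) := fun p =>
      (DFunLike.congr_fun (MvPolynomial.comp_aeval d kC) p).symm
    have hTI : ∀ s, T s ∈ I.map (algebraMap R Λ) := fun s => by
      rw [← hktw]; exact map_mem kW (htw s)
    have hJK : I.map (algebraMap R Λ) * I.map (algebraMap R Λ) ≤ KL := by
      rw [← Ideal.map_mul]; exact Ideal.map_mono hIK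
    have htay : ∀ p, aeval z p - aeval (fun s => kC (d s)) p -
        ∑ s, aeval (fun s => kC (d s)) (pderiv s p) * T s ∈ KL := fun p => by
      have h1 := taylor (R := R) _ KL hJK (a := fun s => kC (d s)) hTI p
      rw [show (fun s => kC (d s) + T s) = z by funext s; simp [T, z]] at h1
      exact h1
    have hG0 : ∀ p, ∑ s, aeval (fun s => kC (d s)) (pderiv s (G p)) * T s ∈ KL := fun p => by
      have h1 := htay (G p)
      have h2 : π (G p) = 0 := by
        have h1 : G p ∈ Ideal.span (Set.range G) := Ideal.subset_span ⟨p, rfl⟩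
        rw [← hker] at h1; exact h1
      rw [hevz, h2, map_zero, hkC, zero_sub] at h1
      have h3 := KL.add_mem (KL.neg_mem h1) (KL.neg_mem (map_mem kC (hdG p)))
      simpa using h3
    have hval : kW (aeval e (P i) + δ i) = aeval (fun s => kC (d s)) (P i) +
        ∑ s, aeval (fun s => kC (d s)) (h i s) * T s := by
      simp only [δ, map_add, map_sum, map_mul, hke, hktw]
    have hsum : ∑ s, aeval (fun s => kC (d s)) (h i s) * T s =
        ∑ s, aeval (fun s => kC (d s)) (pderiv s (P i)) * T s -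
          ∑ j, aeval (fun s => kC (d s)) (∑ q, pderiv q (P i) * Lp j q) *
            ∑ s, aeval (fun s => kC (d s)) (pderiv s (G j)) * T s := by
      simp only [h, map_sub, map_sum, map_mul, sub_mul, Finset.sum_sub_distrib, Finset.sum_mul,
        Finset.mul_sum, mul_assoc]
      congr 1
      exact Finset.sum_comm
    have hxi : x i = aeval z (P i) := by rw [hevz, hP, hkb]
    show kW (aeval e (P i) + δ i) - x i ∈ KL
    rw [hval, hsum, hxi]
    have h4 := KL.neg_mem (KL.add_mem (htay (P i)) (Ideal.sum_mem (t := Finset.univ) KL fun j _ =>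
      KL.mul_mem_left (aeval (fun s => kC (d s)) (∑ q, pderiv q (P i) * Lp j q)) (hG0 j)))
    convert h4 using 1
    ring
where
  derivation_aeval' {σ : Type} [Fintype σ] {N : ℕ} {q : Fin N} {P : σ → MvPolynomial (Fin N) R}
      {p : MvPolynomial σ R} :
      pderiv q (aeval P p) = ∑ i, aeval P (pderiv i p) * pderiv q (P i) := by
    classical
    induction p using MvPolynomial.induction_on with
    | C c => simp [← MvPolynomial.algebraMap_eq]
    | add p p' hp hp' => simp only [map_add, hp, hp', add_mul, Finset.sum_add_distrib]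
    | mul_X p i hp =>
      simp only [map_mul, Derivation.leibniz, smul_eq_mul, aeval_X, hp, pderiv_X, map_add, add_mul,
        Finset.sum_add_distrib, Finset.mul_sum, mul_assoc]
      congr 1
      simp [Pi.single_apply, apply_ite (aeval P), mul_ite, ite_mul]

theorem solvable_bot [Module.Flat R Λ] {I : Ideal R} (hI : IsNilpotent I) (hS : Solvable I Λ) :
    Solvable (⊥ : Ideal R) Λ := by
  obtain ⟨n, hn⟩ := hI
  have key : ∀ k, Solvable (I ^ (k + 1)) Λ := by
    intro k
    induction k with
    | zero => rw [zero_add, pow_one]; exact hS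
    | succ k ih =>
      refine solvable_step (Ideal.pow_le_pow_right (Nat.le_succ _)) ?_ ih
      rw [← pow_add]
      exact Ideal.pow_le_pow_right (by omega)
  have h := key n
  rwa [pow_succ, hn, zero_mul] at h

theorem solvable_of_indSmooth (I : Ideal R) (hI : IsNilpotent I)
    (h : Smoothing.IndSmooth (R ⧸ I) (Λ ⧸ I.map (algebraMap R Λ))) : Solvable I Λ := by
  classical
  intro σ τ _ _ F x hx
  let mk : MvPolynomial σ R →+* MvPolynomial σ (R ⧸ I) := MvPolynomial.map (Ideal.Quotient.mk I)
  let J₀ : Ideal (MvPolynomial σ (R ⧸ I)) := Ideal.span (Set.range fun j => mk (F j))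
  let IL := I.map (algebraMap R Λ)
  let q : MvPolynomial σ (R ⧸ I) →ₐ[R ⧸ I] Λ ⧸ IL := aeval fun i => Ideal.Quotient.mk IL (x i)
  have hqmk : ∀ p, q (mk p) = Ideal.Quotient.mk IL (aeval x p) := fun p => by
    induction p using MvPolynomial.induction_on with
    | C c =>
      simp only [q, mk, MvPolynomial.map_C, aeval_C]
      rfl
    | add p p' hp hp' => simp [hp, hp']
    | mul_X p i hp => simp only [map_mul, hp, q, mk, MvPolynomial.map_X, aeval_X]
  have hJ₀ : ∀ p ∈ J₀, q p = 0 := by
    have hle : J₀ ≤ RingHom.ker q.toRingHom := Ideal.span_le.2 (by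
      rintro _ ⟨j, rfl⟩
      show q (mk (F j)) = 0
      rw [hqmk, Ideal.Quotient.eq_zero_iff_mem]
      exact hx j)
    exact fun p hp => hle hp
  have hfp : Algebra.FinitePresentation (R ⧸ I) (MvPolynomial σ (R ⧸ I) ⧸ J₀) :=
    Algebra.FinitePresentation.quotient (Submodule.fg_def.2 ⟨_, Set.finite_range _, rfl⟩)
  obtain ⟨B₀, _, _, hB₀, g, h₀, hgh⟩ := h (MvPolynomial σ (R ⧸ I) ⧸ J₀) hfp (Ideal.Quotient.liftₐ J₀ q hJ₀)
  haveI := hB₀
  obtain ⟨B, _, _, hB, ⟨e⟩⟩ := LiftQuotient.exists_smooth_lift I (A₀ := B₀)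
  haveI := hB
  let IB := I.map (algebraMap R B)
  choose b hb using fun i => Ideal.Quotient.mk_surjective (e.symm (g (Ideal.Quotient.mk J₀ (X i))))
  let ψ : B →ₐ[R] Λ ⧸ IL :=
    ((h₀.comp e.toAlgHom).restrictScalars R).comp (Ideal.Quotient.mkₐ R IB)
  have hnil : IsNilpotent (RingHom.ker (Ideal.Quotient.mkₐ R IL : Λ →+* Λ ⧸ IL)) := by
    obtain ⟨n, hn⟩ := hI
    refine ⟨n, ?_⟩
    rw [show RingHom.ker (Ideal.Quotient.mkₐ R IL : Λ →+* Λ ⧸ IL) = IL from Ideal.Quotient.mkₐ_ker R IL,
      ← Ideal.map_pow, hn]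
    exact Ideal.map_bot
  let k := Algebra.FormallySmooth.liftOfSurjective ψ (Ideal.Quotient.mkₐ R IL)
    Ideal.Quotient.mk_surjective hnil
  have hbmk : ∀ p, e (Ideal.Quotient.mk IB (aeval b p)) = g (Ideal.Quotient.mk J₀ (mk p)) := fun p => by
    induction p using MvPolynomial.induction_on with
    | C c =>
      rw [aeval_C, show mk (MvPolynomial.C c) = algebraMap (R ⧸ I) _ (Ideal.Quotient.mk I c) from
        MvPolynomial.map_C _ _, ← Ideal.Quotient.mkₐ_eq_mk (R ⧸ I) J₀, AlgHom.commutes, g.commutes]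
      exact e.commutes (Ideal.Quotient.mk I c)
    | add p p' hp hp' => simp only [map_add, hp, hp']
    | mul_X p i hp => simp only [map_mul, hp, aeval_X, mk, MvPolynomial.map_X]; rw [hb i, e.apply_symm_apply]
  refine ⟨B, inferInstance, inferInstance, hB, k, b, fun j => ?_, fun i => ?_⟩
  · rw [← Ideal.Quotient.eq_zero_iff_mem]
    refine e.injective ?_
    rw [hbmk, Ideal.Quotient.eq_zero_iff_mem.2 (show mk (F j) ∈ J₀ from Ideal.subset_span ⟨j, rfl⟩),
      map_zero, map_zero]
  · rw [← Ideal.Quotient.eq]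
    have h1 := Algebra.FormallySmooth.liftOfSurjective_apply ψ (Ideal.Quotient.mkₐ R IL)
      Ideal.Quotient.mk_surjective hnil (b i)
    refine h1.trans ?_
    show h₀ (e (Ideal.Quotient.mk IB (b i))) = _
    rw [hb, e.apply_symm_apply]
    refine (DFunLike.congr_fun hgh (Ideal.Quotient.mk J₀ (X i))).trans ?_
    show q (X i) = _
    simp [q]
    rfl

theorem indSmooth_of_nilpotent [Module.Flat R Λ] (I : Ideal R) (hI : IsNilpotent I)
    (h : Smoothing.IndSmooth (R ⧸ I) (Λ ⧸ I.map (algebraMap R Λ))) : Smoothing.IndSmooth R Λ := by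
  classical
  intro A _ _ hA φ
  obtain ⟨n, π, hπ, hfg⟩ := hA.out
  obtain ⟨m, F, hF⟩ := Submodule.fg_iff_exists_fin_generating_family.1 hfg
  have hker : RingHom.ker π.toRingHom = Ideal.span (Set.range F) := hF.symm
  have hev : ∀ p, aeval (fun i => φ (π (X i))) p = φ (π p) := fun p =>
    DFunLike.congr_fun (show (aeval fun i => φ (π (X i))) = φ.comp π from
      algHom_ext fun i => by simp) p
  have hF0 : ∀ j, π (F j) = 0 := fun j => by
    have h1 : F j ∈ Ideal.span (Set.range F) := Ideal.subset_span ⟨j, rfl⟩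
    rw [← hker] at h1; exact h1
  obtain ⟨B, _, _, hB, k, b, hb, hkb⟩ := solvable_bot hI (solvable_of_indSmooth I hI h) _ _ F
    (fun i => φ (π (X i))) fun j => by rw [hev, hF0, map_zero]; exact Submodule.zero_mem _
  have hle : RingHom.ker π.toRingHom ≤ RingHom.ker (aeval b : MvPolynomial (Fin n) R →ₐ[R] B).toRingHom := by
    rw [hker, Ideal.span_le]
    rintro _ ⟨j, rfl⟩
    have h1 := hb j
    rw [Ideal.map_bot, Ideal.mem_bot] at h1
    exact h1
  refine ⟨B, inferInstance, inferInstance, hB, AlgHom.liftOfSurjective π hπ _ hle, k, ?_⟩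
  refine AlgHom.ext fun a => ?_
  obtain ⟨p, rfl⟩ := hπ a
  show k (AlgHom.liftOfSurjective π hπ _ hle (π p)) = φ (π p)
  rw [AlgHom.liftOfSurjective_apply, ← hev]
  rw [show k (aeval b p) = aeval (fun i => k (b i)) p from
    DFunLike.congr_fun (MvPolynomial.comp_aeval b k) p]
  congr 2
  funext i
  have h1 := hkb i
  rw [Ideal.map_bot, Ideal.mem_bot, sub_eq_zero] at h1
  exact h1

end Groth.Agent.SmoothingLib.IndNilp
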