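import Groth.Agent.SmoothingLib.StablyFree
import Mathlib.RingTheory.Smooth.StandardSmoothOfFree
import Mathlib.RingTheory.Finiteness.Nakayama
import Mathlib.Algebra.Module.Projective
import Mathlib.Algebra.TrivSqZeroExt.Basic

/-!
A smooth algebra is a retract of a standard smooth one.
-/

namespace Groth.Agent.SmoothingLib

open MvPolynomial

universe u

variable {R : Type u} [CommRing R] {A : Type u} [CommRing A] [Algebra R A]

/-- If a smooth algebra `B` has functions whose differentials give a basis along an ideal `K`, then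
some `d ≡ 1 (mod K)` cuts out a standard smooth open. -/
theorem exists_standardSmooth_away {B : Type u} [CommRing B] [Algebra R B] [Algebra.Smooth R B]
    {n : ℕ} (z : Fin n → B) (K : Ideal B) (σ : Ω[B⁄R] →ₗ[B] (Fin n → B))
    (hσ : ∀ k i, σ (KaehlerDifferential.D R B (z k)) i - (Pi.single k 1 : Fin n → B) i ∈ K)
    (hspan : ⊤ ≤ Submodule.span B (Set.range fun k => KaehlerDifferential.D R B (z k)) ⊔
      K • (⊤ : Submodule B Ω[B⁄R])) :
    ∃ d : B, d - 1 ∈ K ∧ Algebra.IsStandardSmooth R (Localization.Away d) := by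
  classical
  let Φ : (Fin n → B) →ₗ[B] Ω[B⁄R] :=
    Fintype.linearCombination B fun k => KaehlerDifferential.D R B (z k)
  have hΦ : LinearMap.range Φ = Submodule.span B (Set.range fun k => KaehlerDifferential.D R B (z k)) :=
    Fintype.range_linearCombination B _
  let q := (LinearMap.range Φ).mkQ
  have hle : (⊤ : Submodule B (Ω[B⁄R] ⧸ LinearMap.range Φ)) ≤ K • ⊤ := by
    have := Submodule.map_mono (f := q) hspan
    rw [Submodule.map_top, Submodule.range_mkQ, ← hΦ, Submodule.map_sup, Submodule.mkQ_map_self,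
      bot_sup_eq, Submodule.map_smul'', Submodule.map_top, Submodule.range_mkQ] at this
    exact this
  obtain ⟨d₂, hd₂, hd₂'⟩ := Submodule.exists_sub_one_mem_and_smul_eq_zero_of_fg_of_le_smul K ⊤
    (Module.Finite.fg_top) hle
  let M : Matrix (Fin n) (Fin n) B := LinearMap.toMatrix' (σ ∘ₗ Φ)
  have hdet : M.det - 1 ∈ K := by
    rw [← Ideal.Quotient.eq, map_one, RingHom.map_det]
    convert Matrix.det_one (n := Fin n) (R := B ⧸ K)
    ext i k
    have := Ideal.Quotient.eq.2 (hσ k i)
    rw [RingHom.mapMatrix_apply, Matrix.map_apply, show M i k = σ (KaehlerDifferential.D R B (z k)) i by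
      simp [M, Φ, LinearMap.toMatrix'_apply, Fintype.linearCombination_apply_single], this]
    simp [Matrix.one_apply, Pi.single_apply, apply_ite (Ideal.Quotient.mk K), eq_comm]
  refine ⟨M.det * d₂, ?_, ?_⟩
  · rw [← Ideal.Quotient.eq, map_mul, Ideal.Quotient.eq.2 hdet, Ideal.Quotient.eq.2 hd₂,
      map_one, one_mul]
  set d := M.det * d₂
  let S := Localization.Away d
  have : Algebra.Smooth B S := Algebra.Smooth.of_isLocalization_Away d
  have : Algebra.Smooth R S := Algebra.Smooth.comp R B S
  let μ : Ω[B⁄R] →ₗ[B] Ω[S⁄R] := KaehlerDifferential.map R R B S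
  have hμ : IsLocalizedModule (Submonoid.powers d) μ := inferInstance
  have hdu : IsUnit (algebraMap B S d) := IsLocalization.Away.algebraMap_isUnit d
  let ΦS : (Fin n → S) →ₗ[S] Ω[S⁄R] :=
    Fintype.linearCombination S fun k => KaehlerDifferential.D R S (algebraMap B S (z k))
  have hΦS : ∀ w : Fin n → B, ΦS (fun k => algebraMap B S (w k)) = μ (Φ w) := fun w => by
    simp only [ΦS, Φ, μ, Fintype.linearCombination_apply, map_sum, map_smul,
      KaehlerDifferential.map_D, algebraMap_smul]
  have hsurj : Function.Surjective ΦS := by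
    intro ω
    obtain ⟨⟨ω₀, ⟨_, k, rfl⟩⟩, hω⟩ := IsLocalizedModule.surj (Submonoid.powers d) μ ω
    have h2 : d • ω₀ ∈ LinearMap.range Φ := by
      have := hd₂' (Submodule.Quotient.mk ω₀) trivial
      rw [← Submodule.Quotient.mk_smul, Submodule.Quotient.mk_eq_zero] at this
      rw [mul_smul]
      exact Submodule.smul_mem _ _ this
    obtain ⟨w, hw⟩ := h2
    refine ⟨(↑(hdu.pow (k + 1)).unit⁻¹ : S) • fun i => algebraMap B S (w i), ?_⟩
    rw [map_smul, hΦS, hw, map_smul]
    have hω' : (d ^ k : B) • ω = μ ω₀ := hω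
    rw [← hω', smul_smul, ← pow_succ', ← algebraMap_smul S (d ^ (k + 1)), smul_smul, map_pow,
      (hdu.pow (k + 1)).val_inv_mul, one_smul]
  have hinj : Function.Injective ΦS := by
    rw [← LinearMap.ker_eq_bot, eq_bot_iff]
    intro v hv
    obtain ⟨⟨_, k, rfl⟩, hk⟩ :=
      IsLocalization.exist_integer_multiples (Submonoid.powers d) Finset.univ v
    choose w hw using fun i => hk i (Finset.mem_univ i)
    have hw' : (fun i => algebraMap B S (w i)) = algebraMap B S (d ^ k) • v := by
      funext i
      show algebraMap B S (w i) = algebraMap B S (d ^ k) * v i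
      rw [hw i, Algebra.smul_def]
    have h0 : μ (Φ w) = 0 := by
      rw [← hΦS, hw', map_smul, LinearMap.mem_ker.1 hv, smul_zero]
    obtain ⟨⟨_, l, rfl⟩, hl⟩ := (IsLocalizedModule.eq_zero_iff (Submonoid.powers d) μ).1 h0
    have h1 : (d ^ l) • M.mulVec w = 0 := by
      have := congrArg σ hl
      rw [map_zero, Submonoid.smul_def, map_smul] at this
      rw [LinearMap.toMatrix'_mulVec]
      exact this
    have h3 : (d ^ l * M.det) • w = 0 := by
      have := congrArg M.adjugate.mulVec h1
      rw [Matrix.mulVec_zero, Matrix.mulVec_smul, Matrix.mulVec_mulVec, Matrix.adjugate_mul,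
        Matrix.smul_mulVec, Matrix.one_mulVec, smul_smul] at this
      exact this
    have hu : IsUnit (algebraMap B S (d ^ l * M.det) * algebraMap B S (d ^ k)) := by
      rw [map_mul, map_pow, map_pow]
      have hd' : IsUnit (algebraMap B S M.det * algebraMap B S d₂) := by rw [← map_mul]; exact hdu
      exact ((hdu.pow l).mul (isUnit_of_mul_isUnit_left hd')).mul (hdu.pow k)
    refine funext fun i => hu.mul_right_eq_zero.1 ?_
    have h4 := congrArg (algebraMap B S) (congrFun h3 i)
    rw [Pi.smul_apply, smul_eq_mul, map_mul, Pi.zero_apply, map_zero,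
      show algebraMap B S (w i) = algebraMap B S (d ^ k) * v i from congrFun hw' i, ← mul_assoc] at h4
    exact h4
  refine Algebra.IsStandardSmooth.of_basis_kaehlerDifferential
    (Module.Basis.ofEquivFun (LinearEquiv.ofBijective ΦS ⟨hinj, hsurj⟩).symm) ?_
  rintro _ ⟨k, rfl⟩
  refine ⟨algebraMap B S (z k), ?_⟩
  show _ = Module.Basis.ofEquivFun (LinearEquiv.ofBijective ΦS ⟨hinj, hsurj⟩).symm k
  rw [Module.Basis.coe_ofEquivFun]
  show _ = ΦS (Pi.single k 1)
  simp [ΦS, Fintype.linearCombination_apply_single]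
  rfl

/-- the retract algebra `A[y]/(y - E y)` -/
abbrev RetractAlg {n : ℕ} (E : Matrix (Fin n) (Fin n) A) : Type u :=
  MvPolynomial (Fin n) A ⧸ Ideal.span (Set.range fun k => X k - ∑ i, C (E i k) * X i)

theorem retractAlg_smooth {n : ℕ} (E : Matrix (Fin n) (Fin n) A) (hE : E * E = E) :
    Algebra.Smooth A (RetractAlg E) := by
  let I : Ideal (MvPolynomial (Fin n) A) :=
    Ideal.span (Set.range fun k => X k - ∑ i, C (E i k) * X i)
  have hfp : Algebra.FinitePresentation A (RetractAlg E) :=
    Algebra.FinitePresentation.quotient (Submodule.fg_def.2 ⟨_, Set.finite_range _, rfl⟩)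
  let sec₀ : MvPolynomial (Fin n) A →ₐ[A] MvPolynomial (Fin n) A :=
    aeval fun k => ∑ i, C (E i k) * X i
  let sec : RetractAlg E →ₐ[A] MvPolynomial (Fin n) A := Ideal.Quotient.liftₐ I sec₀ (fun x hx => by
    have hle : I ≤ RingHom.ker sec₀.toRingHom := by
      rw [Ideal.span_le]
      rintro _ ⟨k, rfl⟩
      show sec₀ (X k - ∑ i, C (E i k) * X i) = 0
      simp only [sec₀, map_sub, map_sum, map_mul, aeval_X, aeval_C, algebraMap_eq]
      rw [sub_eq_zero]
      conv_lhs => rw [← hE]
      simp only [Matrix.mul_apply, map_sum, map_mul, Finset.sum_mul, Finset.mul_sum]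
      rw [Finset.sum_comm]
      refine Finset.sum_congr rfl fun i _ => Finset.sum_congr rfl fun j _ => ?_
      ring
    exact hle hx)
  have hsec : (Ideal.Quotient.mkₐ A I).comp sec = AlgHom.id A (RetractAlg E) := by
    apply Ideal.Quotient.algHom_ext
    apply MvPolynomial.algHom_ext
    intro k
    show Ideal.Quotient.mk I (sec₀ (X k)) = Ideal.Quotient.mk I (X k)
    rw [Ideal.Quotient.eq]
    simp only [sec₀, aeval_X]
    rw [← neg_sub]
    exact I.neg_mem (Ideal.subset_span ⟨k, rfl⟩)
  refine ⟨Algebra.FormallySmooth.of_comp_surjective fun Q _ _ J hJ h => ?_, hfp⟩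
  obtain ⟨g, hg⟩ := Algebra.FormallySmooth.comp_surjective A (MvPolynomial (Fin n) A) J hJ
    (h.comp (Ideal.Quotient.mkₐ A I))
  refine ⟨g.comp sec, ?_⟩
  show ((Ideal.Quotient.mkₐ A J).comp g).comp sec = h
  rw [show (Ideal.Quotient.mkₐ A J).comp g = h.comp (Ideal.Quotient.mkₐ A I) from hg,
    AlgHom.comp_assoc, hsec, AlgHom.comp_id]

set_option maxHeartbeats 800000 in
theorem exists_smooth_retract [Algebra.Smooth R A] :
    ∃ (B : Type u) (_ : CommRing B) (_ : Algebra R B) (_ : Algebra A B) (_ : IsScalarTower R A B),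
      Algebra.Smooth A B ∧ Nonempty (B →ₐ[A] A) ∧ Algebra.IsStandardSmooth R B := by
  classical
  obtain ⟨n, ⟨P⟩⟩ := (Algebra.FiniteType.iff_exists_generators (R := R) (S := A)).mp inferInstance
  let x := P.val
  let π : (Fin n → A) →ₗ[A] Ω[A⁄R] :=
    Fintype.linearCombination A fun k => KaehlerDifferential.D R A (x k)
  have hπ : Function.Surjective π := by
    rw [← LinearMap.range_eq_top, Fintype.range_linearCombination, eq_top_iff,
      ← KaehlerDifferential.span_range_derivation, Submodule.span_le]
    rintro _ ⟨b, rfl⟩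
    rw [← P.aeval_val_σ b, derivation_aeval]
    exact Submodule.sum_mem _ fun k _ => Submodule.smul_mem _ _ (Submodule.subset_span ⟨k, rfl⟩)
  obtain ⟨s, hs⟩ := Module.projective_lifting_property π LinearMap.id hπ
  have hs' : ∀ ω, π (s ω) = ω := fun ω => DFunLike.congr_fun hs ω
  let eL : (Fin n → A) →ₗ[A] (Fin n → A) := LinearMap.id - s ∘ₗ π
  have heL : eL ∘ₗ eL = eL := by
    refine LinearMap.ext fun v => ?_
    simp [eL, hs']
  let E := LinearMap.toMatrix' eL
  have hE : E * E = E := by rw [← LinearMap.toMatrix'_comp, heL]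
  have hEk : ∀ k, eL (Pi.single k 1) = fun i => E i k := fun k => by
    funext i; simp [E, LinearMap.toMatrix'_apply]
  have hEv : ∀ v : Fin n → A, eL v = ∑ i, v i • eL (Pi.single i 1) := fun v => by
    conv_lhs => rw [pi_eq_sum_univ' v]
    rw [map_sum]
    simp only [map_smul]
  let I : Ideal (MvPolynomial (Fin n) A) :=
    Ideal.span (Set.range fun k => X k - ∑ i, C (E i k) * X i)
  have hAB : Algebra.Smooth A (RetractAlg E) := retractAlg_smooth E hE
  have : Algebra.Smooth R (RetractAlg E) := Algebra.Smooth.comp R A (RetractAlg E)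
  let y : Fin n → RetractAlg E := fun k => Ideal.Quotient.mk I (X k)
  have hy : ∀ k, y k = ∑ i, algebraMap A (RetractAlg E) (E i k) * y i := fun k => by
    show Ideal.Quotient.mk I (X k) = ∑ i, Ideal.Quotient.mk I (C (E i k)) * Ideal.Quotient.mk I (X i)
    simp only [← map_mul, ← map_sum]
    exact Ideal.Quotient.eq.2 (Ideal.subset_span ⟨k, rfl⟩)
  let r₀ : MvPolynomial (Fin n) A →ₐ[A] A := aeval fun _ => (0 : A)
  let r : RetractAlg E →ₐ[A] A := Ideal.Quotient.liftₐ I r₀ (fun z hz => by
    have hle : I ≤ RingHom.ker r₀.toRingHom := by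
      rw [Ideal.span_le]; rintro _ ⟨k, rfl⟩
      show r₀ (X k - ∑ i, C (E i k) * X i) = 0
      simp [r₀]
    exact hle hz)
  have hry : ∀ k, r (y k) = 0 := fun k => aeval_X _ _
  let K : Ideal (RetractAlg E) := RingHom.ker r.toRingHom
  let z : Fin n → RetractAlg E := fun k => algebraMap A (RetractAlg E) (x k) + y k
  let instBA : Algebra (RetractAlg E) A := r.toRingHom.toAlgebra
  have : IsScalarTower R (RetractAlg E) A := IsScalarTower.of_algebraMap_eq fun c => by
    show algebraMap R A c = r (algebraMap R (RetractAlg E) c)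
    rw [IsScalarTower.algebraMap_apply R A (RetractAlg E), AlgHom.commutes]
    rfl
  -- the derivation into `A^n`
  let ρ : A →ₐ[R] TrivSqZeroExt A (Fin n → A) :=
    { toFun := fun a => TrivSqZeroExt.inl a + TrivSqZeroExt.inr (s (KaehlerDifferential.D R A a))
      map_one' := by ext <;> simp
      map_mul' := fun a b => by
        refine TrivSqZeroExt.ext (by simp) ?_
        simp [TrivSqZeroExt.snd_mul, add_comm]
      map_zero' := by ext <;> simp
      map_add' := fun a b => by
        refine TrivSqZeroExt.ext (by simp) ?_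
        simp
      commutes' := fun c => by
        refine TrivSqZeroExt.ext (by simp [TrivSqZeroExt.algebraMap_eq_inl']) ?_
        simp [TrivSqZeroExt.algebraMap_eq_inl'] }
  let f₀ : MvPolynomial (Fin n) A →+* TrivSqZeroExt A (Fin n → A) :=
    eval₂Hom ρ.toRingHom fun k => TrivSqZeroExt.inr (eL (Pi.single k 1))
  have hf₀ : ∀ w ∈ I, f₀ w = 0 := by
    have hle : I ≤ RingHom.ker f₀ := by
      rw [Ideal.span_le]; rintro _ ⟨k, rfl⟩
      show f₀ (X k - ∑ i, C (E i k) * X i) = 0
      simp only [f₀, map_sub, map_sum, map_mul, eval₂Hom_X', eval₂Hom_C]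
      refine TrivSqZeroExt.ext (by simp [TrivSqZeroExt.fst_sum]) ?_
      simp only [TrivSqZeroExt.snd_sub, TrivSqZeroExt.snd_sum, TrivSqZeroExt.snd_inr,
        TrivSqZeroExt.snd_mul, TrivSqZeroExt.snd_zero]
      simp [ρ, sub_eq_zero]
      conv_lhs => rw [show eL (Pi.single k 1) = eL (eL (Pi.single k 1)) from
        (DFunLike.congr_fun heL _).symm, hEv, hEk]
    exact fun w hw => hle hw
  let f : RetractAlg E →+* TrivSqZeroExt A (Fin n → A) := Ideal.Quotient.lift I f₀ hf₀
  have hfst : ∀ b, (f b).fst = r b := fun b => by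
    obtain ⟨p, rfl⟩ := Ideal.Quotient.mk_surjective b
    show (f₀ p).fst = r₀ p
    induction p using MvPolynomial.induction_on with
    | C a => simp [f₀, r₀, ρ]
    | add p q hp hq => simp [hp, hq]
    | mul_X p i hp => simp [f₀, r₀, ρ]
  have hfa : ∀ a, f (algebraMap A (RetractAlg E) a) = ρ a := fun a => by
    show f₀ (C a) = ρ a
    simp [f₀]
  let D0L : RetractAlg E →ₗ[R] (Fin n → A) :=
    { toFun := fun b => (f b).snd
      map_add' := fun b c => by simp
      map_smul' := fun c b => by
        rw [RingHom.id_apply,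
          show c • b = algebraMap A (RetractAlg E) (algebraMap R A c) * b by
            rw [← IsScalarTower.algebraMap_apply R A (RetractAlg E)]; exact Algebra.smul_def c b,
          map_mul, hfa, AlgHom.commutes, ← Algebra.smul_def, TrivSqZeroExt.snd_smul] }
  let D0 : Derivation R (RetractAlg E) (Fin n → A) := Derivation.mk' D0L (fun b c => by
    show (f (b * c)).snd = b • (f c).snd + c • (f b).snd
    rw [map_mul, TrivSqZeroExt.snd_mul]
    funext i
    show (f b).fst * (f c).snd i + (f b).snd i * (f c).fst = r b * (f c).snd i + r c * (f b).snd i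
    rw [hfst, hfst, mul_comm ((f b).snd i)])
  let red : (Fin n → RetractAlg E) →ₗ[RetractAlg E] (Fin n → A) :=
    LinearMap.pi fun i => (Algebra.linearMap (RetractAlg E) A) ∘ₗ LinearMap.proj i
  have hred : Function.Surjective red := fun v =>
    ⟨fun i => algebraMap A (RetractAlg E) (v i), funext fun i => r.commutes (v i)⟩
  obtain ⟨σ, hσ⟩ := Module.projective_lifting_property red D0.liftKaehlerDifferential hred
  have hσz : ∀ k i, σ (KaehlerDifferential.D R (RetractAlg E) (z k)) i -
      (Pi.single k 1 : Fin n → RetractAlg E) i ∈ K := by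
    intro k i
    show r (_ - _) = 0
    rw [map_sub, sub_eq_zero]
    have h1 := congrFun (DFunLike.congr_fun hσ (KaehlerDifferential.D R (RetractAlg E) (z k))) i
    rw [Derivation.liftKaehlerDifferential_comp_D] at h1
    refine (h1.trans ?_).trans (by simp [Pi.single_apply, apply_ite r] :
      (Pi.single k 1 : Fin n → A) i = r ((Pi.single k 1 : Fin n → RetractAlg E) i))
    show (f (algebraMap A (RetractAlg E) (x k) + Ideal.Quotient.mk I (X k))).snd i = _
    rw [map_add, hfa, TrivSqZeroExt.snd_add]
    have h2 : s (KaehlerDifferential.D R A (x k)) = s (π (Pi.single k 1)) := by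
      simp [π, Fintype.linearCombination_apply_single]
    show ((TrivSqZeroExt.inl (x k) + TrivSqZeroExt.inr (s (KaehlerDifferential.D R A (x k)))).snd +
      (f₀ (X k)).snd) i = _
    simp [f₀, h2, eL]
  have hspan : ⊤ ≤ Submodule.span (RetractAlg E)
      (Set.range fun k => KaehlerDifferential.D R (RetractAlg E) (z k)) ⊔
      K • (⊤ : Submodule (RetractAlg E) Ω[RetractAlg E⁄R]) := by
    set N := Submodule.span (RetractAlg E)
      (Set.range fun k => KaehlerDifferential.D R (RetractAlg E) (z k)) ⊔
      K • (⊤ : Submodule (RetractAlg E) Ω[RetractAlg E⁄R])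
    let q := N.mkQ
    let α : Ω[A⁄R] →ₗ[A] Ω[RetractAlg E⁄R] ⧸ N :=
      q.restrictScalars A ∘ₗ KaehlerDifferential.map R R A (RetractAlg E)
    let Y : (Fin n → A) →ₗ[A] Ω[RetractAlg E⁄R] ⧸ N :=
      Fintype.linearCombination A fun k => q (KaehlerDifferential.D R (RetractAlg E) (y k))
    have hqK : ∀ b ∈ K, ∀ ω, q (b • ω) = 0 := fun b hb ω =>
      (Submodule.Quotient.mk_eq_zero _).2 (Submodule.mem_sup_right (Submodule.smul_mem_smul hb trivial))
    have hYE : Y ∘ₗ eL = Y := by
      apply LinearMap.pi_ext'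
      intro k
      apply LinearMap.ext_ring
      show Y (eL (Pi.single k 1)) = Y (Pi.single k 1)
      rw [hEk, Fintype.linearCombination_apply, Fintype.linearCombination_apply_single, one_smul]
      conv_rhs => rw [hy k, map_sum, map_sum]
      refine Finset.sum_congr rfl fun i _ => ?_
      rw [Derivation.leibniz, map_add, algebraMap_smul, LinearMap.map_smul_of_tower,
        hqK _ (hry i), add_zero]
    have hZ : α ∘ₗ π + Y = 0 := by
      apply LinearMap.pi_ext'
      intro k
      apply LinearMap.ext_ring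
      show α (π (Pi.single k 1)) + Y (Pi.single k 1) = 0
      simp only [π, Y, α, Fintype.linearCombination_apply_single, one_smul, LinearMap.comp_apply,
        LinearMap.restrictScalars_apply, KaehlerDifferential.map_D]
      rw [← map_add, ← map_add]
      exact (Submodule.Quotient.mk_eq_zero _).2
        (Submodule.mem_sup_left (Submodule.subset_span ⟨k, rfl⟩))
    have hYs : ∀ ω, Y (s ω) = 0 := fun ω => by
      rw [← hYE, LinearMap.comp_apply]; simp [eL, hs']
    have hα : α = 0 := by
      refine LinearMap.ext fun ω => ?_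
      have := DFunLike.congr_fun hZ (s ω)
      simpa [hs', hYs] using this
    have hY : ∀ k, q (KaehlerDifferential.D R (RetractAlg E) (y k)) = 0 := fun k => by
      have := DFunLike.congr_fun hZ (Pi.single k 1)
      simpa [hα, Y, Fintype.linearCombination_apply_single] using this
    rw [← KaehlerDifferential.span_range_derivation, Submodule.span_le]
    rintro _ ⟨b, rfl⟩
    rw [SetLike.mem_coe, ← Submodule.Quotient.mk_eq_zero]
    show q (KaehlerDifferential.D R (RetractAlg E) b) = 0
    obtain ⟨p, rfl⟩ := Ideal.Quotient.mk_surjective b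
    induction p using MvPolynomial.induction_on with
    | C a =>
      have := DFunLike.congr_fun hα (KaehlerDifferential.D R A a)
      simp only [α, LinearMap.comp_apply, LinearMap.restrictScalars_apply,
        KaehlerDifferential.map_D, LinearMap.zero_apply] at this
      exact this
    | add p p' hp hp' => rw [map_add, map_add, map_add, hp, hp', add_zero]
    | mul_X p i hp =>
      rw [map_mul, Derivation.leibniz, map_add, map_smul, map_smul, hp, hY i, smul_zero, smul_zero,
        add_zero]
  obtain ⟨d, hd, hstd⟩ := exists_standardSmooth_away z K σ hσz hspan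
  let B := Localization.Away d
  have : Algebra.Smooth (RetractAlg E) B := Algebra.Smooth.of_isLocalization_Away d
  have hrd : r d = 1 := by
    have h' : r (d - 1) = 0 := hd
    rwa [map_sub, map_one, sub_eq_zero] at h'
  refine ⟨B, inferInstance, inferInstance, inferInstance, inferInstance,
    Algebra.Smooth.comp A (RetractAlg E) B,
    ⟨IsLocalization.liftAlgHom (M := Submonoid.powers d) (f := r) ?_⟩, hstd⟩
  rintro ⟨_, k, rfl⟩
  rw [map_pow, hrd, one_pow]
  exact isUnit_one

end Groth.Agent.SmoothingLib
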