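import Groth.Agent.SmoothingLib.Strict
import Groth.Agent.SmoothingLib.Retract
import Mathlib.RingTheory.MvPolynomial.Localization
import Mathlib.RingTheory.Localization.BaseChange
import Mathlib.Data.Matrix.Block

/-!
Delocalization of a smooth factorization.
-/

namespace Groth.Agent.SmoothingLib.DelocBase

open MvPolynomial TensorProduct

universe u

variable {R : Type u} [CommRing R]

/-- An elementary standard element from a presentation with arbitrary finite index types. -/
theorem isElementaryStandard_of {A : Type u} [CommRing A] [Algebra R A] {ι κ τ : Type} [Fintype ι]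
    [Fintype κ] [DecidableEq κ] [Fintype τ] (lead : κ → MvPolynomial ι R) (tail : τ → MvPolynomial ι R)
    (cols : κ → ι) (hcols : Function.Injective cols) (π : MvPolynomial ι R →ₐ[R] A)
    (hπ : Function.Surjective π)
    (hker : RingHom.ker π.toRingHom = Ideal.span (Set.range (Sum.elim lead tail))) (a w : A)
    (haw : a = w * π (Matrix.det (Matrix.of fun j k => pderiv (cols k) (lead j))))
    (htail : ∀ t, ∃ a₁, π a₁ = a ∧ a₁ * tail t ∈ Ideal.span (Set.range lead) ⊔
      Ideal.span (Set.range (Sum.elim lead tail)) ^ 2) :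
    Smoothing.IsElementaryStandard R A a := by
  classical
  let e₁ : Fin (Fintype.card κ) ≃ κ := (Fintype.equivFin κ).symm
  let e₂ : Fin (Fintype.card τ) ≃ τ := (Fintype.equivFin τ).symm
  let e₃ : Fin (Fintype.card ι) ≃ ι := (Fintype.equivFin ι).symm
  have hle : Fintype.card κ ≤ Fintype.card ι := Fintype.card_le_of_injective cols hcols
  obtain ⟨σ, hσ⟩ := exists_perm_comp_eq hle
    ⟨fun i => e₃.symm (cols (e₁ i)), e₃.symm.injective.comp (hcols.comp e₁.injective)⟩
  let e : Fin (Fintype.card ι) ≃ ι := σ.trans e₃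
  have he : ∀ i, e (Fin.castLE hle i) = cols (e₁ i) := fun i => by
    show e₃ (σ (Fin.castLE hle i)) = _
    rw [hσ]; exact e₃.apply_symm_apply _
  let ρ : MvPolynomial ι R ≃ₐ[R] MvPolynomial (Fin (Fintype.card ι)) R := renameEquiv R e.symm
  let rel : Fin (Fintype.card κ + Fintype.card τ) → MvPolynomial (Fin (Fintype.card ι)) R :=
    fun i => ρ (Sum.elim lead tail ((e₁.sumCongr e₂) (finSumFinEquiv.symm i)))
  have hrange : Set.range rel = ρ '' Set.range (Sum.elim lead tail) := by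
    rw [← Set.range_comp, show rel = (fun x => ρ (Sum.elim lead tail x)) ∘
      ((e₁.sumCongr e₂) ∘ finSumFinEquiv.symm) from rfl,
      ((e₁.sumCongr e₂).surjective.comp finSumFinEquiv.symm.surjective).range_comp]
    rfl
  let P : Smoothing.MarkedPresentation R A :=
    { n := Fintype.card ι, m := Fintype.card κ + Fintype.card τ, c := Fintype.card κ, hcn := hle
      hcm := Nat.le_add_right _ _, rel := rel
      hom := π.comp ρ.symm.toAlgHom
      surj := hπ.comp ρ.symm.surjective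
      ker_eq := by
        rw [hrange, show (ρ '' Set.range (Sum.elim lead tail)) =
            (ρ.toRingEquiv.toRingHom '' Set.range (Sum.elim lead tail)) from rfl,
          ← Ideal.map_span, ← hker]
        ext x
        show π (ρ.symm x) = 0 ↔ x ∈ Ideal.map ρ.toRingEquiv (RingHom.ker π.toRingHom)
        rw [Ideal.mem_map_of_equiv]
        constructor
        · intro hx; exact ⟨ρ.symm x, hx, ρ.apply_symm_apply x⟩
        · rintro ⟨y, hy, rfl⟩
          show π (ρ.symm (ρ y)) = 0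
          rw [ρ.symm_apply_apply]; exact hy }
  have hlead : ∀ i : Fin (Fintype.card κ), rel (Fin.castLE (Nat.le_add_right _ _) i) = ρ (lead (e₁ i)) := by
    intro i
    show ρ (Sum.elim lead tail ((e₁.sumCongr e₂) (finSumFinEquiv.symm (Fin.castAdd _ i)))) = _
    rw [finSumFinEquiv_symm_apply_castAdd]
    rfl
  refine ⟨P, ⟨w, ?_⟩, fun t ht j hj => ?_⟩
  · rw [haw]
    congr 1
    have hminor : Smoothing.jacobianMinor rel (Fin.castLE P.hcm) (Fin.castLE P.hcn) =
        ρ (Matrix.det (Matrix.of fun j k => pderiv (cols k) (lead j))) := by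
      rw [AlgEquiv.map_det, ← Matrix.det_submatrix_equiv_self e₁]
      refine congrArg Matrix.det (Matrix.ext fun j k => ?_)
      show pderiv (Fin.castLE hle k) (rel (Fin.castLE _ j)) =
        rename e.symm (pderiv (cols (e₁ k)) (lead (e₁ j)))
      rw [hlead, ← he]
      show pderiv (Fin.castLE hle k) (rename e.symm (lead (e₁ j))) = _
      conv_lhs => rw [← e.symm_apply_apply (Fin.castLE hle k), pderiv_rename e.symm.injective]
    show _ = π (ρ.symm (Smoothing.jacobianMinor rel (Fin.castLE P.hcm) (Fin.castLE P.hcn)))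
    rw [hminor, ρ.symm_apply_apply]
  · obtain ⟨i₀, rfl⟩ : ∃ i₀, j = Fin.natAdd (Fintype.card κ) i₀ := by
      refine ⟨⟨(j : ℕ) - Fintype.card κ, by
        have := j.2; change (j : ℕ) < Fintype.card κ + Fintype.card τ at this
        change Fintype.card κ ≤ (j : ℕ) at hj; omega⟩, ?_⟩
      ext; change (j : ℕ) = Fintype.card κ + ((j : ℕ) - Fintype.card κ)
      change Fintype.card κ ≤ (j : ℕ) at hj; omega
    obtain ⟨a₁, ha₁, hmem⟩ := htail (e₂ i₀)
    have hrel : rel (Fin.natAdd _ i₀) = ρ (tail (e₂ i₀)) := by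
      show ρ (Sum.elim lead tail ((e₁.sumCongr e₂) (finSumFinEquiv.symm (Fin.natAdd _ i₀)))) = _
      rw [finSumFinEquiv_symm_apply_natAdd]
      rfl
    have h1 : ρ (a₁ * tail (e₂ i₀)) ∈ Ideal.span (P.rel '' {j' : Fin P.m | (j' : ℕ) < P.c}) ⊔
        Ideal.span (Set.range P.rel) ^ 2 := by
      have h2 := Ideal.mem_map_of_mem ρ.toRingEquiv.toRingHom hmem
      rw [Ideal.map_sup, Ideal.map_pow, Ideal.map_span, Ideal.map_span, ← Set.range_comp] at h2
      refine SetLike.le_def.1 (sup_le_sup ?_ ?_) h2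
      · rw [← range_castLE_eq]
        refine Ideal.span_mono ?_
        rintro _ ⟨x, rfl⟩
        exact ⟨e₁.symm x, by show rel (Fin.castLE _ _) = _; rw [hlead, Equiv.apply_symm_apply]; rfl⟩
      · exact le_of_eq (by rw [show P.rel = rel from rfl, hrange]; rfl)
    have hd : t - ρ a₁ ∈ Ideal.span (Set.range P.rel) := by
      rw [← P.ker_eq]
      show P.hom (t - ρ a₁) = 0
      rw [map_sub, ht, show P.hom (ρ a₁) = π (ρ.symm (ρ a₁)) from rfl, ρ.symm_apply_apply, ha₁, sub_self]
    show t * rel _ ∈ _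
    rw [show t * rel (Fin.natAdd _ i₀) = ρ (a₁ * tail (e₂ i₀)) + (t - ρ a₁) * rel (Fin.natAdd _ i₀) by
      rw [map_mul, hrel]; ring]
    refine Ideal.add_mem _ h1 (Submodule.mem_sup_right ?_)
    rw [pow_two]
    exact Ideal.mul_mem_mul hd (Ideal.subset_span ⟨_, rfl⟩)

variable {Rₛ : Type u} [CommRing Rₛ] [Algebra R Rₛ] (S : Submonoid R) [IsLocalization S Rₛ]

theorem exists_clear {ι : Type} (p : MvPolynomial ι Rₛ) :
    ∃ s ∈ S, ∃ q : MvPolynomial ι R, MvPolynomial.map (algebraMap R Rₛ) q = C (algebraMap R Rₛ s) * p := by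
  induction p using MvPolynomial.induction_on with
  | C r =>
    obtain ⟨⟨a, s⟩, has⟩ := IsLocalization.surj S r
    exact ⟨s, s.2, C a, by rw [MvPolynomial.map_C, ← has, mul_comm r, map_mul]⟩
  | add p p' hp hp' =>
    obtain ⟨s, hs, q, hq⟩ := hp
    obtain ⟨s', hs', q', hq'⟩ := hp'
    refine ⟨s * s', S.mul_mem hs hs', C s' * q + C s * q', ?_⟩
    simp only [map_add, map_mul, MvPolynomial.map_C, hq, hq']
    ring
  | mul_X p i hp =>
    obtain ⟨s, hs, q, hq⟩ := hp
    exact ⟨s, hs, q * X i, by rw [map_mul, hq, MvPolynomial.map_X, mul_assoc]⟩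

theorem exists_smul_mem_of_map_mem {ι : Type} {J : Ideal (MvPolynomial ι R)} {p : MvPolynomial ι R}
    (h : MvPolynomial.map (algebraMap R Rₛ) p ∈ J.map (MvPolynomial.map (algebraMap R Rₛ))) :
    ∃ s ∈ S, C s * p ∈ J := by
  letI : Algebra (MvPolynomial ι R) (MvPolynomial ι Rₛ) := MvPolynomial.algebraMvPolynomial
  obtain ⟨_, ⟨s, hs, rfl⟩, hm⟩ :=
    (IsLocalization.algebraMap_mem_map_algebraMap_iff (S.map (C (σ := ι))) (MvPolynomial ι Rₛ) J p).1 h
  exact ⟨s, hs, hm⟩

theorem isUnit_of_mem {s : R} (hs : s ∈ S) : IsUnit (algebraMap R Rₛ s) :=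
  IsLocalization.map_units Rₛ (⟨s, hs⟩ : S)

set_option maxHeartbeats 1000000 in
theorem delocalize {A Λ B' : Type u} [CommRing A] [Algebra R A]
    [Algebra.FinitePresentation R A] [CommRing Λ] [Algebra R Λ] (φ : A →ₐ[R] Λ)
    [CommRing B'] [Algebra Rₛ B'] [Algebra.Smooth Rₛ B'] (g : Rₛ ⊗[R] A →ₐ[Rₛ] B')
    (h : B' →ₐ[Rₛ] Rₛ ⊗[R] Λ)
    (hgh : h.comp g = Algebra.TensorProduct.map (AlgHom.id Rₛ Rₛ) φ) :
    ∃ (B : Type u) (_ : CommRing B) (_ : Algebra R B) (α : A →ₐ[R] B) (β : B →ₐ[R] Λ),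
      β.comp α = φ ∧ ∃ s ∈ S, Smoothing.IsElementaryStandard R B (algebraMap R B s) := by
  classical
  obtain ⟨B₂, _, _, _, _, _, ⟨r⟩, hstd⟩ := exists_smooth_retract (R := Rₛ) (A := B')
  obtain ⟨ι₀, σ₀, hσ₀, hι₀, ⟨P⟩⟩ := hstd.out
  haveI := hσ₀
  haveI := hι₀
  letI : Algebra R B₂ := ((algebraMap Rₛ B₂).comp (algebraMap R Rₛ)).toAlgebra
  haveI : IsScalarTower R Rₛ B₂ := IsScalarTower.of_algebraMap_eq fun _ => rfl
  letI : Fintype ι₀ := Fintype.ofFinite ι₀
  letI : Fintype σ₀ := Fintype.ofFinite σ₀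
  let g₂ : Rₛ ⊗[R] A →ₐ[Rₛ] B₂ := (IsScalarTower.toAlgHom Rₛ B' B₂).comp g
  let h₂ : B₂ →ₐ[Rₛ] Rₛ ⊗[R] Λ := h.comp (r.restrictScalars Rₛ)
  have hgh₂ : ∀ a : A, h₂ (g₂ ((1 : Rₛ) ⊗ₜ[R] a)) = (1 : Rₛ) ⊗ₜ[R] φ a := fun a => by
    show h (r (algebraMap B' B₂ (g ((1 : Rₛ) ⊗ₜ[R] a)))) = _
    rw [r.commutes, Algebra.algebraMap_self, RingHom.id_apply]
    exact DFunLike.congr_fun hgh ((1 : Rₛ) ⊗ₜ[R] a)
  let one : Λ →ₗ[R] Rₛ ⊗[R] Λ := TensorProduct.mk R Rₛ Λ 1
  haveI : IsLocalizedModule S one :=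
    (isLocalizedModule_iff_isBaseChange S Rₛ one).mpr (TensorProduct.isBaseChange R Λ Rₛ)
  have hscale : ∀ (c : R) (t : Rₛ ⊗[R] Λ), algebraMap Rₛ (Rₛ ⊗[R] Λ) (algebraMap R Rₛ c) * t = c • t :=
    fun c t => by rw [← Algebra.smul_def, algebraMap_smul]
  have hkill : ∀ t : Λ, one t = 0 → ∃ c ∈ S, algebraMap R Λ c * t = 0 := fun t ht => by
    obtain ⟨c, hc⟩ := (IsLocalizedModule.eq_zero_iff S one).1 ht
    exact ⟨c, c.2, by rw [← Algebra.smul_def]; exact hc⟩
  obtain ⟨s₀, hs₀⟩ := IsLocalizedModule.exist_integer_multiples S one Finset.univ fun i => h₂ (P.val i)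
  choose lam hlam using fun i => hs₀ i (Finset.mem_univ i)
  -- generators with integral images
  let u₀ := (isUnit_of_mem (Rₛ := Rₛ) S s₀.2).unit
  let v : ι₀ → B₂ := fun i => algebraMap Rₛ B₂ ↑u₀ * P.val i
  have hv : ∀ i, h₂ (v i) = (1 : Rₛ) ⊗ₜ[R] lam i := fun i => by
    rw [map_mul, AlgHom.commutes]
    exact (hscale _ _).trans (hlam i).symm
  let θ : MvPolynomial ι₀ Rₛ →ₐ[Rₛ] MvPolynomial ι₀ Rₛ := aeval fun i => C (↑u₀⁻¹ : Rₛ) * X i
  let θ' : MvPolynomial ι₀ Rₛ →ₐ[Rₛ] MvPolynomial ι₀ Rₛ := aeval fun i => C (↑u₀ : Rₛ) * X i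
  have hθθ' : ∀ p, θ (θ' p) = p := fun p =>
    DFunLike.congr_fun (show θ.comp θ' = AlgHom.id Rₛ _ from algHom_ext fun i => by
      simp only [θ, θ', AlgHom.comp_apply, AlgHom.id_apply, map_mul, aeval_C, aeval_X,
        MvPolynomial.algebraMap_eq]
      rw [← mul_assoc, ← map_mul, Units.mul_inv, map_one, one_mul]) p
  have hθv : ∀ p, aeval v (θ p) = aeval P.val p := fun p =>
    DFunLike.congr_fun (show (aeval v).comp θ = aeval P.val from algHom_ext fun i => by
      simp only [θ, v, AlgHom.comp_apply, map_mul, aeval_C, aeval_X]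
      rw [← mul_assoc, ← map_mul, Units.inv_mul, map_one, one_mul]) p
  let f : σ₀ → MvPolynomial ι₀ Rₛ := fun j => θ (P.relation j)
  have hrel0 : ∀ j, aeval P.val (P.relation j) = 0 := fun j => P.aeval_val_relation j
  have hkerv : ∀ p, aeval v p = 0 → p ∈ Ideal.span (Set.range f) := fun p hp => by
    have h1 : θ' p ∈ P.ker := by
      rw [Algebra.Generators.ker_eq_ker_aeval_val, RingHom.mem_ker, ← hθv, hθθ']; exact hp
    rw [← P.span_range_relation_eq_ker] at h1
    have h2 := Ideal.mem_map_of_mem θ.toRingHom h1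
    rw [Ideal.map_span, ← Set.range_comp] at h2
    exact hθθ' p ▸ h2
  -- integral equations for the generators
  choose s₁ hs₁ F₁ hF₁ using fun j => exists_clear S (f j)
  have hF₁lam : ∀ j, one (aeval lam (F₁ j)) = 0 := fun j => by
    have key : ∀ p, (1 : Rₛ) ⊗ₜ[R] aeval lam p = h₂ (aeval v (MvPolynomial.map (algebraMap R Rₛ) p)) := by
      intro p
      rw [aeval_map_algebraMap]
      exact DFunLike.congr_fun (show (Algebra.TensorProduct.includeRight : Λ →ₐ[R] Rₛ ⊗[R] Λ).comp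
        (aeval lam) = (h₂.restrictScalars R).comp (aeval v) from algHom_ext fun i => by simp [hv]) p
    show (1 : Rₛ) ⊗ₜ[R] _ = 0
    rw [key, hF₁, map_mul, hθv, hrel0, mul_zero, map_zero]
  choose s₂ hs₂ hs₂0 using fun j => hkill _ (hF₁lam j)
  -- presentation of `A`
  obtain ⟨N, π, hπ, hfg⟩ := ‹Algebra.FinitePresentation R A›.out
  obtain ⟨M, G, hG⟩ := Submodule.fg_iff_exists_fin_generating_family.1 hfg
  have hker : RingHom.ker π.toRingHom = Ideal.span (Set.range G) := hG.symm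
  let za : Fin N → A := fun k => π (X k)
  have hza : ∀ p, aeval za p = π p := fun p =>
    DFunLike.congr_fun (show aeval za = π from algHom_ext fun k => by simp [za]) p
  let zb : Fin N → B₂ := fun k => g₂ ((1 : Rₛ) ⊗ₜ[R] za k)
  choose pz hpz using fun k => (show ∃ p, aeval v p = zb k from
    ⟨θ (P.σ (zb k)), by rw [hθv, P.aeval_val_σ]⟩)
  choose s₃ hs₃ Q hQ using fun k => exists_clear S (pz k)
  have hQlam : ∀ k, one (algebraMap R Λ (s₃ k) * φ (za k) - aeval lam (Q k)) = 0 := fun k => by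
    have key : ∀ p, (1 : Rₛ) ⊗ₜ[R] aeval lam p = h₂ (aeval v (MvPolynomial.map (algebraMap R Rₛ) p)) := by
      intro p
      rw [aeval_map_algebraMap]
      exact DFunLike.congr_fun (show (Algebra.TensorProduct.includeRight : Λ →ₐ[R] Rₛ ⊗[R] Λ).comp
        (aeval lam) = (h₂.restrictScalars R).comp (aeval v) from algHom_ext fun i => by simp [hv]) p
    rw [map_sub, ← Algebra.smul_def, map_smul, sub_eq_zero]
    show s₃ k • ((1 : Rₛ) ⊗ₜ[R] φ (za k)) = (1 : Rₛ) ⊗ₜ[R] _
    rw [key, hQ, map_mul, aeval_C, map_mul, AlgHom.commutes, hpz, hgh₂, hscale]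
  choose s₄ hs₄ hs₄0 using fun k => hkill _ (hQlam k)
  -- the presentation of `B`
  let lead : σ₀ ⊕ Fin N → MvPolynomial (ι₀ ⊕ Fin N) R :=
    Sum.elim (fun j => C (s₂ j) * rename Sum.inl (F₁ j))
      fun k => C (s₄ k) * (C (s₃ k) * X (Sum.inr k) - rename Sum.inl (Q k))
  let tail : Fin M → MvPolynomial (ι₀ ⊕ Fin N) R := fun l => rename Sum.inr (G l)
  let cols : σ₀ ⊕ Fin N → ι₀ ⊕ Fin N := Sum.map P.map id
  let J : Ideal (MvPolynomial (ι₀ ⊕ Fin N) R) := Ideal.span (Set.range (Sum.elim lead tail))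
  let ev : MvPolynomial (ι₀ ⊕ Fin N) Rₛ →ₐ[Rₛ] B₂ := aeval (Sum.elim v zb)
  let mp : MvPolynomial (ι₀ ⊕ Fin N) R →+* MvPolynomial (ι₀ ⊕ Fin N) Rₛ :=
    MvPolynomial.map (algebraMap R Rₛ)
  let L : Ideal (MvPolynomial (ι₀ ⊕ Fin N) Rₛ) := (Ideal.span (Set.range lead)).map mp
  have hevkerL : ∀ p, ev p = 0 → p ∈ L := by
    have hL1 : ∀ j, rename Sum.inl (f j) ∈ L := fun j => by
      have h1 : mp (lead (Sum.inl j)) ∈ L := Ideal.mem_map_of_mem _ (Ideal.subset_span ⟨_, rfl⟩)
      have h2 : mp (lead (Sum.inl j)) = C (algebraMap R Rₛ (s₂ j * s₁ j)) * rename Sum.inl (f j) := by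
        simp only [lead, mp, Sum.elim_inl, map_mul, MvPolynomial.map_C, MvPolynomial.map_rename, hF₁,
          rename_C, mul_assoc]
      rw [h2] at h1
      exact (Ideal.unit_mul_mem_iff_mem L
        ((isUnit_of_mem S (S.mul_mem (hs₂ j) (hs₁ j))).map C)).1 h1
    have hL2 : ∀ k, X (Sum.inr k) - rename Sum.inl (pz k) ∈ L := fun k => by
      have h1 : mp (lead (Sum.inr k)) ∈ L := Ideal.mem_map_of_mem _ (Ideal.subset_span ⟨_, rfl⟩)
      have h2 : mp (lead (Sum.inr k)) = C (algebraMap R Rₛ (s₄ k * s₃ k)) *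
          (X (Sum.inr k) - rename Sum.inl (pz k)) := by
        simp only [lead, mp, Sum.elim_inr, map_mul, map_sub, MvPolynomial.map_C, MvPolynomial.map_X,
          MvPolynomial.map_rename, hQ, rename_C]
        ring
      rw [h2] at h1
      exact (Ideal.unit_mul_mem_iff_mem L
        ((isUnit_of_mem S (S.mul_mem (hs₄ k) (hs₃ k))).map C)).1 h1
    let back : MvPolynomial (ι₀ ⊕ Fin N) Rₛ →ₐ[Rₛ] MvPolynomial ι₀ Rₛ := aeval (Sum.elim X pz)
    have hback : ∀ p, p - rename Sum.inl (back p) ∈ L := fun p => by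
      induction p using MvPolynomial.induction_on with
      | C c => simp [back]
      | add p q hp hq => rw [map_add, map_add, add_sub_add_comm]; exact L.add_mem hp hq
      | mul_X p i hp =>
        rw [map_mul, map_mul, show back (X i) = Sum.elim X pz i from aeval_X _ _]
        rcases i with i | k
        · rw [Sum.elim_inl, rename_X, ← sub_mul]; exact L.mul_mem_right _ hp
        · rw [Sum.elim_inr, show p * X (Sum.inr k) - rename Sum.inl (back p) * rename Sum.inl (pz k) =
            (p - rename Sum.inl (back p)) * X (Sum.inr k) +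
              rename Sum.inl (back p) * (X (Sum.inr k) - rename Sum.inl (pz k)) by ring]
          exact L.add_mem (L.mul_mem_right _ hp) (L.mul_mem_left _ (hL2 k))
    intro p hp
    have h1 : aeval v (back p) = 0 := by
      rw [← hp]
      exact DFunLike.congr_fun (show (aeval v).comp back = ev from algHom_ext fun i => by
        rcases i with i | k <;> simp [back, ev, hpz]) p
    have h2 := hkerv _ h1
    have h3 : rename Sum.inl (back p) ∈ L := by
      have h4 := Ideal.mem_map_of_mem (rename (R := Rₛ) (Sum.inl : ι₀ → ι₀ ⊕ Fin N)).toRingHom h2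
      rw [Ideal.map_span, ← Set.range_comp] at h4
      exact (Ideal.span_le.2 (by rintro _ ⟨j, rfl⟩; exact hL1 j)) h4
    simpa using L.add_mem (hback p) h3
  -- the tail
  have hevmp : ∀ p, ev (mp p) = aeval (Sum.elim v zb) p := fun p => aeval_map_algebraMap _ _ p
  have hG0 : ∀ l, ∃ c ∈ S, C c * tail l ∈ Ideal.span (Set.range lead) := fun l => by
    refine exists_smul_mem_of_map_mem S (hevkerL _ ?_)
    rw [hevmp, aeval_rename, Sum.elim_comp_inr]
    let ζ : A →ₐ[R] B₂ := (g₂.restrictScalars R).comp Algebra.TensorProduct.includeRight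
    rw [show zb = fun k => ζ (za k) from rfl, ← MvPolynomial.comp_aeval za ζ, AlgHom.comp_apply,
      hza]
    have h1 : G l ∈ Ideal.span (Set.range G) := Ideal.subset_span ⟨l, rfl⟩
    rw [← hker] at h1
    rw [show π (G l) = 0 from h1, map_zero]
  choose s₅ hs₅ hs₅G using hG0
  -- the determinant
  let D : Matrix (σ₀ ⊕ Fin N) (σ₀ ⊕ Fin N) (MvPolynomial (ι₀ ⊕ Fin N) R) :=
    Matrix.of fun j k => pderiv (cols k) (lead j)
  have hDu : IsUnit (ev (mp D.det)) := by
    rw [hevmp, AlgHom.map_det]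
    have hblock : (aeval (Sum.elim v zb) : MvPolynomial (ι₀ ⊕ Fin N) R →ₐ[R] B₂).mapMatrix D =
        Matrix.fromBlocks
          (Matrix.of fun j k => algebraMap R B₂ (s₂ j) * aeval v (pderiv (P.map k) (F₁ j))) 0
          (Matrix.of fun j k => aeval (Sum.elim v zb) (D (Sum.inr j) (Sum.inl k)))
          (Matrix.diagonal fun k => algebraMap R B₂ (s₄ k * s₃ k)) := by
      have hz : ∀ (k : Fin N) (p : MvPolynomial ι₀ R),
          pderiv (Sum.inr k : ι₀ ⊕ Fin N) (rename Sum.inl p) = 0 := fun k p => by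
        refine pderiv_eq_zero_of_notMem_vars fun hmem => ?_
        obtain ⟨i, -, hi⟩ := Finset.mem_image.1 (vars_rename _ _ hmem)
        exact Sum.inl_ne_inr hi
      refine Matrix.ext fun j k => ?_
      rw [AlgHom.mapMatrix_apply, Matrix.map_apply]
      rcases j with j | j <;> rcases k with k | k
      · simp [D, cols, lead, Derivation.leibniz, pderiv_rename Sum.inl_injective, aeval_rename]
      · simp [D, cols, lead, Derivation.leibniz, hz]
      · rfl
      · simp [D, cols, lead, Derivation.leibniz, hz, pderiv_X, Matrix.diagonal_apply, Pi.single_apply,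
          apply_ite (aeval (R := R) (Sum.elim v zb)), mul_ite, eq_comm, mul_assoc]
    rw [hblock, Matrix.det_fromBlocks_zero₁₂, Matrix.det_diagonal,
      show (Matrix.of fun j k => algebraMap R B₂ (s₂ j) * aeval v (pderiv (P.map k) (F₁ j))) =
        Matrix.of fun j k => algebraMap R B₂ (s₂ j * s₁ j) * aeval v (pderiv (P.map k) (f j)) by
      ext j k
      simp only [Matrix.of_apply]
      rw [← aeval_map_algebraMap Rₛ v (pderiv (P.map k) (F₁ j)), ← MvPolynomial.pderiv_map, hF₁]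
      simp [Derivation.leibniz, map_mul, ← IsScalarTower.algebraMap_apply R Rₛ B₂, mul_assoc]]
    refine IsUnit.mul ?_ (IsUnit.prod_iff.2 fun k _ => ?_)
    · rw [Matrix.det_mul_column]
      refine IsUnit.mul (IsUnit.prod_iff.2 fun j _ => ?_) ?_
      · rw [IsScalarTower.algebraMap_apply R Rₛ B₂]
        exact (isUnit_of_mem S (S.mul_mem (hs₂ j) (hs₁ j))).map _
      · have hchain : ∀ i p, aeval v (pderiv i (θ p)) =
            algebraMap Rₛ B₂ ↑u₀⁻¹ * aeval P.val (pderiv i p) := by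
          intro i p
          induction p using MvPolynomial.induction_on with
          | C c => simp [θ]
          | add p q hp hq => simp only [map_add, hp, hq, mul_add]
          | mul_X p m hp =>
            simp only [map_mul, Derivation.leibniz, smul_eq_mul, map_add, hp, hθv]
            simp [θ, v, pderiv_X, Pi.single_apply, apply_ite (aeval v), apply_ite (aeval P.val)]
            split_ifs
            · ring_nf
            · ring_nf
        have hj := P.jacobian_isUnit
        rw [Algebra.PreSubmersivePresentation.jacobian_eq_jacobiMatrix_det, RingHom.map_det] at hj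
        have h2 : (Matrix.of fun j k => aeval v (pderiv (P.map k) (f j))) =
            algebraMap Rₛ B₂ ↑u₀⁻¹ • ((algebraMap P.Ring B₂).mapMatrix P.jacobiMatrix).transpose := by
          ext j k
          rw [Matrix.of_apply, hchain, Matrix.smul_apply, Matrix.transpose_apply, RingHom.mapMatrix_apply,
            Matrix.map_apply, Algebra.PreSubmersivePresentation.jacobiMatrix_apply, smul_eq_mul,
            Algebra.Generators.algebraMap_apply]
        show IsUnit (Matrix.of fun j k => aeval v (pderiv (P.map k) (f j))).det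
        rw [h2, Matrix.det_smul, Matrix.det_transpose]
        exact ((u₀⁻¹).isUnit.map _).pow _ |>.mul hj
    · rw [IsScalarTower.algebraMap_apply R Rₛ B₂]
      exact (isUnit_of_mem S (S.mul_mem (hs₄ k) (hs₃ k))).map _
  obtain ⟨W, hW⟩ : ∃ W : MvPolynomial (ι₀ ⊕ Fin N) Rₛ, ev (mp D.det * W - 1) = 0 := by
    obtain ⟨W, hW⟩ : ∃ W, ev W = ↑hDu.unit⁻¹ := by
      refine ⟨rename Sum.inl (θ (P.σ (↑hDu.unit⁻¹))), ?_⟩
      simp only [ev, aeval_rename, Sum.elim_comp_inl]
      rw [hθv, P.aeval_val_σ]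
    exact ⟨W, by rw [map_sub, map_mul, hW, map_one, hDu.mul_val_inv, sub_self]⟩
  obtain ⟨s₆, hs₆, W', hW'⟩ := exists_clear S W
  obtain ⟨s₇, hs₇, hdet⟩ := exists_smul_mem_of_map_mem S (J := Ideal.span (Set.range lead))
    (p := D.det * W' - C s₆) (by
      have h1 := L.mul_mem_left (C (algebraMap R Rₛ s₆)) (hevkerL _ hW)
      rw [map_sub, map_mul, hW', MvPolynomial.map_C]
      convert h1 using 1
      ring)
  let B := MvPolynomial (ι₀ ⊕ Fin N) R ⧸ J
  let q : MvPolynomial (ι₀ ⊕ Fin N) R →ₐ[R] MvPolynomial (ι₀ ⊕ Fin N) R ⧸ J := Ideal.Quotient.mkₐ R J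
  let val : MvPolynomial (ι₀ ⊕ Fin N) R →ₐ[R] Λ := aeval (Sum.elim lam fun k => φ (za k))
  have hφza : ∀ p, aeval (fun k => φ (za k)) p = φ (π p) := fun p => by
    rw [← hza, ← AlgHom.comp_apply, MvPolynomial.comp_aeval]
  have hval : ∀ p ∈ J, val p = 0 := by
    have hle : J ≤ RingHom.ker val.toRingHom := Ideal.span_le.2 (by
      rintro _ ⟨(j | k) | l, rfl⟩
      · show val _ = 0
        simp only [lead, val, Sum.elim_inl, map_mul, aeval_C, aeval_rename, Sum.elim_comp_inl]
        exact hs₂0 j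
      · show val _ = 0
        simp only [lead, val, Sum.elim_inl, Sum.elim_inr, map_mul, map_sub, aeval_C, aeval_X,
          aeval_rename, Sum.elim_comp_inl]
        exact hs₄0 k
      · show val _ = 0
        simp only [tail, val, Sum.elim_inr, aeval_rename, Sum.elim_comp_inr, hφza]
        have h1 : G l ∈ Ideal.span (Set.range G) := Ideal.subset_span ⟨l, rfl⟩
        rw [← hker] at h1
        rw [show π (G l) = 0 from h1, map_zero])
    exact fun p hp => hle hp
  have hα : RingHom.ker π.toRingHom ≤ RingHom.ker (q.comp (rename Sum.inr)).toRingHom := by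
    rw [hker, Ideal.span_le]
    rintro _ ⟨l, rfl⟩
    exact Ideal.Quotient.eq_zero_iff_mem.2 (Ideal.subset_span ⟨Sum.inr l, rfl⟩)
  refine ⟨MvPolynomial (ι₀ ⊕ Fin N) R ⧸ J, inferInstance, inferInstance,
    AlgHom.liftOfSurjective π hπ _ hα, Ideal.Quotient.liftₐ J val hval, ?_,
    s₇ * s₆ * ∏ l, s₅ l, S.mul_mem (S.mul_mem hs₇ hs₆) (S.prod_mem fun l _ => hs₅ l), ?_⟩
  · refine AlgHom.ext fun a => ?_
    obtain ⟨p, rfl⟩ := hπ a
    rw [AlgHom.comp_apply, AlgHom.liftOfSurjective_apply]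
    show val (rename Sum.inr p) = φ (π p)
    simp only [val, aeval_rename, Sum.elim_comp_inr, hφza]
  · refine isElementaryStandard_of lead tail cols (Sum.map_injective.2 ⟨P.map_inj, Function.injective_id⟩)
      q Ideal.Quotient.mk_surjective (Ideal.Quotient.mkₐ_ker R J) _
      (q (C s₇ * W' * C (∏ l, s₅ l))) ?_ fun l => ?_
    · show algebraMap R _ _ = q _ * q D.det
      rw [← map_mul, ← q.commutes, MvPolynomial.algebraMap_eq]
      refine Ideal.Quotient.eq.2 ?_
      have h1 : C s₇ * (D.det * W' - C s₆) ∈ J :=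
        Ideal.span_mono (by rintro _ ⟨x, rfl⟩; exact ⟨Sum.inl x, rfl⟩) hdet
      rw [show C (s₇ * s₆ * ∏ l, s₅ l) - C s₇ * W' * C (∏ l, s₅ l) * D.det =
        -(C (∏ l, s₅ l) * (C s₇ * (D.det * W' - C s₆))) by rw [map_mul, map_mul]; ring]
      exact J.neg_mem (J.mul_mem_left _ h1)
    · refine ⟨C (s₇ * s₆ * ∏ l, s₅ l), ?_, Submodule.mem_sup_left ?_⟩
      · rw [← MvPolynomial.algebraMap_eq, q.commutes]
      · rw [← Finset.mul_prod_erase Finset.univ s₅ (Finset.mem_univ l),
          show C (s₇ * s₆ * (s₅ l * ∏ x ∈ Finset.univ.erase l, s₅ x)) * tail l =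
            C (s₇ * s₆ * ∏ x ∈ Finset.univ.erase l, s₅ x) * (C (s₅ l) * tail l) by
          simp only [map_mul]; ring]
        exact Ideal.mul_mem_left _ _ (hs₅G l)

end Groth.Agent.SmoothingLib.DelocBase
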