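import Groth.Agent.SmoothingLib.DelocWeak
import Mathlib.RingTheory.KrullDimension.Zero

/-!
Resolving at a prime of height zero: the disjoint union trick.
-/

namespace Groth.Agent.SmoothingLib.DimZero

open MvPolynomial

universe u

variable {R : Type u} [CommRing R]

theorem formallySmooth_lifting {B D : Type u} [CommRing B] [Algebra R B] [CommRing D] [Algebra R D]
    [Algebra B D] [IsScalarTower R B D] (b : B) [IsLocalization.Away b D]
    (H : ∀ (Q : Type u) [CommRing Q] [Algebra R Q] (J : Ideal Q), J ^ 2 = ⊥ →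
      ∀ h : B →ₐ[R] Q ⧸ J, IsUnit (h b) → ∃ k : B →ₐ[R] Q, (Ideal.Quotient.mkₐ R J).comp k = h) :
    Algebra.FormallySmooth R D := by
  refine Algebra.FormallySmooth.of_comp_surjective fun Q _ _ J hJ h => ?_
  have hu : IsUnit (h (algebraMap B D b)) := (IsLocalization.Away.algebraMap_isUnit b).map h
  obtain ⟨k, hk⟩ := H Q J hJ (h.comp (IsScalarTower.toAlgHom R B D)) hu
  have hkb : IsUnit (k b) := by
    have h1 : IsUnit (Ideal.Quotient.mk J (k b)) := by
      rw [show Ideal.Quotient.mk J (k b) = h (algebraMap B D b) from DFunLike.congr_fun hk b]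
      exact hu
    exact (IsNilpotent.isUnit_quotient_mk_iff (I := J) ⟨2, hJ⟩).1 h1
  have hM : ∀ y : Submonoid.powers b, IsUnit (k y) := by
    rintro ⟨_, l, rfl⟩
    rw [map_pow]; exact hkb.pow l
  refine ⟨IsLocalization.liftAlgHom (M := Submonoid.powers b) (f := k) hM, ?_⟩
  refine AlgHom.coe_ringHom_injective (IsLocalization.ringHom_ext (Submonoid.powers b) ?_)
  refine RingHom.ext fun c => ?_
  show Ideal.Quotient.mk J (IsLocalization.liftAlgHom hM (algebraMap B D c)) = h (algebraMap B D c)
  rw [show IsLocalization.liftAlgHom hM (algebraMap B D c) = k c from IsLocalization.lift_eq _ _]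
  exact DFunLike.congr_fun hk c

theorem mem_singularIdeal_of_smooth {B : Type u} [CommRing B] [Algebra R B]
    [Algebra.FinitePresentation R B] (b : B) [Algebra.Smooth R (Localization.Away b)] :
    b ∈ Smoothing.singularIdeal R B := by
  refine (PrimeSpectrum.mem_vanishingIdeal _ _).2 fun P hP => ?_
  by_contra hb
  exact hP (Algebra.basicOpen_subset_smoothLocus_iff_smooth.2 inferInstance (show b ∉ P.asIdeal from hb))

theorem smooth_away_of_mem {A : Type u} [CommRing A] [Algebra R A] [Algebra.FinitePresentation R A]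
    {a : A} (ha : a ∈ Smoothing.singularIdeal R A) : Algebra.Smooth R (Localization.Away a) :=
  Algebra.basicOpen_subset_smoothLocus_iff_smooth.1 fun P hP => by
    by_contra hns
    exact hP ((PrimeSpectrum.mem_vanishingIdeal _ _).1 ha P hns)

set_option maxHeartbeats 1000000 in
theorem resolvable_of_weak [IsNoetherianRing R] {A Λ : Type u} [CommRing A] [Algebra R A]
    [Algebra.FinitePresentation R A] [CommRing Λ] [Algebra R Λ] (φ : A →ₐ[R] Λ) (q : Ideal Λ) [q.IsPrime]
    (hkill : ∀ a ∈ Smoothing.singularIdeal R A, ∃ (c : Λ) (N : ℕ), c ∉ q ∧ c * φ a ^ (N + 1) = 0)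
    {C : Type u} [CommRing C] [Algebra R C] [Algebra.FinitePresentation R C] (g : A →ₐ[R] C)
    (h : C →ₐ[R] Λ) (hgh : h.comp g = φ) (hC : ¬ (Smoothing.singularIdeal R C).map h ≤ q) :
    Smoothing.Resolvable R φ q := by
  classical
  haveI : IsNoetherianRing A := Algebra.FiniteType.isNoetherianRing R A
  obtain ⟨r, a, ha⟩ := Submodule.fg_iff_exists_fin_generating_family.1
    (IsNoetherian.noetherian (Smoothing.singularIdeal R A))
  have hai : ∀ i, a i ∈ Smoothing.singularIdeal R A := fun i => ha ▸ Submodule.subset_span ⟨i, rfl⟩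
  choose c Ni hc hc0 using fun i => hkill (a i) (hai i)
  obtain ⟨b, hb, hbq⟩ : ∃ b ∈ Smoothing.singularIdeal R C, h b ∉ q := by
    by_contra hall
    push Not at hall
    exact hC (Ideal.map_le_iff_le_comap.2 fun b hb => hall b hb)
  haveI := smooth_away_of_mem hb
  obtain ⟨n, π, hπ, hfg⟩ := ‹Algebra.FinitePresentation R C›.out
  obtain ⟨M, f, hf⟩ := Submodule.fg_iff_exists_fin_generating_family.1 hfg
  have hker : RingHom.ker π.toRingHom = Ideal.span (Set.range f) := hf.symm
  have hf0 : ∀ j, π (f j) = 0 := fun j => by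
    have h1 : f j ∈ Ideal.span (Set.range f) := Ideal.subset_span ⟨j, rfl⟩
    rw [← hker] at h1; exact h1
  obtain ⟨bp, hbp⟩ := hπ b
  obtain ⟨N, πA, hπA, -⟩ := ‹Algebra.FinitePresentation R A›.out
  choose gp hgp using fun k : Fin N => hπ (g (πA (X k)))
  -- variables: `w`, `s`, `t`
  let cw : MvPolynomial (Fin n) R →ₐ[R] MvPolynomial ((Fin n ⊕ Unit) ⊕ Fin r) A :=
    aeval fun i => X (Sum.inl (Sum.inl i))
  let s : MvPolynomial ((Fin n ⊕ Unit) ⊕ Fin r) A := X (Sum.inl (Sum.inr ()))
  let ri : Fin r → MvPolynomial ((Fin n ⊕ Unit) ⊕ Fin r) A := fun i =>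
    MvPolynomial.C (a i ^ (Ni i + 1)) + s * X (Sum.inr i)
  let rel : (Fin M ⊕ Fin N) ⊕ Fin r → MvPolynomial ((Fin n ⊕ Unit) ⊕ Fin r) A :=
    Sum.elim (Sum.elim (fun j => s * cw (f j)) fun k => s * (MvPolynomial.C (πA (X k)) - cw (gp k)))
      fun i => s * ri i
  let J : Ideal (MvPolynomial ((Fin n ⊕ Unit) ⊕ Fin r) A) := Ideal.span (Set.range rel)
  haveI : Algebra.FinitePresentation R (MvPolynomial ((Fin n ⊕ Unit) ⊕ Fin r) A) :=
    Algebra.FinitePresentation.trans R A _
  haveI hfpB : Algebra.FinitePresentation R (MvPolynomial ((Fin n ⊕ Unit) ⊕ Fin r) A ⧸ J) :=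
    Algebra.FinitePresentation.quotient (Submodule.fg_def.2 ⟨_, Set.finite_range _, rfl⟩)
  let q₀ : MvPolynomial ((Fin n ⊕ Unit) ⊕ Fin r) A →ₐ[R] MvPolynomial ((Fin n ⊕ Unit) ⊕ Fin r) A ⧸ J :=
    Ideal.Quotient.mkₐ R J
  -- the map to `Λ`
  let lam := ∏ i, c i
  have hlam : lam ∉ q := fun hmem => by
    obtain ⟨i, -, hi⟩ := Ideal.IsPrime.prod_mem_iff.1 hmem
    exact hc i hi
  let yΛ : Fin n → Λ := fun i => h (π (X i))
  let v : (Fin n ⊕ Unit) ⊕ Fin r → Λ := Sum.elim (Sum.elim yΛ fun _ => lam) fun _ => 0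
  let val : MvPolynomial ((Fin n ⊕ Unit) ⊕ Fin r) A →ₐ[R] Λ := MvPolynomial.aevalTower φ v
  have hvals : val s = lam := MvPolynomial.aevalTower_X _ _ _
  have hvalw : ∀ p, val (cw p) = h (π p) := fun p =>
    DFunLike.congr_fun (show val.comp cw = h.comp π from algHom_ext fun i => by
      simp [val, cw, v, yΛ]) p
  have hgφ : ∀ x, h (g x) = φ x := fun x => DFunLike.congr_fun hgh x
  have hvalr : ∀ i, val (ri i) = φ (a i) ^ (Ni i + 1) := fun i => by
    simp [val, ri, v, s]
  have hvJ : ∀ p ∈ J, val p = 0 := by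
    have hle : J ≤ RingHom.ker val.toRingHom := Ideal.span_le.2 (by
      rintro _ ⟨(j | k) | i, rfl⟩
      · show val (s * cw (f j)) = 0
        rw [map_mul, hvalw, hf0, map_zero, mul_zero]
      · show val (s * (MvPolynomial.C (πA (X k)) - cw (gp k))) = 0
        rw [map_mul, map_sub, hvalw, hgp, hgφ]
        simp [val]
      · show val (s * ri i) = 0
        rw [map_mul, hvals, hvalr]
        obtain ⟨d, hd⟩ := Finset.dvd_prod_of_mem c (Finset.mem_univ i)
        rw [show lam = c i * d from hd, mul_right_comm, hc0, zero_mul])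
    exact fun p hp => hle hp
  let hB : MvPolynomial ((Fin n ⊕ Unit) ⊕ Fin r) A ⧸ J →ₐ[R] Λ := Ideal.Quotient.liftₐ J val hvJ
  let α : A →ₐ[R] MvPolynomial ((Fin n ⊕ Unit) ⊕ Fin r) A ⧸ J :=
    q₀.comp (IsScalarTower.toAlgHom R A _)
  refine ⟨_, inferInstance, inferInstance, hfpB, α, hB, ?_, ?_, ?_⟩
  · refine AlgHom.ext fun x => ?_
    show val (algebraMap A _ x) = φ x
    rw [MvPolynomial.algebraMap_eq]
    exact MvPolynomial.aevalTower_C _ _ _
  -- smoothness where `rᵢ` is invertible
  · have hsmr : ∀ i, q₀ (ri i) ∈ Smoothing.singularIdeal R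
        (MvPolynomial ((Fin n ⊕ Unit) ⊕ Fin r) A ⧸ J) := by
      intro i
      haveI := smooth_away_of_mem (hai i)
      haveI : Algebra.Smooth R (Localization.Away (q₀ (ri i))) := by
        refine ⟨formallySmooth_lifting (q₀ (ri i)) fun Q _ _ K hK hh hu => ?_, ?_⟩
        swap
        · haveI : Algebra.FinitePresentation (MvPolynomial ((Fin n ⊕ Unit) ⊕ Fin r) A ⧸ J)
            (Localization.Away (q₀ (ri i))) := IsLocalization.Away.finitePresentation (q₀ (ri i))
          exact Algebra.FinitePresentation.trans R (MvPolynomial ((Fin n ⊕ Unit) ⊕ Fin r) A ⧸ J) _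
        let hA : A →ₐ[R] Q ⧸ K := hh.comp α
        have h0 : hh (q₀ s) = 0 := by
          refine hu.mul_left_eq_zero.1 ?_
          rw [← map_mul, ← map_mul, show q₀ (s * ri i) = 0 from
            Ideal.Quotient.eq_zero_iff_mem.2 (Ideal.subset_span ⟨Sum.inr i, rfl⟩), map_zero]
        have hua : IsUnit (hA (a i)) := by
          have h1 : hh (q₀ (ri i)) = hA (a i) ^ (Ni i + 1) := by
            simp only [ri, map_add, map_mul, h0, zero_mul, add_zero, ← map_pow]
            rfl
          rw [h1] at hu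
          exact (isUnit_pow_iff (Nat.succ_ne_zero _)).1 hu
        have hM : ∀ y : Submonoid.powers (a i), IsUnit (hA y) := by
          rintro ⟨_, l, rfl⟩
          rw [map_pow]; exact hua.pow l
        obtain ⟨k₁, hk₁⟩ := Algebra.FormallySmooth.comp_surjective R (Localization.Away (a i)) K hK
          (IsLocalization.liftAlgHom (M := Submonoid.powers (a i)) (f := hA) hM)
        let kA : A →ₐ[R] Q := k₁.comp (IsScalarTower.toAlgHom R A _)
        have hkA : ∀ x, Ideal.Quotient.mk K (kA x) = hA x := fun x =>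
          (DFunLike.congr_fun hk₁ (algebraMap A _ x)).trans (IsLocalization.lift_eq _ _)
        choose w hw using fun x => Ideal.Quotient.mk_surjective (hh (q₀ (X x)))
        let v' : (Fin n ⊕ Unit) ⊕ Fin r → Q :=
          Sum.elim (Sum.elim (fun j => w (Sum.inl (Sum.inl j))) fun _ => 0) fun j => w (Sum.inr j)
        let k₀ : MvPolynomial ((Fin n ⊕ Unit) ⊕ Fin r) A →ₐ[R] Q := MvPolynomial.aevalTower kA v'
        have hks : k₀ s = 0 := MvPolynomial.aevalTower_X _ _ _
        have hk0 : ∀ p ∈ J, k₀ p = 0 := by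
          have hle : J ≤ RingHom.ker k₀.toRingHom := Ideal.span_le.2 (by
            rintro _ ⟨(j | j) | j, rfl⟩ <;>
            · show k₀ (s * _) = 0
              rw [map_mul, hks, zero_mul])
          exact fun p hp => hle hp
        refine ⟨Ideal.Quotient.liftₐ J k₀ hk0, Ideal.Quotient.algHom_ext _ ?_⟩
        refine AlgHom.coe_ringHom_injective (MvPolynomial.ringHom_ext (fun x => ?_) fun x => ?_)
        · show Ideal.Quotient.mk K (k₀ (MvPolynomial.C x)) = hh (q₀ (MvPolynomial.C x))
          rw [show k₀ (MvPolynomial.C x) = kA x from MvPolynomial.aevalTower_C _ _ _, hkA]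
          rfl
        · show Ideal.Quotient.mk K (k₀ (X x)) = hh (q₀ (X x))
          rw [show k₀ (X x) = v' x from MvPolynomial.aevalTower_X _ _ _]
          rcases x with (x | x) | x
          · exact hw _
          · rw [show v' (Sum.inl (Sum.inr x)) = 0 from rfl, map_zero]
            exact h0.symm
          · exact hw _
      exact mem_singularIdeal_of_smooth _
    refine Ideal.radical_le_radical_iff.2 (Ideal.map_le_iff_le_comap.2 ?_)
    rw [← ha, Submodule.span_le]
    rintro _ ⟨i, rfl⟩
    refine ⟨Ni i + 1, ?_⟩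
    rw [← hvalr i]
    exact Ideal.mem_map_of_mem hB (hsmr i)
  -- smoothness where `s b` is invertible
  · have hsb : q₀ (s * cw bp) ∈ Smoothing.singularIdeal R
        (MvPolynomial ((Fin n ⊕ Unit) ⊕ Fin r) A ⧸ J) := by
      haveI : Algebra.Smooth R (Localization.Away (q₀ (s * cw bp))) := by
        refine ⟨formallySmooth_lifting (q₀ (s * cw bp)) fun Q _ _ K hK hh hu => ?_, ?_⟩
        swap
        · haveI : Algebra.FinitePresentation (MvPolynomial ((Fin n ⊕ Unit) ⊕ Fin r) A ⧸ J)
            (Localization.Away (q₀ (s * cw bp))) := IsLocalization.Away.finitePresentation (q₀ (s * cw bp))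
          exact Algebra.FinitePresentation.trans R (MvPolynomial ((Fin n ⊕ Unit) ⊕ Fin r) A ⧸ J) _
        rw [map_mul, map_mul] at hu
        have hus : IsUnit (hh (q₀ s)) := isUnit_of_mul_isUnit_left hu
        have hub : IsUnit (hh (q₀ (cw bp))) := isUnit_of_mul_isUnit_right hu
        have hrel : ∀ x, hh (q₀ (rel x)) = 0 := fun x => by
          rw [show q₀ (rel x) = 0 from Ideal.Quotient.eq_zero_iff_mem.2 (Ideal.subset_span ⟨x, rfl⟩),
            map_zero]
        let wC : MvPolynomial (Fin n) R →ₐ[R] Q ⧸ K := (hh.comp q₀).comp cw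
        have hwC : ∀ p, π p = 0 → wC p = 0 := by
          have hle : RingHom.ker π.toRingHom ≤ RingHom.ker wC.toRingHom := by
            rw [hker, Ideal.span_le]
            rintro _ ⟨j, rfl⟩
            have h1 := hrel (Sum.inl (Sum.inl j))
            simp only [rel, Sum.elim_inl, map_mul] at h1
            exact hus.mul_right_eq_zero.1 h1
          exact fun p hp => hle hp
        let hCQ : C →ₐ[R] Q ⧸ K := AlgHom.liftOfSurjective π hπ wC fun p hp => hwC p hp
        have hhCQ : ∀ p, hCQ (π p) = hh (q₀ (cw p)) := fun p =>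
          AlgHom.liftOfSurjective_apply π hπ wC (fun p hp => hwC p hp) p
        have hM : ∀ y : Submonoid.powers b, IsUnit (hCQ y) := by
          rintro ⟨_, l, rfl⟩
          rw [map_pow, ← hbp, hhCQ]; exact hub.pow l
        obtain ⟨k₁, hk₁⟩ := Algebra.FormallySmooth.comp_surjective R (Localization.Away b) K hK
          (IsLocalization.liftAlgHom (M := Submonoid.powers b) (f := hCQ) hM)
        let kC : C →ₐ[R] Q := k₁.comp (IsScalarTower.toAlgHom R C _)
        have hkC : ∀ x, Ideal.Quotient.mk K (kC x) = hCQ x := fun x =>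
          (DFunLike.congr_fun hk₁ (algebraMap C _ x)).trans (IsLocalization.lift_eq _ _)
        let kA : A →ₐ[R] Q := kC.comp g
        obtain ⟨σ, hσ⟩ := Ideal.Quotient.mk_surjective (hh (q₀ s))
        have hσu : IsUnit σ := (IsNilpotent.isUnit_quotient_mk_iff (I := K) ⟨2, hK⟩).1 (by rw [hσ]; exact hus)
        let v' : (Fin n ⊕ Unit) ⊕ Fin r → Q :=
          Sum.elim (Sum.elim (fun i => kC (π (X i))) fun _ => σ)
            fun i => -kA (a i) ^ (Ni i + 1) * ↑hσu.unit⁻¹
        let k₀ : MvPolynomial ((Fin n ⊕ Unit) ⊕ Fin r) A →ₐ[R] Q := MvPolynomial.aevalTower kA v'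
        have hk0w : ∀ p, k₀ (cw p) = kC (π p) := fun p =>
          DFunLike.congr_fun (show k₀.comp cw = kC.comp π from algHom_ext fun i => by
            simp [k₀, cw, v']) p
        have hAA : ∀ x, hh (α x) = hCQ (g x) := by
          have h2 : (hh.comp α).comp πA = (hCQ.comp g).comp πA := algHom_ext fun k => by
            show hh (α (πA (X k))) = hCQ (g (πA (X k)))
            have h1 := hrel (Sum.inl (Sum.inr k))
            simp only [rel, Sum.elim_inl, Sum.elim_inr, map_mul, map_sub] at h1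
            have h3 := hus.mul_right_eq_zero.1 h1
            rw [sub_eq_zero] at h3
            rw [← hgp, hhCQ, ← h3]
            rfl
          intro x
          obtain ⟨p, rfl⟩ := hπA x
          exact DFunLike.congr_fun h2 p
        have hk0 : ∀ p ∈ J, k₀ p = 0 := by
          have hle : J ≤ RingHom.ker k₀.toRingHom := Ideal.span_le.2 (by
            rintro _ ⟨(j | k) | i, rfl⟩
            · show k₀ (s * cw (f j)) = 0
              rw [map_mul, hk0w, hf0, map_zero, mul_zero]
            · show k₀ (s * (MvPolynomial.C (πA (X k)) - cw (gp k))) = 0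
              rw [map_mul, map_sub, hk0w, hgp]
              simp [k₀, kA]
            · show k₀ (s * ri i) = 0
              simp only [k₀, ri, s, map_mul, map_add, MvPolynomial.aevalTower_C, MvPolynomial.aevalTower_X,
                v', Sum.elim_inl, Sum.elim_inr, map_pow]
              rw [mul_comm (-kA (a i) ^ (Ni i + 1)), ← mul_assoc σ, hσu.mul_val_inv, one_mul,
                add_neg_cancel, mul_zero])
          exact fun p hp => hle hp
        refine ⟨Ideal.Quotient.liftₐ J k₀ hk0, Ideal.Quotient.algHom_ext _ ?_⟩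
        refine AlgHom.coe_ringHom_injective (MvPolynomial.ringHom_ext (fun x => ?_) fun x => ?_)
        · show Ideal.Quotient.mk K (k₀ (MvPolynomial.C x)) = hh (α x)
          rw [show k₀ (MvPolynomial.C x) = kA x from MvPolynomial.aevalTower_C _ _ _, hAA]
          exact hkC (g x)
        · show Ideal.Quotient.mk K (k₀ (X x)) = hh (q₀ (X x))
          rw [show k₀ (X x) = v' x from MvPolynomial.aevalTower_X _ _ _]
          rcases x with (x | x) | x
          · show Ideal.Quotient.mk K (kC (π (X x))) = _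
            rw [hkC, hhCQ]
            congr 2
            simp [cw]
          · exact hσ
          · show Ideal.Quotient.mk K (-kA (a x) ^ (Ni x + 1) * ↑hσu.unit⁻¹) = _
            have h1 := hrel (Sum.inr x)
            simp only [rel, Sum.elim_inr, map_mul] at h1
            have h2 := hus.mul_right_eq_zero.1 h1
            simp only [ri, map_add, map_mul, map_pow] at h2
            refine hus.mul_left_cancel ?_
            rw [eq_neg_of_add_eq_zero_right h2, ← hσ, ← map_mul, mul_comm (-kA (a x) ^ (Ni x + 1)),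
              ← mul_assoc σ, hσu.mul_val_inv, one_mul, map_neg, map_pow]
            congr 2
            exact (hkC (g (a x))).trans (hAA (a x)).symm
      exact mem_singularIdeal_of_smooth _
    intro hle
    have h1 : hB (q₀ (s * cw bp)) ∈ q := hle (Ideal.le_radical (Ideal.mem_map_of_mem hB hsb))
    have h2 : hB (q₀ (s * cw bp)) = lam * h b := by
      show val (s * cw bp) = _
      rw [map_mul, hvals, hvalw, hbp]
    rw [h2] at h1
    exact (Ideal.IsPrime.mem_or_mem ‹q.IsPrime› h1).elim hlam hbq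

theorem resolvable_of_dim_zero [IsNoetherianRing R] {A Λ Rₚ Λq : Type u} [CommRing A] [Algebra R A]
    [Algebra.FinitePresentation R A] [CommRing Λ] [Algebra R Λ] (φ : A →ₐ[R] Λ) (q : Ideal Λ) [q.IsPrime]
    (hmin : q ∈ (Smoothing.singRad R φ).minimalPrimes)
    [CommRing Rₚ] [Algebra R Rₚ] [IsLocalization.AtPrime Rₚ (q.comap (algebraMap R Λ))]
    [CommRing Λq] [Algebra Λ Λq] [IsLocalization.AtPrime Λq q] [Algebra R Λq] [IsScalarTower R Λ Λq]
    [Algebra Rₚ Λq] [IsScalarTower R Rₚ Λq] (hdim : ringKrullDim Λq = 0)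
    (hres : Smoothing.Resolvable Rₚ
      (Algebra.TensorProduct.lift (Algebra.ofId Rₚ Λq) ((IsScalarTower.toAlgHom R Λ Λq).comp φ)
        (fun _ _ => Commute.all _ _) : TensorProduct R Rₚ A →ₐ[Rₚ] Λq) (q.map (algebraMap Λ Λq))) :
    Smoothing.Resolvable R φ q := by
  obtain ⟨C, _, _, hC, g, h, hgh, hnle⟩ := DelocWeak.delocalize_weak φ q hres
  haveI := hC
  haveI : IsLocalRing Λq := IsLocalization.AtPrime.isLocalRing Λq q
  haveI : Ring.KrullDimLE 0 Λq := Ring.krullDimLE_iff.2 (le_of_eq hdim)
  refine resolvable_of_weak φ q (fun a ha => ?_) g h hgh hnle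
  have h1 : φ a ∈ q := hmin.1.2 (Ideal.le_radical (Ideal.mem_map_of_mem φ ha))
  have h2 : algebraMap Λ Λq (φ a) ∈ IsLocalRing.maximalIdeal Λq :=
    (IsLocalization.AtPrime.to_map_mem_maximal_iff Λq q (φ a)).2 h1
  rw [← Ring.KrullDimLE.nilradical_eq_maximalIdeal] at h2
  obtain ⟨N, hN⟩ := mem_nilradical.1 h2
  have h3 : algebraMap Λ Λq (φ a ^ (N + 1)) = 0 := by rw [map_pow, pow_succ, hN, zero_mul]
  obtain ⟨⟨c, hc⟩, hc0⟩ := (IsLocalization.map_eq_zero_iff q.primeCompl Λq _).1 h3
  exact ⟨c, N, hc, hc0⟩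

end Groth.Agent.SmoothingLib.DimZero
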