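import Groth.Agent.SmoothingLib.DesingStd
import Groth.Agent.SmoothingLib.IndNilp
import Groth.Agent.SmoothingLib.DelocBase
import Groth.Agent.SmoothingLib.DimZero
import Groth.Agent.FieldSep.MacLane
import Mathlib.RingTheory.Localization.BaseChange
import Mathlib.RingTheory.Flat.TorsionFree

/-!
An unramified extension of discrete valuation rings with separable residue and fraction field
extensions is ind-smooth.
-/

namespace Groth.Agent.SmoothingLib.DvrIndSmooth

open TensorProduct

universe u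

theorem mem_singularIdeal_of_smooth_top {R B : Type u} [CommRing R] [CommRing B] [Algebra R B]
    [Algebra.Smooth R B] (b : B) : b ∈ Smoothing.singularIdeal R B :=
  DesingStd.mem_singularIdeal fun Q _ _ =>
    Algebra.FormallySmooth.comp R B (Localization.AtPrime Q)

theorem indSmooth_field {K L : Type u} [Field K] [Field L] [Algebra K L]
    [Algebra.IsGeometricallyReduced K L] : Smoothing.IndSmooth K L := by
  intro A _ _ hA φ
  haveI := hA
  haveI : IsNoetherianRing A := Algebra.FiniteType.isNoetherianRing K A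
  haveI hp : (RingHom.ker φ.toRingHom).IsPrime := RingHom.ker_isPrime _
  haveI : Algebra.FinitePresentation K (A ⧸ RingHom.ker φ.toRingHom) :=
    Algebra.FinitePresentation.quotient (IsNoetherian.noetherian _)
  haveI : IsDomain (A ⧸ RingHom.ker φ.toRingHom) := Ideal.Quotient.isDomain _
  let ψ : (A ⧸ RingHom.ker φ.toRingHom) →ₐ[K] L := Ideal.Quotient.liftₐ _ φ fun a ha => ha
  have hψ : Function.Injective ψ := RingHom.kerLift_injective φ.toRingHom
  let F := FractionRing (A ⧸ RingHom.ker φ.toRingHom)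
  let Ψ : F →ₐ[K] L := IsFractionRing.liftAlgHom (K := F) hψ
  haveI : Algebra.IsGeometricallyReduced K F :=
    Algebra.IsGeometricallyReduced.of_injective Ψ (RingHom.injective _)
  haveI : Algebra.EssFiniteType (A ⧸ RingHom.ker φ.toRingHom) F :=
    Algebra.EssFiniteType.of_isLocalization F (nonZeroDivisors (A ⧸ RingHom.ker φ.toRingHom))
  haveI : Algebra.EssFiniteType K F := Algebra.EssFiniteType.comp K (A ⧸ RingHom.ker φ.toRingHom) F
  haveI : Algebra.FormallySmooth K F := FieldSep.MacLane.formallySmooth_of_essFiniteType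
  haveI hbot : (⊥ : Ideal (A ⧸ RingHom.ker φ.toRingHom)).IsPrime := Ideal.isPrime_bot
  haveI : Algebra.IsSmoothAt K (⊥ : Ideal (A ⧸ RingHom.ker φ.toRingHom)) := by
    haveI : IsLocalization (⊥ : Ideal (A ⧸ RingHom.ker φ.toRingHom)).primeCompl F := by
      have e : (⊥ : Ideal (A ⧸ RingHom.ker φ.toRingHom)).primeCompl =
          nonZeroDivisors (A ⧸ RingHom.ker φ.toRingHom) := by
        ext x
        rw [mem_nonZeroDivisors_iff_ne_zero]
        show x ∉ (⊥ : Ideal (A ⧸ RingHom.ker φ.toRingHom)) ↔ x ≠ 0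
        rw [Ideal.mem_bot]
      rw [e]
      infer_instance
    exact Algebra.FormallySmooth.of_equiv ((IsLocalization.algEquiv
      (⊥ : Ideal (A ⧸ RingHom.ker φ.toRingHom)).primeCompl F
      (Localization.AtPrime (⊥ : Ideal (A ⧸ RingHom.ker φ.toRingHom)))).restrictScalars K)
  obtain ⟨g, hg, hsm⟩ := Algebra.IsSmoothAt.exists_notMem_smooth K
    (⊥ : Ideal (A ⧸ RingHom.ker φ.toRingHom))
  have hgu : IsUnit (ψ g) := isUnit_iff_ne_zero.2 fun h0 => hg (by
    rw [Ideal.mem_bot]
    exact hψ (by rw [h0, map_zero]))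
  have hM : ∀ y : Submonoid.powers g, IsUnit (ψ y) := by
    rintro ⟨_, l, rfl⟩
    rw [map_pow]; exact hgu.pow l
  refine ⟨Localization.Away g, inferInstance, inferInstance, hsm,
    (IsScalarTower.toAlgHom K _ _).comp (Ideal.Quotient.mkₐ K (RingHom.ker φ.toRingHom)),
    IsLocalization.liftAlgHom (M := Submonoid.powers g) (f := ψ) hM, AlgHom.ext fun a => ?_⟩
  exact (IsLocalization.lift_eq _ _).trans rfl

theorem indSmooth_of_equiv {K K' L L' : Type u} [CommRing K] [CommRing K'] [CommRing L] [CommRing L']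
    [Algebra K K'] (hK : Function.Bijective (algebraMap K K')) [Algebra K L] [Algebra K' L']
    [Algebra K L'] [IsScalarTower K K' L'] (e : L ≃ₐ[K] L') (h : Smoothing.IndSmooth K L) :
    Smoothing.IndSmooth K' L' := by
  intro A _ _ hA f
  letI : Algebra K A := ((algebraMap K' A).comp (algebraMap K K')).toAlgebra
  haveI : IsScalarTower K K' A := IsScalarTower.of_algebraMap_eq' rfl
  haveI := hA
  haveI : Algebra.FinitePresentation K K' :=
    Algebra.FinitePresentation.equiv (AlgEquiv.ofBijective (Algebra.ofId K K') hK)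
  haveI : Algebra.FinitePresentation K A := Algebra.FinitePresentation.trans K K' A
  obtain ⟨B, _, _, hB, g, k, hk⟩ := h A inferInstance (e.symm.toAlgHom.comp (f.restrictScalars K))
  let eK := (RingEquiv.ofBijective (algebraMap K K') hK).symm
  have heK : ∀ x, algebraMap K K' (eK x) = x := fun x =>
    (RingEquiv.ofBijective (algebraMap K K') hK).apply_symm_apply x
  have heK' : ∀ x, eK (algebraMap K K' x) = x := fun x =>
    (RingEquiv.ofBijective (algebraMap K K') hK).symm_apply_apply x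
  letI : Algebra K' B := ((algebraMap K B).comp eK.toRingHom).toAlgebra
  haveI : IsScalarTower K K' B := IsScalarTower.of_algebraMap_eq fun x => by
    show algebraMap K B x = algebraMap K B (eK (algebraMap K K' x))
    rw [heK']
  haveI := hB
  haveI : Algebra.FinitePresentation K' B :=
    Algebra.FinitePresentation.of_restrict_scalars_finitePresentation K K' B
  haveI : Algebra.FormallyEtale K K' :=
    Algebra.FormallyEtale.of_equiv (AlgEquiv.ofBijective (Algebra.ofId K K') hK)
  haveI : Algebra.FormallySmooth K' B := by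
    refine Algebra.FormallySmooth.of_comp_surjective fun Q _ _ J hJ hh => ?_
    letI : Algebra K Q := ((algebraMap K' Q).comp (algebraMap K K')).toAlgebra
    haveI : IsScalarTower K K' Q := IsScalarTower.of_algebraMap_eq' rfl
    obtain ⟨l, hl⟩ := Algebra.FormallySmooth.comp_surjective K B J hJ (hh.restrictScalars K)
    refine ⟨{ l.toRingHom with
      commutes' := fun x => by
        rw [← heK x, ← IsScalarTower.algebraMap_apply, ← IsScalarTower.algebraMap_apply]
        exact l.commutes _ }, AlgHom.ext fun b => DFunLike.congr_fun hl b⟩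
  refine ⟨B, inferInstance, inferInstance, ⟨inferInstance, inferInstance⟩,
    { g.toRingHom with
      commutes' := fun x => by
        rw [← heK x, ← IsScalarTower.algebraMap_apply, ← IsScalarTower.algebraMap_apply]
        exact g.commutes _ },
    { (e.toAlgHom.comp k).toRingHom with
      commutes' := fun x => by
        rw [← heK x, ← IsScalarTower.algebraMap_apply, ← IsScalarTower.algebraMap_apply]
        exact (e.toAlgHom.comp k).commutes _ }, AlgHom.ext fun a => ?_⟩
  show e (k (g a)) = f a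
  rw [show k (g a) = e.symm (f a) from DFunLike.congr_fun hk a, AlgEquiv.apply_symm_apply]

theorem flat_quot {R Λ : Type u} [CommRing R] [CommRing Λ] [Algebra R Λ] [Module.Flat R Λ] (J : Ideal R) :
    Module.Flat (R ⧸ J) (Λ ⧸ J.map (algebraMap R Λ)) :=
  Module.Flat.of_linearEquiv (Algebra.TensorProduct.quotIdealMapEquivQuotTensor Λ J).toLinearEquiv

/-- transport to the residue fields of the truncations -/
theorem indSmooth_truncation {R Λ : Type u} [CommRing R] [IsLocalRing R] [CommRing Λ] [IsLocalRing Λ]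
    [Algebra R Λ] [IsLocalHom (algebraMap R Λ)]
    (he : (IsLocalRing.maximalIdeal R).map (algebraMap R Λ) = IsLocalRing.maximalIdeal Λ) (J : Ideal R)
    (hJ : J ≤ IsLocalRing.maximalIdeal R)
    (h : Smoothing.IndSmooth (IsLocalRing.ResidueField R) (IsLocalRing.ResidueField Λ)) :
    Smoothing.IndSmooth ((R ⧸ J) ⧸ (IsLocalRing.maximalIdeal R).map (Ideal.Quotient.mk J))
      ((Λ ⧸ J.map (algebraMap R Λ)) ⧸ ((IsLocalRing.maximalIdeal R).map (Ideal.Quotient.mk J)).map
        (algebraMap (R ⧸ J) (Λ ⧸ J.map (algebraMap R Λ)))) := by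
  have hI : ((IsLocalRing.maximalIdeal R).map (Ideal.Quotient.mk J)).map
      (algebraMap (R ⧸ J) (Λ ⧸ J.map (algebraMap R Λ))) =
      (IsLocalRing.maximalIdeal Λ).map (Ideal.Quotient.mk (J.map (algebraMap R Λ))) := by
    rw [← he, Ideal.map_map, Ideal.map_map]
    rfl
  let f₀ : R →+* (R ⧸ J) ⧸ (IsLocalRing.maximalIdeal R).map (Ideal.Quotient.mk J) :=
    (Ideal.Quotient.mk _).comp (Ideal.Quotient.mk J)
  have hf₀ : ∀ x ∈ IsLocalRing.maximalIdeal R, f₀ x = 0 := fun x hx =>
    Ideal.Quotient.eq_zero_iff_mem.2 (Ideal.mem_map_of_mem _ hx)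
  letI : Algebra (IsLocalRing.ResidueField R)
      ((R ⧸ J) ⧸ (IsLocalRing.maximalIdeal R).map (Ideal.Quotient.mk J)) :=
    (Ideal.Quotient.lift (IsLocalRing.maximalIdeal R) f₀ hf₀).toAlgebra
  have hsurj : Function.Surjective (algebraMap (IsLocalRing.ResidueField R)
      ((R ⧸ J) ⧸ (IsLocalRing.maximalIdeal R).map (Ideal.Quotient.mk J))) := fun y => by
    obtain ⟨y, rfl⟩ := Ideal.Quotient.mk_surjective y
    obtain ⟨y, rfl⟩ := Ideal.Quotient.mk_surjective y
    exact ⟨IsLocalRing.residue R y, rfl⟩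
  haveI : Nontrivial ((R ⧸ J) ⧸ (IsLocalRing.maximalIdeal R).map (Ideal.Quotient.mk J)) := by
    refine Ideal.Quotient.nontrivial_iff.2 fun htop => ?_
    have h1 := congrArg (Ideal.comap (Ideal.Quotient.mk J)) htop
    rw [Ideal.comap_map_of_surjective _ Ideal.Quotient.mk_surjective, ← RingHom.ker_eq_comap_bot,
      Ideal.mk_ker, sup_eq_left.2 hJ, Ideal.comap_top] at h1
    exact (IsLocalRing.maximalIdeal.isMaximal R).ne_top h1
  let g₀ : Λ →+* (Λ ⧸ J.map (algebraMap R Λ)) ⧸ ((IsLocalRing.maximalIdeal R).map (Ideal.Quotient.mk J)).map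
      (algebraMap (R ⧸ J) (Λ ⧸ J.map (algebraMap R Λ))) :=
    (Ideal.Quotient.mk _).comp (Ideal.Quotient.mk _)
  have hg₀ : ∀ x ∈ IsLocalRing.maximalIdeal Λ, g₀ x = 0 := fun x hx =>
    Ideal.Quotient.eq_zero_iff_mem.2 (hI ▸ Ideal.mem_map_of_mem _ hx)
  let e₀ := Ideal.Quotient.lift (IsLocalRing.maximalIdeal Λ) g₀ hg₀
  letI : Algebra (IsLocalRing.ResidueField R) ((Λ ⧸ J.map (algebraMap R Λ)) ⧸
      ((IsLocalRing.maximalIdeal R).map (Ideal.Quotient.mk J)).map
      (algebraMap (R ⧸ J) (Λ ⧸ J.map (algebraMap R Λ)))) :=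
    ((algebraMap ((R ⧸ J) ⧸ (IsLocalRing.maximalIdeal R).map (Ideal.Quotient.mk J)) _).comp
      (algebraMap (IsLocalRing.ResidueField R) _)).toAlgebra
  haveI := IsScalarTower.of_algebraMap_eq (R := IsLocalRing.ResidueField R)
    (S := (R ⧸ J) ⧸ (IsLocalRing.maximalIdeal R).map (Ideal.Quotient.mk J))
    (A := (Λ ⧸ J.map (algebraMap R Λ)) ⧸ ((IsLocalRing.maximalIdeal R).map (Ideal.Quotient.mk J)).map
      (algebraMap (R ⧸ J) (Λ ⧸ J.map (algebraMap R Λ)))) fun _ => rfl
  have hbij : Function.Bijective e₀ := by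
    refine ⟨RingHom.lift_injective_of_ker_le_ideal _ _ fun x hx => ?_, fun y => ?_⟩
    · have h1 : Ideal.Quotient.mk (J.map (algebraMap R Λ)) x ∈
          (IsLocalRing.maximalIdeal Λ).map (Ideal.Quotient.mk (J.map (algebraMap R Λ))) :=
        hI ▸ Ideal.Quotient.eq_zero_iff_mem.1 hx
      rw [← Ideal.mem_comap, Ideal.comap_map_of_surjective _ Ideal.Quotient.mk_surjective,
        ← RingHom.ker_eq_comap_bot, Ideal.mk_ker, sup_eq_left.2 ((Ideal.map_mono hJ).trans he.le)] at h1
      exact h1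
    · obtain ⟨y, rfl⟩ := Ideal.Quotient.mk_surjective y
      obtain ⟨y, rfl⟩ := Ideal.Quotient.mk_surjective y
      exact ⟨IsLocalRing.residue Λ y, rfl⟩
  let e : IsLocalRing.ResidueField Λ ≃ₐ[IsLocalRing.ResidueField R] _ :=
    AlgEquiv.ofBijective
      ({ e₀ with
        commutes' := fun r => by
          obtain ⟨r, rfl⟩ := IsLocalRing.residue_surjective r
          rfl } : IsLocalRing.ResidueField Λ →ₐ[IsLocalRing.ResidueField R] _) hbij
  exact indSmooth_of_equiv ⟨RingHom.injective _, hsurj⟩ e h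

theorem indSmooth_dvr {R Λ : Type u} [CommRing R] [IsDomain R]
    [IsDiscreteValuationRing R] [CommRing Λ] [IsDomain Λ] [IsDiscreteValuationRing Λ] [Algebra R Λ]
    [NoZeroSMulDivisors R Λ] [IsLocalHom (algebraMap R Λ)]
    (he : (IsLocalRing.maximalIdeal R).map (algebraMap R Λ) = IsLocalRing.maximalIdeal Λ)
    [Algebra.IsGeometricallyReduced (IsLocalRing.ResidueField R) (IsLocalRing.ResidueField Λ)]
    {K L : Type u} [Field K] [Algebra R K] [IsFractionRing R K] [Field L] [Algebra Λ L] [IsFractionRing Λ L]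
    [Algebra K L] [Algebra R L] [IsScalarTower R K L] [IsScalarTower R Λ L]
    [Algebra.IsGeometricallyReduced K L] :
    Smoothing.IndSmooth R Λ := by
  classical
  intro A _ _ hA φ
  haveI := hA
  obtain ⟨π, hπirr⟩ := IsDiscreteValuationRing.exists_irreducible R
  have hπm : IsLocalRing.maximalIdeal R = Ideal.span {π} := hπirr.maximalIdeal_eq
  have hinj : Function.Injective (algebraMap R Λ) := FaithfulSMul.algebraMap_injective R Λ
  have hπΛ : IsLocalRing.maximalIdeal Λ = Ideal.span {algebraMap R Λ π} := by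
    rw [← he, hπm, Ideal.map_span, Set.image_singleton]
  have hπΛirr : Irreducible (algebraMap R Λ π) :=
    (IsDiscreteValuationRing.irreducible_iff_uniformizer _).2 hπΛ
  -- `L = Λ[1/π]`, `K = R[1/π]`
  haveI hKloc : IsLocalization (Submonoid.powers π) K := by
    refine (IsLocalization.iff_of_le_of_exists_dvd (Submonoid.powers π) (nonZeroDivisors R)
      (Submonoid.powers_le.2 (mem_nonZeroDivisors_iff_ne_zero.2 hπirr.ne_zero)) ?_).2 inferInstance
    intro x hx
    obtain ⟨k, u, rfl⟩ := IsDiscreteValuationRing.eq_unit_mul_pow_irreducible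
      (mem_nonZeroDivisors_iff_ne_zero.1 hx) hπirr
    exact ⟨π ^ k, ⟨k, rfl⟩, ⟨↑u⁻¹, by rw [mul_comm (↑u : R), mul_assoc, Units.mul_inv, mul_one]⟩⟩
  haveI hLloc : IsLocalization (Algebra.algebraMapSubmonoid Λ (Submonoid.powers π)) L := by
    refine (IsLocalization.iff_of_le_of_exists_dvd _ (nonZeroDivisors Λ) ?_ ?_).2 inferInstance
    · rintro _ ⟨_, ⟨k, rfl⟩, rfl⟩
      rw [mem_nonZeroDivisors_iff_ne_zero, map_pow]
      exact pow_ne_zero _ hπΛirr.ne_zero
    · intro x hx
      obtain ⟨k, u, rfl⟩ := IsDiscreteValuationRing.eq_unit_mul_pow_irreducible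
        (mem_nonZeroDivisors_iff_ne_zero.1 hx) hπΛirr
      exact ⟨algebraMap R Λ π ^ k, ⟨π ^ k, ⟨k, rfl⟩, map_pow _ _ _⟩,
        ⟨↑u⁻¹, by rw [mul_comm (↑u : Λ), mul_assoc, Units.mul_inv, mul_one]⟩⟩
  haveI : Algebra.IsPushout R K Λ L :=
    (Algebra.isPushout_of_isLocalization (Submonoid.powers π) K Λ L).symm
  let eL : K ⊗[R] Λ ≃ₐ[K] L := Algebra.IsPushout.equiv R K Λ L
  have hKΛ : Smoothing.IndSmooth K (K ⊗[R] Λ) :=
    indSmooth_of_equiv (L := L) Function.bijective_id eL.symm indSmooth_field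
  haveI : Algebra.FinitePresentation K (K ⊗[R] A) := inferInstance
  obtain ⟨S₁, _, _, hS₁, g₁, h₁, hgh₁⟩ := hKΛ (K ⊗[R] A) inferInstance
    (Algebra.TensorProduct.map (AlgHom.id K K) φ)
  haveI := hS₁
  obtain ⟨B, _, _, α, β, hαβ, _, ⟨j, rfl⟩, hel⟩ :=
    DelocBase.delocalize (R := R) (S := Submonoid.powers π) (Rₛ := K) φ g₁ h₁ hgh₁
  have hstd0 : Smoothing.IsStrictlyStandard R B (algebraMap R B (π ^ j)) :=
    isStrictlyStandard_of_isElementaryStandard hel
  obtain ⟨P, -, -⟩ := id hstd0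
  haveI : Algebra.FinitePresentation R B := MarkedPresentation.finitePresentation P
  by_cases hj : j = 0
  · subst hj
    haveI : Algebra.Smooth R B := by
      have h1 : ∀ P : PrimeSpectrum B, P ∈ Algebra.smoothLocus R B := fun P =>
        isSmoothAt_of_isStrictlyStandard hstd0 P (by
          rw [pow_zero, map_one]
          exact fun h => P.2.ne_top ((Ideal.eq_top_iff_one _).2 h))
      exact ⟨Algebra.smoothLocus_eq_univ_iff.1 (Set.eq_univ_of_forall h1), inferInstance⟩
    exact ⟨B, inferInstance, inferInstance, inferInstance, α, β, hαβ⟩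
  -- now work modulo `π ^ (8 j)`
  let p := π ^ j
  have hpm : p ∈ IsLocalRing.maximalIdeal R := by
    rw [hπm]
    exact Ideal.pow_mem_of_mem _ (Ideal.mem_span_singleton_self _) j (Nat.pos_of_ne_zero hj)
  have hp0 : p ≠ 0 := pow_ne_zero _ hπirr.ne_zero
  have hR : ∀ r : R, p ^ 2 * r = 0 → p * r = 0 := fun r hr => by
    rcases mul_eq_zero.1 hr with h | h
    · exact absurd h (pow_ne_zero _ hp0)
    · rw [h, mul_zero]
  have hΛ : ∀ x : Λ, p ^ 2 • x = 0 → p • x = 0 := fun x hx => by
    rw [Algebra.smul_def] at hx ⊢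
    rcases mul_eq_zero.1 hx with h | h
    · exact absurd ((injective_iff_map_eq_zero _).1 hinj _ h) (pow_ne_zero _ hp0)
    · rw [h, mul_zero]
  let J : Ideal R := Ideal.span {p ^ 8}
  let I : Ideal (R ⧸ J) := (IsLocalRing.maximalIdeal R).map (Ideal.Quotient.mk J)
  have hJm : J ≤ IsLocalRing.maximalIdeal R :=
    (Ideal.span_singleton_le_iff_mem _).2 (Ideal.pow_mem_of_mem _ hpm 8 (by norm_num))
  have hInil : IsNilpotent I := by
    refine ⟨j * 8, ?_⟩
    show I ^ (j * 8) = ⊥
    rw [← Ideal.map_pow, hπm, Ideal.span_singleton_pow, Ideal.map_eq_bot_iff_le_ker, Ideal.mk_ker, pow_mul]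
  haveI : Module.Flat R Λ := inferInstance
  haveI : Module.Flat (R ⧸ J) (Λ ⧸ J.map (algebraMap R Λ)) := flat_quot J
  have hκ : Smoothing.IndSmooth ((R ⧸ J) ⧸ I) ((Λ ⧸ J.map (algebraMap R Λ)) ⧸
      I.map (algebraMap (R ⧸ J) (Λ ⧸ J.map (algebraMap R Λ)))) :=
    indSmooth_truncation he J hJm indSmooth_field
  have hmod := IndNilp.indSmooth_of_nilpotent I hInil hκ
  haveI : Algebra.FinitePresentation (R ⧸ J) (B ⧸ J.map (algebraMap R B)) := by
    haveI : Algebra.FinitePresentation R (B ⧸ J.map (algebraMap R B)) :=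
      Algebra.FinitePresentation.quotient (Ideal.FG.map (IsNoetherian.noetherian J) _)
    exact Algebra.FinitePresentation.of_restrict_scalars_finitePresentation R _ _
  let βJ₀ : B →ₐ[R] Λ ⧸ J.map (algebraMap R Λ) := (Ideal.Quotient.mkₐ R _).comp β
  have hβJ : ∀ x ∈ J.map (algebraMap R B), βJ₀ x = 0 := by
    have hle : J.map (algebraMap R B) ≤ RingHom.ker βJ₀.toRingHom := Ideal.map_le_iff_le_comap.2 fun r hr => by
      show βJ₀ (algebraMap R B r) = 0
      rw [AlgHom.commutes]
      exact Ideal.Quotient.eq_zero_iff_mem.2 (Ideal.mem_map_of_mem _ hr)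
    exact fun x hx => hle hx
  let βJ₁ : (B ⧸ J.map (algebraMap R B)) →ₐ[R] Λ ⧸ J.map (algebraMap R Λ) := Ideal.Quotient.liftₐ _ βJ₀ hβJ
  let βJ : (B ⧸ J.map (algebraMap R B)) →ₐ[R ⧸ J] Λ ⧸ J.map (algebraMap R Λ) :=
    { βJ₁.toRingHom with
      commutes' := fun r => by
        obtain ⟨r, rfl⟩ := Ideal.Quotient.mk_surjective r
        exact βJ₁.commutes r }
  obtain ⟨C, _, _, hC, γ₀, g₀, hg₀⟩ := hmod (B ⧸ J.map (algebraMap R B)) inferInstance βJ
  haveI := hC
  letI : Algebra R C := ((algebraMap (R ⧸ J) C).comp (Ideal.Quotient.mk J)).toAlgebra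
  haveI : IsScalarTower R (R ⧸ J) C := IsScalarTower.of_algebraMap_eq' rfl
  have hJeq : J.map (algebraMap R Λ) = Ideal.span {algebraMap R Λ (p ^ 8)} := by
    rw [Ideal.map_span, Set.image_singleton]
  let eJ := Ideal.quotientEquivAlgOfEq R hJeq
  obtain ⟨D, _, _, hD, α', β', hαβ', -, hsing⟩ := DesingStd.desingularize_lifting p hR hΛ β hstd0
    (C := C) ((γ₀.restrictScalars R).comp (Ideal.Quotient.mkₐ R (J.map (algebraMap R B))))
    (eJ.toAlgHom.comp (g₀.restrictScalars R)) fun b => by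
      show eJ (g₀ (γ₀ (Ideal.Quotient.mk _ b))) = _
      rw [← AlgHom.comp_apply g₀, hg₀]
      rfl
  haveI := hD
  obtain ⟨d, hd, hdu⟩ : ∃ d ∈ Smoothing.singularIdeal R D, IsUnit (β' d) := by
    by_contra hall
    push Not at hall
    have hle : ((Smoothing.singularIdeal R D).map β').radical ≤ IsLocalRing.maximalIdeal Λ := by
      refine (Ideal.radical_mono (Ideal.map_le_iff_le_comap.2 fun d hd => ?_)).trans
        (Ideal.IsPrime.radical inferInstance).le
      exact (IsLocalRing.mem_maximalIdeal _).2 (hall d hd)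
    have h1 := hsing (Ideal.mem_map_of_mem _ (mem_singularIdeal_of_smooth_top (1 : C)))
    rw [map_one] at h1
    obtain ⟨x, hx, hx1⟩ := (Ideal.mem_map_iff_of_surjective _ Ideal.Quotient.mk_surjective).1 h1
    obtain ⟨y, hy⟩ := Ideal.mem_span_singleton.1 (Ideal.Quotient.eq.1 (hx1.trans (map_one _).symm))
    have h3 : (1 : Λ) ∈ IsLocalRing.maximalIdeal Λ := by
      rw [show (1 : Λ) = x - algebraMap R Λ (p ^ 8) * y by rw [← hy]; ring]
      refine Ideal.sub_mem _ (hle hx) (Ideal.mul_mem_right _ _ ?_)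
      rw [← he]
      exact Ideal.mem_map_of_mem _ (Ideal.pow_mem_of_mem _ hpm 8 (by norm_num))
    exact (IsLocalRing.maximalIdeal.isMaximal Λ).ne_top ((Ideal.eq_top_iff_one _).2 h3)
  have hM : ∀ y : Submonoid.powers d, IsUnit (β' y) := by
    rintro ⟨_, l, rfl⟩
    rw [map_pow]; exact hdu.pow l
  refine ⟨Localization.Away d, inferInstance, inferInstance, DimZero.smooth_away_of_mem hd,
    (IsScalarTower.toAlgHom R D _).comp (α'.comp α),
    IsLocalization.liftAlgHom (M := Submonoid.powers d) (f := β') hM, AlgHom.ext fun a => ?_⟩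
  refine (IsLocalization.lift_eq _ _).trans ?_
  show β' (α' (α a)) = φ a
  rw [← AlgHom.comp_apply β', hαβ', ← AlgHom.comp_apply β, hαβ]

end Groth.Agent.SmoothingLib.DvrIndSmooth
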