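import Groth.Agent.SmoothingLib.PopescuPi
import Groth.Agent.SmoothingLib.DelocBase
import Groth.Agent.SmoothingLib.DvrIndSmooth
import Groth.Agent.Hensel.RegularHom
import Groth.Agent.S2022
import Mathlib.RingTheory.Ideal.MinimalPrime.Noetherian

/-!
Popescu's theorem: a regular map of Noetherian rings is ind-smooth.
-/

namespace Groth.Agent.SmoothingLib.Popescu

open TensorProduct

universe u

theorem exists_smooth_of_subsingleton {R A Λ : Type u} [CommRing R] [Subsingleton R] [CommRing A] [Algebra R A]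
    [Algebra.FinitePresentation R A] [CommRing Λ] [Algebra R Λ] (φ : A →ₐ[R] Λ) :
    ∃ (B : Type u) (_ : CommRing B) (_ : Algebra R B), Algebra.Smooth R B ∧
      ∃ (g : A →ₐ[R] B) (h : B →ₐ[R] Λ), h.comp g = φ := by
  haveI : Algebra.FormallySmooth R A := Algebra.FormallySmooth.of_comp_surjective fun Q _ _ J _ f => by
    haveI : Subsingleton Q := (algebraMap R Q).codomain_trivial
    haveI : Subsingleton (Q ⧸ J) := Ideal.Quotient.mk_surjective.subsingleton
    exact ⟨AlgHom.mk ⟨⟨⟨fun _ => 0, Subsingleton.elim _ _⟩, fun _ _ => Subsingleton.elim _ _⟩,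
      Subsingleton.elim _ _, fun _ _ => Subsingleton.elim _ _⟩ fun _ => Subsingleton.elim _ _,
      AlgHom.ext fun _ => Subsingleton.elim _ _⟩
  exact ⟨A, inferInstance, inferInstance, ⟨inferInstance, inferInstance⟩, AlgHom.id R A, φ, AlgHom.comp_id φ⟩

set_option maxHeartbeats 1600000 in
/-- From all proper quotients to the ring itself, in the reduced case. -/
theorem exists_smooth_of_reduced {R Λ : Type u} [CommRing R] [IsNoetherianRing R] [IsReduced R] [Nontrivial R]
    [CommRing Λ] [IsNoetherianRing Λ] [Algebra R Λ] (hreg : CAlg.IsRegularHom R Λ)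
    (hind : ∀ J : Ideal R, J ≠ ⊥ → Smoothing.IndSmooth (R ⧸ J) (Λ ⧸ J.map (algebraMap R Λ)))
    {A : Type u} [CommRing A] [Algebra R A] [Algebra.FinitePresentation R A] (φ : A →ₐ[R] Λ) :
    ∃ (B : Type u) (_ : CommRing B) (_ : Algebra R B), Algebra.Smooth R B ∧
      ∃ (g : A →ₐ[R] B) (h : B →ₐ[R] Λ), h.comp g = φ := by
  classical
  haveI := hreg.1
  haveI : Finite ↥(minimalPrimes R) := (minimalPrimes.finite_of_isNoetherianRing R).to_subtype
  haveI : IsLocalization (nonZeroDivisors R) (RedNorm.PiFrac R) := RedNorm.isFractionRing_pi R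
  obtain ⟨B', _, _, hB', g₀, h₀, hgh₀⟩ := PopescuPi.exists_smooth_pi
    (fun p : ↥(minimalPrimes R) => FractionRing (R ⧸ p.1))
    (fun p => by
      obtain ⟨hN, hG⟩ := PopescuPi.geomRegular_tensor_frac hreg p.1
      haveI := hN
      exact PopescuField.indSmooth_field_base hG) φ
  haveI := hB'
  obtain ⟨B₁, _, _, α, β, hβα, s, hs, hel⟩ :=
    DelocBase.delocalize (Rₛ := RedNorm.PiFrac R) (nonZeroDivisors R) φ g₀ h₀ hgh₀
  haveI : Algebra.FinitePresentation R B₁ := by
    obtain ⟨P, -⟩ := hel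
    exact MarkedPresentation.finitePresentation P
  have hR : ∀ r : R, s ^ 2 * r = 0 → s * r = 0 := fun r hr => by
    rw [(mem_nonZeroDivisors_iff_right.1 (pow_mem hs 2)) r (by rw [mul_comm]; exact hr), mul_zero]
  let J : Ideal R := Ideal.span {s ^ 8}
  have hJ : J ≠ ⊥ := fun h =>
    nonZeroDivisors.ne_zero (pow_mem hs 8) (Ideal.span_singleton_eq_bot.1 h)
  have hJΛ : J.map (algebraMap R Λ) = Ideal.span {algebraMap R Λ (s ^ 8)} := by
    rw [Ideal.map_span, Set.image_singleton]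
  haveI : Algebra.FinitePresentation (R ⧸ J) (B₁ ⧸ J.map (algebraMap R B₁)) := by
    haveI : Algebra.FinitePresentation R (B₁ ⧸ J.map (algebraMap R B₁)) :=
      Algebra.FinitePresentation.quotient (Ideal.FG.map (IsNoetherian.noetherian J) _)
    exact Algebra.FinitePresentation.of_restrict_scalars_finitePresentation R _ _
  let βJ₀ : B₁ →ₐ[R] Λ ⧸ J.map (algebraMap R Λ) := (Ideal.Quotient.mkₐ R _).comp β
  have hβJ₀ : ∀ y ∈ J.map (algebraMap R B₁), βJ₀ y = 0 := by
    have hle : J.map (algebraMap R B₁) ≤ RingHom.ker βJ₀.toRingHom :=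
      Ideal.map_le_iff_le_comap.2 fun c hc => by
        show βJ₀ (algebraMap R B₁ c) = 0
        rw [AlgHom.commutes]
        exact Ideal.Quotient.eq_zero_iff_mem.2 (Ideal.mem_map_of_mem _ hc)
    exact fun y hy => hle hy
  let βJ : (B₁ ⧸ J.map (algebraMap R B₁)) →ₐ[R ⧸ J] Λ ⧸ J.map (algebraMap R Λ) :=
    AlgHom.extendScalarsOfSurjective (Ideal.Quotient.mk_surjective (I := J))
      (Ideal.Quotient.liftₐ (R₁ := R) _ βJ₀ hβJ₀)
  obtain ⟨C, _, _, hC, γ₁, k, hk⟩ := hind J hJ _ inferInstance βJ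
  haveI := hC
  letI : Algebra R C := ((algebraMap (R ⧸ J) C).comp (algebraMap R (R ⧸ J))).toAlgebra
  haveI : IsScalarTower R (R ⧸ J) C := IsScalarTower.of_algebraMap_eq fun _ => rfl
  let γ : B₁ →ₐ[R] C := (γ₁.restrictScalars R).comp (Ideal.Quotient.mkₐ R _)
  let gC : C →ₐ[R] Λ ⧸ Ideal.span {algebraMap R Λ (s ^ 8)} :=
    (Ideal.quotientEquivAlgOfEq R hJΛ).toAlgHom.comp (k.restrictScalars R)
  have hfac : ∀ b : B₁, gC (γ b) = Ideal.Quotient.mk (Ideal.span {algebraMap R Λ (s ^ 8)}) (β b) := fun b => by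
    show Ideal.quotientEquivAlgOfEq R hJΛ (k (γ₁ (Ideal.Quotient.mk _ b))) = _
    rw [show k (γ₁ (Ideal.Quotient.mk _ b)) = βJ (Ideal.Quotient.mk _ b) from DFunLike.congr_fun hk _]
    rfl
  haveI : Algebra.FinitePresentation (R ⧸ J) C := hC.finitePresentation
  obtain ⟨B₂, _, _, hB₂, α₂, β₂, hβ₂, hsm, hsing⟩ :=
    DesingStd.desingularize_lifting s hR (fun x hx => LiftingLemma.smul_eq_zero_of_flat hR hx) β
      (isStrictlyStandard_of_isElementaryStandard hel) γ gC hfac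
  haveI := hB₂
  have htop : Smoothing.singRad R β₂ = ⊤ := by
    have h1 : (Smoothing.singularIdeal (R ⧸ J) C).map gC = ⊤ := by
      rw [show Smoothing.singularIdeal (R ⧸ J) C = ⊤ from
        (Ideal.eq_top_iff_one _).2 (DvrIndSmooth.mem_singularIdeal_of_smooth_top 1)]
      exact Ideal.map_top _
    have h2 := (h1.ge.trans hsing : ⊤ ≤ _) (show (1 : Λ ⧸ Ideal.span {algebraMap R Λ (s ^ 8)}) ∈ ⊤ from
      Submodule.mem_top)
    obtain ⟨y, hy, hy1⟩ := (Ideal.mem_map_iff_of_surjective _ Ideal.Quotient.mk_surjective).1 h2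
    have h3 : algebraMap R Λ (s ^ 8) ∈ Smoothing.singRad R β₂ := by
      refine Ideal.le_radical ?_
      rw [map_pow, ← β₂.commutes]
      exact Ideal.pow_mem_of_mem _ (Ideal.mem_map_of_mem β₂ (DesingStd.mem_singularIdeal hsm)) 8 (by norm_num)
    rw [Ideal.eq_top_iff_one]
    rw [← (Ideal.Quotient.mk (Ideal.span {algebraMap R Λ (s ^ 8)})).map_one, Ideal.Quotient.eq] at hy1
    have h4 := (Ideal.span_le.2 (Set.singleton_subset_iff.2 h3)) hy1
    have h5 := Ideal.sub_mem (Smoothing.singRad R β₂) hy h4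
    rwa [sub_sub_cancel] at h5
  obtain ⟨B₃, _, _, hB₃, g₃, h₃, hgh₃⟩ := PopescuField.exists_smooth_of_top β₂ htop
  exact ⟨B₃, inferInstance, inferInstance, hB₃, g₃.comp (α₂.comp α), h₃, by
    rw [← AlgHom.comp_assoc, hgh₃, ← AlgHom.comp_assoc, hβ₂, hβα]⟩

/-- From all proper quotients to the ring itself. -/
theorem indSmooth_step {R Λ : Type u} [CommRing R] [IsNoetherianRing R]
    [CommRing Λ] [IsNoetherianRing Λ] [Algebra R Λ] (hreg : CAlg.IsRegularHom R Λ)
    (hind : ∀ J : Ideal R, J ≠ ⊥ → Smoothing.IndSmooth (R ⧸ J) (Λ ⧸ J.map (algebraMap R Λ))) :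
    Smoothing.IndSmooth R Λ := by
  haveI := hreg.1
  by_cases hred : nilradical R = ⊥
  · haveI : IsReduced R := nilradical_eq_bot_iff.1 hred
    intro A _ _ hA φ
    haveI := hA
    rcases subsingleton_or_nontrivial R with hR | hR
    · exact exists_smooth_of_subsingleton φ
    · exact exists_smooth_of_reduced hreg hind φ
  · exact Groth.Agent.S2022.result (nilradical R) (IsNoetherianRing.isNilpotent_nilradical R) (hind _ hred)

/-- Quotients of quotients. -/
theorem indSmooth_quot_quot {R Λ : Type u} [CommRing R] [CommRing Λ] [Algebra R Λ] (I : Ideal R)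
    (J : Ideal (R ⧸ I))
    (h : Smoothing.IndSmooth (R ⧸ J.comap (Ideal.Quotient.mk I))
      (Λ ⧸ (J.comap (Ideal.Quotient.mk I)).map (algebraMap R Λ))) :
    Smoothing.IndSmooth ((R ⧸ I) ⧸ J)
      ((Λ ⧸ I.map (algebraMap R Λ)) ⧸ J.map (algebraMap (R ⧸ I) (Λ ⧸ I.map (algebraMap R Λ)))) := by
  have hJ : (J.comap (Ideal.Quotient.mk I)).map (Ideal.Quotient.mk I) = J :=
    Ideal.map_comap_of_surjective _ Ideal.Quotient.mk_surjective J
  have hmap : J.map (algebraMap (R ⧸ I) (Λ ⧸ I.map (algebraMap R Λ))) =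
      ((J.comap (Ideal.Quotient.mk I)).map (algebraMap R Λ)).map (Ideal.Quotient.mk (I.map (algebraMap R Λ))) := by
    conv_lhs => rw [← hJ]
    rw [Ideal.map_map, Ideal.map_map]
    rfl
  let f : R →+* (R ⧸ I) ⧸ J := (Ideal.Quotient.mk J).comp (Ideal.Quotient.mk I)
  letI : Algebra (R ⧸ J.comap (Ideal.Quotient.mk I)) ((R ⧸ I) ⧸ J) :=
    (Ideal.Quotient.lift (J.comap (Ideal.Quotient.mk I)) f
      fun x hx => Ideal.Quotient.eq_zero_iff_mem.2 hx).toAlgebra
  have hbij : Function.Bijective (algebraMap (R ⧸ J.comap (Ideal.Quotient.mk I)) ((R ⧸ I) ⧸ J)) := by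
    refine ⟨(injective_iff_map_eq_zero _).2 fun x hx => ?_,
      Ideal.Quotient.lift_surjective_of_surjective _ _
        (Ideal.Quotient.mk_surjective.comp Ideal.Quotient.mk_surjective)⟩
    obtain ⟨x, rfl⟩ := Ideal.Quotient.mk_surjective x
    exact Ideal.Quotient.eq_zero_iff_mem.2 (Ideal.Quotient.eq_zero_iff_mem.1 hx :)
  letI : Algebra (R ⧸ J.comap (Ideal.Quotient.mk I))
      ((Λ ⧸ I.map (algebraMap R Λ)) ⧸ J.map (algebraMap (R ⧸ I) (Λ ⧸ I.map (algebraMap R Λ)))) :=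
    ((algebraMap ((R ⧸ I) ⧸ J) _).comp (algebraMap (R ⧸ J.comap (Ideal.Quotient.mk I)) _)).toAlgebra
  haveI : IsScalarTower (R ⧸ J.comap (Ideal.Quotient.mk I)) ((R ⧸ I) ⧸ J)
      ((Λ ⧸ I.map (algebraMap R Λ)) ⧸ J.map (algebraMap (R ⧸ I) (Λ ⧸ I.map (algebraMap R Λ)))) :=
    IsScalarTower.of_algebraMap_eq fun _ => rfl
  let π : Λ →+* (Λ ⧸ I.map (algebraMap R Λ)) ⧸ J.map (algebraMap (R ⧸ I) (Λ ⧸ I.map (algebraMap R Λ))) :=
    (Ideal.Quotient.mk _).comp (Ideal.Quotient.mk _)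
  have hker : RingHom.ker π = (J.comap (Ideal.Quotient.mk I)).map (algebraMap R Λ) := by
    show RingHom.ker ((Ideal.Quotient.mk _).comp (Ideal.Quotient.mk _)) = _
    rw [← RingHom.comap_ker, Ideal.mk_ker, hmap,
      Ideal.comap_map_of_surjective _ Ideal.Quotient.mk_surjective, ← RingHom.ker_eq_comap_bot, Ideal.mk_ker]
    exact sup_eq_left.2 (Ideal.map_mono fun x hx => by
      show Ideal.Quotient.mk I x ∈ J
      rw [Ideal.Quotient.eq_zero_iff_mem.2 hx]
      exact zero_mem _)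
  let e : (Λ ⧸ (J.comap (Ideal.Quotient.mk I)).map (algebraMap R Λ)) ≃+*
      (Λ ⧸ I.map (algebraMap R Λ)) ⧸ J.map (algebraMap (R ⧸ I) (Λ ⧸ I.map (algebraMap R Λ))) :=
    (Ideal.quotEquivOfEq hker.symm).trans
      (RingHom.quotientKerEquivOfSurjective (Ideal.Quotient.mk_surjective.comp Ideal.Quotient.mk_surjective))
  refine DvrIndSmooth.indSmooth_of_equiv hbij (AlgEquiv.ofRingEquiv (f := e) fun x => ?_) h
  obtain ⟨x, rfl⟩ := Ideal.Quotient.mk_surjective x
  rfl

/-- Popescu's theorem. -/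
theorem indSmooth {R Λ : Type u} [CommRing R] [IsNoetherianRing R]
    [CommRing Λ] [IsNoetherianRing Λ] [Algebra R Λ] (hreg : CAlg.IsRegularHom R Λ) :
    Smoothing.IndSmooth R Λ := by
  refine indSmooth_step hreg fun I hI => ?_
  clear hI
  induction I using (IsWellFounded.induction (α := Ideal R) (· > ·)) with
  | _ I ih =>
    have hreg' : CAlg.IsRegularHom (R ⧸ I) (Λ ⧸ I.map (algebraMap R Λ)) := by
      haveI : IsNoetherianRing ((R ⧸ I) ⊗[R] Λ) := isNoetherianRing_of_ringEquiv (Λ ⧸ I.map (algebraMap R Λ))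
        (Algebra.TensorProduct.quotIdealMapEquivQuotTensor Λ I).toRingEquiv
      exact Hensel.isRegularHom_congr (Algebra.TensorProduct.quotIdealMapEquivQuotTensor Λ I).symm
        (GeomFieldLib.isRegularHom_tensor R Λ (R ⧸ I) hreg)
    refine indSmooth_step hreg' fun J hJ => indSmooth_quot_quot I J (ih _ (lt_of_le_not_ge ?_ ?_))
    · intro x hx
      show Ideal.Quotient.mk I x ∈ J
      rw [Ideal.Quotient.eq_zero_iff_mem.2 hx]
      exact zero_mem _
    · intro hle
      apply hJ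
      rw [← Ideal.map_comap_of_surjective (Ideal.Quotient.mk I) Ideal.Quotient.mk_surjective J,
        eq_bot_iff, Ideal.map_le_iff_le_comap, ← RingHom.ker_eq_comap_bot, Ideal.mk_ker]
      exact hle

end Groth.Agent.SmoothingLib.Popescu
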