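import Groth.Agent.SmoothingLib.Popescu
import Groth.Agent.Hensel.Pair
import Groth.Agent.Adic.Rig.Hom
import Groth.Agent.S0536

/-!
Artin approximation from Popescu's theorem.
-/

namespace Groth.Agent.SmoothingLib.Approx

open MvPolynomial

universe u

variable {A : Type u} [CommRing A] [IsNoetherianRing A] (I : Ideal A)

/-- Points in the completion of a finitely presented algebra are approximated by points in the ring. -/
theorem exists_point [HenselianRing A I] (hreg : CAlg.IsRegularHom A (AdicCompletion I A))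
    {T : Type u} [CommRing T] [Algebra A T] [Algebra.FinitePresentation A T]
    (f : T →ₐ[A] AdicCompletion I A) (n : ℕ) (hn : n ≠ 0) :
    ∃ τ : T →ₐ[A] A, (Ideal.Quotient.mkₐ A (I ^ n)).comp τ = (AdicCompletion.evalₐ I n).comp f := by
  haveI : IsNoetherianRing (AdicCompletion I A) := RegLoc.Completion.isNoetherianRing_adicCompletion' I
  obtain ⟨B, _, _, hB, g, h, hgh⟩ := Popescu.indSmooth hreg T inferInstance f
  haveI := hB
  haveI : HenselianRing A (I ^ n) :=
    Hensel.henselianRing_of_radical_eq ((Ideal.pow_le_self hn).trans Ideal.le_radical)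
  obtain ⟨τ, hτ⟩ := Groth.Agent.S0536.result A B A (I ^ n) ((AdicCompletion.evalₐ I n).comp h)
  exact ⟨τ.comp g, by rw [← AlgHom.comp_assoc, hτ, AlgHom.comp_assoc, hgh]⟩

/-- Approximation of solutions of polynomial systems. -/
theorem exists_solution [HenselianRing A I] (hreg : CAlg.IsRegularHom A (AdicCompletion I A))
    {σ τ : Type} [Finite σ] [Finite τ] (F : τ → MvPolynomial σ A) (a : σ → AdicCompletion I A)
    (ha : ∀ j, aeval a (F j) = 0) (N : ℕ) :
    ∃ b : σ → A, (∀ j, aeval b (F j) = 0) ∧
      ∀ i, a i - algebraMap A (AdicCompletion I A) (b i) ∈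
        (I ^ N).map (algebraMap A (AdicCompletion I A)) := by
  haveI : Algebra.FinitePresentation A (MvPolynomial σ A ⧸ Ideal.span (Set.range F)) :=
    Algebra.FinitePresentation.quotient (Submodule.fg_def.2 ⟨_, Set.finite_range _, rfl⟩)
  have hker : ∀ p ∈ Ideal.span (Set.range F), aeval a p = 0 := by
    have hle : Ideal.span (Set.range F) ≤ RingHom.ker (aeval (R := A) a).toRingHom :=
      Ideal.span_le.2 (by rintro _ ⟨j, rfl⟩; exact ha j)
    exact fun p hp => hle hp
  let q : MvPolynomial σ A →ₐ[A] MvPolynomial σ A ⧸ Ideal.span (Set.range F) := Ideal.Quotient.mkₐ A _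
  let f : (MvPolynomial σ A ⧸ Ideal.span (Set.range F)) →ₐ[A] AdicCompletion I A :=
    Ideal.Quotient.liftₐ (R₁ := A) (Ideal.span (Set.range F)) (aeval a) hker
  obtain ⟨τ', hτ⟩ := exists_point I hreg f (N + 1) N.succ_ne_zero
  refine ⟨fun i => τ' (q (X i)), fun j => ?_, fun i => ?_⟩
  · have : (aeval fun i => τ' (q (X i))) = τ'.comp q := algHom_ext fun i => by simp
    rw [this, AlgHom.comp_apply, show q (F j) = 0 from Ideal.Quotient.eq_zero_iff_mem.2
      (Ideal.subset_span ⟨j, rfl⟩), map_zero]
  · refine Ideal.map_mono (Ideal.pow_le_pow_right N.le_succ)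
      ((Adic.Rig.mem_pow_map_iff (IsNoetherian.noetherian I) (N + 1) _).2 ?_)
    have h1 := DFunLike.congr_fun hτ (q (X i))
    simp only [AlgHom.comp_apply, f, q, Ideal.Quotient.mkₐ_eq_mk, Ideal.Quotient.liftₐ_apply,
      Ideal.Quotient.lift_mk] at h1
    rw [map_sub, AlgHom.commutes, Ideal.Quotient.algebraMap_eq]
    simp only [q, Ideal.Quotient.mkₐ_eq_mk]
    rw [h1]
    simp

end Groth.Agent.SmoothingLib.Approx
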