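import Groth.Agent.SmoothingLib.Approx
import Groth.Agent.AlgSpCov.SmoothSlice
import Mathlib.Algebra.Category.CommAlgCat.Basic
import Mathlib.CategoryTheory.Limits.Preserves.Filtered
import Mathlib.CategoryTheory.Limits.Types.Colimits

/-!
An algebra is the filtered colimit of finitely presented algebras over it; Artin approximation for
functors preserving filtered colimits.
-/

namespace Groth.Agent.SmoothingLib.ApproxFunctor

open CategoryTheory MvPolynomial

universe u

variable {A : Type u} [CommRing A]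

/-- The Artin lifting to an etale neighbourhood, up to any order. -/
theorem exists_etale_lift [IsNoetherianRing A] (I : Ideal A)
    (hreg : CAlg.IsRegularHom A (AdicCompletion I A)) {T : Type u} [CommRing T] [Algebra A T]
    [Algebra.FinitePresentation A T] (f : T →ₐ[A] AdicCompletion I A) (n : ℕ) :
    ∃ (D : Type u) (_ : CommRing D) (_ : Algebra A D), Algebra.Etale A D ∧
      ∃ (δ : D →ₐ[A] A ⧸ I ^ n) (ρ : T →ₐ[A] D), Function.Surjective δ ∧
        δ.comp ρ = (AdicCompletion.evalₐ I n).comp f := by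
  haveI : IsNoetherianRing (AdicCompletion I A) := RegLoc.Completion.isNoetherianRing_adicCompletion' I
  obtain ⟨B, _, _, hB, g₀, h, hgh⟩ := Popescu.indSmooth hreg T inferInstance f
  haveI := hB
  obtain ⟨B₂, _, _, _, _, -, ⟨r⟩, hstd⟩ := exists_smooth_retract (R := A) (A := B)
  let φ : B₂ →ₐ[A] A ⧸ I ^ n := (AdicCompletion.evalₐ I n).comp (h.comp (r.restrictScalars A))
  obtain ⟨D, _, ψ, ρ, hψ, hρ, hbij, hcompat⟩ := AlgSpCov.exists_etale_lift_of_standardSmooth
    (algebraMap A B₂) (RingHom.isStandardSmooth_algebraMap.2 hstd) (RingHom.id A) (I ^ n) φ.toRingHom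
    (RingHom.ext fun c => φ.commutes c)
  letI : Algebra A D := ψ.toAlgebra
  let qm := RingEquiv.ofBijective (Ideal.quotientMap ((I ^ n).map ψ) ψ Ideal.le_comap_map) hbij
  let δ : D →ₐ[A] A ⧸ I ^ n :=
    { qm.symm.toRingHom.comp (Ideal.Quotient.mk ((I ^ n).map ψ)) with
      commutes' := fun c => by
        show qm.symm (Ideal.Quotient.mk _ (ψ c)) = _
        rw [show Ideal.Quotient.mk ((I ^ n).map ψ) (ψ c) = qm (Ideal.Quotient.mk _ c) from rfl,
          qm.symm_apply_apply]
        rfl }
  let ρ' : B₂ →ₐ[A] D := { ρ with commutes' := fun c => DFunLike.congr_fun hρ c }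
  refine ⟨D, inferInstance, inferInstance, RingHom.etale_algebraMap.1 hψ, δ,
    ρ'.comp ((IsScalarTower.toAlgHom A B B₂).comp g₀),
    fun z => ?_, AlgHom.ext fun t => ?_⟩
  · obtain ⟨y, hy⟩ := Ideal.Quotient.mk_surjective (qm z)
    exact ⟨y, by show qm.symm (Ideal.Quotient.mk _ y) = z; rw [hy, qm.symm_apply_apply]⟩
  · show qm.symm (Ideal.Quotient.mk _ (ρ (algebraMap B B₂ (g₀ t)))) = _
    rw [show Ideal.Quotient.mk ((I ^ n).map ψ) (ρ (algebraMap B B₂ (g₀ t))) =
      qm (φ (algebraMap B B₂ (g₀ t))) from DFunLike.congr_fun hcompat _, qm.symm_apply_apply]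
    show AdicCompletion.evalₐ I n (h (r (algebraMap B B₂ (g₀ t)))) = _
    rw [r.commutes, Algebra.algebraMap_self, RingHom.id_apply, show h (g₀ t) = f t from DFunLike.congr_fun hgh t]
    rfl

variable (A) (Λ : Type u) [CommRing Λ] [Algebra A Λ]

/-- indices: finitely many elements of `Λ` and finitely many relations among them -/
structure Idx where
  s : Finset Λ
  I : Ideal (MvPolynomial s A)
  fg : I.FG
  le : ∀ p ∈ I, aeval (fun x : s => (x : Λ)) p = 0

variable {A Λ}

/-- inclusion of variables -/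
noncomputable def incl {s t : Finset Λ} (h : s ⊆ t) : MvPolynomial s A →ₐ[A] MvPolynomial t A :=
  rename fun x => ⟨x.1, h x.2⟩

@[simp] theorem incl_X {s t : Finset Λ} (h : s ⊆ t) (x : s) :
    incl (A := A) h (X x) = X ⟨x.1, h x.2⟩ := rename_X _ _

theorem incl_refl {s : Finset Λ} : incl (A := A) (Finset.Subset.refl s) = AlgHom.id A _ :=
  algHom_ext fun x => by simp

theorem incl_trans {r s t : Finset Λ} (h : r ⊆ s) (h' : s ⊆ t) :
    incl (A := A) (h.trans h') = (incl h').comp (incl h) :=
  algHom_ext fun x => by simp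

theorem aeval_incl {s t : Finset Λ} (h : s ⊆ t) (p : MvPolynomial s A) :
    aeval (fun x : t => (x : Λ)) (incl h p) = aeval (fun x : s => (x : Λ)) p :=
  aeval_rename _ _ _

instance : Preorder (Idx A Λ) where
  le i j := ∃ h : i.s ⊆ j.s, i.I ≤ j.I.comap (incl h)
  le_refl i := ⟨Finset.Subset.refl _, fun p hp => by rw [Ideal.mem_comap, incl_refl]; exact hp⟩
  le_trans i j k := fun ⟨h, hle⟩ ⟨h', hle'⟩ => ⟨h.trans h', fun p hp => by
    rw [Ideal.mem_comap, incl_trans h h']
    exact hle' (hle hp)⟩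

instance : Nonempty (Idx A Λ) := ⟨⟨∅, ⊥, Submodule.fg_bot, fun p hp => by
  rw [Ideal.mem_bot.1 hp, map_zero]⟩⟩

instance [DecidableEq Λ] : IsDirected (Idx A Λ) (· ≤ ·) := ⟨fun i j =>
  ⟨⟨i.s ∪ j.s, i.I.map (incl Finset.subset_union_left) ⊔ j.I.map (incl Finset.subset_union_right),
    Submodule.FG.sup (Ideal.FG.map i.fg _) (Ideal.FG.map j.fg _), fun p hp => by
      have hle : i.I.map (incl Finset.subset_union_left) ⊔ j.I.map (incl Finset.subset_union_right) ≤
          RingHom.ker (aeval (R := A) fun x : (i.s ∪ j.s : Finset Λ) => (x : Λ)).toRingHom :=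
        sup_le (Ideal.map_le_iff_le_comap.2 fun q hq => (aeval_incl _ q).trans (i.le q hq))
          (Ideal.map_le_iff_le_comap.2 fun q hq => (aeval_incl _ q).trans (j.le q hq))
      exact hle hp⟩,
    ⟨Finset.subset_union_left, fun _ hp => Ideal.mem_sup_left (Ideal.mem_map_of_mem _ hp)⟩,
    ⟨Finset.subset_union_right, fun _ hp => Ideal.mem_sup_right (Ideal.mem_map_of_mem _ hp)⟩⟩⟩

/-- transition maps -/
noncomputable def trans {i j : Idx A Λ} (h : i ≤ j) :
    (MvPolynomial i.s A ⧸ i.I) →ₐ[A] MvPolynomial j.s A ⧸ j.I :=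
  Ideal.quotientMapₐ j.I (incl h.fst) h.snd

theorem trans_mk {i j : Idx A Λ} (h : i ≤ j) (p : MvPolynomial i.s A) :
    trans h (Ideal.Quotient.mk i.I p) = Ideal.Quotient.mk j.I (incl h.fst p) := rfl

variable (A Λ) in
/-- the diagram of finitely presented algebras over `Λ` -/
noncomputable def diag : Idx A Λ ⥤ CommAlgCat.{u} A where
  obj i := CommAlgCat.of A (MvPolynomial i.s A ⧸ i.I)
  map h := CommAlgCat.ofHom (trans h.le)
  map_id i := CommAlgCat.hom_ext (Ideal.Quotient.algHom_ext A (algHom_ext fun x => by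
    show trans (le_refl i) (Ideal.Quotient.mk i.I (X x)) = _
    rw [trans_mk, incl_X]
    rfl))
  map_comp f g := CommAlgCat.hom_ext (Ideal.Quotient.algHom_ext A (algHom_ext fun x => by
    show trans (f ≫ g).le (Ideal.Quotient.mk _ (X x)) = trans g.le (trans f.le (Ideal.Quotient.mk _ (X x)))
    simp only [trans_mk, incl_X]))

/-- the maps to `Λ` -/
noncomputable def toTarget (i : Idx A Λ) : (MvPolynomial i.s A ⧸ i.I) →ₐ[A] Λ :=
  Ideal.Quotient.liftₐ i.I (aeval fun x : i.s => (x : Λ)) i.le

theorem toTarget_X (i : Idx A Λ) (x : i.s) : toTarget i (Ideal.Quotient.mk i.I (X x)) = x :=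
  aeval_X _ _

variable (A Λ) in
/-- the cocone with vertex `Λ` -/
noncomputable def cocone : Limits.Cocone (diag A Λ) where
  pt := CommAlgCat.of A Λ
  ι :=
    { app := fun i => CommAlgCat.ofHom (toTarget i)
      naturality := fun i j h => CommAlgCat.hom_ext (Ideal.Quotient.algHom_ext A (algHom_ext fun x => by
        show toTarget j (trans h.le (Ideal.Quotient.mk i.I (X x))) = toTarget i (Ideal.Quotient.mk i.I (X x))
        rw [trans_mk, incl_X, toTarget_X, toTarget_X])) }

/-- one element -/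
noncomputable def single (x : Λ) : Idx A Λ :=
  ⟨{x}, ⊥, Submodule.fg_bot, fun p hp => by rw [Ideal.mem_bot.1 hp, map_zero]⟩

/-- finitely many elements with one relation -/
noncomputable def withRel (s : Finset Λ) (p : MvPolynomial s A) (hp : aeval (fun x : s => (x : Λ)) p = 0) : Idx A Λ :=
  ⟨s, Ideal.span {p}, Submodule.fg_span_singleton p, fun q hq => by
    obtain ⟨c, rfl⟩ := Ideal.mem_span_singleton'.1 hq
    rw [map_mul, hp, mul_zero]⟩

section Desc

variable (c : Limits.Cocone (diag A Λ))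

/-- the map out of `Λ` -/
noncomputable def desc (x : Λ) : c.pt :=
  (c.ι.app (single x)).hom (Ideal.Quotient.mk (single (A := A) x).I (X ⟨x, Finset.mem_singleton_self x⟩))

theorem app_X (j : Idx A Λ) (x : Λ) (hx : x ∈ j.s) :
    (c.ι.app j).hom (Ideal.Quotient.mk j.I (X ⟨x, hx⟩)) = desc c x := by
  have h : single (A := A) x ≤ j := ⟨Finset.singleton_subset_iff.2 hx, bot_le⟩
  rw [desc, ← c.w (homOfLE h)]
  show _ = (c.ι.app j).hom (trans h (Ideal.Quotient.mk (single x).I (X ⟨x, _⟩)))
  rw [trans_mk, incl_X]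

theorem desc_add [DecidableEq Λ] (x y : Λ) : desc c (x + y) = desc c x + desc c y := by
  have hx : x ∈ ({x, y, x + y} : Finset Λ) := by simp
  have hy : y ∈ ({x, y, x + y} : Finset Λ) := by simp
  have hz : x + y ∈ ({x, y, x + y} : Finset Λ) := by simp
  let p : MvPolynomial ({x, y, x + y} : Finset Λ) A := X ⟨x, hx⟩ + X ⟨y, hy⟩ - X ⟨x + y, hz⟩
  let j := withRel ({x, y, x + y} : Finset Λ) p (by simp [p])
  rw [← app_X c j x hx, ← app_X c j y hy, ← app_X c j _ hz, ← map_add]
  exact congrArg _ ((Ideal.Quotient.eq.2 (by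
    rw [← neg_mem_iff, neg_sub]; exact Ideal.mem_span_singleton_self p)).trans (map_add (Ideal.Quotient.mk j.I) _ _))

theorem desc_mul [DecidableEq Λ] (x y : Λ) : desc c (x * y) = desc c x * desc c y := by
  have hx : x ∈ ({x, y, x * y} : Finset Λ) := by simp
  have hy : y ∈ ({x, y, x * y} : Finset Λ) := by simp
  have hz : x * y ∈ ({x, y, x * y} : Finset Λ) := by simp
  let p : MvPolynomial ({x, y, x * y} : Finset Λ) A := X ⟨x, hx⟩ * X ⟨y, hy⟩ - X ⟨x * y, hz⟩
  let j := withRel ({x, y, x * y} : Finset Λ) p (by simp [p])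
  rw [← app_X c j x hx, ← app_X c j y hy, ← app_X c j _ hz, ← map_mul]
  exact congrArg _ ((Ideal.Quotient.eq.2 (by
    rw [← neg_mem_iff, neg_sub]; exact Ideal.mem_span_singleton_self p)).trans (map_mul (Ideal.Quotient.mk j.I) _ _))

theorem desc_algebraMap [DecidableEq Λ] (a : A) : desc c (algebraMap A Λ a) = algebraMap A c.pt a := by
  have hz : algebraMap A Λ a ∈ ({algebraMap A Λ a} : Finset Λ) := Finset.mem_singleton_self _
  let p : MvPolynomial ({algebraMap A Λ a} : Finset Λ) A := X ⟨_, hz⟩ - C a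
  let j := withRel ({algebraMap A Λ a} : Finset Λ) p (by simp [p])
  rw [← app_X c j _ hz]
  refine Eq.trans ?_ ((c.ι.app j).hom.commutes a)
  exact congrArg _ (Ideal.Quotient.eq.2 (Ideal.mem_span_singleton_self p))

end Desc

variable (A Λ) in
/-- `Λ` is the colimit. -/
noncomputable def isColimit [DecidableEq Λ] : Limits.IsColimit (cocone A Λ) where
  desc c := CommAlgCat.ofHom
    { toFun := desc c
      map_one' := by rw [← map_one (algebraMap A Λ), desc_algebraMap, map_one]
      map_mul' := desc_mul c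
      map_zero' := by rw [← map_zero (algebraMap A Λ), desc_algebraMap, map_zero]
      map_add' := desc_add c
      commutes' := desc_algebraMap c }
  fac c i := CommAlgCat.hom_ext (Ideal.Quotient.algHom_ext A (algHom_ext fun x => by
    show desc c (toTarget i (Ideal.Quotient.mk i.I (X x))) = (c.ι.app i).hom (Ideal.Quotient.mk i.I (X x))
    rw [toTarget_X]
    exact (app_X c i x.1 x.2).symm))
  uniq c m hm := CommAlgCat.hom_ext (AlgHom.ext fun x => by
    show m.hom x = desc c x
    rw [desc, ← hm]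
    exact congrArg m.hom (show x = toTarget (single x) (Ideal.Quotient.mk (single (A := A) x).I (X ⟨x, Finset.mem_singleton_self x⟩)) from
      (toTarget_X (single x) ⟨x, Finset.mem_singleton_self x⟩).symm))

/-- elements of a functor preserving filtered colimits come from finitely presented algebras -/
theorem exists_fp_preimage (F : CommAlgCat.{u} A ⥤ Type u) [Limits.PreservesFilteredColimits F]
    (ξ : F.obj (CommAlgCat.of A Λ)) :
    ∃ (T : Type u) (_ : CommRing T) (_ : Algebra A T), Algebra.FinitePresentation A T ∧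
      ∃ (f : T →ₐ[A] Λ) (η : F.obj (CommAlgCat.of A T)), F.map (CommAlgCat.ofHom f) η = ξ := by
  classical
  obtain ⟨j, η, hη⟩ := Limits.Types.jointly_surjective _
    (Limits.isColimitOfPreserves F (isColimit A Λ)) ξ
  exact ⟨MvPolynomial j.s A ⧸ j.I, inferInstance, inferInstance,
    Algebra.FinitePresentation.quotient j.fg, toTarget j, η, hη⟩

end Groth.Agent.SmoothingLib.ApproxFunctor
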