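import Groth.Agent.SmoothingLib.Algebraize
import Groth.Agent.S14020

/-!
Truncations of models and the comparison of a versal formal element with the completion of a model.
-/

namespace Groth.Agent.SmoothingLib.Algebraize

universe u

variable {k : Type u} [Field k] {P R A : Type u} [CommRing P] [Algebra k P] [CommRing R] [Algebra k R]
  [CommRing A] [Algebra k A] {I : Ideal P} {J : Ideal R} {m : Ideal A} {α : P →ₐ[k] R} {β : P →ₐ[k] A}
  (hJ : I.map α.toRingHom = J) (hK : I.map β.toRingHom = m)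
  (hsJ : ∀ r : R, ∃ p, r - α p ∈ J) (hsK : ∀ x : A, ∃ p, x - β p ∈ m)
include hJ hK hsJ hsK

/-- The truncations agree. -/
theorem exists_truncEquiv (n : ℕ) (hN : ∀ p, α p ∈ J ^ n ↔ β p ∈ m ^ n) :
    ∃ φ : (R ⧸ J ^ n) ≃ₐ[k] (A ⧸ m ^ n),
      ∀ p, φ (Ideal.Quotient.mk (J ^ n) (α p)) = Ideal.Quotient.mk (m ^ n) (β p) := by
  let ga : P →ₐ[k] R ⧸ J ^ n := (Ideal.Quotient.mkₐ k _).comp α
  let gb : P →ₐ[k] A ⧸ m ^ n := (Ideal.Quotient.mkₐ k _).comp β
  have hga : Function.Surjective ga := fun w => by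
    obtain ⟨r, rfl⟩ := Ideal.Quotient.mk_surjective w
    obtain ⟨p, hp⟩ := GrCompare.exists_mod_pow (α := α.toRingHom) hJ hsJ r n
    exact ⟨p, (Ideal.Quotient.eq.2 hp).symm⟩
  have hgb : Function.Surjective gb := fun w => by
    obtain ⟨r, rfl⟩ := Ideal.Quotient.mk_surjective w
    obtain ⟨p, hp⟩ := GrCompare.exists_mod_pow (α := β.toRingHom) hK hsK r n
    exact ⟨p, (Ideal.Quotient.eq.2 hp).symm⟩
  have hker : RingHom.ker ga = RingHom.ker gb := by
    ext p
    show Ideal.Quotient.mk _ (α p) = 0 ↔ Ideal.Quotient.mk _ (β p) = 0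
    rw [Ideal.Quotient.eq_zero_iff_mem, Ideal.Quotient.eq_zero_iff_mem]
    exact hN p
  refine ⟨(Ideal.quotientKerAlgEquivOfSurjective hga).symm.trans
    ((Ideal.quotientEquivAlgOfEq k hker).trans (Ideal.quotientKerAlgEquivOfSurjective hgb)), fun p => ?_⟩
  rw [show Ideal.Quotient.mk (J ^ n) (α p) = Ideal.quotientKerAlgEquivOfSurjective hga
    (Ideal.Quotient.mk _ p) from rfl, AlgEquiv.trans_apply, AlgEquiv.symm_apply_apply]
  rfl

/-- A map agreeing modulo the square of the maximal ideals identifies the truncations, when the leading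
forms agree. -/
theorem bijective_of_congr (hk : ∀ n, ∀ a ∈ I ^ n, α a ∈ J ^ (n + 1) ↔ β a ∈ m ^ (n + 1)) {n : ℕ}
    (hn : 2 ≤ n) (g : R →+* A ⧸ m ^ n)
    (hg : ∀ p, g (α p) - Ideal.Quotient.mk (m ^ n) (β p) ∈ (m ^ 2).map (Ideal.Quotient.mk (m ^ n))) :
    Function.Surjective g ∧ ∀ r, g r = 0 ↔ r ∈ J ^ n := by
  let mb := m.map (Ideal.Quotient.mk (m ^ n))
  have hmb : ∀ j, (m ^ j).map (Ideal.Quotient.mk (m ^ n)) = mb ^ j := fun j => Ideal.map_pow _ _ j
  have hβI : ∀ j, ∀ a ∈ I ^ j, Ideal.Quotient.mk (m ^ n) (β a) ∈ mb ^ j := fun j a ha => by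
    have h1 : β a ∈ m ^ j := by
      rw [← hK, ← Ideal.map_pow]
      exact Ideal.mem_map_of_mem β.toRingHom ha
    rw [← hmb]
    exact Ideal.mem_map_of_mem _ h1
  have hg1 : ∀ p, g (α p) - Ideal.Quotient.mk (m ^ n) (β p) ∈ mb := fun p => by
    have := hg p
    rw [hmb] at this
    exact Ideal.pow_le_self two_ne_zero this
  have hgJ : ∀ j, (J ^ j).map g ≤ mb ^ j := fun j => by
    rw [Ideal.map_pow]
    refine Ideal.pow_right_mono ?_ j
    rw [← hJ, Ideal.map_map, Ideal.map_le_iff_le_comap]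
    intro a ha
    show g (α a) ∈ mb
    have := add_mem (hg1 a) ((pow_one mb).le (hβI 1 a (by rwa [pow_one])))
    simpa using this
  have hlead : ∀ j, ∀ a ∈ I ^ j, g (α a) - Ideal.Quotient.mk (m ^ n) (β a) ∈ mb ^ (j + 1) := by
    intro j
    induction j with
    | zero => intro a _; rw [zero_add, pow_one]; exact hg1 a
    | succ j ih =>
      intro a ha
      rw [pow_succ] at ha
      refine Submodule.mul_induction_on ha (fun x hx y hy => ?_) (fun x y hx hy => ?_)
      · simp only [map_mul]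
        rw [show g (α x) * g (α y) - Ideal.Quotient.mk (m ^ n) (β x) * Ideal.Quotient.mk (m ^ n) (β y) =
          (g (α x) - Ideal.Quotient.mk (m ^ n) (β x)) * g (α y) +
            Ideal.Quotient.mk (m ^ n) (β x) * (g (α y) - Ideal.Quotient.mk (m ^ n) (β y)) by ring]
        refine add_mem ?_ ?_
        · rw [pow_succ]
          refine Ideal.mul_mem_mul (ih x hx) ((pow_one mb).le (hgJ 1 (Ideal.mem_map_of_mem g ?_)))
          rw [pow_one, ← hJ]
          exact Ideal.mem_map_of_mem α.toRingHom hy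
        · rw [show j + 1 + 1 = j + 2 from rfl, pow_add]
          exact Ideal.mul_mem_mul (hβI j x hx) (hmb 2 ▸ hg y)
      · simp only [map_add]
        rw [add_sub_add_comm]
        exact add_mem hx hy
  have hker : ∀ j ≤ n, ∀ r, g r ∈ mb ^ j → r ∈ J ^ j := by
    intro j
    induction j with
    | zero => intro _ r _; simp
    | succ j ih =>
      intro hj r hr
      have hrj := ih (by omega) r (Ideal.pow_le_pow_right j.le_succ hr)
      obtain ⟨a, ha, hra⟩ := GrCompare.exists_step (α := α.toRingHom) hJ hsJ j hrj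
      have h1 : g (α a) ∈ mb ^ (j + 1) := by
        have := sub_mem hr (hgJ (j + 1) (Ideal.mem_map_of_mem g hra))
        simpa using this
      have h2 : Ideal.Quotient.mk (m ^ n) (β a) ∈ mb ^ (j + 1) := by
        have := sub_mem h1 (hlead j a ha)
        simpa using this
      rw [← hmb, Ideal.mem_quotient_iff_mem (Ideal.pow_le_pow_right hj)] at h2
      have h3 : α a ∈ J ^ (j + 1) := (hk j a ha).2 h2
      simpa using add_mem hra h3
  have hzero : ∀ x, x ∈ mb ^ n → x = 0 := fun x hx => by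
    rw [← hmb, Ideal.map_quotient_self] at hx
    exact hx
  refine ⟨fun w => ?_, fun r => ⟨fun h => hker n le_rfl r (h ▸ zero_mem _),
    fun h => hzero _ (hgJ n (Ideal.mem_map_of_mem g h))⟩⟩
  have key : ∀ j, ∃ r, w - g r ∈ mb ^ j := by
    intro j
    induction j with
    | zero => exact ⟨0, by simp⟩
    | succ j ih =>
      obtain ⟨r, hr⟩ := ih
      obtain ⟨b, hb⟩ := Ideal.Quotient.mk_surjective (w - g r)
      rw [← hb, ← hmb] at hr
      obtain ⟨b', hb', hbb⟩ := (Ideal.mem_map_iff_of_surjective _ Ideal.Quotient.mk_surjective).1 hr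
      obtain ⟨a, ha, hba⟩ := GrCompare.exists_step (α := β.toRingHom) hK hsK j hb'
      refine ⟨r + α a, ?_⟩
      have h1 : Ideal.Quotient.mk (m ^ n) (b' - β a) ∈ mb ^ (j + 1) := by
        rw [← hmb]; exact Ideal.mem_map_of_mem _ hba
      rw [map_sub, hbb, hb] at h1
      have := sub_mem h1 (hlead j a ha)
      rw [map_add, show w - (g r + g (α a)) = w - g r - Ideal.Quotient.mk (m ^ n) (β a) -
        (g (α a) - Ideal.Quotient.mk (m ^ n) (β a)) by ring]
      exact this
  obtain ⟨r, hr⟩ := key n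
  exact ⟨r, (sub_eq_zero.1 (hzero _ hr)).symm⟩

end Groth.Agent.SmoothingLib.Algebraize
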