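import Groth.Agent.S2109
import Mathlib.RingTheory.MvPolynomial.Ideal

/-!
Parameters with annihilator conditions, with exponent independent of the auxiliary exponent `e`.
-/

namespace Groth.Agent.SmoothingLib.Params

universe u

theorem exists_parameters {Λ : Type u} [CommRing Λ] [IsNoetherianRing Λ] (I q : Ideal Λ)
    [q.IsPrime] (hIq : I ≤ q) (n e d : ℕ) (hn : 0 < n) (he : 0 < e)
    (hpow : (q ^ n).map (algebraMap Λ (Localization.AtPrime q)) ≤ I.map (algebraMap Λ (Localization.AtPrime q)))
    [IsRegularLocalRing (Localization.AtPrime q)] (hd : ringKrullDim (Localization.AtPrime q) = d) :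
    ∃ (π : Fin d → Λ),
      Ideal.span (Set.range fun i => algebraMap Λ (Localization.AtPrime q) (π i)) =
        q.map (algebraMap Λ (Localization.AtPrime q)) ∧
      (∀ i, π i ^ n ∈ I) ∧
      ∀ i : Fin d, ∀ x : Λ ⧸ Ideal.span (Set.range fun j : {j : Fin d // (j : ℕ) < (i : ℕ)} => π j ^ e),
        Ideal.Quotient.mk _ (π i) ^ 2 * x = 0 → Ideal.Quotient.mk _ (π i) * x = 0 := by
  classical
  set R := Localization.AtPrime q
  set f := algebraMap Λ R
  have hm : q.map f = IsLocalRing.maximalIdeal R := Localization.AtPrime.map_eq_maximalIdeal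
  have hcard : (IsLocalRing.maximalIdeal R).spanFinrank = d :=
    Groth.Agent.RegLoc.spanFinrank_eq_dim hd
  obtain ⟨gs, hgs, hspan⟩ := Submodule.FG.exists_span_set_encard_eq_spanFinrank
    (IsNoetherian.noetherian (IsLocalRing.maximalIdeal R))
  rw [hcard] at hgs
  have hfin : gs.Finite := Set.finite_of_encard_eq_coe hgs
  obtain ⟨σ⟩ : Nonempty (Fin d ≃ gs) := by
    have := hfin.to_subtype
    refine ⟨(Finite.equivFinOfCardEq ?_).symm⟩
    rw [Nat.card_coe_set_eq, Set.ncard, hgs]; rfl
  have hgen : ∀ j, ∃ a ∈ q, ∃ s, s ∉ q ∧ (σ j : R) * f s = f a := by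
    intro j
    obtain ⟨⟨a, s⟩, has⟩ := IsLocalization.surj q.primeCompl (σ j : R)
    refine ⟨a, ?_, s, s.2, has⟩
    have h1 : f a ∈ IsLocalRing.maximalIdeal R := by
      rw [← has]
      exact Ideal.mul_mem_right _ _ (hspan ▸ Submodule.subset_span (σ j).2)
    exact (IsLocalization.AtPrime.to_map_mem_maximal_iff R q a).mp h1
  choose a ha s hs has using hgen
  have hpow' : ∀ j, ∃ t, t ∉ q ∧ t * a j ^ n ∈ I := by
    intro j
    have h1 : f (a j ^ n) ∈ I.map f := hpow (Ideal.mem_map_of_mem _ (Ideal.pow_mem_pow (ha j) n))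
    obtain ⟨t, ht, h2⟩ :=
      (IsLocalization.algebraMap_mem_map_algebraMap_iff q.primeCompl R I (a j ^ n)).mp h1
    exact ⟨t, ht, h2⟩
  choose t ht hta using hpow'
  have main : ∀ k, k ≤ d → ∃ π : Fin d → Λ,
      (∀ j, ∃ c, c ∉ q ∧ π j = c * (t j * a j)) ∧
      ∀ i : Fin d, (i : ℕ) < k → ∀ x : Λ,
        π i ^ 2 * x ∈ Ideal.span (Set.range fun j : {j : Fin d // (j : ℕ) < (i : ℕ)} => π j ^ e) →
          π i * x ∈ Ideal.span (Set.range fun j : {j : Fin d // (j : ℕ) < (i : ℕ)} => π j ^ e) := by
    intro k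
    induction k with
    | zero =>
      exact fun _ => ⟨fun j => t j * a j,
        fun j => ⟨1, fun h => Ideal.IsPrime.ne_top ‹_› ((Ideal.eq_top_iff_one q).mpr h),
          (one_mul _).symm⟩, fun i hi => absurd hi (Nat.not_lt_zero _)⟩
    | succ k ih =>
      intro hk
      obtain ⟨π, hπ, hcond⟩ := ih (Nat.le_of_succ_le hk)
      let i₀ : Fin d := ⟨k, hk⟩
      set J := Ideal.span (Set.range fun j : {j : Fin d // (j : ℕ) < (i₀ : ℕ)} => π j ^ e) with hJ
      have hspanπ : Ideal.span (Set.range fun j => f (π j)) = IsLocalRing.maximalIdeal R := by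
        rw [← hspan]
        refine le_antisymm (Ideal.span_le.mpr ?_) (Submodule.span_le.mpr ?_)
        · rintro _ ⟨j, rfl⟩
          obtain ⟨c, hc, h⟩ := hπ j
          change f (π j) ∈ Ideal.span gs
          rw [h, map_mul, map_mul, ← has]
          exact Ideal.mul_mem_left _ _ (Ideal.mul_mem_left _ _
            (Ideal.mul_mem_right _ _ (Ideal.subset_span (σ j).2)))
        · intro g hg
          obtain ⟨j, hj⟩ := σ.surjective ⟨g, hg⟩
          obtain ⟨c, hc, h⟩ := hπ j
          have hu : IsUnit (f (c * t j * s j)) :=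
            IsLocalization.map_units R (⟨c * t j * s j, fun hmem => (Ideal.IsPrime.mem_or_mem ‹_› hmem).elim
              (fun h' => (Ideal.IsPrime.mem_or_mem ‹_› h').elim hc (ht j)) (hs j)⟩ : q.primeCompl)
          obtain ⟨u, hu⟩ := hu
          have hmem : f (π j) ∈ Ideal.span (Set.range fun j => f (π j)) :=
            Ideal.subset_span ⟨j, rfl⟩
          have hg' : g = (↑u⁻¹ : R) * f (π j) := by
            rw [← Units.mul_left_inj u, mul_comm (↑u⁻¹ : R), mul_assoc, Units.inv_mul, mul_one, h,
              hu, show g = (σ j : R) from (congrArg Subtype.val hj).symm]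
            simp only [map_mul, ← has]
            ring
          rw [hg']
          exact Ideal.mul_mem_left _ _ hmem
      let K : Ideal Λ := Submodule.comap (LinearMap.mulLeft Λ (π i₀)) J
      have hK : ∀ x ∈ K, ∃ s, s ∉ q ∧ s * x ∈ J := by
        intro x hx
        have hmap : J.map f = Ideal.span
            (Set.range fun j : {j : Fin d // (j : ℕ) < (i₀ : ℕ)} => (f (π j)) ^ e) := by
          rw [hJ, Ideal.map_span, ← Set.range_comp]
          simp [Function.comp_def]
        have h1 : f x ∈ J.map f := by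
          rw [hmap]
          refine S2109.mul_mem_of_reg hd (fun j => f (π j)) hspanπ e he i₀ _ ?_
          rw [← hmap, ← map_mul]
          exact Ideal.mem_map_of_mem _ hx
        obtain ⟨s, hs, h2⟩ :=
          (IsLocalization.algebraMap_mem_map_algebraMap_iff q.primeCompl R J x).mp h1
        exact ⟨s, hs, h2⟩
      obtain ⟨G, hG⟩ := IsNoetherian.noetherian K
      choose sK hsK hsKx using fun x : (G : Set Λ) => hK x (hG ▸ Submodule.subset_span x.2)
      let S : Λ := ∏ x ∈ G.attach, sK ⟨x.1, x.2⟩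
      have hS : S ∉ q := by
        intro hmem
        obtain ⟨x, -, hx⟩ := (Ideal.IsPrime.prod_mem_iff).mp hmem
        exact hsK _ hx
      have hSK : ∀ x ∈ K, S * x ∈ J := by
        have : K ≤ Submodule.comap (LinearMap.mulLeft Λ S) J := by
          rw [← hG, Submodule.span_le]
          intro x hx
          obtain ⟨r, hr⟩ : sK ⟨x, hx⟩ ∣ S :=
            Finset.dvd_prod_of_mem (fun x => sK ⟨x.1, x.2⟩) (Finset.mem_attach G ⟨x, hx⟩)
          change S * x ∈ J
          rw [hr, mul_comm _ r, mul_assoc]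
          exact J.mul_mem_left _ (hsKx ⟨x, hx⟩)
        exact fun x hx => this hx
      obtain ⟨c, hc⟩ := S2109.exists_stable J S
      refine ⟨Function.update π i₀ (S ^ c * π i₀), fun j => ?_, fun i hi x hx => ?_⟩
      · obtain ⟨c', hc', h⟩ := hπ j
        by_cases hj : j = i₀
        · subst hj
          refine ⟨S ^ c * c', fun hmem => (Ideal.IsPrime.mem_or_mem ‹_› hmem).elim
            (fun h' => hS (Ideal.IsPrime.mem_of_pow_mem ‹_› c h')) hc', ?_⟩
          rw [Function.update_self, h, mul_assoc]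
        · exact ⟨c', hc', by rw [Function.update_of_ne hj, h]⟩
      · have hrange : (fun j : {j : Fin d // (j : ℕ) < (i : ℕ)} =>
            Function.update π i₀ (S ^ c * π i₀) j ^ e) = fun j : {j : Fin d // (j : ℕ) < (i : ℕ)} => π j ^ e := by
          funext j
          rw [Function.update_of_ne]
          intro h
          have := j.2
          rw [h] at this
          simp [i₀] at this
          omega
        rw [hrange] at hx ⊢
        by_cases hii : i = i₀
        · subst hii
          rw [Function.update_self] at hx ⊢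
          have h1 : π i₀ * (π i₀ * (S ^ (2 * c) * x)) ∈ J := by
            rw [show π i₀ * (π i₀ * (S ^ (2 * c) * x)) = (S ^ c * π i₀) ^ 2 * x by ring]
            exact hx
          have h2 : π i₀ * (S * (S ^ (2 * c) * x)) ∈ J := by
            rw [show π i₀ * (S * (S ^ (2 * c) * x)) = S * (π i₀ * (S ^ (2 * c) * x)) by ring]
            exact hSK _ h1
          have h3 : S ^ (2 * c + 2) * x ∈ J := by
            rw [show S ^ (2 * c + 2) * x = S * (S * (S ^ (2 * c) * x)) by ring]
            exact hSK _ h2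
          change S ^ c * π i₀ * x ∈ J
          rw [show S ^ c * π i₀ * x = π i₀ * (S ^ c * x) by ring]
          exact J.mul_mem_left _ (hc _ x h3)
        · rw [Function.update_of_ne hii] at hx ⊢
          refine hcond i ?_ x hx
          have : (i : ℕ) ≠ k := fun h => hii (Fin.ext h)
          omega
  obtain ⟨π, hπ, hcond⟩ := main d le_rfl
  refine ⟨π, ?_, fun i => ?_, fun i x => ?_⟩
  · rw [hm, ← hspan]
    refine le_antisymm (Ideal.span_le.mpr ?_) (Submodule.span_le.mpr ?_)
    · rintro _ ⟨j, rfl⟩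
      obtain ⟨c, hc, h⟩ := hπ j
      change f (π j) ∈ Ideal.span gs
      rw [h, map_mul, map_mul, ← has]
      exact Ideal.mul_mem_left _ _ (Ideal.mul_mem_left _ _
        (Ideal.mul_mem_right _ _ (Ideal.subset_span (σ j).2)))
    · intro g hg
      obtain ⟨j, hj⟩ := σ.surjective ⟨g, hg⟩
      obtain ⟨c, hc, h⟩ := hπ j
      have hu : IsUnit (f (c * t j * s j)) :=
        IsLocalization.map_units R (⟨c * t j * s j, fun hmem => (Ideal.IsPrime.mem_or_mem ‹_› hmem).elim
          (fun h' => (Ideal.IsPrime.mem_or_mem ‹_› h').elim hc (ht j)) (hs j)⟩ : q.primeCompl)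
      obtain ⟨u, hu⟩ := hu
      have hmem : f (π j) ∈ Ideal.span (Set.range fun i => f (π i)) :=
        Ideal.subset_span ⟨j, rfl⟩
      have hg' : g = (↑u⁻¹ : R) * f (π j) := by
        rw [← Units.mul_left_inj u, mul_comm (↑u⁻¹ : R), mul_assoc, Units.inv_mul, mul_one, h, hu,
          show g = (σ j : R) from (congrArg Subtype.val hj).symm]
        simp only [map_mul, ← has]
        ring
      rw [hg']
      exact Ideal.mul_mem_left _ _ hmem
  · obtain ⟨c, -, h⟩ := hπ i
    obtain ⟨m, rfl⟩ := Nat.exists_eq_add_one.mpr hn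
    rw [h, show (c * (t i * a i)) ^ (m + 1) = c ^ (m + 1) * t i ^ m * (t i * a i ^ (m + 1)) by ring]
    exact I.mul_mem_left _ (hta i)
  · obtain ⟨x, rfl⟩ := Ideal.Quotient.mk_surjective x
    rw [← map_pow, ← map_mul, ← map_mul, Ideal.Quotient.eq_zero_iff_mem,
      Ideal.Quotient.eq_zero_iff_mem]
    exact hcond i i.2 x

theorem mk_pow_mul_eq_zero {A : Type u} [CommRing A] {a : A} (h : ∀ x : A, a ^ 2 * x = 0 → a * x = 0)
    {M : ℕ} (x : A) (hx : a ^ (M + 1) * x = 0) : a * x = 0 := by
  induction M generalizing x with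
  | zero => simpa using hx
  | succ M ih =>
    refine h x ?_
    rw [sq, mul_assoc]
    exact ih (a * x) (by rw [← mul_assoc, ← pow_succ]; exact hx)

open MvPolynomial in
theorem X_pow_mul_mem {k : Type u} [CommRing k] {σ : Type} (s : Set σ) (e : ℕ) {i : σ} (hi : i ∉ s)
    (a b : ℕ) (x : MvPolynomial σ k)
    (h : X i ^ a * x ∈ Ideal.span ((fun j => (X j : MvPolynomial σ k) ^ e) '' s)) :
    X i ^ b * x ∈ Ideal.span ((fun j => (X j : MvPolynomial σ k) ^ e) '' s) := by
  classical
  have heq : (fun j => (X j : MvPolynomial σ k) ^ e) '' s =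
      (fun t => monomial t (1 : k)) '' ((fun j => Finsupp.single j e) '' s) := by
    rw [Set.image_image]
    exact Set.image_congr fun j _ => (X_pow_eq_monomial)
  rw [heq, mem_ideal_span_monomial_image] at h
  rw [heq]
  refine Ideal.mul_mem_left _ _ (mem_ideal_span_monomial_image.2 fun m hm => ?_)
  obtain ⟨_, ⟨j, hj, rfl⟩, hle⟩ := h (Finsupp.single i a + m) (by
    rw [mem_support_iff, X_pow_eq_monomial, coeff_monomial_mul, one_mul]
    exact mem_support_iff.1 hm)
  refine ⟨_, ⟨j, hj, rfl⟩, ?_⟩
  rw [Finsupp.single_le_iff] at hle ⊢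
  have hij : i ≠ j := fun e => hi (e ▸ hj)
  simpa [Finsupp.single_eq_of_ne' hij] using hle

end Groth.Agent.SmoothingLib.Params
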