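import Groth.Agent.SmoothingLib.DesingStd
import Groth.Agent.SmoothingLib.DimZero

/-!
Resolving modulo eighth powers of strictly standard elements.
-/

namespace Groth.Agent.SmoothingLib.ResolveMod

open TensorProduct Groth.Agent.SmoothingLib.DesingStd

universe u

variable {R : Type u} [CommRing R] {A Λ : Type u} [CommRing A] [Algebra R A] [CommRing Λ] [Algebra R Λ]

theorem singularIdeal_le_of_bijective {R' R'' C : Type u} [CommRing R'] [CommRing R''] [Algebra R' R'']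
    (hb : Function.Bijective (algebraMap R' R'')) [CommRing C] [Algebra R' C] [Algebra R'' C]
    [IsScalarTower R' R'' C] : Smoothing.singularIdeal R'' C ≤ Smoothing.singularIdeal R' C := fun c hc =>
  mem_singularIdeal fun Q _ hQ => by
    haveI : Algebra.FormallySmooth R'' (Localization.AtPrime Q) := isSmoothAt_of_notMem hc Q hQ
    haveI : Algebra.FormallySmooth R' R'' :=
      Algebra.FormallySmooth.of_equiv (AlgEquiv.ofBijective (Algebra.ofId R' R'') hb)
    exact Algebra.FormallySmooth.comp R' R'' _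

/-- the smooth locus is stable under reduction modulo `K` -/
theorem mk_mem_singularIdeal [Algebra.FinitePresentation R A] (K : Ideal R) (hK : K.FG) {a : A}
    (ha : a ∈ Smoothing.singularIdeal R A) :
    Ideal.Quotient.mk (K.map (algebraMap R A)) a ∈
      Smoothing.singularIdeal (R ⧸ K) (A ⧸ K.map (algebraMap R A)) := by
  classical
  haveI : Algebra.FinitePresentation R (A ⧸ K.map (algebraMap R A)) :=
    Algebra.FinitePresentation.quotient (hK.map _)
  haveI : Algebra.FiniteType R (R ⧸ K) := inferInstance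
  haveI : Algebra.FinitePresentation (R ⧸ K) (A ⧸ K.map (algebraMap R A)) :=
    Algebra.FinitePresentation.of_restrict_scalars_finitePresentation R _ _
  haveI := DimZero.smooth_away_of_mem ha
  haveI : Algebra.Smooth (R ⧸ K) (Localization.Away (Ideal.Quotient.mk (K.map (algebraMap R A)) a)) := by
    refine ⟨DimZero.formallySmooth_lifting (Ideal.Quotient.mk (K.map (algebraMap R A)) a)
      fun Q _ _ J hJ hh hu => ?_, ?_⟩
    swap
    · haveI : Algebra.FinitePresentation (A ⧸ K.map (algebraMap R A))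
          (Localization.Away (Ideal.Quotient.mk (K.map (algebraMap R A)) a)) :=
        IsLocalization.Away.finitePresentation (Ideal.Quotient.mk (K.map (algebraMap R A)) a)
      exact Algebra.FinitePresentation.trans (R ⧸ K) (A ⧸ K.map (algebraMap R A)) _
    letI : Algebra R Q := ((algebraMap (R ⧸ K) Q).comp (Ideal.Quotient.mk K)).toAlgebra
    haveI : IsScalarTower R (R ⧸ K) Q := IsScalarTower.of_algebraMap_eq' rfl
    let hA : A →ₐ[R] Q ⧸ J := (hh.restrictScalars R).comp (Ideal.Quotient.mkₐ R _)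
    have hua : IsUnit (hA a) := hu
    have hM : ∀ y : Submonoid.powers a, IsUnit (hA y) := by
      rintro ⟨_, l, rfl⟩
      rw [map_pow]; exact hua.pow l
    obtain ⟨k₁, hk₁⟩ := Algebra.FormallySmooth.comp_surjective R (Localization.Away a) J hJ
      (IsLocalization.liftAlgHom (M := Submonoid.powers a) (f := hA) hM)
    let kA : A →ₐ[R] Q := k₁.comp (IsScalarTower.toAlgHom R A _)
    have hkA : ∀ x, Ideal.Quotient.mk J (kA x) = hA x := fun x =>
      (DFunLike.congr_fun hk₁ (algebraMap A _ x)).trans (IsLocalization.lift_eq _ _)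
    have hkK : ∀ x ∈ K.map (algebraMap R A), kA x = 0 := by
      have hle : K.map (algebraMap R A) ≤ RingHom.ker kA.toRingHom := by
        refine Ideal.map_le_iff_le_comap.2 fun r hr => ?_
        show kA (algebraMap R A r) = 0
        rw [AlgHom.commutes, IsScalarTower.algebraMap_apply R (R ⧸ K) Q,
          Ideal.Quotient.algebraMap_eq, Ideal.Quotient.eq_zero_iff_mem.2 hr, map_zero]
      exact fun x hx => hle hx
    let k₀ : (A ⧸ K.map (algebraMap R A)) →ₐ[R] Q := Ideal.Quotient.liftₐ _ kA hkK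
    refine ⟨{ k₀.toRingHom with
      commutes' := fun r => by
        obtain ⟨r, rfl⟩ := Ideal.Quotient.mk_surjective r
        exact k₀.commutes r }, AlgHom.ext fun x => ?_⟩
    obtain ⟨x, rfl⟩ := Ideal.Quotient.mk_surjective x
    exact hkA x
  exact DimZero.mem_singularIdeal_of_smooth _

/-- the problem modulo `K`, relative to the original one -/
def ResMod (φ : A →ₐ[R] Λ) (q : Ideal Λ) (K : Ideal R) : Prop :=
  ∃ (C : Type u) (_ : CommRing C) (_ : Algebra R C) (_ : Algebra (R ⧸ K) C)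
    (_ : IsScalarTower R (R ⧸ K) C), Algebra.FinitePresentation (R ⧸ K) C ∧
    ∃ (γ : A →ₐ[R] C) (g : C →ₐ[R] Λ ⧸ K.map (algebraMap R Λ)),
      (∀ a, g (γ a) = Ideal.Quotient.mk (K.map (algebraMap R Λ)) (φ a)) ∧
      (∀ a ∈ Smoothing.singularIdeal R A, Ideal.Quotient.mk (K.map (algebraMap R Λ)) (φ a) ∈
        ((Smoothing.singularIdeal (R ⧸ K) C).map g).radical) ∧
      ¬ (Smoothing.singularIdeal (R ⧸ K) C).map g ≤ q.map (Ideal.Quotient.mk (K.map (algebraMap R Λ)))

theorem resolvable_of_resMod_bot [IsNoetherianRing R] (φ : A →ₐ[R] Λ) (q : Ideal Λ) [q.IsPrime]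
    {K : Ideal R} (hK : K = ⊥) (h : ResMod φ q K) : Smoothing.Resolvable R φ q := by
  subst hK
  obtain ⟨C, _, _, _, _, hC, γ, g, hgγ, hsing, hnle⟩ := h
  haveI := hC
  haveI : Algebra.FinitePresentation R (R ⧸ (⊥ : Ideal R)) :=
    Algebra.FinitePresentation.quotient (IsNoetherian.noetherian _)
  haveI : Algebra.FinitePresentation R C := Algebra.FinitePresentation.trans R (R ⧸ (⊥ : Ideal R)) C
  have hKΛ : (⊥ : Ideal R).map (algebraMap R Λ) = ⊥ := Ideal.map_bot
  have hb : Function.Bijective (Ideal.Quotient.mkₐ R ((⊥ : Ideal R).map (algebraMap R Λ))) :=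
    ⟨fun x y hxy => by
      have h1 : x - y ∈ (⊥ : Ideal R).map (algebraMap R Λ) := Ideal.Quotient.eq.1 hxy
      rw [hKΛ, Submodule.mem_bot, sub_eq_zero] at h1
      exact h1, Ideal.Quotient.mk_surjective⟩
  let e := AlgEquiv.ofBijective _ hb
  have he : ∀ x, e x = Ideal.Quotient.mk _ x := fun x => rfl
  let h' : C →ₐ[R] Λ := e.symm.toAlgHom.comp g
  have hle : Smoothing.singularIdeal (R ⧸ (⊥ : Ideal R)) C ≤ Smoothing.singularIdeal R C :=
    singularIdeal_le_of_bijective ⟨fun x y hxy => by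
      have h1 : x - y ∈ (⊥ : Ideal R) := Ideal.Quotient.eq.1 hxy
      rwa [Submodule.mem_bot, sub_eq_zero] at h1, Ideal.Quotient.mk_surjective⟩
  have hmap : ∀ x ∈ (Smoothing.singularIdeal (R ⧸ (⊥ : Ideal R)) C).map g,
      e.symm x ∈ (Smoothing.singularIdeal R C).map h' := by
    have h1 : (Smoothing.singularIdeal (R ⧸ (⊥ : Ideal R)) C).map g ≤
        ((Smoothing.singularIdeal R C).map h').comap e.symm :=
      Ideal.map_le_iff_le_comap.2 fun c hc => Ideal.mem_map_of_mem h' (hle hc)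
    exact fun x hx => h1 hx
  refine ⟨C, inferInstance, inferInstance, inferInstance, γ, h', ?_, ?_, ?_⟩
  · refine AlgHom.ext fun a => ?_
    show e.symm (g (γ a)) = φ a
    rw [hgγ, ← he, AlgEquiv.symm_apply_apply]
  · refine Ideal.radical_le_radical_iff.2 (Ideal.map_le_iff_le_comap.2 fun a ha => ?_)
    obtain ⟨N, hN⟩ := hsing a ha
    refine ⟨N, ?_⟩
    have h1 := hmap _ hN
    rwa [← he, ← map_pow, AlgEquiv.symm_apply_apply] at h1
  · intro hall
    refine hnle fun x hx => ?_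
    have h1 : e.symm x ∈ q := hall (Ideal.le_radical (hmap x hx))
    have h2 := Ideal.mem_map_of_mem (Ideal.Quotient.mk ((⊥ : Ideal R).map (algebraMap R Λ))) h1
    rwa [← he, AlgEquiv.apply_symm_apply] at h2

set_option maxHeartbeats 800000 in
theorem resMod_step [IsNoetherianRing R] [Algebra.FinitePresentation R A] (φ : A →ₐ[R] Λ) (q : Ideal Λ)
    [q.IsPrime]
    (π : R) (K K' : Ideal R) (hK' : K' = K ⊔ Ideal.span {π ^ 8})
    (hK'q : K'.map (algebraMap R Λ) ≤ q)
    (hR : ∀ r : R, π ^ 2 * r ∈ K → π * r ∈ K)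
    (hΛ : ∀ x : Λ, algebraMap R Λ π ^ 2 * x ∈ K.map (algebraMap R Λ) →
      algebraMap R Λ π * x ∈ K.map (algebraMap R Λ))
    (hstd : Smoothing.IsStrictlyStandard R A (algebraMap R A π)) (h : ResMod φ q K') :
    ResMod φ q K := by
  classical
  obtain ⟨C, _, _, _, _, hC, γ, g, hgγ, hsing, hnle⟩ := h
  haveI := hC
  haveI : IsNoetherianRing (R ⧸ K) := inferInstance
  let π₁ : R ⧸ K := Ideal.Quotient.mk K π
  have hR₁ : ∀ r : R ⧸ K, π₁ ^ 2 * r = 0 → π₁ * r = 0 := fun r hr => by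
    obtain ⟨r, rfl⟩ := Ideal.Quotient.mk_surjective r
    rw [← map_pow, ← map_mul, Ideal.Quotient.eq_zero_iff_mem] at hr
    rw [← map_mul, Ideal.Quotient.eq_zero_iff_mem]
    exact hR r hr
  have hπ₁Λ : algebraMap (R ⧸ K) (Λ ⧸ K.map (algebraMap R Λ)) π₁ =
      Ideal.Quotient.mk (K.map (algebraMap R Λ)) (algebraMap R Λ π) := rfl
  have hΛ₁ : ∀ x : Λ ⧸ K.map (algebraMap R Λ), π₁ ^ 2 • x = 0 → π₁ • x = 0 := fun x hx => by
    obtain ⟨x, rfl⟩ := Ideal.Quotient.mk_surjective x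
    rw [Algebra.smul_def, map_pow, hπ₁Λ, ← map_pow, ← map_mul, Ideal.Quotient.eq_zero_iff_mem] at hx
    rw [Algebra.smul_def, hπ₁Λ, ← map_mul, Ideal.Quotient.eq_zero_iff_mem]
    exact hΛ x hx
  -- the algebra of the smaller problem
  let φ₁ : (R ⧸ K) ⊗[R] A →ₐ[R ⧸ K] Λ ⧸ K.map (algebraMap R Λ) :=
    Algebra.TensorProduct.lift (Algebra.ofId (R ⧸ K) _)
      ((Ideal.Quotient.mkₐ R (K.map (algebraMap R Λ))).comp φ) fun _ _ => Commute.all _ _
  have hstd₁ : Smoothing.IsStrictlyStandard (R ⧸ K) ((R ⧸ K) ⊗[R] A)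
      (algebraMap (R ⧸ K) ((R ⧸ K) ⊗[R] A) π₁) := by
    have h1 := isStrictlyStandard_baseChange (R ⧸ K) hstd
    rw [show algebraMap (R ⧸ K) ((R ⧸ K) ⊗[R] A) π₁ = (1 : R ⧸ K) ⊗ₜ[R] algebraMap R A π from by
      show algebraMap (R ⧸ K) ((R ⧸ K) ⊗[R] A) (algebraMap R (R ⧸ K) π) = _
      rw [← IsScalarTower.algebraMap_apply]
      exact ((Algebra.TensorProduct.includeRight : A →ₐ[R] (R ⧸ K) ⊗[R] A).commutes π).symm]
    exact h1
  -- `C` over `(R/K)/π⁸`
  have hKK' : K ≤ K' := hK' ▸ le_sup_left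
  have hπK' : π ^ 8 ∈ K' := hK' ▸ Ideal.mem_sup_right (Ideal.mem_span_singleton_self _)
  have hf0 : ∀ x ∈ Ideal.span {π₁ ^ 8}, Ideal.Quotient.factor hKK' x = 0 := fun x hx => by
    obtain ⟨y, rfl⟩ := Ideal.mem_span_singleton.1 hx
    obtain ⟨y, rfl⟩ := Ideal.Quotient.mk_surjective y
    rw [← map_pow, ← map_mul, Ideal.Quotient.factor_mk, Ideal.Quotient.eq_zero_iff_mem]
    exact Ideal.mul_mem_right _ _ hπK'
  let f : (R ⧸ K) ⧸ Ideal.span {π₁ ^ 8} →+* R ⧸ K' := Ideal.Quotient.lift _ (Ideal.Quotient.factor hKK') hf0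
  letI : Algebra ((R ⧸ K) ⧸ Ideal.span {π₁ ^ 8}) (R ⧸ K') := f.toAlgebra
  have hfb : Function.Bijective (algebraMap ((R ⧸ K) ⧸ Ideal.span {π₁ ^ 8}) (R ⧸ K')) := by
    refine ⟨(injective_iff_map_eq_zero _).2 fun x hx => ?_, fun y => ?_⟩
    · obtain ⟨x, rfl⟩ := Ideal.Quotient.mk_surjective x
      obtain ⟨x, rfl⟩ := Ideal.Quotient.mk_surjective x
      have h1 : x ∈ K' := Ideal.Quotient.eq_zero_iff_mem.1 hx
      rw [hK'] at h1
      obtain ⟨k, hk, p, hp, rfl⟩ := Submodule.mem_sup.1 h1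
      obtain ⟨y, rfl⟩ := Ideal.mem_span_singleton.1 hp
      refine Ideal.Quotient.eq_zero_iff_mem.2 ?_
      rw [map_add, Ideal.Quotient.eq_zero_iff_mem.2 hk, zero_add, map_mul, map_pow]
      exact Ideal.mul_mem_right _ _ (Ideal.mem_span_singleton_self _)
    · obtain ⟨y, rfl⟩ := Ideal.Quotient.mk_surjective y
      exact ⟨Ideal.Quotient.mk _ (Ideal.Quotient.mk _ y), rfl⟩
  letI : Algebra ((R ⧸ K) ⧸ Ideal.span {π₁ ^ 8}) C := ((algebraMap (R ⧸ K') C).comp f).toAlgebra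
  haveI : IsScalarTower ((R ⧸ K) ⧸ Ideal.span {π₁ ^ 8}) (R ⧸ K') C := IsScalarTower.of_algebraMap_eq' rfl
  letI : Algebra (R ⧸ K) C := ((algebraMap (R ⧸ K') C).comp (Ideal.Quotient.factor hKK')).toAlgebra
  haveI : IsScalarTower (R ⧸ K) ((R ⧸ K) ⧸ Ideal.span {π₁ ^ 8}) C :=
    IsScalarTower.of_algebraMap_eq (R := R ⧸ K) (S := (R ⧸ K) ⧸ Ideal.span {π₁ ^ 8}) (A := C) fun _ => rfl
  haveI : IsScalarTower R (R ⧸ K) C := IsScalarTower.of_algebraMap_eq fun r =>
    IsScalarTower.algebraMap_apply R (R ⧸ K') C r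
  haveI : Algebra.FinitePresentation ((R ⧸ K) ⧸ Ideal.span {π₁ ^ 8}) (R ⧸ K') :=
    Algebra.FinitePresentation.equiv
      (AlgEquiv.ofBijective (Algebra.ofId ((R ⧸ K) ⧸ Ideal.span {π₁ ^ 8}) (R ⧸ K')) hfb)
  haveI : Algebra.FinitePresentation ((R ⧸ K) ⧸ Ideal.span {π₁ ^ 8}) C :=
    Algebra.FinitePresentation.trans _ (R ⧸ K') C
  -- maps
  let γ₁ : (R ⧸ K) ⊗[R] A →ₐ[R ⧸ K] C :=
    Algebra.TensorProduct.lift (Algebra.ofId (R ⧸ K) C) γ fun _ _ => Commute.all _ _
  let J₂ : Ideal (Λ ⧸ K.map (algebraMap R Λ)) :=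
    Ideal.span {algebraMap (R ⧸ K) (Λ ⧸ K.map (algebraMap R Λ)) (π₁ ^ 8)}
  let Φ₀ : Λ →ₐ[R] (Λ ⧸ K.map (algebraMap R Λ)) ⧸ J₂ :=
    (Ideal.Quotient.mkₐ R J₂).comp (Ideal.Quotient.mkₐ R (K.map (algebraMap R Λ)))
  have hΦ0 : ∀ x ∈ K'.map (algebraMap R Λ), Φ₀ x = 0 := by
    have hle : K'.map (algebraMap R Λ) ≤ RingHom.ker Φ₀.toRingHom := by
      rw [hK', Ideal.map_sup]
      refine sup_le (fun x hx => ?_) (Ideal.map_le_iff_le_comap.2 ?_)
      · show Ideal.Quotient.mk J₂ (Ideal.Quotient.mk _ x) = 0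
        rw [Ideal.Quotient.eq_zero_iff_mem.2 hx, map_zero]
      · rw [Ideal.span_le, Set.singleton_subset_iff]
        exact Ideal.Quotient.eq_zero_iff_mem.2 (Ideal.mem_span_singleton_self _)
    exact fun x hx => hle hx
  let Φ : (Λ ⧸ K'.map (algebraMap R Λ)) →ₐ[R] (Λ ⧸ K.map (algebraMap R Λ)) ⧸ J₂ :=
    Ideal.Quotient.liftₐ _ Φ₀ hΦ0
  let g₁ : C →ₐ[R ⧸ K] (Λ ⧸ K.map (algebraMap R Λ)) ⧸ J₂ :=
    { (Φ.comp g).toRingHom with
      commutes' := fun r => by
        obtain ⟨r, rfl⟩ := Ideal.Quotient.mk_surjective r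
        show Φ (g (algebraMap (R ⧸ K) C (algebraMap R (R ⧸ K) r))) = _
        rw [← IsScalarTower.algebraMap_apply, AlgHom.commutes, AlgHom.commutes]
        rfl }
  have hfac : ∀ a, g₁ (γ₁ a) = Ideal.Quotient.mk J₂ (φ₁ a) := fun a => by
    induction a using TensorProduct.induction_on with
    | zero => simp
    | add x y hx hy => rw [map_add, map_add, map_add, map_add, hx, hy]
    | tmul r a =>
      show g₁ (algebraMap (R ⧸ K) C r * γ a) = Ideal.Quotient.mk J₂
        (algebraMap (R ⧸ K) _ r * Ideal.Quotient.mk _ (φ a))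
      rw [map_mul, map_mul, AlgHom.commutes,
        show g₁ (γ a) = Φ (g (γ a)) from rfl, hgγ]
      rfl
  obtain ⟨B, _, _, hB, α, β, hαφ, hBπ, hbound⟩ :=
    desingularize_lifting π₁ hR₁ hΛ₁ φ₁ hstd₁ γ₁ g₁ hfac
  letI : Algebra R B := ((algebraMap (R ⧸ K) B).comp (Ideal.Quotient.mk K)).toAlgebra
  haveI : IsScalarTower R (R ⧸ K) B := IsScalarTower.of_algebraMap_eq' rfl
  have hrad : ∀ y ∈ (Smoothing.singularIdeal (R ⧸ K') C).map g,
      Φ y ∈ (((Smoothing.singularIdeal (R ⧸ K) B).map β).radical).map (Ideal.Quotient.mk J₂) := by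
    have h1 : (Smoothing.singularIdeal (R ⧸ K') C).map g ≤
        ((((Smoothing.singularIdeal (R ⧸ K) B).map β).radical).map (Ideal.Quotient.mk J₂)).comap Φ :=
      Ideal.map_le_iff_le_comap.2 fun c hc =>
        hbound (Ideal.mem_map_of_mem g₁ (singularIdeal_le_of_bijective hfb hc))
    exact fun y hy => h1 hy
  refine ⟨B, inferInstance, inferInstance, inferInstance, inferInstance, hB,
    (α.restrictScalars R).comp Algebra.TensorProduct.includeRight, β.restrictScalars R, ?_, ?_, ?_⟩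
  · intro a
    show β (α ((1 : R ⧸ K) ⊗ₜ[R] a)) = _
    rw [← AlgHom.comp_apply, hαφ]
    show algebraMap (R ⧸ K) (Λ ⧸ K.map (algebraMap R Λ)) 1 * Ideal.Quotient.mk (K.map (algebraMap R Λ)) (φ a) = _
    rw [map_one, one_mul]
  · intro a ha
    obtain ⟨N, hN⟩ := hsing a ha
    have h1 := hrad _ hN
    rw [← map_pow, ← map_pow] at h1
    obtain ⟨j, hj, hjeq⟩ := (Ideal.mem_map_iff_of_surjective _ Ideal.Quotient.mk_surjective).1 h1
    have h2 : Ideal.Quotient.mk (K.map (algebraMap R Λ)) (φ a ^ N) - j ∈ J₂ := by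
      rw [map_pow φ] at hjeq
      exact Ideal.Quotient.eq.1 hjeq.symm
    have hJ : J₂ ≤ ((Smoothing.singularIdeal (R ⧸ K) B).map β).radical := by
      rw [Ideal.span_le, Set.singleton_subset_iff, SetLike.mem_coe, map_pow]
      refine Ideal.pow_mem_of_mem _ ?_ 8 (by norm_num)
      rw [← β.commutes]
      exact Ideal.le_radical (Ideal.mem_map_of_mem β (mem_singularIdeal hBπ))
    refine (Ideal.radical_isRadical _) ⟨N, ?_⟩
    rw [← map_pow]
    have h3 := Ideal.add_mem _ (hJ h2) hj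
    rwa [sub_add_cancel] at h3
  · intro hall
    refine hnle fun y hy => ?_
    obtain ⟨l, rfl⟩ := Ideal.Quotient.mk_surjective y
    obtain ⟨j, hj, hjeq⟩ :=
      (Ideal.mem_map_iff_of_surjective _ Ideal.Quotient.mk_surjective).1 (hrad _ hy)
    haveI hqp : (q.map (Ideal.Quotient.mk (K.map (algebraMap R Λ)))).IsPrime :=
      Ideal.map_isPrime_of_surjective Ideal.Quotient.mk_surjective (by
        rw [Ideal.mk_ker]; exact (Ideal.map_mono hKK').trans hK'q)
    have hjq : j ∈ q.map (Ideal.Quotient.mk (K.map (algebraMap R Λ))) :=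
      (Ideal.IsPrime.radical hqp).le (Ideal.radical_mono hall hj)
    obtain ⟨x₀, hx₀⟩ := Ideal.Quotient.mk_surjective j
    have hxq : x₀ ∈ q := by
      rw [← hx₀, ← Ideal.mem_comap, Ideal.comap_map_of_surjective _ Ideal.Quotient.mk_surjective,
        ← RingHom.ker_eq_comap_bot, Ideal.mk_ker,
        sup_eq_left.2 ((Ideal.map_mono hKK').trans hK'q)] at hjq
      exact hjq
    have h2 : l - x₀ ∈ K'.map (algebraMap R Λ) := by
      have h3 : Ideal.Quotient.mk (K.map (algebraMap R Λ)) l - j ∈ J₂ := Ideal.Quotient.eq.1 hjeq.symm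
      obtain ⟨e, he⟩ := Ideal.mem_span_singleton.1 h3
      obtain ⟨e, rfl⟩ := Ideal.Quotient.mk_surjective e
      have h4 : l - x₀ - algebraMap R Λ (π ^ 8) * e ∈ K.map (algebraMap R Λ) := by
        rw [← Ideal.Quotient.eq_zero_iff_mem, map_sub, map_sub, map_mul, hx₀, he, sub_eq_zero, map_pow,
          map_pow, map_pow, hπ₁Λ]
      rw [hK', Ideal.map_sup]
      rw [show l - x₀ = (l - x₀ - algebraMap R Λ (π ^ 8) * e) + algebraMap R Λ (π ^ 8) * e by ring]
      exact Submodule.add_mem_sup h4 (Ideal.mul_mem_right _ _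
        (Ideal.mem_map_of_mem _ (Ideal.mem_span_singleton_self _)))
    rw [Ideal.Quotient.eq.2 h2]
    exact Ideal.mem_map_of_mem _ hxq

theorem resolvable_of_resolvable_mod [IsNoetherianRing R] [Algebra.FinitePresentation R A]
    (φ : A →ₐ[R] Λ) (q : Ideal Λ) [q.IsPrime] {r : ℕ} (π : Fin r → R)
    (hR : ∀ i : Fin r, ∀ x : R ⧸ Ideal.span (Set.range fun j : {j : Fin r // (j : ℕ) < (i : ℕ)} => π j ^ 8),
      Ideal.Quotient.mk _ (π i) ^ 2 * x = 0 → Ideal.Quotient.mk _ (π i) * x = 0)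
    (hΛ : ∀ i : Fin r, ∀ x : Λ ⧸ Ideal.span (Set.range fun j : {j : Fin r // (j : ℕ) < (i : ℕ)} =>
        algebraMap R Λ (π j) ^ 8),
      Ideal.Quotient.mk _ (algebraMap R Λ (π i)) ^ 2 * x = 0 → Ideal.Quotient.mk _ (algebraMap R Λ (π i)) * x = 0)
    (hstd : ∀ i, Smoothing.IsStrictlyStandard R A (algebraMap R A (π i)))
    (K : Ideal R) (hK : K = Ideal.span (Set.range fun i => π i ^ 8))
    (φK : (A ⧸ K.map (algebraMap R A)) →ₐ[R ⧸ K] (Λ ⧸ K.map (algebraMap R Λ)))
    (hφK : ∀ a : A, φK (Ideal.Quotient.mk _ a) = Ideal.Quotient.mk _ (φ a))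
    (hπq : ∀ i, algebraMap R Λ (π i) ∈ q)
    (hres : Smoothing.Resolvable (R ⧸ K) φK (q.map (Ideal.Quotient.mk (K.map (algebraMap R Λ))))) :
    Smoothing.Resolvable R φ q := by
  classical
  let Ki : ℕ → Ideal R := fun i => Ideal.span (Set.range fun j : {j : Fin r // (j : ℕ) < i} => π j ^ 8)
  have hKΛ : ∀ i, (Ki i).map (algebraMap R Λ) =
      Ideal.span (Set.range fun j : {j : Fin r // (j : ℕ) < i} => algebraMap R Λ (π j) ^ 8) := fun i => by
    simp only [Ki, Ideal.map_span, ← Set.range_comp, Function.comp_def, map_pow]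
  have hKq : K.map (algebraMap R Λ) ≤ q := by
    rw [hK, Ideal.map_le_iff_le_comap, Ideal.span_le]
    rintro _ ⟨j, rfl⟩
    show algebraMap R Λ (π j ^ 8) ∈ q
    rw [map_pow]
    exact Ideal.pow_mem_of_mem _ (hπq j) 8 (by norm_num)
  have hKiq : ∀ i, (Ki i).map (algebraMap R Λ) ≤ q := fun i => by
    refine (Ideal.map_mono (Ideal.span_mono ?_)).trans (hK ▸ hKq)
    rintro _ ⟨⟨j, hj⟩, rfl⟩
    exact ⟨j, rfl⟩
  have htop : ResMod φ q K := by
    obtain ⟨C, _, _, hC, g, h, hgh, hle, hnle⟩ := hres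
    letI : Algebra R C := ((algebraMap (R ⧸ K) C).comp (Ideal.Quotient.mk K)).toAlgebra
    haveI : IsScalarTower R (R ⧸ K) C := IsScalarTower.of_algebraMap_eq' rfl
    refine ⟨C, inferInstance, inferInstance, inferInstance, inferInstance, hC,
      (g.restrictScalars R).comp (Ideal.Quotient.mkₐ R _), h.restrictScalars R, fun a => ?_,
      fun a ha => ?_, fun hall => hnle ?_⟩
    · show h (g (Ideal.Quotient.mk _ a)) = _
      rw [← AlgHom.comp_apply, hgh, hφK]
    · rw [← hφK]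
      exact hle (Ideal.le_radical (Ideal.mem_map_of_mem φK
        (mk_mem_singularIdeal K (IsNoetherian.noetherian K) ha)))
    · haveI hqp : (q.map (Ideal.Quotient.mk (K.map (algebraMap R Λ)))).IsPrime :=
        Ideal.map_isPrime_of_surjective Ideal.Quotient.mk_surjective (by rw [Ideal.mk_ker]; exact hKq)
      exact (Ideal.radical_mono hall).trans (Ideal.IsPrime.radical hqp).le
  have key : ∀ i, i ≤ r → ResMod φ q (Ki i) → ResMod φ q (Ki 0) := by
    intro i
    induction i with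
    | zero => exact fun _ h => h
    | succ i ih =>
      intro hi h
      refine ih (Nat.le_of_succ_le hi) (resMod_step φ q (π ⟨i, hi⟩) (Ki i) (Ki (i + 1)) ?_ (hKiq _) ?_ ?_ (hstd _) h)
      · apply le_antisymm
        · refine Ideal.span_le.2 ?_
          rintro _ ⟨⟨j, hj⟩, rfl⟩
          rcases Nat.lt_succ_iff_lt_or_eq.1 hj with hj | hj
          · exact Ideal.mem_sup_left (Ideal.subset_span ⟨⟨j, hj⟩, rfl⟩)
          · have e : j = ⟨i, hi⟩ := Fin.ext hj
            subst e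
            exact Ideal.mem_sup_right (Ideal.mem_span_singleton_self _)
        · refine sup_le (Ideal.span_mono ?_) (Ideal.span_le.2 (Set.singleton_subset_iff.2
            (Ideal.subset_span ⟨⟨⟨i, hi⟩, Nat.lt_succ_self i⟩, rfl⟩)))
          rintro _ ⟨⟨j, hj⟩, rfl⟩
          exact ⟨⟨j, Nat.lt_succ_of_lt hj⟩, rfl⟩
      · intro x hx
        have h1 := hR ⟨i, hi⟩ (Ideal.Quotient.mk (Ki i) x) (by
          rw [← map_pow, ← map_mul]; exact Ideal.Quotient.eq_zero_iff_mem.2 hx)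
        rw [← map_mul] at h1
        exact Ideal.Quotient.eq_zero_iff_mem.1 h1
      · intro x hx
        rw [hKΛ] at hx ⊢
        have h1 := hΛ ⟨i, hi⟩ (Ideal.Quotient.mk _ x) (by
          rw [← map_pow, ← map_mul]; exact Ideal.Quotient.eq_zero_iff_mem.2 hx)
        rw [← map_mul] at h1
        exact Ideal.Quotient.eq_zero_iff_mem.1 h1
  refine resolvable_of_resMod_bot φ q ?_ (key r le_rfl ?_)
  · exact Ideal.span_eq_bot.2 (by rintro _ ⟨⟨j, hj⟩, rfl⟩; exact absurd hj (Nat.not_lt_zero _))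
  · have e : Ki r = K := by
      rw [hK]
      exact le_antisymm (Ideal.span_mono (by rintro _ ⟨⟨j, hj⟩, rfl⟩; exact ⟨j, rfl⟩))
        (Ideal.span_mono (by rintro _ ⟨j, rfl⟩; exact ⟨⟨j, j.2⟩, rfl⟩))
    rw [e]
    exact htop

end Groth.Agent.SmoothingLib.ResolveMod
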