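import Groth.Agent.SmoothingLib.SymSmooth
import Groth.Agent.SmoothingLib.Params
import Groth.Agent.SmoothingLib.ResolveMod
import Groth.Agent.SmoothingLib.DvrIndSmooth
import Groth.Agent.EGA4Lib.MiracleModule
import Mathlib.RingTheory.Localization.Ideal
import Mathlib.RingTheory.Flat.Localization

/-!
Resolving at a prime where the target is regular with separable residue field.
-/

namespace Groth.Agent.SmoothingLib.RegularResolve

open MvPolynomial TensorProduct Groth.Agent.SmoothingLib.DesingStd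

universe u

variable {k : Type u} [Field k]

theorem singularIdeal_le {R B : Type u} [CommRing R] [Algebra k R] [Algebra.FormallySmooth k R]
    [CommRing B] [Algebra k B] [Algebra R B] [IsScalarTower k R B] :
    Smoothing.singularIdeal R B ≤ Smoothing.singularIdeal k B := fun b hb =>
  mem_singularIdeal fun Q _ hQ => by
    haveI : Algebra.FormallySmooth R (Localization.AtPrime Q) := isSmoothAt_of_notMem hb Q hQ
    exact Algebra.FormallySmooth.comp k R _

section Model

variable {A : Type u} [CommRing A] [Algebra k A] {d r : ℕ} (a : Fin r → A) (n : ℕ)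

/-- `xᵢⁿ - ∑ₗ aₗ zᵢₗ` -/
noncomputable def rel (i : Fin d) : MvPolynomial (Fin d ⊕ (Fin d × Fin r)) A :=
  X (Sum.inl i) ^ n - ∑ l, C (a l) * X (Sum.inr (i, l))

/-- the ideal of the model -/
noncomputable def modelI : Ideal (MvPolynomial (Fin d ⊕ (Fin d × Fin r)) A) :=
  Ideal.span (Set.range (rel (d := d) a n))

/-- the model algebra -/
abbrev Model (d : ℕ) : Type u := MvPolynomial (Fin d ⊕ (Fin d × Fin r)) A ⧸ modelI (d := d) a n

/-- the structure map from the polynomial ring -/
noncomputable def xs : MvPolynomial (Fin d) k →ₐ[k] Model a n d :=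
  aeval fun i => Ideal.Quotient.mk (modelI a n) (X (Sum.inl i))

set_option maxHeartbeats 800000 in
theorem mem_singularIdeal_model [Algebra.FinitePresentation k A]
    [Algebra (MvPolynomial (Fin d) k) (Model a n d)] [IsScalarTower k (MvPolynomial (Fin d) k) (Model a n d)]
    (hxs : ∀ p, algebraMap (MvPolynomial (Fin d) k) (Model a n d) p = xs a n p)
    [Algebra.FinitePresentation (MvPolynomial (Fin d) k) (Model a n d)]
    (l : Fin r) (ha : a l ∈ Smoothing.singularIdeal k A) :
    Ideal.Quotient.mk (modelI a n) (C (a l)) ∈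
      Smoothing.singularIdeal (MvPolynomial (Fin d) k) (Model a n d) := by
  classical
  haveI := DimZero.smooth_away_of_mem ha
  haveI : Algebra.Smooth (MvPolynomial (Fin d) k)
      (Localization.Away (Ideal.Quotient.mk (modelI (d := d) a n) (C (a l)))) := by
    refine ⟨DimZero.formallySmooth_lifting (Ideal.Quotient.mk (modelI (d := d) a n) (C (a l)))
      fun Q _ _ J hJ hh hu => ?_, ?_⟩
    swap
    · haveI : Algebra.FinitePresentation (Model a n d)
          (Localization.Away (Ideal.Quotient.mk (modelI (d := d) a n) (C (a l)))) :=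
        IsLocalization.Away.finitePresentation (Ideal.Quotient.mk (modelI (d := d) a n) (C (a l)))
      exact Algebra.FinitePresentation.trans (MvPolynomial (Fin d) k) (Model a n d) _
    letI : Algebra k Q := ((algebraMap (MvPolynomial (Fin d) k) Q).comp (algebraMap k _)).toAlgebra
    haveI : IsScalarTower k (MvPolynomial (Fin d) k) Q := IsScalarTower.of_algebraMap_eq' rfl
    let hA : A →ₐ[k] Q ⧸ J := (hh.restrictScalars k).comp (IsScalarTower.toAlgHom k A (Model a n d))
    have hua : IsUnit (hA (a l)) := hu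
    have hM : ∀ y : Submonoid.powers (a l), IsUnit (hA y) := by
      rintro ⟨_, e, rfl⟩
      rw [map_pow]; exact hua.pow e
    obtain ⟨k₁, hk₁⟩ := Algebra.FormallySmooth.comp_surjective k (Localization.Away (a l)) J hJ
      (IsLocalization.liftAlgHom (M := Submonoid.powers (a l)) (f := hA) hM)
    let kA : A →ₐ[k] Q := k₁.comp (IsScalarTower.toAlgHom k A _)
    have hkA : ∀ x, Ideal.Quotient.mk J (kA x) = hA x := fun x =>
      (DFunLike.congr_fun hk₁ (algebraMap A _ x)).trans (IsLocalization.lift_eq _ _)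
    have hka : IsUnit (kA (a l)) := (IsLocalization.Away.algebraMap_isUnit (a l)).map k₁
    choose w hw using fun il : Fin d × Fin r =>
      Ideal.Quotient.mk_surjective (hh (Ideal.Quotient.mk (modelI a n) (X (Sum.inr il))))
    let t : Fin d → Q := fun i => algebraMap (MvPolynomial (Fin d) k) Q (X i)
    let z : Fin d × Fin r → Q := fun il =>
      if il.2 = l then (t il.1 ^ n - ∑ l' ∈ Finset.univ.erase l, kA (a l') * w (il.1, l')) * ↑hka.unit⁻¹
      else w il
    have hzrel : ∀ i, ∑ l', kA (a l') * z (i, l') = t i ^ n := by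
      intro i
      rw [← Finset.add_sum_erase _ _ (Finset.mem_univ l)]
      have e1 : ∑ l' ∈ Finset.univ.erase l, kA (a l') * z (i, l') =
          ∑ l' ∈ Finset.univ.erase l, kA (a l') * w (i, l') :=
        Finset.sum_congr rfl fun l' hl' => by simp [z, Finset.ne_of_mem_erase hl']
      rw [e1]
      simp only [z, if_true]
      rw [mul_left_comm, hka.mul_val_inv, mul_one, sub_add_cancel]
    have htx : ∀ i, Ideal.Quotient.mk J (t i) = hh (Ideal.Quotient.mk (modelI a n) (X (Sum.inl i))) :=
      fun i => by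
        rw [show Ideal.Quotient.mk (modelI a n) (X (Sum.inl i)) = xs (k := k) a n (X i) from by simp [xs],
          ← hxs, AlgHom.commutes]
        rfl
    have hzw : ∀ il, Ideal.Quotient.mk J (z il) = hh (Ideal.Quotient.mk (modelI a n) (X (Sum.inr il))) := by
      rintro ⟨i, l'⟩
      by_cases hl' : l' = l
      · subst hl'
        have h0 : Ideal.Quotient.mk (modelI a n) (rel (d := d) a n i) = 0 :=
          Ideal.Quotient.eq_zero_iff_mem.2 (Ideal.subset_span ⟨i, rfl⟩)
        have h1 := congrArg hh h0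
        simp only [rel, map_sub, map_pow, map_sum, map_mul, map_zero, sub_eq_zero, ← htx] at h1
        rw [← Finset.add_sum_erase _ _ (Finset.mem_univ l')] at h1
        refine hua.mul_left_cancel ?_
        rw [← hkA, ← map_mul]
        simp only [z, if_true]
        rw [mul_left_comm, hka.mul_val_inv, mul_one, map_sub, map_pow, map_sum, h1]
        simp only [map_mul, hw, hkA]
        exact add_sub_cancel_right _ _
      · simp only [z, if_neg hl', hw]
    let k₀ : MvPolynomial (Fin d ⊕ (Fin d × Fin r)) A →ₐ[k] Q :=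
      MvPolynomial.aevalTower kA (Sum.elim t z)
    have hk0 : ∀ p ∈ modelI (d := d) a n, k₀ p = 0 := by
      have hle : modelI (d := d) a n ≤ RingHom.ker k₀.toRingHom := Ideal.span_le.2 (by
        rintro _ ⟨i, rfl⟩
        show k₀ (rel a n i) = 0
        simp only [rel, map_sub, map_pow, map_sum, map_mul, k₀, MvPolynomial.aevalTower_C,
          MvPolynomial.aevalTower_X, Sum.elim_inl, Sum.elim_inr, hzrel, sub_self])
      exact fun p hp => hle hp
    let k₂ : Model a n d →ₐ[k] Q := Ideal.Quotient.liftₐ (R₁ := k) (modelI a n) k₀ hk0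
    have hcomm : ∀ p, k₂ (algebraMap (MvPolynomial (Fin d) k) (Model a n d) p) =
        algebraMap (MvPolynomial (Fin d) k) Q p := fun p => by
      rw [hxs]
      exact DFunLike.congr_fun (show k₂.comp (xs a n) = IsScalarTower.toAlgHom k (MvPolynomial (Fin d) k) Q from
        algHom_ext fun i => by simp [k₂, xs, k₀, t]) p
    refine ⟨{ k₂.toRingHom with commutes' := hcomm }, ?_⟩
    refine AlgHom.coe_ringHom_injective (Ideal.Quotient.ringHom_ext
      (MvPolynomial.ringHom_ext (fun x => ?_) fun x => ?_))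
    · show Ideal.Quotient.mk J (k₀ (C x)) = hA x
      rw [show k₀ (C x) = kA x from MvPolynomial.aevalTower_C _ _ _, hkA]
    · show Ideal.Quotient.mk J (k₀ (X x)) = hh (Ideal.Quotient.mk _ (X x))
      rw [show k₀ (X x) = Sum.elim t z x from MvPolynomial.aevalTower_X _ _ _]
      rcases x with x | x
      · exact htx x
      · exact hzw x
  exact DimZero.mem_singularIdeal_of_smooth _

end Model

set_option maxHeartbeats 800000 in
/-- the problem modulo powers of the coordinates -/
theorem resolvable_top {d : ℕ} {Λ : Type u} [CommRing Λ] [IsNoetherianRing Λ] [Algebra k Λ]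
    [Algebra (MvPolynomial (Fin d) k) Λ] [IsScalarTower k (MvPolynomial (Fin d) k) Λ]
    (q : Ideal Λ) [q.IsPrime] [IsRegularLocalRing (Localization.AtPrime q)]
    [Algebra.IsGeometricallyReduced k q.ResidueField]
    (hd : ringKrullDim (Localization.AtPrime q) = d)
    (hgen : Ideal.span (Set.range fun i => algebraMap Λ (Localization.AtPrime q)
      (algebraMap (MvPolynomial (Fin d) k) Λ (X i))) = q.map (algebraMap Λ (Localization.AtPrime q)))
    (e : ℕ) (he : 0 < e) (K : Ideal (MvPolynomial (Fin d) k))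
    (hK : K = Ideal.span (Set.range fun i => (X i : MvPolynomial (Fin d) k) ^ e))
    {A₁ : Type u} [CommRing A₁] [Algebra (MvPolynomial (Fin d) k ⧸ K) A₁]
    [Algebra.FinitePresentation (MvPolynomial (Fin d) k ⧸ K) A₁]
    (φ₁ : A₁ →ₐ[MvPolynomial (Fin d) k ⧸ K] Λ ⧸ K.map (algebraMap (MvPolynomial (Fin d) k) Λ)) :
    Smoothing.Resolvable (MvPolynomial (Fin d) k ⧸ K) φ₁
      (q.map (Ideal.Quotient.mk (K.map (algebraMap (MvPolynomial (Fin d) k) Λ)))) := by
  classical
  let KΛ : Ideal Λ := K.map (algebraMap (MvPolynomial (Fin d) k) Λ)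
  by_cases hsing : Smoothing.singRad (MvPolynomial (Fin d) k ⧸ K) φ₁ ≤ q.map (Ideal.Quotient.mk KΛ)
  swap
  · exact ⟨A₁, inferInstance, inferInstance, inferInstance, AlgHom.id _ _, φ₁, AlgHom.comp_id _, le_rfl, hsing⟩
  have hXq : ∀ i, algebraMap (MvPolynomial (Fin d) k) Λ (X i) ∈ q := fun i => by
    refine (IsLocalization.AtPrime.to_map_mem_maximal_iff (Localization.AtPrime q) q _).1 ?_
    rw [← Localization.AtPrime.map_eq_maximalIdeal, ← hgen]
    exact Ideal.subset_span ⟨i, rfl⟩
  have hKq : KΛ ≤ q := by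
    show K.map _ ≤ q
    rw [hK, Ideal.map_le_iff_le_comap, Ideal.span_le]
    rintro _ ⟨i, rfl⟩
    show algebraMap _ Λ (X i ^ e) ∈ q
    rw [map_pow]
    exact Ideal.pow_mem_of_mem _ (hXq i) e he
  haveI hq₁ : (q.map (Ideal.Quotient.mk KΛ)).IsPrime :=
    Ideal.map_isPrime_of_surjective Ideal.Quotient.mk_surjective (by rw [Ideal.mk_ker]; exact hKq)
  have hq₁c : (q.map (Ideal.Quotient.mk KΛ)).comap (Ideal.Quotient.mk KΛ) = q := by
    rw [Ideal.comap_map_of_surjective _ Ideal.Quotient.mk_surjective, ← RingHom.ker_eq_comap_bot, Ideal.mk_ker,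
      sup_eq_left.2 hKq]
  -- the maximal ideal of the base
  let ε : MvPolynomial (Fin d) k →ₐ[k] k := aeval fun _ => (0 : k)
  have hεK : ∀ p ∈ K, ε p = 0 := by
    have hle : K ≤ RingHom.ker ε.toRingHom := by
      rw [hK, Ideal.span_le]
      rintro _ ⟨i, rfl⟩
      show ε (X i ^ e) = 0
      simp [ε, zero_pow he.ne']
    exact fun p hp => hle hp
  let ε₁ : (MvPolynomial (Fin d) k ⧸ K) →ₐ[k] k := Ideal.Quotient.liftₐ K ε hεK
  let m₁ : Ideal (MvPolynomial (Fin d) k ⧸ K) := RingHom.ker ε₁.toRingHom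
  haveI hm₁ : m₁.IsMaximal := RingHom.ker_isMaximal_of_surjective _ fun c =>
    ⟨algebraMap k _ c, ε₁.commutes c⟩
  have hm₁X : m₁ = (Ideal.span (Set.range fun i => (X i : MvPolynomial (Fin d) k))).map (Ideal.Quotient.mk K) := by
    refine le_antisymm (fun y hy => ?_) (Ideal.map_le_iff_le_comap.2 (Ideal.span_le.2 ?_))
    · obtain ⟨p, rfl⟩ := Ideal.Quotient.mk_surjective y
      refine Ideal.mem_map_of_mem _ ?_
      have h1 : ∀ p : MvPolynomial (Fin d) k, p - C (ε p) ∈
          Ideal.span (Set.range fun i => (X i : MvPolynomial (Fin d) k)) := fun p => by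
        induction p using MvPolynomial.induction_on with
        | C c => simp [ε]
        | add p q hp hq => rw [map_add, map_add, add_sub_add_comm]; exact Ideal.add_mem _ hp hq
        | mul_X p i hp =>
          rw [map_mul, show ε (X i) = 0 from aeval_X _ _, mul_zero, map_zero, sub_zero]
          exact Ideal.mul_mem_left _ _ (Ideal.subset_span ⟨i, rfl⟩)
      have h2 : ε p = 0 := hy
      have h3 := h1 p
      rwa [h2, map_zero, sub_zero] at h3
    · rintro _ ⟨i, rfl⟩
      show ε (X i) = 0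
      simp [ε]
  have hnil : IsNilpotent m₁ := by
    refine (Ideal.FG.isNilpotent_iff_le_nilradical (IsNoetherian.noetherian m₁)).2 ?_
    rw [hm₁X, Ideal.map_le_iff_le_comap, Ideal.span_le]
    rintro _ ⟨i, rfl⟩
    refine mem_nilradical.2 ⟨e, ?_⟩
    rw [← map_pow]
    exact Ideal.Quotient.eq_zero_iff_mem.2 (hK ▸ Ideal.subset_span ⟨i, rfl⟩)
  have hunit : ∀ x ∈ ((q.map (Ideal.Quotient.mk KΛ)).comap
      (algebraMap (MvPolynomial (Fin d) k ⧸ K) (Λ ⧸ KΛ))).primeCompl, IsUnit x := by
    intro x hx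
    by_contra hnu
    obtain ⟨M, hM, hxM⟩ := exists_max_ideal_of_mem_nonunits hnu
    have hle : m₁ ≤ M := by
      obtain ⟨N, hN⟩ := hnil
      intro y hy
      refine hM.isPrime.mem_of_pow_mem N ?_
      have : y ^ N ∈ m₁ ^ N := Ideal.pow_mem_pow hy N
      rw [hN] at this
      rw [(Submodule.mem_bot _).1 this]; exact M.zero_mem
    have hMm : M = m₁ := (hm₁.eq_of_le hM.ne_top hle).symm
    refine hx ?_
    show algebraMap _ (Λ ⧸ KΛ) x ∈ q.map _
    subst hMm
    rw [hm₁X] at hxM
    refine (Ideal.map_le_iff_le_comap.2 (Ideal.span_le.2 ?_) :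
      (Ideal.span (Set.range fun i => (X i : MvPolynomial (Fin d) k))).map (Ideal.Quotient.mk K) ≤
        (q.map (Ideal.Quotient.mk KΛ)).comap (algebraMap _ (Λ ⧸ KΛ))) hxM
    rintro _ ⟨i, rfl⟩
    exact Ideal.mem_map_of_mem _ (hXq i)
  haveI : IsLocalization.AtPrime (MvPolynomial (Fin d) k ⧸ K)
      ((q.map (Ideal.Quotient.mk KΛ)).comap (algebraMap (MvPolynomial (Fin d) k ⧸ K) (Λ ⧸ KΛ))) :=
    IsLocalization.self hunit
  -- the local ring of the quotient
  let Kq : Ideal (Localization.AtPrime q) := KΛ.map (algebraMap Λ (Localization.AtPrime q))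
  haveI hloc : IsLocalization.AtPrime (Localization.AtPrime q ⧸ Kq) (q.map (Ideal.Quotient.mk KΛ)) := by
    have e : Algebra.algebraMapSubmonoid (Λ ⧸ KΛ) q.primeCompl = (q.map (Ideal.Quotient.mk KΛ)).primeCompl := by
      ext x
      constructor
      · rintro ⟨y, hy, rfl⟩ hmem
        exact hy (hq₁c ▸ hmem)
      · intro hx
        obtain ⟨y, rfl⟩ := Ideal.Quotient.mk_surjective x
        exact ⟨y, fun hy => hx (Ideal.mem_map_of_mem _ hy), rfl⟩
    show IsLocalization _ _
    rw [← e]
    infer_instance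
  letI : Algebra (MvPolynomial (Fin d) k ⧸ K) (Localization.AtPrime q ⧸ Kq) :=
    ((algebraMap (Λ ⧸ KΛ) (Localization.AtPrime q ⧸ Kq)).comp
      (algebraMap (MvPolynomial (Fin d) k ⧸ K) (Λ ⧸ KΛ))).toAlgebra
  haveI : IsScalarTower (MvPolynomial (Fin d) k ⧸ K) (Λ ⧸ KΛ) (Localization.AtPrime q ⧸ Kq) :=
    IsScalarTower.of_algebraMap_eq' rfl
  -- flatness
  haveI hflatR : Module.Flat (MvPolynomial (Fin d) k) (Localization.AtPrime q) := by
    have hXm : (q.comap (algebraMap (MvPolynomial (Fin d) k) Λ)) =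
        Ideal.span (Set.range fun i => (X i : MvPolynomial (Fin d) k)) := by
      refine le_antisymm (fun p hp => ?_) (Ideal.span_le.2 (by rintro _ ⟨i, rfl⟩; exact hXq i))
      have h1 : ∀ p : MvPolynomial (Fin d) k, p - C (ε p) ∈
          Ideal.span (Set.range fun i => (X i : MvPolynomial (Fin d) k)) := fun p => by
        induction p using MvPolynomial.induction_on with
        | C c => simp [ε]
        | add p q hp hq => rw [map_add, map_add, add_sub_add_comm]; exact Ideal.add_mem _ hp hq
        | mul_X p i hp =>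
          rw [map_mul, show ε (X i) = 0 from aeval_X _ _, mul_zero, map_zero, sub_zero]
          exact Ideal.mul_mem_left _ _ (Ideal.subset_span ⟨i, rfl⟩)
      by_cases h2 : ε p = 0
      · have h3 := h1 p
        rwa [h2, map_zero, sub_zero] at h3
      · exfalso
        have h4 : algebraMap (MvPolynomial (Fin d) k) Λ (C (ε p)) ∈ q := by
          have h5 : algebraMap (MvPolynomial (Fin d) k) Λ (p - C (ε p)) ∈ q :=
            (Ideal.span_le.2 (by rintro _ ⟨i, rfl⟩; exact hXq i) :
              Ideal.span (Set.range fun i => (X i : MvPolynomial (Fin d) k)) ≤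
                q.comap (algebraMap (MvPolynomial (Fin d) k) Λ)) (h1 p)
          have := q.sub_mem hp h5
          rwa [← map_sub, sub_sub_cancel] at this
        exact ‹q.IsPrime›.ne_top (Ideal.eq_top_of_isUnit_mem _ h4
          (((IsUnit.mk0 _ h2).map C).map _))
    let p₀ := q.comap (algebraMap (MvPolynomial (Fin d) k) Λ)
    haveI : q.LiesOver p₀ := ⟨rfl⟩
    letI : Algebra (Localization.AtPrime p₀) (Localization.AtPrime q) :=
      Localization.AtPrime.algebraOfLiesOver p₀ q
    haveI : IsScalarTower (MvPolynomial (Fin d) k) (Localization.AtPrime p₀) (Localization.AtPrime q) :=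
      IsScalarTower.of_algebraMap_eq' (IsLocalization.lift_comp _).symm
    haveI : IsLocalHom (algebraMap (Localization.AtPrime p₀) (Localization.AtPrime q)) :=
      Localization.isLocalHom_localRingHom p₀ q (algebraMap (MvPolynomial (Fin d) k) Λ) rfl
    let rs := List.ofFn fun i => algebraMap (MvPolynomial (Fin d) k) (Localization.AtPrime p₀) (X i)
    have hrs : Ideal.ofList rs = IsLocalRing.maximalIdeal (Localization.AtPrime p₀) := by
      rw [← Localization.AtPrime.map_eq_maximalIdeal]
      show Ideal.span {x | x ∈ rs} = p₀.map _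
      refine Eq.trans ?_ (congrArg (Ideal.map (algebraMap (MvPolynomial (Fin d) k) (Localization.AtPrime p₀))) hXm).symm
      rw [Ideal.map_span, ← Set.range_comp]
      congr 1
      ext x
      simp [rs, List.mem_ofFn]
    haveI : Module.Flat (Localization.AtPrime p₀) (Localization.AtPrime q) := by
      refine EGA4Lib.MiracleModule.flat_of_isWeaklyRegular rs.length (Localization.AtPrime p₀) rs rfl hrs
        (Localization.AtPrime q) (Localization.AtPrime q) ?_
      rw [← RingTheory.Sequence.isWeaklyRegular_map_algebraMap_iff (Localization.AtPrime q)]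
      have e2 : rs.map (algebraMap (Localization.AtPrime p₀) (Localization.AtPrime q)) =
          List.ofFn fun i => algebraMap Λ (Localization.AtPrime q)
            (algebraMap (MvPolynomial (Fin d) k) Λ (X i)) := by
        simp [rs, List.map_ofFn, Function.comp_def, ← IsScalarTower.algebraMap_apply]
      rw [e2]
      exact (RegLoc.isRegular_ofFn hd _ (hgen.trans Localization.AtPrime.map_eq_maximalIdeal)).toIsWeaklyRegular
    exact Module.Flat.trans (MvPolynomial (Fin d) k) (Localization.AtPrime p₀) _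
  haveI hflat : Module.Flat (MvPolynomial (Fin d) k ⧸ K) (Localization.AtPrime q ⧸ Kq) := by
    have e : Kq = K.map (algebraMap (MvPolynomial (Fin d) k) (Localization.AtPrime q)) := by
      show (K.map _).map _ = _
      rw [Ideal.map_map, ← IsScalarTower.algebraMap_eq]
    haveI := DvrIndSmooth.flat_quot (Λ := Localization.AtPrime q) K
    exact Module.Flat.of_linearEquiv
      ({ Ideal.quotEquivOfEq e with
        map_smul' := fun r x => by
          obtain ⟨r, rfl⟩ := Ideal.Quotient.mk_surjective r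
          obtain ⟨x, rfl⟩ := Ideal.Quotient.mk_surjective x
          show Ideal.quotEquivOfEq e (algebraMap _ (Localization.AtPrime q ⧸ Kq) (Ideal.Quotient.mk K r) *
              Ideal.Quotient.mk Kq x) = _
          rw [map_mul, RingHom.id_apply, Algebra.smul_def]
          rfl } : (Localization.AtPrime q ⧸ Kq) ≃ₗ[MvPolynomial (Fin d) k ⧸ K]
        (Localization.AtPrime q ⧸ K.map (algebraMap (MvPolynomial (Fin d) k) (Localization.AtPrime q))))
  haveI : IsLocalRing (Localization.AtPrime q ⧸ Kq) :=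
    IsLocalization.AtPrime.isLocalRing _ (q.map (Ideal.Quotient.mk KΛ))
  have hmax : IsLocalRing.maximalIdeal (Localization.AtPrime q ⧸ Kq) =
      m₁.map (algebraMap (MvPolynomial (Fin d) k ⧸ K) (Localization.AtPrime q ⧸ Kq)) := by
    rw [← IsLocalRing.map_maximalIdeal_of_surjective _ (Ideal.Quotient.mk_surjective (I := Kq)),
      ← Localization.AtPrime.map_eq_maximalIdeal, ← hgen, hm₁X, Ideal.map_map, Ideal.map_span, Ideal.map_span,
      ← Set.range_comp, ← Set.range_comp]
    rfl
  have hdim : ringKrullDim (Localization.AtPrime q ⧸ Kq) = 0 := by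
    haveI : Ring.KrullDimLE 0 (Localization.AtPrime q ⧸ Kq) := by
      refine Ring.krullDimLE_zero_iff.2 fun P hP => ?_
      have h1 : IsLocalRing.maximalIdeal (Localization.AtPrime q ⧸ Kq) ≤ P := by
        obtain ⟨N, hN⟩ := hnil
        rw [hmax]
        refine (Ideal.IsPrime.pow_le_iff (I := m₁.map _) (P := P) (n := N + 1) (Nat.succ_ne_zero N)).1 ?_
        rw [← Ideal.map_pow, pow_succ, hN]
        simp
      rw [← (IsLocalRing.maximalIdeal.isMaximal _).eq_of_le hP.ne_top h1]
      exact IsLocalRing.maximalIdeal.isMaximal _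
    exact le_antisymm (Ring.krullDimLE_iff.1 inferInstance) ringKrullDim_nonneg_of_nontrivial
  -- ind-smoothness of the local problem
  have hind : Smoothing.IndSmooth (MvPolynomial (Fin d) k ⧸ K) (Localization.AtPrime q ⧸ Kq) := by
    refine IndNilp.indSmooth_of_nilpotent m₁ hnil ?_
    let L' := (Localization.AtPrime q ⧸ Kq) ⧸
      m₁.map (algebraMap (MvPolynomial (Fin d) k ⧸ K) (Localization.AtPrime q ⧸ Kq))
    let g₀ : Localization.AtPrime q →+* L' := (Ideal.Quotient.mk _).comp (Ideal.Quotient.mk Kq)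
    have hg₀ : ∀ x ∈ IsLocalRing.maximalIdeal (Localization.AtPrime q), g₀ x = 0 := fun x hx =>
      Ideal.Quotient.eq_zero_iff_mem.2 (hmax ▸ (IsLocalRing.map_maximalIdeal_of_surjective _
        (Ideal.Quotient.mk_surjective (I := Kq))) ▸ Ideal.mem_map_of_mem _ hx)
    let e₀ : q.ResidueField →+* L' := Ideal.Quotient.lift _ g₀ hg₀
    haveI : Nontrivial L' := Ideal.Quotient.nontrivial_iff.2 (by
      rw [← hmax]; exact (IsLocalRing.maximalIdeal.isMaximal _).ne_top)
    have hbij : Function.Bijective e₀ := ⟨RingHom.injective e₀, fun y => by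
      obtain ⟨y, rfl⟩ := Ideal.Quotient.mk_surjective y
      obtain ⟨y, rfl⟩ := Ideal.Quotient.mk_surjective y
      exact ⟨IsLocalRing.residue _ y, rfl⟩⟩
    haveI : IsScalarTower k ((MvPolynomial (Fin d) k ⧸ K) ⧸ m₁) L' :=
      IsScalarTower.of_algebraMap_eq (R := k) (S := (MvPolynomial (Fin d) k ⧸ K) ⧸ m₁) (A := L') fun c => by
        show Ideal.Quotient.mk _ (Ideal.Quotient.mk Kq (algebraMap k (Localization.AtPrime q) c)) =
          Ideal.Quotient.mk _ (Ideal.Quotient.mk Kq (algebraMap Λ (Localization.AtPrime q)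
            (algebraMap (MvPolynomial (Fin d) k) Λ (algebraMap k (MvPolynomial (Fin d) k) c))))
        rw [← IsScalarTower.algebraMap_apply, ← IsScalarTower.algebraMap_apply]
    let e : q.ResidueField ≃ₐ[k] L' := AlgEquiv.ofBijective
      ({ e₀ with
        commutes' := fun c => by
          show e₀ (IsLocalRing.residue _ (algebraMap k (Localization.AtPrime q) c)) = _
          rfl } : q.ResidueField →ₐ[k] L') hbij
    have hbk : Function.Bijective (algebraMap k ((MvPolynomial (Fin d) k ⧸ K) ⧸ m₁)) := by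
      refine ⟨RingHom.injective _, fun y => ?_⟩
      obtain ⟨y, rfl⟩ := Ideal.Quotient.mk_surjective y
      refine ⟨ε₁ y, ?_⟩
      rw [IsScalarTower.algebraMap_apply k (MvPolynomial (Fin d) k ⧸ K) _]
      refine Ideal.Quotient.eq.2 ?_
      show ε₁ (algebraMap k _ (ε₁ y) - y) = 0
      rw [map_sub, AlgHom.commutes]
      exact sub_self _
    exact DvrIndSmooth.indSmooth_of_equiv hbk e DvrIndSmooth.indSmooth_field
  haveI : IsScalarTower (MvPolynomial (Fin d) k ⧸ K) (MvPolynomial (Fin d) k ⧸ K) (Localization.AtPrime q ⧸ Kq) :=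
    IsScalarTower.of_algebraMap_eq (R := MvPolynomial (Fin d) k ⧸ K) (S := MvPolynomial (Fin d) k ⧸ K)
      (A := Localization.AtPrime q ⧸ Kq) fun _ => rfl
  refine DimZero.resolvable_of_dim_zero φ₁ _ ?_ (Rₚ := MvPolynomial (Fin d) k ⧸ K)
    (Λq := Localization.AtPrime q ⧸ Kq) hdim ?_
  · refine ⟨⟨hq₁, hsing⟩, fun P ⟨hP, _⟩ hPq => ?_⟩
    intro x hx
    obtain ⟨y, rfl⟩ := Ideal.Quotient.mk_surjective x
    rw [← Ideal.mem_comap, hq₁c] at hx
    have hcomap : ∀ i, Ideal.Quotient.mk KΛ (algebraMap (MvPolynomial (Fin d) k) Λ (X i)) ∈ P := fun i => by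
      refine hP.mem_of_pow_mem e ?_
      rw [← map_pow, ← map_pow, Ideal.Quotient.eq_zero_iff_mem.2
        (Ideal.mem_map_of_mem _ (hK ▸ Ideal.subset_span ⟨i, rfl⟩))]
      exact P.zero_mem
    have h1 : algebraMap Λ (Localization.AtPrime q) y ∈
        (Ideal.span (Set.range fun i => algebraMap (MvPolynomial (Fin d) k) Λ (X i))).map
          (algebraMap Λ (Localization.AtPrime q)) := by
      rw [Ideal.map_span, ← Set.range_comp, Function.comp_def, hgen]
      exact Ideal.mem_map_of_mem _ hx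
    obtain ⟨s, hs, hsy⟩ :=
      (IsLocalization.algebraMap_mem_map_algebraMap_iff q.primeCompl _ _ y).1 h1
    have h2 : Ideal.Quotient.mk KΛ (s * y) ∈ P := by
      refine (Ideal.map_le_iff_le_comap.2 (Ideal.span_le.2 ?_) :
        (Ideal.span (Set.range fun i => algebraMap (MvPolynomial (Fin d) k) Λ (X i))).map (Ideal.Quotient.mk KΛ) ≤ P)
        (Ideal.mem_map_of_mem _ hsy)
      rintro _ ⟨i, rfl⟩
      exact hcomap i
    rw [map_mul] at h2
    refine (hP.mem_or_mem h2).resolve_left fun hsP => hs ?_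
    rw [← hq₁c]
    exact hPq hsP
  · obtain ⟨B, _, _, hB, g, h, hgh⟩ := hind ((MvPolynomial (Fin d) k ⧸ K) ⊗[MvPolynomial (Fin d) k ⧸ K] A₁) inferInstance
      (Algebra.TensorProduct.lift (Algebra.ofId (MvPolynomial (Fin d) k ⧸ K) (Localization.AtPrime q ⧸ Kq))
        ((IsScalarTower.toAlgHom _ (Λ ⧸ KΛ) (Localization.AtPrime q ⧸ Kq)).comp φ₁)
        (fun _ _ => Commute.all _ _))
    haveI := hB
    have htop : Smoothing.singRad (MvPolynomial (Fin d) k ⧸ K) h = ⊤ := by
      rw [Ideal.eq_top_iff_one]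
      refine Ideal.le_radical ?_
      rw [← map_one h]
      exact Ideal.mem_map_of_mem h (DvrIndSmooth.mem_singularIdeal_of_smooth_top 1)
    refine ⟨B, inferInstance, inferInstance, inferInstance, g, h, hgh, ?_, ?_⟩
    · rw [htop]; exact le_top
    · rw [htop]
      intro hle
      have h1 := IsLocalization.AtPrime.map_eq_maximalIdeal (q.map (Ideal.Quotient.mk KΛ))
        (Localization.AtPrime q ⧸ Kq)
      rw [h1, top_le_iff] at hle
      exact (IsLocalRing.maximalIdeal.isMaximal _).ne_top hle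

theorem exists_pow_le {A Λ : Type u} [CommRing A] [Algebra k A] [CommRing Λ] [Algebra k Λ] [IsNoetherianRing Λ]
    (φ : A →ₐ[k] Λ) (q : Ideal Λ) [q.IsPrime] (hmin : q ∈ (Smoothing.singRad k φ).minimalPrimes) :
    ∃ n, 0 < n ∧ (q ^ n).map (algebraMap Λ (Localization.AtPrime q)) ≤
      ((Smoothing.singularIdeal k A).map φ).map (algebraMap Λ (Localization.AtPrime q)) := by
  have hrad : IsLocalRing.maximalIdeal (Localization.AtPrime q) ≤
      (((Smoothing.singularIdeal k A).map φ).map (algebraMap Λ (Localization.AtPrime q))).radical := by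
    rw [Ideal.radical_eq_sInf]
    refine le_sInf fun P ⟨hPI, hP⟩ => ?_
    have hPq : P.comap (algebraMap Λ (Localization.AtPrime q)) ≤ q := by
      exact (Ideal.comap_mono (IsLocalRing.le_maximalIdeal hP.ne_top)).trans
        (IsLocalization.AtPrime.comap_maximalIdeal (Localization.AtPrime q) q).le
    have hle : Smoothing.singRad k φ ≤ P.comap (algebraMap Λ (Localization.AtPrime q)) :=
      (Ideal.radical_mono (Ideal.map_le_iff_le_comap.1 hPI)).trans
        (Ideal.IsPrime.radical inferInstance).le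
    have := hmin.2 ⟨inferInstance, hle⟩ hPq
    rw [← Localization.AtPrime.map_eq_maximalIdeal]
    exact Ideal.map_le_iff_le_comap.2 this
  obtain ⟨n, hn⟩ := Ideal.exists_pow_le_of_le_radical_of_fg hrad (IsNoetherian.noetherian _)
  refine ⟨n + 1, Nat.succ_pos _, le_trans ?_ hn⟩
  rw [Ideal.map_pow, Localization.AtPrime.map_eq_maximalIdeal]
  exact Ideal.pow_le_pow_right (Nat.le_succ n)

theorem polyR_cond {d : ℕ} (M : ℕ) (i : Fin d)
    (x : MvPolynomial (Fin d) k ⧸ Ideal.span (Set.range fun j : {j : Fin d // (j : ℕ) < (i : ℕ)} =>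
      ((X (j : Fin d) : MvPolynomial (Fin d) k) ^ M) ^ 8))
    (hx : Ideal.Quotient.mk _ ((X i : MvPolynomial (Fin d) k) ^ M) ^ 2 * x = 0) :
    Ideal.Quotient.mk _ ((X i : MvPolynomial (Fin d) k) ^ M) * x = 0 := by
  obtain ⟨x, rfl⟩ := Ideal.Quotient.mk_surjective x
  have e : Ideal.span (Set.range fun j : {j : Fin d // (j : ℕ) < (i : ℕ)} =>
      ((X (j : Fin d) : MvPolynomial (Fin d) k) ^ M) ^ 8) =
      Ideal.span ((fun j => (X j : MvPolynomial (Fin d) k) ^ (M * 8)) '' {j | (j : ℕ) < (i : ℕ)}) := by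
    congr 1
    ext y
    simp only [Set.mem_range, Set.mem_image, Set.mem_setOf_eq, Subtype.exists, exists_prop, pow_mul]
  rw [← map_pow, ← map_mul, Ideal.Quotient.eq_zero_iff_mem, e, ← pow_mul] at hx
  rw [← map_mul, Ideal.Quotient.eq_zero_iff_mem, e]
  exact Params.X_pow_mul_mem {j : Fin d | (j : ℕ) < (i : ℕ)} (M * 8) (i := i) (fun h => lt_irrefl (i : ℕ) h)
    (M * 2) M x hx

theorem polyΛ_cond {d : ℕ} {Λ : Type u} [CommRing Λ] [Algebra (MvPolynomial (Fin d) k) Λ] (π : Fin d → Λ)
    (hXπ : ∀ i, algebraMap (MvPolynomial (Fin d) k) Λ (X i) = π i) (M : ℕ) (hM : 0 < M)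
    (hπann : ∀ i : Fin d, ∀ x : Λ ⧸ Ideal.span (Set.range fun j : {j : Fin d // (j : ℕ) < (i : ℕ)} => π j ^ (M * 8)),
      Ideal.Quotient.mk _ (π i) ^ 2 * x = 0 → Ideal.Quotient.mk _ (π i) * x = 0)
    (i : Fin d) (x : Λ ⧸ Ideal.span (Set.range fun j : {j : Fin d // (j : ℕ) < (i : ℕ)} =>
      algebraMap (MvPolynomial (Fin d) k) Λ (X (j : Fin d) ^ M) ^ 8))
    (hx : Ideal.Quotient.mk _ (algebraMap (MvPolynomial (Fin d) k) Λ (X i ^ M)) ^ 2 * x = 0) :
    Ideal.Quotient.mk _ (algebraMap (MvPolynomial (Fin d) k) Λ (X i ^ M)) * x = 0 := by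
  have e : Ideal.span (Set.range fun j : {j : Fin d // (j : ℕ) < (i : ℕ)} =>
      algebraMap (MvPolynomial (Fin d) k) Λ (X (j : Fin d) ^ M) ^ 8) =
      Ideal.span (Set.range fun j : {j : Fin d // (j : ℕ) < (i : ℕ)} => π j ^ (M * 8)) := by
    simp only [map_pow, hXπ, pow_mul]
  obtain ⟨x, rfl⟩ := Ideal.Quotient.mk_surjective x
  obtain ⟨M', rfl⟩ := Nat.exists_eq_add_one.2 hM
  rw [← map_pow, ← map_mul, Ideal.Quotient.eq_zero_iff_mem, e, map_pow, hXπ, ← pow_mul] at hx
  rw [← map_mul, Ideal.Quotient.eq_zero_iff_mem, e, map_pow, hXπ]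
  have hann := hπann i
  have h1 : Ideal.Quotient.mk _ (π i) * Ideal.Quotient.mk _ x = 0 :=
    Params.mk_pow_mul_eq_zero hann (M := 2 * M' + 1) _ (by
      rw [← map_pow, ← map_mul, Ideal.Quotient.eq_zero_iff_mem]
      rw [show (M' + 1) * 2 = 2 * M' + 1 + 1 by ring] at hx
      exact hx)
  rw [← map_mul, Ideal.Quotient.eq_zero_iff_mem] at h1
  rw [pow_succ, mul_assoc]
  exact Ideal.mul_mem_left _ _ h1

set_option maxHeartbeats 800000 in
theorem resolvable_over_poly {d : ℕ} {Λ : Type u} [CommRing Λ] [IsNoetherianRing Λ] [Algebra k Λ]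
    [Algebra (MvPolynomial (Fin d) k) Λ] [IsScalarTower k (MvPolynomial (Fin d) k) Λ]
    (q : Ideal Λ) [q.IsPrime] [IsRegularLocalRing (Localization.AtPrime q)]
    [Algebra.IsGeometricallyReduced k q.ResidueField]
    (hd : ringKrullDim (Localization.AtPrime q) = d) (π : Fin d → Λ)
    (hXπ : ∀ i, algebraMap (MvPolynomial (Fin d) k) Λ (X i) = π i)
    (hπgen : Ideal.span (Set.range fun i => algebraMap Λ (Localization.AtPrime q) (π i)) =
      q.map (algebraMap Λ (Localization.AtPrime q)))
    (hπq : ∀ i, π i ∈ q) (M : ℕ) (hM : 0 < M)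
    (hπann : ∀ i : Fin d, ∀ x : Λ ⧸ Ideal.span (Set.range fun j : {j : Fin d // (j : ℕ) < (i : ℕ)} => π j ^ (M * 8)),
      Ideal.Quotient.mk _ (π i) ^ 2 * x = 0 → Ideal.Quotient.mk _ (π i) * x = 0)
    {C' : Type u} [CommRing C'] [Algebra (MvPolynomial (Fin d) k) C']
    [Algebra.FinitePresentation (MvPolynomial (Fin d) k) C']
    (hstd : ∀ i, Smoothing.IsStrictlyStandard (MvPolynomial (Fin d) k) C'
      (algebraMap (MvPolynomial (Fin d) k) C' (X i ^ M)))
    (φ' : C' →ₐ[MvPolynomial (Fin d) k] Λ) : Smoothing.Resolvable (MvPolynomial (Fin d) k) φ' q := by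
  classical
  obtain ⟨K, hK8⟩ : ∃ K : Ideal (MvPolynomial (Fin d) k),
      K = Ideal.span (Set.range fun i => ((X i : MvPolynomial (Fin d) k) ^ M) ^ 8) := ⟨_, rfl⟩
  have hK : K = Ideal.span (Set.range fun i => (X i : MvPolynomial (Fin d) k) ^ (M * 8)) := by
    rw [hK8]; simp only [← pow_mul]
  haveI : Algebra.FinitePresentation (MvPolynomial (Fin d) k ⧸ K)
      (C' ⧸ K.map (algebraMap (MvPolynomial (Fin d) k) C')) := by
    haveI : Algebra.FinitePresentation (MvPolynomial (Fin d) k)
        (C' ⧸ K.map (algebraMap (MvPolynomial (Fin d) k) C')) :=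
      Algebra.FinitePresentation.quotient (Ideal.FG.map (IsNoetherian.noetherian K) _)
    exact Algebra.FinitePresentation.of_restrict_scalars_finitePresentation (MvPolynomial (Fin d) k) _ _
  let φK₀ : C' →ₐ[MvPolynomial (Fin d) k] Λ ⧸ K.map (algebraMap (MvPolynomial (Fin d) k) Λ) :=
    (Ideal.Quotient.mkₐ _ _).comp φ'
  have hφK₀ : ∀ x ∈ K.map (algebraMap (MvPolynomial (Fin d) k) C'), φK₀ x = 0 := by
    have hle : K.map (algebraMap (MvPolynomial (Fin d) k) C') ≤ RingHom.ker φK₀.toRingHom :=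
      Ideal.map_le_iff_le_comap.2 fun c hc => by
        show φK₀ (algebraMap _ C' c) = 0
        rw [AlgHom.commutes]
        exact Ideal.Quotient.eq_zero_iff_mem.2 (Ideal.mem_map_of_mem _ hc)
    exact fun x hx => hle hx
  let φK₁ := Ideal.Quotient.liftₐ (R₁ := MvPolynomial (Fin d) k) _ φK₀ hφK₀
  let φK : (C' ⧸ K.map (algebraMap (MvPolynomial (Fin d) k) C')) →ₐ[MvPolynomial (Fin d) k ⧸ K]
      Λ ⧸ K.map (algebraMap (MvPolynomial (Fin d) k) Λ) :=
    { φK₁.toRingHom with
      commutes' := fun c => by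
        obtain ⟨c, rfl⟩ := Ideal.Quotient.mk_surjective c
        exact φK₁.commutes c }
  have htop := resolvable_top (k := k) q hd
    (by simp only [hXπ]; exact hπgen) (M * 8) (Nat.mul_pos hM (by norm_num)) K hK φK
  have hres := ResolveMod.resolvable_of_resolvable_mod φ' q (fun i => (X i : MvPolynomial (Fin d) k) ^ M)
    (polyR_cond M) (polyΛ_cond π hXπ M hM hπann)
    hstd K hK8 φK (fun x => rfl)
    (fun i => by rw [map_pow, hXπ]; exact Ideal.pow_mem_of_mem _ (hπq i) M hM) htop
  exact hres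

set_option maxHeartbeats 800000 in
theorem resolvable_regular {A Λ : Type u} [CommRing A] [Algebra k A] [Algebra.FinitePresentation k A]
    [CommRing Λ] [Algebra k Λ] [IsNoetherianRing Λ] (φ : A →ₐ[k] Λ) (q : Ideal Λ) [q.IsPrime]
    (hmin : q ∈ (Smoothing.singRad k φ).minimalPrimes)
    [IsRegularLocalRing (Localization.AtPrime q)]
    [Algebra.IsGeometricallyReduced k q.ResidueField] : Smoothing.Resolvable k φ q := by
  classical
  haveI : IsNoetherianRing A := Algebra.FiniteType.isNoetherianRing k A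
  obtain ⟨d, hd, -⟩ := RegLoc.exists_natCast_eq_ringKrullDim (Localization.AtPrime q)
  obtain ⟨r, a, ha⟩ := Submodule.fg_iff_exists_fin_generating_family.1
    (IsNoetherian.noetherian (Smoothing.singularIdeal k A))
  have hal : ∀ l, a l ∈ Smoothing.singularIdeal k A := fun l => ha ▸ Submodule.subset_span ⟨l, rfl⟩
  let I : Ideal Λ := (Smoothing.singularIdeal k A).map φ
  have hI : I = Ideal.span (Set.range fun l => φ (a l)) := by
    show Ideal.map φ _ = _
    rw [← ha, ← Ideal.span, Ideal.map_span, ← Set.range_comp]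
    rfl
  have hIq : I ≤ q := Ideal.le_radical.trans hmin.1.2
  obtain ⟨n, hn, hpow⟩ := exists_pow_le φ q hmin
  letI : Algebra (MvPolynomial (Fin d) k) (Model a n d) := (xs a n).toRingHom.toAlgebra
  haveI : IsScalarTower k (MvPolynomial (Fin d) k) (Model a n d) :=
    IsScalarTower.of_algebraMap_eq fun c => ((xs a n).commutes c).symm
  haveI : Algebra.FinitePresentation k (Model a n d) := by
    haveI : Algebra.FinitePresentation k (MvPolynomial (Fin d ⊕ (Fin d × Fin r)) A) :=
      Algebra.FinitePresentation.trans k A _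
    exact Algebra.FinitePresentation.quotient (Submodule.fg_def.2 ⟨_, Set.finite_range _, rfl⟩)
  haveI : Algebra.FinitePresentation (MvPolynomial (Fin d) k) (Model a n d) :=
    Algebra.FinitePresentation.of_restrict_scalars_finitePresentation k _ _
  have hB : ∀ l, Ideal.Quotient.mk (modelI (d := d) a n) (MvPolynomial.C (a l)) ∈
      Smoothing.singularIdeal (MvPolynomial (Fin d) k) (Model a n d) := fun l =>
    mem_singularIdeal_model a n (fun p => rfl) l (hal l)
  obtain ⟨C', _, _, hC', ι, ρ, hρι, hιsing, hιstd⟩ :=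
    SymSmooth.exists_retract_strictlyStandard (R := MvPolynomial (Fin d) k) (A := Model a n d)
  haveI := hC'
  have hXn : ∀ i, algebraMap (MvPolynomial (Fin d) k) (Model a n d) (X i) ^ n ∈
      Smoothing.singularIdeal (MvPolynomial (Fin d) k) (Model a n d) := fun i => by
    have h0 : Ideal.Quotient.mk (modelI a n) (rel (d := d) a n i) = 0 :=
      Ideal.Quotient.eq_zero_iff_mem.2 (Ideal.subset_span ⟨i, rfl⟩)
    rw [rel, map_sub, map_pow, map_sum, sub_eq_zero] at h0
    rw [show algebraMap (MvPolynomial (Fin d) k) (Model a n d) (X i) =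
      Ideal.Quotient.mk (modelI a n) (X (Sum.inl i)) from aeval_X _ _, h0]
    exact Ideal.sum_mem _ fun l _ => by rw [map_mul]; exact Ideal.mul_mem_right _ _ (hB l)
  choose e₀ he₀ using fun i => hιstd _ (hXn i)
  let M : ℕ := n * ((∑ i, e₀ i) + 1)
  have hM : 0 < M := Nat.mul_pos hn (Nat.succ_pos _)
  have hstd : ∀ i, Smoothing.IsStrictlyStandard (MvPolynomial (Fin d) k) C'
      (algebraMap (MvPolynomial (Fin d) k) C' (X i ^ M)) := fun i => by
    have h1 := he₀ i ((∑ i, e₀ i) + 1)
      (le_trans (Finset.single_le_sum (fun j _ => Nat.zero_le (e₀ j)) (Finset.mem_univ i)) (Nat.le_succ _))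
    rwa [← map_pow ι, ← pow_mul, ← map_pow (algebraMap _ (Model a n d)), AlgHom.commutes] at h1
  obtain ⟨π, hπgen, hπI, hπann⟩ := Params.exists_parameters I q hIq n (M * 8) d hn
    (Nat.mul_pos hM (by norm_num)) hpow hd
  choose lam hlam using fun i => (Ideal.mem_span_range_iff_exists_fun).1 (hI ▸ hπI i)
  letI : Algebra (MvPolynomial (Fin d) k) Λ := (aeval π).toRingHom.toAlgebra
  haveI : IsScalarTower k (MvPolynomial (Fin d) k) Λ :=
    IsScalarTower.of_algebraMap_eq fun c => ((aeval π).commutes c).symm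
  have hXπ : ∀ i, algebraMap (MvPolynomial (Fin d) k) Λ (X i) = π i := fun i => aeval_X π i
  let v : Fin d ⊕ (Fin d × Fin r) → Λ := Sum.elim π fun il => lam il.1 il.2
  let ψ₀ : MvPolynomial (Fin d ⊕ (Fin d × Fin r)) A →ₐ[k] Λ := MvPolynomial.aevalTower φ v
  have hψ₀ : ∀ p ∈ modelI (d := d) a n, ψ₀ p = 0 := by
    have hle : modelI (d := d) a n ≤ RingHom.ker ψ₀.toRingHom := Ideal.span_le.2 (by
      rintro _ ⟨i, rfl⟩
      show ψ₀ (rel a n i) = 0
      simp only [rel, map_sub, map_pow, map_sum, map_mul, ψ₀, MvPolynomial.aevalTower_C,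
        MvPolynomial.aevalTower_X, v, Sum.elim_inl, Sum.elim_inr]
      rw [← hlam, sub_eq_zero]
      exact Finset.sum_congr rfl fun l _ => mul_comm _ _)
    exact fun p hp => hle hp
  let ψ₁ : Model a n d →ₐ[k] Λ := Ideal.Quotient.liftₐ (R₁ := k) (modelI a n) ψ₀ hψ₀
  let ψ : Model a n d →ₐ[MvPolynomial (Fin d) k] Λ :=
    { ψ₁.toRingHom with
      commutes' := fun p => DFunLike.congr_fun
        (show ψ₁.comp (xs a n) = aeval π from algHom_ext fun i => by simp [ψ₁, xs, ψ₀, v]) p }
  let φ' : C' →ₐ[MvPolynomial (Fin d) k] Λ := ψ.comp ρ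
  have hπq : ∀ i, π i ∈ q := fun i =>
    ‹q.IsPrime›.mem_of_pow_mem n (hIq (hπI i))
  have hres := resolvable_over_poly (k := k) q hd π hXπ hπgen hπq M hM hπann hstd φ'
  obtain ⟨D, _, _, hD, g, h, hgh, hle, hnle⟩ := hres
  haveI := hD
  letI : Algebra k D := ((algebraMap (MvPolynomial (Fin d) k) D).comp (algebraMap k _)).toAlgebra
  haveI : IsScalarTower k (MvPolynomial (Fin d) k) D := IsScalarTower.of_algebraMap_eq' rfl
  haveI : Algebra.FinitePresentation k D := Algebra.FinitePresentation.trans k (MvPolynomial (Fin d) k) D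
  have hsub : Smoothing.singRad (MvPolynomial (Fin d) k) h ≤ Smoothing.singRad k (h.restrictScalars k) :=
    Ideal.radical_mono (Ideal.map_mono singularIdeal_le)
  letI : Algebra k C' := ((algebraMap (MvPolynomial (Fin d) k) C').comp (algebraMap k _)).toAlgebra
  haveI : IsScalarTower k (MvPolynomial (Fin d) k) C' := IsScalarTower.of_algebraMap_eq' rfl
  refine ⟨D, inferInstance, inferInstance, inferInstance,
    (g.restrictScalars k).comp ((ι.restrictScalars k).comp (IsScalarTower.toAlgHom k A (Model a n d))),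
    h.restrictScalars k, AlgHom.ext fun x => ?_, ?_, fun hh => hnle (hsub.trans hh)⟩
  · show h (g (ι (algebraMap A (Model a n d) x))) = φ x
    rw [← AlgHom.comp_apply, hgh]
    refine (congrArg ψ (DFunLike.congr_fun hρι _)).trans ?_
    exact MvPolynomial.aevalTower_C _ _ _
  · refine Ideal.radical_le_radical_iff.2 ?_
    show I ≤ _
    rw [hI, Ideal.span_le]
    rintro _ ⟨l, rfl⟩
    refine hsub (hle (Ideal.le_radical ?_))
    have h1 := Ideal.mem_map_of_mem φ' (hιsing _ (hB l))
    have h2 : φ' (ι (Ideal.Quotient.mk (modelI a n) (MvPolynomial.C (a l)))) = φ (a l) := by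
      refine (congrArg ψ (DFunLike.congr_fun hρι _)).trans ?_
      exact MvPolynomial.aevalTower_C _ _ _
    rwa [h2] at h1

end Groth.Agent.SmoothingLib.RegularResolve
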