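import Groth.Agent.SmoothingLib.CharPResolve
import Groth.Agent.SmoothingLib.RegularResolve
import Groth.Agent.JacAdic16.GeomReg
import Groth.Agent.FBase.TensorAlgClosed
import Groth.Agent.S2471

/-!
A geometrically regular Noetherian algebra over a field is ind-smooth.
-/

namespace Groth.Agent.SmoothingLib.PopescuField

open MvPolynomial

universe u

variable {R Λ : Type u} [CommRing R] [CommRing Λ] [Algebra R Λ]

/-- `y` solving `∑ bᵢ yᵢ = 1` form a formally smooth algebra. -/
theorem formallySmooth_partition {B : Type u} [CommRing B] {n : ℕ} (b : Fin n → B) :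
    Algebra.FormallySmooth B
      (MvPolynomial (Fin n) B ⧸ Ideal.span {(∑ i, C (b i) * X i : MvPolynomial (Fin n) B) - 1}) := by
  let e : MvPolynomial (Fin n) B := ∑ i, C (b i) * X i - 1
  refine Algebra.FormallySmooth.of_comp_surjective fun Q _ _ J hJ f => ?_
  choose w hw using fun i => Ideal.Quotient.mk_surjective (f (Ideal.Quotient.mk (Ideal.span {e}) (X i)))
  let ε : Q := ∑ i, algebraMap B Q (b i) * w i - 1
  let w' : Fin n → Q := fun i => w i * (1 - ε)
  have hε : ε ∈ J := by
    have h0 : f (Ideal.Quotient.mk (Ideal.span {e}) e) = 0 := by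
      rw [Ideal.Quotient.eq_zero_iff_mem.2 (Ideal.mem_span_singleton_self e), map_zero]
    rw [← Ideal.Quotient.eq_zero_iff_mem]
    rw [← h0]
    simp only [ε, e, map_sub, map_sum, map_mul, map_one, hw]
    refine congrArg (fun t => t - (1 : Q ⧸ J)) (Finset.sum_congr rfl fun i _ => ?_)
    congr 1
    exact (f.commutes (b i)).symm
  have hεε : ε * ε = 0 := by
    have := Ideal.mul_mem_mul hε hε
    rwa [← sq J, hJ, Ideal.mem_bot] at this
  have he : aeval w' e = 0 := by
    simp only [e, map_sub, map_sum, map_mul, aeval_C, aeval_X, map_one, w']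
    simp only [← mul_assoc, ← Finset.sum_mul]
    have : (∑ i, algebraMap B Q (b i) * w i) = 1 + ε := by simp only [ε]; ring
    rw [this]
    linear_combination -hεε
  have hker : ∀ p ∈ Ideal.span {e}, aeval w' p = 0 := fun p hp => by
    obtain ⟨q, rfl⟩ := Ideal.mem_span_singleton'.1 hp
    rw [map_mul, he, mul_zero]
  refine ⟨Ideal.Quotient.liftₐ (Ideal.span {e}) (aeval w') hker,
    Ideal.Quotient.algHom_ext _ (algHom_ext fun i => ?_)⟩
  show Ideal.Quotient.mk J (aeval w' (X i)) = f (Ideal.Quotient.mk _ (X i))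
  rw [aeval_X, show w' i = w i - w i * ε by simp only [w']; ring, map_sub,
    Ideal.Quotient.eq_zero_iff_mem.2 (J.mul_mem_left (w i) hε), sub_zero, hw]

/-- If the extended singular ideal is the unit ideal, the map factors through a smooth algebra. -/
theorem exists_smooth_of_top {B : Type u} [CommRing B] [Algebra R B]
    [Algebra.FinitePresentation R B] (h : B →ₐ[R] Λ) (htop : Smoothing.singRad R h = ⊤) :
    ∃ (B' : Type u) (_ : CommRing B') (_ : Algebra R B'), Algebra.Smooth R B' ∧
      ∃ (g : B →ₐ[R] B') (h' : B' →ₐ[R] Λ), h'.comp g = h := by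
  have h1 : (Smoothing.singularIdeal R B).map h = ⊤ := Ideal.radical_eq_top.1 htop
  obtain ⟨n, c, g, hsum⟩ := Submodule.mem_span_set'.1 ((Ideal.eq_top_iff_one _).1 h1)
  choose b hb hbg using fun i => (g i).2
  let e : MvPolynomial (Fin n) B := ∑ i, C (b i) * X i - 1
  haveI : Algebra.FinitePresentation B (MvPolynomial (Fin n) B ⧸ Ideal.span {e}) :=
    Algebra.FinitePresentation.quotient (Submodule.fg_span_singleton e)
  haveI : Algebra.FinitePresentation R (MvPolynomial (Fin n) B ⧸ Ideal.span {e}) :=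
    Algebra.FinitePresentation.trans R B _
  haveI : Algebra.FormallySmooth B (MvPolynomial (Fin n) B ⧸ Ideal.span {e}) := formallySmooth_partition b
  haveI : Algebra.Smooth R (MvPolynomial (Fin n) B ⧸ Ideal.span {e}) := by
    refine ⟨?_, inferInstance⟩
    rw [← Algebra.smoothLocus_eq_univ_iff]
    refine Set.eq_univ_of_forall fun Q => ?_
    obtain ⟨i, hi⟩ : ∃ i, algebraMap B (MvPolynomial (Fin n) B ⧸ Ideal.span {e}) (b i) ∉ Q.asIdeal := by
      by_contra hall
      push Not at hall
      apply Q.2.ne_top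
      rw [Ideal.eq_top_iff_one]
      have h2 : (1 : MvPolynomial (Fin n) B ⧸ Ideal.span {e}) =
          ∑ i, algebraMap B _ (b i) * Ideal.Quotient.mk _ (X i) := by
        have h0 : Ideal.Quotient.mk (Ideal.span {e}) e = 0 :=
          Ideal.Quotient.eq_zero_iff_mem.2 (Ideal.mem_span_singleton_self e)
        simp only [e, map_sub, map_one, sub_eq_zero] at h0
        rw [← h0, map_sum]
        exact Finset.sum_congr rfl fun i _ => map_mul _ _ _
      rw [h2]
      exact Ideal.sum_mem _ fun i _ => Ideal.mul_mem_right _ _ (hall i)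
    haveI : Algebra.IsSmoothAt R (Q.asIdeal.comap (algebraMap B _)) :=
      DesingStd.isSmoothAt_of_notMem (hb i) _ hi
    haveI : Algebra.IsSmoothAt B Q.asIdeal :=
      Algebra.FormallySmooth.comp B (MvPolynomial (Fin n) B ⧸ Ideal.span {e}) (Localization.AtPrime Q.asIdeal)
    exact DesingStd.isSmoothAt_comp (D := B) Q.asIdeal
  let v : MvPolynomial (Fin n) B →ₐ[R] Λ := MvPolynomial.aevalTower h c
  have hv : ∀ p ∈ Ideal.span {e}, v p = 0 := fun p hp => by
    obtain ⟨q, rfl⟩ := Ideal.mem_span_singleton'.1 hp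
    have : v e = 0 := by
      simp only [e, v, map_sub, map_sum, map_mul, map_one, MvPolynomial.aevalTower_C,
        MvPolynomial.aevalTower_X]
      rw [sub_eq_zero, ← hsum]
      exact Finset.sum_congr rfl fun i _ => by rw [smul_eq_mul, ← hbg i, mul_comm]
    rw [map_mul, this, mul_zero]
  refine ⟨_, inferInstance, inferInstance, inferInstance,
    IsScalarTower.toAlgHom R B (MvPolynomial (Fin n) B ⧸ Ideal.span {e}),
    Ideal.Quotient.liftₐ (R₁ := R) (Ideal.span {e}) v hv, AlgHom.ext fun a => ?_⟩
  exact MvPolynomial.aevalTower_C _ _ a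

/-- Noetherian induction on the extended singular ideal. -/
theorem indSmooth_of_resolvable [IsNoetherianRing Λ]
    (H : ∀ (A : Type u) [CommRing A] [Algebra R A], Algebra.FinitePresentation R A →
      ∀ (φ : A →ₐ[R] Λ) (q : Ideal Λ), q ∈ (Smoothing.singRad R φ).minimalPrimes →
        Smoothing.Resolvable R φ q) :
    Smoothing.IndSmooth R Λ := by
  intro A _ _ hA φ
  let 𝒮 : Set (Ideal Λ) := {I | ∃ (B : Type u) (_ : CommRing B) (_ : Algebra R B),
    Algebra.FinitePresentation R B ∧ ∃ (g : A →ₐ[R] B) (h : B →ₐ[R] Λ),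
      h.comp g = φ ∧ Smoothing.singRad R h = I}
  obtain ⟨I, ⟨B, _, _, hB, g, h, hgh, rfl⟩, hmax⟩ :=
    set_has_maximal_iff_noetherian.2 ‹IsNoetherianRing Λ› 𝒮
      ⟨_, A, inferInstance, inferInstance, hA, AlgHom.id R A, φ, AlgHom.comp_id φ, rfl⟩
  haveI := hB
  by_cases htop : Smoothing.singRad R h = ⊤
  · obtain ⟨B', _, _, hB', g', h', hgh'⟩ := exists_smooth_of_top h htop
    exact ⟨B', inferInstance, inferInstance, hB', g'.comp g, h', by rw [← AlgHom.comp_assoc, hgh', hgh]⟩
  · exfalso
    obtain ⟨M, hM, hle⟩ := Ideal.exists_le_maximal _ htop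
    haveI := hM.isPrime
    obtain ⟨q, hq, -⟩ := Ideal.exists_minimalPrimes_le hle
    obtain ⟨B₂, _, _, hB₂, g₂, h₂, hgh₂, hle₂, hnot⟩ := H B hB h q hq
    exact hmax _ ⟨B₂, inferInstance, inferInstance, hB₂, g₂.comp g, h₂,
      by rw [← AlgHom.comp_assoc, hgh₂, hgh], rfl⟩
      (lt_of_le_not_ge hle₂ fun h3 => hnot (h3.trans hq.1.2))

/-- The case of a base field. -/
theorem indSmooth_field_base {k L : Type u} [Field k] [CommRing L] [Algebra k L] [IsNoetherianRing L]
    (hreg : CAlg.IsGeometricallyRegular k L) : Smoothing.IndSmooth k L := by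
  refine indSmooth_of_resolvable fun A _ _ hA φ q hq => ?_
  haveI := hA
  haveI : q.IsPrime := hq.1.1
  obtain ⟨p, hp⟩ := CharP.exists k
  rcases CharP.char_is_prime_or_zero k p with hprime | h0
  · haveI : Fact p.Prime := ⟨hprime⟩
    exact CharPResolve.resolvable_geometricallyRegular p hreg φ q hq
  · subst h0
    haveI : CharZero k := CharP.charP_to_charZero k
    obtain ⟨hregloc, -⟩ := Groth.Agent.S2471.result.mp
      (JacAdic16.GeomReg.adic_of_geomRegular (JacAdic16.GeomReg.localization hreg q))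
    haveI := hregloc
    haveI : Algebra.IsGeometricallyReduced k q.ResidueField :=
      FBase.TensorAlgClosed.isGeometricallyReduced_of_perfectField
    exact RegularResolve.resolvable_regular φ q hq

end Groth.Agent.SmoothingLib.PopescuField
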