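import Groth.Agent.SmoothingLib.Marked
import Mathlib.RingTheory.TensorProduct.MvPolynomial
import Mathlib.LinearAlgebra.TensorProduct.RightExactness

/-!
Base change of marked presentations.
-/

namespace Groth.Agent.SmoothingLib

open MvPolynomial TensorProduct

universe u

variable {R : Type u} [CommRing R] {A : Type u} [CommRing A] [Algebra R A]
  (R' : Type u) [CommRing R'] [Algebra R R']

/-- the polynomial surjection after base change -/
noncomputable def bcHom {n : ℕ} (φ : MvPolynomial (Fin n) R →ₐ[R] A) :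
    MvPolynomial (Fin n) R' →ₐ[R'] R' ⊗[R] A :=
  (Algebra.TensorProduct.map (AlgHom.id R' R') φ).comp
    (algebraTensorAlgEquiv (σ := Fin n) R R').symm.toAlgHom

theorem bcHom_map {n : ℕ} (φ : MvPolynomial (Fin n) R →ₐ[R] A) (x : MvPolynomial (Fin n) R) :
    bcHom R' φ (MvPolynomial.map (algebraMap R R') x) = (1 : R') ⊗ₜ φ x := by
  show Algebra.TensorProduct.map (AlgHom.id R' R') φ
    ((algebraTensorAlgEquiv (σ := Fin n) R R').symm (MvPolynomial.map (algebraMap R R') x)) = _
  rw [algebraTensorAlgEquiv_symm_map]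
  rfl

theorem bcHom_surjective {n : ℕ} {φ : MvPolynomial (Fin n) R →ₐ[R] A}
    (h : Function.Surjective φ) : Function.Surjective (bcHom R' φ) := by
  have h1 : Function.Surjective (Algebra.TensorProduct.map (AlgHom.id R' R') φ) :=
    LinearMap.lTensor_surjective R' (g := φ.toLinearMap) h
  exact h1.comp (algebraTensorAlgEquiv (σ := Fin n) R R').symm.surjective

theorem bcHom_ker {n m : ℕ} {φ : MvPolynomial (Fin n) R →ₐ[R] A} (h : Function.Surjective φ)
    (f : Fin m → MvPolynomial (Fin n) R)
    (hker : RingHom.ker φ.toRingHom = Ideal.span (Set.range f)) :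
    RingHom.ker (bcHom R' φ).toRingHom =
      Ideal.span (Set.range fun i => MvPolynomial.map (algebraMap R R') (f i)) := by
  apply le_antisymm
  · intro x hx
    set e := algebraTensorAlgEquiv (σ := Fin n) R R' with he
    have hle : RingHom.ker (Algebra.TensorProduct.map (AlgHom.id R R') φ).toRingHom ≤
        (Ideal.span (Set.range fun i => MvPolynomial.map (algebraMap R R') (f i))).comap
          e.toRingEquiv.toRingHom := by
      rw [show RingHom.ker (Algebra.TensorProduct.map (AlgHom.id R R') φ).toRingHom =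
        RingHom.ker (Algebra.TensorProduct.map (AlgHom.id R R') φ) from rfl,
        Algebra.TensorProduct.lTensor_ker (A := R') φ h, Ideal.map_le_iff_le_comap,
        show RingHom.ker φ = RingHom.ker φ.toRingHom from rfl, hker, Ideal.span_le]
      rintro _ ⟨i, rfl⟩
      show e (Algebra.TensorProduct.includeRight (f i)) ∈
        Ideal.span (Set.range fun i => MvPolynomial.map (algebraMap R R') (f i))
      rw [Algebra.TensorProduct.includeRight_apply, he, algebraTensorAlgEquiv_tmul, one_smul]
      exact Ideal.subset_span ⟨i, rfl⟩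
    have h1 : e.symm x ∈ RingHom.ker (Algebra.TensorProduct.map (AlgHom.id R R') φ).toRingHom := hx
    have h2 := hle h1
    rw [Ideal.mem_comap] at h2
    convert h2 using 1
    exact (e.apply_symm_apply x).symm
  · rw [Ideal.span_le]
    rintro _ ⟨i, rfl⟩
    show bcHom R' φ (MvPolynomial.map (algebraMap R R') (f i)) = 0
    rw [bcHom_map, show φ (f i) = 0 from hker.ge (Ideal.subset_span ⟨i, rfl⟩), tmul_zero]

variable (P : Smoothing.MarkedPresentation R A)

/-- base change of a marked presentation -/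
noncomputable def bcPres : Smoothing.MarkedPresentation R' (R' ⊗[R] A) where
  n := P.n
  m := P.m
  c := P.c
  hcn := P.hcn
  hcm := P.hcm
  rel i := MvPolynomial.map (algebraMap R R') (P.rel i)
  hom := bcHom R' P.hom
  surj := bcHom_surjective R' P.surj
  ker_eq := bcHom_ker R' P.surj P.rel P.ker_eq

theorem bcPres_minor (cols : Fin P.c → Fin P.n) :
    bcHom R' P.hom (Smoothing.jacobianMinor
        (fun i => MvPolynomial.map (algebraMap R R') (P.rel i)) (Fin.castLE P.hcm) cols) =
      (1 : R') ⊗ₜ P.hom (Smoothing.jacobianMinor P.rel (Fin.castLE P.hcm) cols) := by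
  rw [← bcHom_map R' P.hom]
  unfold Smoothing.jacobianMinor
  rw [RingHom.map_det]
  congr 2
  ext j k : 1
  exact pderiv_map

theorem bcPres_killsTail {a : A} (h : Smoothing.KillsTail P a) :
    Smoothing.KillsTail (bcPres R' P) ((1 : R') ⊗ₜ[R] a) := by
  show ∀ t' : MvPolynomial (Fin P.n) R', bcHom R' P.hom t' = (1 : R') ⊗ₜ[R] a →
    ∀ j : Fin P.m, P.c ≤ (j : ℕ) → t' * MvPolynomial.map (algebraMap R R') (P.rel j) ∈
      Ideal.span ((fun i => MvPolynomial.map (algebraMap R R') (P.rel i)) ''
        {j' : Fin P.m | (j' : ℕ) < P.c}) ⊔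
      Ideal.span (Set.range fun i => MvPolynomial.map (algebraMap R R') (P.rel i)) ^ 2
  intro t' ht' j hj
  obtain ⟨t, ht⟩ := P.surj a
  set μ : MvPolynomial (Fin P.n) R →+* MvPolynomial (Fin P.n) R' :=
    MvPolynomial.map (algebraMap R R') with hμ
  have hdiff : t' - μ t ∈ Ideal.span (Set.range fun i => μ (P.rel i)) := by
    rw [hμ, ← bcHom_ker R' P.surj P.rel P.ker_eq]
    show bcHom R' P.hom (t' - _) = 0
    rw [map_sub, ht', bcHom_map, ht, sub_self]
  have h1 := Ideal.mem_map_of_mem μ (h t ht j hj)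
  rw [Ideal.map_sup, Ideal.map_pow, Ideal.map_span, Ideal.map_span, ← Set.image_comp,
    ← Set.range_comp, map_mul] at h1
  have e : t' * μ (P.rel j) = μ t * μ (P.rel j) + (t' - μ t) * μ (P.rel j) := by ring
  rw [e]
  refine Ideal.add_mem _ h1 (Ideal.mem_sup_right ?_)
  rw [pow_two]
  exact Ideal.mul_mem_mul hdiff (Ideal.subset_span ⟨j, rfl⟩)

theorem isElementaryStandard_baseChange {a : A} (h : Smoothing.IsElementaryStandard R A a) :
    Smoothing.IsElementaryStandard R' (R' ⊗[R] A) ((1 : R') ⊗ₜ[R] a) := by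
  obtain ⟨P, ⟨a', ha'⟩, hk⟩ := h
  refine ⟨bcPres R' P, ⟨(1 : R') ⊗ₜ a', ?_⟩, bcPres_killsTail R' P hk⟩
  show _ = _ * bcHom R' P.hom (Smoothing.jacobianMinor
    (fun i => MvPolynomial.map (algebraMap R R') (P.rel i)) (Fin.castLE P.hcm) (Fin.castLE P.hcn))
  rw [bcPres_minor R' P (Fin.castLE P.hcn), Algebra.TensorProduct.tmul_mul_tmul, one_mul, ← ha']

theorem isStrictlyStandard_baseChange {a : A} (h : Smoothing.IsStrictlyStandard R A a) :
    Smoothing.IsStrictlyStandard R' (R' ⊗[R] A) ((1 : R') ⊗ₜ[R] a) := by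
  obtain ⟨P, ha, hk⟩ := h
  refine ⟨bcPres R' P, ?_, bcPres_killsTail R' P hk⟩
  have h1 := Ideal.mem_map_of_mem
    (Algebra.TensorProduct.includeRight : A →ₐ[R] R' ⊗[R] A).toRingHom ha
  rw [Ideal.map_span, ← Set.range_comp] at h1
  refine (?_ : Ideal.span _ ≤ Ideal.span _) h1
  apply Ideal.span_mono
  rintro _ ⟨cols, rfl⟩
  exact ⟨cols, bcPres_minor R' P cols⟩

end Groth.Agent.SmoothingLib
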