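import Groth.Agent.SmoothingLib.Desing
import Groth.Agent.SmoothingLib.BaseChange

/-!
Desingularization over an auxiliary algebra and the combination with the lifting lemma.
-/

namespace Groth.Agent.SmoothingLib.DesingStd

open TensorProduct

universe u

variable {R : Type u} [CommRing R]

theorem isSmoothAt_comp {D B : Type u} [CommRing D] [Algebra R D] [CommRing B] [Algebra R B]
    [Algebra D B] [IsScalarTower R D B] (Q : Ideal B) [Q.IsPrime] [Algebra.IsSmoothAt D Q]
    [Algebra.IsSmoothAt R (Q.comap (algebraMap D B))] : Algebra.IsSmoothAt R Q := by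
  haveI : Q.LiesOver (Q.comap (algebraMap D B)) := ⟨rfl⟩
  letI : Algebra (Localization.AtPrime (Q.comap (algebraMap D B))) (Localization.AtPrime Q) :=
    Localization.AtPrime.algebraOfLiesOver (Q.comap (algebraMap D B)) Q
  haveI : IsScalarTower D (Localization.AtPrime (Q.comap (algebraMap D B))) (Localization.AtPrime Q) :=
    IsScalarTower.of_algebraMap_eq' (IsLocalization.lift_comp _).symm
  haveI : IsScalarTower R (Localization.AtPrime (Q.comap (algebraMap D B))) (Localization.AtPrime Q) :=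
    IsScalarTower.of_algebraMap_eq fun r => by
      rw [IsScalarTower.algebraMap_apply R D (Localization.AtPrime (Q.comap (algebraMap D B))),
        ← IsScalarTower.algebraMap_apply D (Localization.AtPrime (Q.comap (algebraMap D B))),
        ← IsScalarTower.algebraMap_apply R D]
  haveI : Algebra.FormallySmooth R (Localization.AtPrime (Q.comap (algebraMap D B))) :=
    ‹Algebra.IsSmoothAt R (Q.comap (algebraMap D B))›
  haveI : Algebra.FormallySmooth D (Localization.AtPrime Q) := ‹Algebra.IsSmoothAt D Q›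
  haveI : Algebra.FormallySmooth (Localization.AtPrime (Q.comap (algebraMap D B)))
      (Localization.AtPrime Q) :=
    Algebra.FormallySmooth.localization_base (Q.comap (algebraMap D B)).primeCompl
  exact Algebra.FormallySmooth.comp R (Localization.AtPrime (Q.comap (algebraMap D B))) _

theorem mem_singularIdeal {B : Type u} [CommRing B] [Algebra R B] {b : B}
    (h : ∀ (Q : Ideal B) [Q.IsPrime], b ∉ Q → Algebra.IsSmoothAt R Q) :
    b ∈ Smoothing.singularIdeal R B :=
  (PrimeSpectrum.mem_vanishingIdeal _ _).2 fun P hP => by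
    by_contra hb
    exact hP (h P.asIdeal hb)

theorem isSmoothAt_of_notMem {B : Type u} [CommRing B] [Algebra R B] {b : B}
    (hb : b ∈ Smoothing.singularIdeal R B) (Q : Ideal B) [Q.IsPrime] (hQ : b ∉ Q) :
    Algebra.IsSmoothAt R Q := by
  by_contra hns
  exact hQ ((PrimeSpectrum.mem_vanishingIdeal _ _).1 hb ⟨Q, inferInstance⟩ hns)

theorem exists_notMem {B : Type u} [CommRing B] [Algebra R B] [Algebra.FinitePresentation R B]
    (Q : Ideal B) [Q.IsPrime] [Algebra.IsSmoothAt R Q] :
    ∃ b ∈ Smoothing.singularIdeal R B, b ∉ Q := by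
  obtain ⟨g, hgQ, hsm⟩ := Algebra.IsSmoothAt.exists_notMem_smooth R Q
  exact ⟨g, mem_singularIdeal fun P _ hP =>
    Algebra.basicOpen_subset_smoothLocus_iff_smooth.2 hsm (show g ∉ (⟨P, inferInstance⟩ : PrimeSpectrum B).asIdeal from hP),
    hgQ⟩

/-- annihilator defect of `π` on the smooth locus -/
theorem exists_pow_kill [IsNoetherianRing R] {D : Type u} [CommRing D] [Algebra R D]
    [Algebra.FinitePresentation R D] {π : R} (hR : ∀ r : R, π ^ 2 * r = 0 → π * r = 0) {d : D}
    (hd : d ∈ Smoothing.singularIdeal R D) :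
    ∃ N : ℕ, ∀ x : D, algebraMap R D π ^ 2 * x = 0 → algebraMap R D π * (d ^ N * x) = 0 := by
  classical
  haveI : IsNoetherianRing D := Algebra.FiniteType.isNoetherianRing R D
  haveI : Algebra.Smooth R (Localization.Away d) :=
    Algebra.basicOpen_subset_smoothLocus_iff_smooth.1 fun P hP => by
      by_contra hns
      exact hP ((PrimeSpectrum.mem_vanishingIdeal _ _).1 hd P hns)
  let Ann : Submodule D D := LinearMap.ker (LinearMap.mulLeft D (algebraMap R D π ^ 2))
  obtain ⟨K, g, hg⟩ := Submodule.fg_iff_exists_fin_generating_family.1 (IsNoetherian.noetherian Ann)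
  have hk : ∀ j, ∃ k : ℕ, d ^ k * (algebraMap R D π * g j) = 0 := fun j => by
    have hgj : algebraMap R D π ^ 2 * g j = 0 := by
      have h1 : g j ∈ Ann := hg ▸ Submodule.subset_span ⟨j, rfl⟩
      exact h1
    have h2 := LiftingLemma.smul_eq_zero_of_flat (M := Localization.Away d) hR
      (x := algebraMap D _ (g j)) (by
        rw [Algebra.smul_def, IsScalarTower.algebraMap_apply R D (Localization.Away d), ← map_mul, map_pow,
          hgj, map_zero])
    rw [Algebra.smul_def, IsScalarTower.algebraMap_apply R D (Localization.Away d), ← map_mul] at h2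
    obtain ⟨⟨_, k, rfl⟩, hk⟩ := (IsLocalization.map_eq_zero_iff (Submonoid.powers d) _ _).1 h2
    exact ⟨k, hk⟩
  choose k hk using hk
  refine ⟨∑ j, k j, fun x hx => ?_⟩
  have hle : Ann ≤ LinearMap.ker (LinearMap.mulLeft D (algebraMap R D π * d ^ (∑ j, k j))) := by
    conv_lhs => rw [← hg]
    refine Submodule.span_le.2 ?_
    rintro _ ⟨j, rfl⟩
    show algebraMap R D π * d ^ (∑ j, k j) * g j = 0
    obtain ⟨e, he⟩ := Nat.exists_eq_add_of_le' (Finset.single_le_sum (fun i _ => Nat.zero_le (k i))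
      (Finset.mem_univ j))
    rw [he, pow_add, show algebraMap R D π * (d ^ e * d ^ k j) * g j =
      d ^ e * (d ^ k j * (algebraMap R D π * g j)) by ring, hk, mul_zero]
  rw [← mul_assoc]
  exact hle hx

set_option maxHeartbeats 800000 in
theorem desingularize_strictly_standard [IsNoetherianRing R] {Λ A D : Type u} [CommRing Λ]
    [Algebra R Λ] (π : R) (hR : ∀ r : R, π ^ 2 * r = 0 → π * r = 0)
    (hΛ : ∀ x : Λ, π ^ 2 • x = 0 → π • x = 0) [CommRing A] [Algebra R A]
    [Algebra.FinitePresentation R A] [CommRing D] [Algebra R D] [Algebra.FinitePresentation R D]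
    (φ : A →ₐ[R] Λ) (δ : D →ₐ[R] Λ) (hπ : Smoothing.IsStrictlyStandard R A (algebraMap R A π))
    (ψ : A →ₐ[R] D ⧸ Ideal.span {algebraMap R D (π ^ 4)})
    (hψ : ∀ (a : A) (d : D), Ideal.Quotient.mk (Ideal.span {algebraMap R D (π ^ 4)}) d = ψ a →
      δ d - φ a ∈ Ideal.span {algebraMap R Λ (π ^ 4)}) :
    ∃ (B : Type u) (_ : CommRing B) (_ : Algebra R B) (_ : Algebra D B) (_ : IsScalarTower R D B),
      Algebra.FinitePresentation R B ∧
      ∃ (α : A →ₐ[R] B) (β : B →ₐ[R] Λ), β.comp α = φ ∧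
        β.comp (IsScalarTower.toAlgHom R D B) = δ ∧
        (Smoothing.singularIdeal R D).map (algebraMap D B) ≤ Smoothing.singularIdeal D B ∧
        (Smoothing.singularIdeal R D).map (algebraMap D B) ≤ Smoothing.singularIdeal R B := by
  classical
  haveI : IsNoetherianRing D := Algebra.FiniteType.isNoetherianRing R D
  letI : Algebra D Λ := δ.toRingHom.toAlgebra
  haveI : IsScalarTower R D Λ := IsScalarTower.of_algebraMap_eq fun r => (δ.commutes r).symm
  let δ' : D →ₐ[D] Λ := Algebra.ofId D Λ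
  let φD : D ⊗[R] A →ₐ[D] Λ := Algebra.TensorProduct.lift δ' φ fun _ _ => Commute.all _ _
  have hπD : algebraMap D (D ⊗[R] A) (algebraMap R D π) = (1 : D) ⊗ₜ[R] algebraMap R A π := by
    rw [← IsScalarTower.algebraMap_apply]
    exact ((Algebra.TensorProduct.includeRight : A →ₐ[R] D ⊗[R] A).commutes π).symm
  have hstd := isStrictlyStandard_baseChange D hπ
  rw [← hπD] at hstd
  have hid : Ideal.span {algebraMap R D π ^ 4} = Ideal.span {algebraMap R D (π ^ 4)} := by rw [map_pow]
  let ψ' : A →ₐ[R] D ⧸ Ideal.span {algebraMap R D π ^ 4} := (Ideal.quotientEquivAlgOfEq R hid.symm).toAlgHom.comp ψ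
  let ρ : D ⊗[R] A →ₐ[D] D ⧸ Ideal.span {algebraMap R D π ^ 4} :=
    Algebra.TensorProduct.lift (Ideal.Quotient.mkₐ D _) ψ' fun _ _ => Commute.all _ _
  have hΛ' : ∀ x : Λ, algebraMap R D π ^ 2 • x = 0 → algebraMap R D π • x = 0 := fun x hx => by
    rw [← map_pow, IsScalarTower.algebraMap_smul] at hx
    rw [IsScalarTower.algebraMap_smul]
    exact hΛ x hx
  have hρ : ∀ (a : D ⊗[R] A) (r : D), Ideal.Quotient.mk (Ideal.span {algebraMap R D π ^ 4}) r = ρ a →
      algebraMap D Λ r - φD a ∈ Ideal.span {algebraMap D Λ (algebraMap R D π ^ 4)} := by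
    have hsp : Ideal.span {algebraMap D Λ (algebraMap R D π ^ 4)} = Ideal.span {algebraMap R Λ (π ^ 4)} := by
      rw [← map_pow, ← IsScalarTower.algebraMap_apply]
    let χ : D ⊗[R] A → Prop := fun a => ∃ r : D,
      Ideal.Quotient.mk (Ideal.span {algebraMap R D π ^ 4}) r = ρ a ∧
      δ r - φD a ∈ Ideal.span {algebraMap R Λ (π ^ 4)}
    have hall : ∀ a, χ a := fun a => by
      induction a using TensorProduct.induction_on with
      | zero => exact ⟨0, by simp, by simp⟩
      | tmul d a =>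
        obtain ⟨r, hr⟩ := Ideal.Quotient.mk_surjective (ψ a)
        refine ⟨d * r, ?_, ?_⟩
        · rw [map_mul]
          show _ = Ideal.Quotient.mk _ d * Ideal.quotientEquivAlgOfEq R hid.symm (ψ a)
          rw [← hr]
          rfl
        · rw [map_mul]
          show δ d * δ r - δ d * φ a ∈ _
          rw [← mul_sub]
          exact Ideal.mul_mem_left _ _ (hψ a r hr)
      | add x y hx hy =>
        obtain ⟨r, h1, h2⟩ := hx
        obtain ⟨r', h1', h2'⟩ := hy
        refine ⟨r + r', by rw [map_add, map_add, h1, h1'], ?_⟩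
        rw [map_add, map_add, add_sub_add_comm]
        exact Ideal.add_mem _ h2 h2'
    intro a r hr
    obtain ⟨r', h1, h2⟩ := hall a
    rw [hsp]
    show δ r - φD a ∈ _
    obtain ⟨e, he⟩ := Ideal.mem_span_singleton.1 (Ideal.Quotient.eq.1 (hr.trans h1.symm))
    have h3 : δ r - δ r' ∈ Ideal.span {algebraMap R Λ (π ^ 4)} := by
      rw [← map_sub, he, map_mul, map_pow δ, AlgHom.commutes, map_pow]
      exact Ideal.mul_mem_right _ _ (Ideal.mem_span_singleton_self _)
    rw [show δ r - φD a = (δ r - δ r') + (δ r' - φD a) by ring]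
    exact Ideal.add_mem _ h3 h2
  obtain ⟨B, _, _, hB, αD, βD, hαβ, hsing⟩ :=
    Desing.desingularize (algebraMap R D π) hΛ' φD hstd ρ hρ
  letI : Algebra R B := ((algebraMap D B).comp (algebraMap R D)).toAlgebra
  haveI : IsScalarTower R D B := IsScalarTower.of_algebraMap_eq' rfl
  haveI : Algebra.FinitePresentation R B := by
    haveI := hB
    exact Algebra.FinitePresentation.trans R D B
  have hDB : ∀ d ∈ Smoothing.singularIdeal R D, algebraMap D B d ∈ Smoothing.singularIdeal D B :=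
    fun d hd => by
      obtain ⟨N, hN⟩ := exists_pow_kill hR hd
      refine mem_singularIdeal fun Q _ hQ => isSmoothAt_of_notMem (hsing (d ^ N) hN) Q fun hmem => hQ ?_
      rw [map_pow] at hmem
      exact Ideal.IsPrime.mem_of_pow_mem ‹Q.IsPrime› _ hmem
  refine ⟨B, inferInstance, inferInstance, inferInstance, inferInstance, inferInstance,
    (αD.restrictScalars R).comp Algebra.TensorProduct.includeRight, βD.restrictScalars R, ?_, ?_,
    Ideal.map_le_iff_le_comap.2 hDB, Ideal.map_le_iff_le_comap.2 fun d hd => ?_⟩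
  · refine AlgHom.ext fun a => ?_
    show βD (αD ((1 : D) ⊗ₜ[R] a)) = φ a
    rw [← AlgHom.comp_apply, hαβ]
    show δ 1 * φ a = φ a
    rw [map_one, one_mul]
  · refine AlgHom.ext fun d => ?_
    show βD (algebraMap D B d) = δ d
    rw [AlgHom.commutes]
    rfl
  · refine mem_singularIdeal fun Q _ hQ => ?_
    haveI := isSmoothAt_of_notMem (hDB d hd) Q hQ
    haveI : Algebra.IsSmoothAt R (Q.comap (algebraMap D B)) :=
      isSmoothAt_of_notMem hd (Q.comap (algebraMap D B)) hQ
    exact isSmoothAt_comp (D := D) Q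

theorem lifting' [IsNoetherianRing R] {Λ C : Type u} [CommRing Λ] [Algebra R Λ] (p q : R) (hq : q = p ^ 2)
    (hR : ∀ r : R, p ^ 2 * r = 0 → p * r = 0) (hΛ : ∀ x : Λ, p ^ 2 • x = 0 → p • x = 0)
    [CommRing C] [Algebra R C] [Algebra (R ⧸ Ideal.span {q}) C]
    [IsScalarTower R (R ⧸ Ideal.span {q}) C] [Algebra.FinitePresentation (R ⧸ Ideal.span {q}) C]
    (g : C →ₐ[R] Λ ⧸ Ideal.span {algebraMap R Λ q}) :
    ∃ (D : Type u) (_ : CommRing D) (_ : Algebra R D), Algebra.FinitePresentation R D ∧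
      ∃ (δ : D →ₐ[R] Λ) (ψ : C →ₐ[R] D ⧸ Ideal.span {algebraMap R D p}),
        (∀ (c : C) (d : D) (l : Λ), Ideal.Quotient.mk (Ideal.span {algebraMap R D p}) d = ψ c →
          Ideal.Quotient.mk (Ideal.span {algebraMap R Λ q}) l = g c →
            δ d - l ∈ Ideal.span {algebraMap R Λ p}) ∧
        (∀ (Q : Ideal D) [Q.IsPrime], algebraMap R D p ∉ Q → Algebra.IsSmoothAt R Q) ∧
        (∀ (Q : Ideal (D ⧸ Ideal.span {algebraMap R D p})) [Q.IsPrime],
          Algebra.IsSmoothAt (R ⧸ Ideal.span {q}) (Q.comap ψ) →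
            Algebra.IsSmoothAt R (Q.comap (Ideal.Quotient.mk (Ideal.span {algebraMap R D p})))) := by
  subst hq
  exact LiftingLemma.lifting_lemma p hR hΛ g

set_option maxHeartbeats 800000 in
theorem desingularize_lifting [IsNoetherianRing R] {Λ A C : Type u} [CommRing Λ]
    [Algebra R Λ] (π : R) (hR : ∀ r : R, π ^ 2 * r = 0 → π * r = 0)
    (hΛ : ∀ x : Λ, π ^ 2 • x = 0 → π • x = 0) [CommRing A] [Algebra R A]
    [Algebra.FinitePresentation R A] (φ : A →ₐ[R] Λ)
    (hπ : Smoothing.IsStrictlyStandard R A (algebraMap R A π))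
    [CommRing C] [Algebra R C] [Algebra (R ⧸ Ideal.span {π ^ 8}) C]
    [IsScalarTower R (R ⧸ Ideal.span {π ^ 8}) C]
    [Algebra.FinitePresentation (R ⧸ Ideal.span {π ^ 8}) C]
    (γ : A →ₐ[R] C) (g : C →ₐ[R] Λ ⧸ Ideal.span {algebraMap R Λ (π ^ 8)})
    (hfac : ∀ a : A, g (γ a) = Ideal.Quotient.mk (Ideal.span {algebraMap R Λ (π ^ 8)}) (φ a)) :
    ∃ (B : Type u) (_ : CommRing B) (_ : Algebra R B), Algebra.FinitePresentation R B ∧
      ∃ (α : A →ₐ[R] B) (β : B →ₐ[R] Λ), β.comp α = φ ∧
        (∀ (Q : Ideal B) [Q.IsPrime], algebraMap R B π ∉ Q → Algebra.IsSmoothAt R Q) ∧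
        (Smoothing.singularIdeal (R ⧸ Ideal.span {π ^ 8}) C).map g ≤
          ((Smoothing.singularIdeal R B).map β).radical.map
            (Ideal.Quotient.mk (Ideal.span {algebraMap R Λ (π ^ 8)})) := by
  classical
  have h4R : ∀ r : R, (π ^ 4) ^ 2 * r = 0 → π ^ 4 * r = 0 := by
    intro r hr
    have step : ∀ k, π ^ (k + 2) * r = 0 → π ^ (k + 1) * r = 0 := fun k hk => by
      rw [pow_succ', mul_assoc]
      exact hR (π ^ k * r) (by rw [← mul_assoc, ← pow_add, add_comm]; exact hk)
    rw [← pow_mul, show 4 * 2 = 6 + 2 by norm_num] at hr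
    rw [show 4 = 3 + 1 by norm_num]
    have s6 := step 6 hr
    rw [show 6 + 1 = 5 + 2 by norm_num] at s6
    have s5 := step 5 s6
    rw [show 5 + 1 = 4 + 2 by norm_num] at s5
    have s4 := step 4 s5
    rw [show 4 + 1 = 3 + 2 by norm_num] at s4
    exact step 3 s4
  have h4Λ : ∀ x : Λ, (π ^ 4) ^ 2 • x = 0 → π ^ 4 • x = 0 := by
    intro x hx
    have step : ∀ k, π ^ (k + 2) • x = 0 → π ^ (k + 1) • x = 0 := fun k hk => by
      rw [pow_succ', mul_smul]
      exact hΛ (π ^ k • x) (by rw [← mul_smul, ← pow_add, add_comm]; exact hk)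
    rw [← pow_mul, show 4 * 2 = 6 + 2 by norm_num] at hx
    rw [show 4 = 3 + 1 by norm_num]
    have s6 := step 6 hx
    rw [show 6 + 1 = 5 + 2 by norm_num] at s6
    have s5 := step 5 s6
    rw [show 5 + 1 = 4 + 2 by norm_num] at s5
    have s4 := step 4 s5
    rw [show 4 + 1 = 3 + 2 by norm_num] at s4
    exact step 3 s4
  have h8 : π ^ 8 = (π ^ 4) ^ 2 := by rw [← pow_mul]
  obtain ⟨D, _, _, hDfp, δ, ψC, hcomp, hsmπ, hsmC'⟩ := lifting' (π ^ 4) (π ^ 8) h8 h4R h4Λ g
  haveI := hDfp
  have hψcompat : ∀ (a : A) (d : D), Ideal.Quotient.mk (Ideal.span {algebraMap R D (π ^ 4)}) d = ψC (γ a) →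
      δ d - φ a ∈ Ideal.span {algebraMap R Λ (π ^ 4)} := fun a d hd => by
    exact hcomp (γ a) d (φ a) hd (hfac a).symm
  obtain ⟨B, _, _, _, _, hBfp, α, β, hαφ, hβδ, -, hsingR⟩ :=
    desingularize_strictly_standard π hR hΛ φ δ hπ (ψC.comp γ) hψcompat
  have hDB : ∀ d ∈ Smoothing.singularIdeal R D, δ d ∈ (Smoothing.singularIdeal R B).map β := fun d hd => by
    have h1 := Ideal.mem_map_of_mem β (hsingR (Ideal.mem_map_of_mem (algebraMap D B) hd))
    rwa [show β (algebraMap D B d) = δ d from DFunLike.congr_fun hβδ d] at h1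
  have hBπ : ∀ (Q : Ideal B) [Q.IsPrime], algebraMap R B π ∉ Q → Algebra.IsSmoothAt R Q := by
    intro Q _ hQ
    haveI : Algebra.IsSmoothAt R (Q.comap (algebraMap D B)) := hsmπ _ fun hmem => hQ (by
      rw [Ideal.mem_comap, ← IsScalarTower.algebraMap_apply, map_pow] at hmem
      exact Ideal.IsPrime.mem_of_pow_mem ‹Q.IsPrime› _ hmem)
    obtain ⟨d, hd, hdQ⟩ := exists_notMem (R := R) (Q.comap (algebraMap D B))
    exact isSmoothAt_of_notMem (hsingR (Ideal.mem_map_of_mem _ hd)) Q hdQ
  refine ⟨B, inferInstance, inferInstance, hBfp, α, β, hαφ, hBπ, Ideal.map_le_iff_le_comap.2 fun c hc => ?_⟩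
  obtain ⟨d, hd⟩ := Ideal.Quotient.mk_surjective (ψC c)
  obtain ⟨l, hl⟩ := Ideal.Quotient.mk_surjective (g c)
  rw [Ideal.mem_comap, ← hl]
  refine Ideal.mem_map_of_mem _ (Ideal.le_radical ?_)
  have hπB : algebraMap R Λ (π ^ 4) ∈ (Smoothing.singularIdeal R B).map β := by
    rw [map_pow]
    refine Ideal.pow_mem_of_mem _ ?_ 4 (by norm_num)
    rw [← β.commutes]
    exact Ideal.mem_map_of_mem β (mem_singularIdeal hBπ)
  have hdS : d ∈ Smoothing.singularIdeal R D := mem_singularIdeal fun Q _ hdQ => by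
    by_cases hπQ : algebraMap R D (π ^ 4) ∈ Q
    · have hle : RingHom.ker (Ideal.Quotient.mk (Ideal.span {algebraMap R D (π ^ 4)})) ≤ Q := by
        rw [Ideal.mk_ker, Ideal.span_le, Set.singleton_subset_iff]
        exact hπQ
      haveI := Ideal.map_isPrime_of_surjective Ideal.Quotient.mk_surjective hle
      have hQ' : (Q.map (Ideal.Quotient.mk (Ideal.span {algebraMap R D (π ^ 4)}))).comap
          (Ideal.Quotient.mk (Ideal.span {algebraMap R D (π ^ 4)})) = Q := by
        rw [Ideal.comap_map_of_surjective _ Ideal.Quotient.mk_surjective, ← RingHom.ker_eq_comap_bot]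
        exact sup_eq_left.2 hle
      have hsc : Algebra.IsSmoothAt (R ⧸ Ideal.span {π ^ 8})
          ((Q.map (Ideal.Quotient.mk (Ideal.span {algebraMap R D (π ^ 4)}))).comap ψC) :=
        isSmoothAt_of_notMem hc _ (fun hmem => hdQ (by
          rw [← hQ', Ideal.mem_comap, hd]; exact hmem))
      have h1 := hsmC' (Q.map (Ideal.Quotient.mk (Ideal.span {algebraMap R D (π ^ 4)}))) hsc
      have key : ∀ P : Ideal D, ∀ _ : P.IsPrime, P = Q → Algebra.IsSmoothAt R P → Algebra.IsSmoothAt R Q := by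
        rintro P _ rfl hP; exact hP
      exact key _ inferInstance hQ' h1
    · exact hsmπ Q hπQ
  have h1 : δ d - l ∈ (Smoothing.singularIdeal R B).map β :=
    (Ideal.span_le.2 (Set.singleton_subset_iff.2 hπB)) (hcomp c d l hd hl)
  rw [show l = δ d - (δ d - l) by ring]
  exact Ideal.sub_mem _ (hDB d hdS) h1

end Groth.Agent.SmoothingLib.DesingStd
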