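import Groth.Agent.SmoothingLib.Strict
import Mathlib.RingTheory.Smooth.Flat
import Mathlib.RingTheory.Flat.EquationalCriterion
import Mathlib.RingTheory.MvPolynomial.Localization

/-!
The lifting lemma: lifting an algebra over `R/π²` to an algebra over `R` smooth away from `π`.
-/

namespace Groth.Agent.SmoothingLib.LiftingLemma

open MvPolynomial

universe u

variable {R : Type u} [CommRing R]

theorem smul_eq_zero_of_flat {M : Type u} [AddCommGroup M] [Module R M] [Module.Flat R M] {π : R}
    (hR : ∀ r : R, π ^ 2 * r = 0 → π * r = 0) {x : M} (hx : π ^ 2 • x = 0) : π • x = 0 := by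
  obtain ⟨κ, a, y, hxy, ha⟩ := Module.Flat.isTrivialRelation_of_sum_smul_eq_zero
    (f := fun _ : Fin 1 => π ^ 2) (x := fun _ => x) (by simpa using hx)
  rw [show x = ∑ j, a 0 j • y j from hxy 0, Finset.smul_sum]
  refine Finset.sum_eq_zero fun j _ => ?_
  rw [← mul_smul, hR (a 0 j) (by simpa using ha j), zero_smul]

/-- the Jacobian determinant of a square system -/
noncomputable def jd {N : ℕ} {κ : Type} [Fintype κ] [DecidableEq κ]
    (v : κ → MvPolynomial (Fin N) R) (cols : κ → Fin N) : MvPolynomial (Fin N) R :=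
  Matrix.det (Matrix.of fun j k => pderiv (cols k) (v j))

theorem jd_reindex {N : ℕ} {κ κ' : Type} [Fintype κ] [DecidableEq κ] [Fintype κ'] [DecidableEq κ']
    (v : κ → MvPolynomial (Fin N) R) (cols : κ → Fin N) (e : κ' ≃ κ) :
    jd (v ∘ e) (cols ∘ e) = jd v cols :=
  Matrix.det_submatrix_equiv_self e (Matrix.of fun j k => pderiv (cols k) (v j))

theorem smooth_away_jd {N : ℕ} {κ : Type} [Fintype κ] [DecidableEq κ]
    (v : κ → MvPolynomial (Fin N) R) (cols : κ → Fin N) (hcols : Function.Injective cols)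
    (t : MvPolynomial (Fin N) R) :
    Algebra.Smooth R (Localization.Away (Ideal.Quotient.mk (Ideal.span (Set.range v)) (t * jd v cols))) := by
  classical
  let e := (Fintype.equivFin κ).symm
  have hsp : Ideal.span (Set.range (v ∘ e)) = Ideal.span (Set.range v) := by
    rw [e.surjective.range_comp]
  haveI := isStandardSmooth_away_of_minor (A := MvPolynomial (Fin N) R ⧸ Ideal.span (Set.range v))
    (v ∘ e) (Ideal.Quotient.mkₐ R _) (Ideal.Quotient.mkₐ_surjective R _)
    ((Ideal.Quotient.mkₐ_ker R _).trans hsp.symm) id (cols ∘ e) (hcols.comp e.injective)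
    (Ideal.Quotient.mk (Ideal.span (Set.range v)) (t * jd v cols))
    ⟨Ideal.Quotient.mk _ t, by
      rw [map_mul, ← jd_reindex v cols e]
      rfl⟩
    fun j s _ => Ideal.mem_sup_left (Ideal.mul_mem_left _ _ (Ideal.subset_span ⟨j, rfl⟩))
  infer_instance

theorem isSmoothAt_of_mul_mem [IsNoetherianRing R] {N : ℕ} {κ : Type} [Fintype κ] [DecidableEq κ]
    (I : Ideal (MvPolynomial (Fin N) R)) (v : κ → MvPolynomial (Fin N) R) (hv : ∀ i, v i ∈ I)
    (cols : κ → Fin N) (hcols : Function.Injective cols) (t : MvPolynomial (Fin N) R)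
    (ht : ∀ x ∈ I, t * x ∈ Ideal.span (Set.range v))
    (Q : Ideal (MvPolynomial (Fin N) R ⧸ I)) [Q.IsPrime]
    (hQ : Ideal.Quotient.mk I (t * jd v cols) ∉ Q) : Algebra.IsSmoothAt R Q := by
  classical
  let e := (Fintype.equivFin κ).symm
  obtain ⟨K, g, hg⟩ := Submodule.fg_iff_exists_fin_generating_family.1 (IsNoetherian.noetherian I)
  have hsp : Ideal.span (Set.range (Fin.append g (v ∘ e))) = I := by
    refine le_antisymm (Ideal.span_le.2 ?_) ?_
    · rintro _ ⟨j, rfl⟩
      induction j using Fin.addCases with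
      | left j => rw [Fin.append_left]; exact hg ▸ Submodule.subset_span ⟨j, rfl⟩
      | right j => rw [Fin.append_right]; exact hv _
    · conv_lhs => rw [← hg]
      exact Ideal.span_le.2 (by
        rintro _ ⟨j, rfl⟩
        exact Ideal.subset_span ⟨Fin.castAdd _ j, Fin.append_left _ _ _⟩)
  have hrows : (Fin.append g (v ∘ e)) ∘ Fin.natAdd K = v ∘ e := funext fun j => Fin.append_right _ _ _
  have hjd : Matrix.det (Matrix.of fun j k =>
      pderiv ((cols ∘ e) k) (Fin.append g (v ∘ e) (Fin.natAdd K j))) = jd v cols := by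
    simp only [Fin.append_right]
    exact jd_reindex v cols e
  haveI := isStandardSmooth_away_of_minor (A := MvPolynomial (Fin N) R ⧸ I)
    (Fin.append g (v ∘ e)) (Ideal.Quotient.mkₐ R I) (Ideal.Quotient.mkₐ_surjective R _)
    ((Ideal.Quotient.mkₐ_ker R I).trans hsp.symm) (Fin.natAdd K) (cols ∘ e)
    (hcols.comp e.injective) (Ideal.Quotient.mk I (t * jd v cols))
    ⟨Ideal.Quotient.mk I t, by rw [map_mul, hjd]; rfl⟩
    fun j s hs => by
      have hmem : ∀ j, Fin.append g (v ∘ e) j ∈ I := fun j =>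
        hsp.le (Ideal.subset_span ⟨j, rfl⟩)
      have hd : s - t * jd v cols ∈ I := Ideal.Quotient.eq.1 hs
      rw [show s * Fin.append g (v ∘ e) j = jd v cols * (t * Fin.append g (v ∘ e) j) +
        (s - t * jd v cols) * Fin.append g (v ∘ e) j from by ring]
      simp only [hrows, hsp, e.surjective.range_comp]
      exact Ideal.add_mem _ (Ideal.mem_sup_left (Ideal.mul_mem_left _ _ (ht _ (hmem j))))
        (Ideal.mem_sup_right (by rw [sq]; exact Ideal.mul_mem_mul hd (hmem j)))
  haveI : Algebra.FinitePresentation R (MvPolynomial (Fin N) R ⧸ I) :=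
    Algebra.FinitePresentation.quotient (IsNoetherian.noetherian I)
  exact Algebra.basicOpen_subset_smoothLocus_iff_smooth.2
    (inferInstance : Algebra.Smooth R (Localization.Away (Ideal.Quotient.mk I (t * jd v cols))))
    (show Ideal.Quotient.mk I (t * jd v cols) ∉ (⟨Q, inferInstance⟩ : PrimeSpectrum _).asIdeal from hQ)

theorem castAdd_ne_natAdd {n m : ℕ} (i : Fin n) (j : Fin m) : Fin.castAdd m i ≠ Fin.natAdd n j :=
  fun h => by
    have := congrArg Fin.val h
    simp at this
    omega

variable (π : R) {n m : ℕ}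

/-- `fⱼ - π zⱼ` -/
noncomputable def F (f : Fin m → MvPolynomial (Fin n) R) (j : Fin m) :
    MvPolynomial (Fin (n + m)) R :=
  rename (Fin.castAdd m) (f j) - C π * X (Fin.natAdd n j)

/-- `∑ eⱼ zⱼ - π b` -/
noncomputable def G (e : Fin m → MvPolynomial (Fin n) R) (b : MvPolynomial (Fin n) R) :
    MvPolynomial (Fin (n + m)) R :=
  (∑ j, rename (Fin.castAdd m) (e j) * X (Fin.natAdd n j)) - C π * rename (Fin.castAdd m) b

/-- the ideal of the lift -/
noncomputable def relI (f : Fin m → MvPolynomial (Fin n) R) : Ideal (MvPolynomial (Fin (n + m)) R) :=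
  Ideal.span (Set.range (F π f) ∪
    {x | ∃ e b, (∑ j, e j * f j = C (π ^ 2) * b) ∧ x = G π e b})

variable {π} (f : Fin m → MvPolynomial (Fin n) R)

theorem F_mem (j : Fin m) : F π f j ∈ relI π f := Ideal.subset_span (Or.inl ⟨j, rfl⟩)

theorem G_mem {e : Fin m → MvPolynomial (Fin n) R} {b : MvPolynomial (Fin n) R}
    (h : ∑ j, e j * f j = C (π ^ 2) * b) : G π e b ∈ relI π f :=
  Ideal.subset_span (Or.inr ⟨e, b, h, rfl⟩)

theorem C_pow_eq (σ : Type) (r : R) (k : ℕ) : (C (r ^ k) : MvPolynomial σ R) = C r ^ k := map_pow _ _ _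

theorem pi_mul_G {e : Fin m → MvPolynomial (Fin n) R} {b : MvPolynomial (Fin n) R}
    (h : ∑ j, e j * f j = C (π ^ 2) * b) :
    C π * G π e b = -∑ j, rename (Fin.castAdd m) (e j) * F π f j := by
  have h' := congrArg (rename (R := R) (Fin.castAdd m)) h
  simp only [map_sum, map_mul, rename_C, C_pow_eq] at h'
  simp only [G, F, mul_sub, Finset.mul_sum, Finset.sum_sub_distrib]
  rw [h', neg_sub, ← mul_assoc, ← sq, map_pow, rename_C]
  exact congrArg (· - _) (Finset.sum_congr rfl fun j _ => by ring)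

/-- smoothness where `π` is invertible -/
theorem isSmoothAt_notMem [IsNoetherianRing R] (Q : Ideal (MvPolynomial (Fin (n + m)) R ⧸ relI π f))
    [Q.IsPrime] (hQ : algebraMap R (MvPolynomial (Fin (n + m)) R ⧸ relI π f) π ∉ Q) :
    Algebra.IsSmoothAt R Q := by
  classical
  refine isSmoothAt_of_mul_mem (relI π f) (F π f) (F_mem f) (fun j => Fin.natAdd n j)
    (Fin.natAdd_injective m n) (C π) (fun x hx => ?_) Q ?_
  · have hle : relI π f ≤ Submodule.comap (LinearMap.mulLeft (MvPolynomial (Fin (n + m)) R) (C π))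
        (Ideal.span (Set.range (F π f))) := by
      refine Ideal.span_le.2 ?_
      rintro _ (⟨j, rfl⟩ | ⟨e, b, hb, rfl⟩)
      · show C π * F π f j ∈ Ideal.span (Set.range (F π f))
        exact Ideal.mul_mem_left _ _ (Ideal.subset_span ⟨j, rfl⟩)
      · show C π * G π e b ∈ Ideal.span (Set.range (F π f))
        rw [pi_mul_G f hb]
        exact neg_mem (Ideal.sum_mem _ fun j _ => Ideal.mul_mem_left _ _ (Ideal.subset_span ⟨j, rfl⟩))
    exact hle hx
  · have hjd : jd (F π f) (fun j => Fin.natAdd n j) = (-C π) ^ m := by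
      have : (Matrix.of fun j k => pderiv (Fin.natAdd n k) (F π f j)) =
          Matrix.diagonal fun _ => -C π := by
        refine Matrix.ext fun j k => ?_
        have h0 : pderiv (Fin.natAdd n k) (rename (Fin.castAdd m) (f j)) = 0 := by
          apply pderiv_eq_zero_of_notMem_vars
          intro hmem
          obtain ⟨i, -, hi⟩ := Finset.mem_image.1 (vars_rename _ _ hmem)
          exact (castAdd_ne_natAdd i k) hi
        by_cases h : j = k
        · subst h
          simp [F, h0]
        · simp [F, h0, h, pderiv_X_of_ne (fun e => h (Fin.natAdd_injective m n e))]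
      rw [jd, this, Matrix.det_diagonal, Finset.prod_const, Finset.card_univ, Fintype.card_fin]
    rw [hjd, map_mul, map_pow, map_neg]
    intro hmem
    rcases Ideal.IsPrime.mem_or_mem ‹Q.IsPrime› hmem with h | h
    · exact hQ h
    · exact hQ (neg_mem_iff.1 (Ideal.IsPrime.mem_of_pow_mem ‹Q.IsPrime› _ h))

/-- Cramer plus differentiation: relations among complete intersection equations modulo `π²` -/
theorem det_mul_coeff {c : ℕ} (g : Fin c → MvPolynomial (Fin n) R) (cols : Fin c → Fin n)
    (co : Fin c → MvPolynomial (Fin n) R) (b : MvPolynomial (Fin n) R)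
    (h : ∑ i, co i * g i = C (π ^ 2) * b) :
    ∃ (E : Fin c → Fin c → MvPolynomial (Fin n) R) (d : Fin c → MvPolynomial (Fin n) R),
      ∀ i, Matrix.det (Matrix.of fun j k : Fin c => pderiv (cols k) (g j)) * co i =
        (∑ l, E i l * g l) + C (π ^ 2) * d i := by
  classical
  let M : Matrix (Fin c) (Fin c) (MvPolynomial (Fin n) R) := Matrix.of fun j k => pderiv (cols k) (g j)
  have hk : ∀ k, Matrix.vecMul co M k =
      C (π ^ 2) * pderiv (cols k) b - ∑ l, pderiv (cols k) (co l) * g l := by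
    intro k
    have h1 := congrArg (pderiv (cols k)) h
    simp only [map_sum, Derivation.leibniz, pderiv_C, smul_eq_mul, mul_zero, add_zero,
      Finset.sum_add_distrib] at h1
    rw [eq_sub_iff_add_eq, ← h1]
    simp only [Matrix.vecMul, dotProduct, M, Matrix.of_apply]
    congr 1
    exact Finset.sum_congr rfl fun l _ => mul_comm _ _
  refine ⟨fun i l => -∑ k, pderiv (cols k) (co l) * M.adjugate k i,
    fun i => ∑ k, pderiv (cols k) b * M.adjugate k i, fun i => ?_⟩
  have h2 : M.det * co i = ∑ k, Matrix.vecMul co M k * M.adjugate k i := by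
    have : Matrix.vecMul (Matrix.vecMul co M) M.adjugate i = (M.det • co) i := by
      rw [Matrix.vecMul_vecMul, Matrix.mul_adjugate, Matrix.vecMul_smul, Matrix.vecMul_one]
    exact this.symm
  refine h2.trans ?_
  simp only [hk, sub_mul, Finset.sum_sub_distrib, Finset.mul_sum, Finset.sum_mul, neg_mul,
    Finset.sum_neg_distrib]
  rw [Finset.sum_comm (γ := Fin c) (α := Fin c)]
  rw [neg_add_eq_sub]
  congr 1
  · exact Finset.sum_congr rfl fun k _ => by ring
  · exact Finset.sum_congr rfl fun k _ => Finset.sum_congr rfl fun l _ => by ring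

theorem pderiv_castAdd_rename (k : Fin n) (p : MvPolynomial (Fin n) R) :
    pderiv (Fin.castAdd m k) (rename (Fin.castAdd m) p) = rename (Fin.castAdd m) (pderiv k p) :=
  pderiv_rename (Fin.castAdd_injective n m) k p

theorem pderiv_natAdd_rename (k : Fin m) (p : MvPolynomial (Fin n) R) :
    pderiv (Fin.natAdd n k) (rename (Fin.castAdd m) p) = 0 := by
  classical
  apply pderiv_eq_zero_of_notMem_vars
  intro hmem
  obtain ⟨i, -, hi⟩ := Finset.mem_image.1 (vars_rename _ _ hmem)
  exact (castAdd_ne_natAdd i k) hi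

/-- coefficients of the relation saying that `fₗ` is a combination of the chosen rows -/
noncomputable def ew {c : ℕ} (rows : Fin c ↪ Fin m) (d : MvPolynomial (Fin n) R)
    (a : Fin m → Fin c → MvPolynomial (Fin n) R) (l j : Fin m) : MvPolynomial (Fin n) R :=
  (if j = l then d else 0) - ∑ i, if rows i = j then a l i else 0

theorem ew_spec {c : ℕ} (rows : Fin c ↪ Fin m) (d : MvPolynomial (Fin n) R)
    (a : Fin m → Fin c → MvPolynomial (Fin n) R) (bb : Fin m → MvPolynomial (Fin n) R)
    (hd : ∀ l, d * f l = (∑ i, a l i * f (rows i)) + C (π ^ 2) * bb l) (l : Fin m) :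
    ∑ j, ew rows d a l j * f j = C (π ^ 2) * bb l := by
  simp only [ew, sub_mul, Finset.sum_mul, ite_mul, zero_mul, Finset.sum_sub_distrib,
    Finset.sum_ite_eq', Finset.mem_univ, if_true]
  rw [Finset.sum_comm]
  simp only [Finset.sum_ite_eq, Finset.mem_univ, if_true]
  rw [hd, add_sub_cancel_left]

theorem G_ew {c : ℕ} (rows : Fin c ↪ Fin m) (d : MvPolynomial (Fin n) R)
    (a : Fin m → Fin c → MvPolynomial (Fin n) R) (bb : MvPolynomial (Fin n) R) (l : Fin m) :
    G π (ew rows d a l) bb = rename (Fin.castAdd m) d * X (Fin.natAdd n l) -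
      (∑ i, rename (Fin.castAdd m) (a l i) * X (Fin.natAdd n (rows i))) -
      C π * rename (Fin.castAdd m) bb := by
  simp only [G, ew, map_sub, map_sum, apply_ite (rename (R := R) (Fin.castAdd m)), map_zero,
    sub_mul, Finset.sum_mul, ite_mul, zero_mul, Finset.sum_sub_distrib, Finset.sum_ite_eq',
    Finset.mem_univ, if_true]
  rw [Finset.sum_comm]
  simp only [Finset.sum_ite_eq, Finset.mem_univ, if_true]

set_option maxHeartbeats 800000 in
/-- a flat point with invertible minor where the chosen equations hold kills all relations -/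
theorem kills_relI (hR : ∀ r : R, π ^ 2 * r = 0 → π * r = 0) {c : ℕ}
    (rows : Fin c ↪ Fin m) (cols : Fin c → Fin n) (d : MvPolynomial (Fin n) R)
    (a : Fin m → Fin c → MvPolynomial (Fin n) R) (bb : Fin m → MvPolynomial (Fin n) R)
    (hd : ∀ l, d * f l = (∑ i, a l i * f (rows i)) + C (π ^ 2) * bb l)
    {T : Type u} [CommRing T] [Algebra R T] [Module.Flat R T]
    (Φ : MvPolynomial (Fin (n + m)) R →ₐ[R] T)
    (hrow : ∀ i, Φ (F π f (rows i)) = 0)
    (hnot : ∀ l, l ∉ Set.range rows → Φ (G π (ew rows d a l) (bb l)) = 0)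
    (hud : IsUnit (Φ (rename (Fin.castAdd m) d)))
    (huΔ : IsUnit (Φ (rename (Fin.castAdd m)
      (Matrix.det (Matrix.of fun j k : Fin c => pderiv (cols k) (f (rows j))))))) :
    ∀ x ∈ relI π f, Φ x = 0 := by
  classical
  let Δ := Matrix.det (Matrix.of fun j k : Fin c => pderiv (cols k) (f (rows j)))
  -- relations supported on the rows die
  have hrowG : ∀ (co : Fin c → MvPolynomial (Fin n) R) (b : MvPolynomial (Fin n) R),
      ∑ i, co i * f (rows i) = C (π ^ 2) * b →
      Φ ((∑ i, rename (Fin.castAdd m) (co i) * X (Fin.natAdd n (rows i))) -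
        C π * rename (Fin.castAdd m) b) = 0 := by
    intro co b hb
    obtain ⟨Ec, dc, hE⟩ := det_mul_coeff (fun i => f (rows i)) cols co b hb
    let ι := fun p => Φ (rename (Fin.castAdd m) p)
    let z : Fin c → _ := fun i => Φ (X (Fin.natAdd n (rows i)))
    let p := algebraMap R T π
    have hf : ∀ i, ι (f (rows i)) = p * z i := fun i => by
      have := hrow i
      simp only [F, map_sub, map_mul, sub_eq_zero] at this
      simp only [ι, z, p]
      rw [this]
      congr 1
      exact AlgHom.commutes Φ π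
    have hC : ∀ (r : R), ι (C r) = algebraMap R _ r := fun r => by
      simp only [ι, rename_C]
      exact AlgHom.commutes Φ r
    have hb' : ∑ i, ι (co i) * (p * z i) = p ^ 2 * ι b := by
      have := congrArg ι hb
      simp only [ι, map_sum, map_mul] at this
      simp only [← hf, p, ← map_pow]
      rw [← hC]
      exact this
    have hE' : ∀ i, ι Δ * ι (co i) = (∑ l, ι (Ec i l) * (p * z l)) + p ^ 2 * ι (dc i) := fun i => by
      have := congrArg ι (hE i)
      simp only [ι, map_sum, map_mul, map_add] at this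
      simp only [← hf, p, ← map_pow]
      rw [← hC]
      exact this
    let x := (∑ i, ι (co i) * z i) - p * ι b
    have hpx : p * x = 0 := by
      simp only [x, mul_sub, Finset.mul_sum]
      rw [show ∑ i, p * (ι (co i) * z i) = ∑ i, ι (co i) * (p * z i) from
        Finset.sum_congr rfl fun i _ => by ring, hb']
      ring
    let s := (∑ i, ((∑ l, ι (Ec i l) * z l) + p * ι (dc i)) * z i) - ι Δ * ι b
    have hxs : ι Δ * x = p * s := by
      simp only [x, s, mul_sub, Finset.mul_sum]
      congr 1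
      · refine Finset.sum_congr rfl fun i _ => ?_
        rw [← mul_assoc, hE', ← mul_assoc, mul_add, Finset.mul_sum]
        congr 2
        · exact Finset.sum_congr rfl fun l _ => by ring
        · ring
      · ring
    have hps : p * s = 0 := by
      have h2 : π ^ 2 • s = 0 := by
        rw [Algebra.smul_def, map_pow, sq, mul_assoc]
        show p * (p * s) = 0
        rw [← hxs, mul_left_comm, hpx, mul_zero]
      have := smul_eq_zero_of_flat hR h2
      rwa [Algebra.smul_def] at this
    have hx0 : x = 0 := huΔ.mul_right_eq_zero.1 (hxs.trans hps)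
    rw [← hx0]
    simp only [x, map_sub, map_sum, map_mul, ι, z, p]
    congr 2
    exact AlgHom.commutes Φ π
  have hw : ∀ l, Φ (G π (ew rows d a l) (bb l)) = 0 := fun l => by
    by_cases hl : l ∈ Set.range rows
    · obtain ⟨i, rfl⟩ := hl
      rw [G_ew]
      have := hrowG (fun j => (if j = i then d else 0) - a (rows i) j) (bb (rows i)) (by
        simp [sub_mul, ite_mul, Finset.sum_sub_distrib, hd])
      rw [← this]
      simp [sub_mul, ite_mul, apply_ite (rename (R := R) (Fin.castAdd m)), Finset.sum_sub_distrib]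
    · exact hnot l hl
  have hG : ∀ e b, ∑ j, e j * f j = C (π ^ 2) * b → Φ (G π e b) = 0 := by
    intro e b hb
    refine hud.mul_right_eq_zero.1 ?_
    have := hrowG (fun i => ∑ l, e l * a l i) (d * b - ∑ l, e l * bb l) (by
      simp only [Finset.sum_mul]
      rw [Finset.sum_comm, mul_sub, mul_left_comm, ← hb, Finset.mul_sum, Finset.mul_sum,
        ← Finset.sum_sub_distrib]
      refine Finset.sum_congr rfl fun l _ => ?_
      rw [mul_left_comm, hd, mul_add, Finset.mul_sum]
      simp only [mul_assoc, mul_left_comm (C (π ^ 2))]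
      ring)
    have e1 : (rename (Fin.castAdd m) d) * G π e b = ((∑ i, rename (Fin.castAdd m) (∑ l, e l * a l i) * X (Fin.natAdd n (rows i))) -
        C π * rename (Fin.castAdd m) (d * b - ∑ l, e l * bb l)) +
        ∑ l, rename (Fin.castAdd m) (e l) * G π (ew rows d a l) (bb l) := by
      have h2 : ∑ l, rename (Fin.castAdd m) (e l) * G π (ew rows d a l) (bb l) =
          rename (Fin.castAdd m) d * (∑ l, rename (Fin.castAdd m) (e l) * X (Fin.natAdd n l)) -
          (∑ i, (∑ l, rename (Fin.castAdd m) (e l) * rename (Fin.castAdd m) (a l i)) *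
            X (Fin.natAdd n (rows i))) -
          C π * ∑ l, rename (Fin.castAdd m) (e l) * rename (Fin.castAdd m) (bb l) := by
        rw [Finset.mul_sum, Finset.mul_sum,
          show ∑ i, (∑ l, rename (Fin.castAdd m) (e l) * rename (Fin.castAdd m) (a l i)) *
              X (Fin.natAdd n (rows i)) = ∑ l, ∑ i, rename (Fin.castAdd m) (e l) *
              (rename (Fin.castAdd m) (a l i) * X (Fin.natAdd n (rows i))) from by
            simp only [Finset.sum_mul, mul_assoc]
            exact Finset.sum_comm,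
          ← Finset.sum_sub_distrib, ← Finset.sum_sub_distrib]
        refine Finset.sum_congr rfl fun l _ => ?_
        rw [G_ew, mul_sub, mul_sub, Finset.mul_sum]
        ring
      rw [h2]
      simp only [G, map_sub, map_sum, map_mul]
      ring
    rw [← map_mul, e1, map_add, this, map_sum, zero_add]
    exact Finset.sum_eq_zero fun l _ => by rw [map_mul, hw, mul_zero]
  have hF : ∀ l, Φ (F π f l) = 0 := fun l => by
    refine hud.mul_right_eq_zero.1 ?_
    have e1 : (rename (Fin.castAdd m) d) * F π f l = (∑ i, rename (Fin.castAdd m) (a l i) * F π f (rows i)) -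
        C π * G π (ew rows d a l) (bb l) := by
      have h1 := congrArg (rename (R := R) (Fin.castAdd m)) (hd l)
      simp only [map_add, map_sum, map_mul, rename_C, C_pow_eq, map_pow] at h1
      rw [G_ew, F, mul_sub, h1]
      simp only [F, mul_sub, Finset.sum_sub_distrib, Finset.mul_sum, map_pow, C_pow_eq]
      rw [show ∑ i, rename (Fin.castAdd m) (a l i) * (C π * X (Fin.natAdd n (rows i))) =
          ∑ i, C π * (rename (Fin.castAdd m) (a l i) * X (Fin.natAdd n (rows i))) from
        Finset.sum_congr rfl fun i _ => mul_left_comm _ _ _]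
      ring
    rw [← map_mul, e1, map_sub, map_sum, map_mul _ (C π), hw, mul_zero, sub_zero]
    refine Finset.sum_eq_zero fun i _ => ?_
    rw [map_mul, hrow i, mul_zero]
  have hle : relI π f ≤ RingHom.ker Φ.toRingHom := Ideal.span_le.2 (by
    rintro _ (⟨j, rfl⟩ | ⟨e, b, hb, rfl⟩)
    · exact hF j
    · exact hG e b hb)
  exact fun x hx => hle hx

set_option maxHeartbeats 800000 in
/-- smoothness over the smooth locus of the reduction -/
theorem isSmoothAt_of_minor [IsNoetherianRing R] (hR : ∀ r : R, π ^ 2 * r = 0 → π * r = 0) {c : ℕ}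
    (rows : Fin c ↪ Fin m) (cols : Fin c ↪ Fin n) (d : MvPolynomial (Fin n) R)
    (a : Fin m → Fin c → MvPolynomial (Fin n) R) (bb : Fin m → MvPolynomial (Fin n) R)
    (hd : ∀ l, d * f l = (∑ i, a l i * f (rows i)) + C (π ^ 2) * bb l)
    (Q : Ideal (MvPolynomial (Fin (n + m)) R ⧸ relI π f)) [Q.IsPrime]
    (hQ : Ideal.Quotient.mk (relI π f) (rename (Fin.castAdd m)
      (d * Matrix.det (Matrix.of fun j k : Fin c => pderiv (cols k) (f (rows j))))) ∉ Q) :
    Algebra.IsSmoothAt R Q := by
  classical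
  have hew := ew_spec f rows d a bb hd
  let v : Fin c ⊕ {l : Fin m // l ∉ Set.range rows} → MvPolynomial (Fin (n + m)) R :=
    Sum.elim (fun i => F π f (rows i)) fun l => G π (ew rows d a l.1) (bb l.1)
  have hv : ∀ i, v i ∈ relI π f := by
    rintro (i | l)
    · exact F_mem f _
    · exact G_mem f (hew _)
  let cl : Fin c ⊕ {l : Fin m // l ∉ Set.range rows} → Fin (n + m) :=
    Sum.elim (fun i => Fin.castAdd m (cols i)) fun l => Fin.natAdd n l.1
  have hcl : Function.Injective cl := by
    refine Function.Injective.sumElim ((Fin.castAdd_injective n m).comp cols.injective)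
      ((Fin.natAdd_injective m n).comp Subtype.val_injective) fun i l => ?_
    exact castAdd_ne_natAdd _ _
  let Δ := Matrix.det (Matrix.of fun j k : Fin c => pderiv (cols k) (f (rows j)))
  let K := Fintype.card {l : Fin m // l ∉ Set.range rows}
  have hjd : jd v cl = rename (Fin.castAdd m) (Δ * d ^ K) := by
    have hM : (Matrix.of fun j k => pderiv (cl k) (v j)) = Matrix.fromBlocks
        (Matrix.of fun j k : Fin c => rename (Fin.castAdd m) (pderiv (cols k) (f (rows j))))
        0
        (Matrix.of fun (l : {l : Fin m // l ∉ Set.range rows}) k =>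
          pderiv (Fin.castAdd m (cols k)) (G π (ew rows d a l.1) (bb l.1)))
        (Matrix.diagonal fun _ => rename (Fin.castAdd m) d) := by
      refine Matrix.ext fun j k => ?_
      rcases j with j | l <;> rcases k with k | l'
      · have h0 : pderiv (Fin.castAdd m (cols k)) (X (Fin.natAdd n (rows j)) :
            MvPolynomial (Fin (n + m)) R) = 0 :=
          pderiv_X_of_ne (castAdd_ne_natAdd _ _).symm
        simp [v, cl, F, h0, pderiv_castAdd_rename]
      · have h0 : pderiv (Fin.natAdd n l'.1) (X (Fin.natAdd n (rows j)) :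
            MvPolynomial (Fin (n + m)) R) = 0 :=
          pderiv_X_of_ne fun h => l'.2 ⟨j, Fin.natAdd_injective m n h⟩
        simp [v, cl, F, h0, pderiv_natAdd_rename]
      · rfl
      · have h0 : ∀ i, pderiv (Fin.natAdd n l'.1) (X (Fin.natAdd n (rows i)) :
            MvPolynomial (Fin (n + m)) R) = 0 := fun i =>
          pderiv_X_of_ne fun h => l'.2 ⟨i, Fin.natAdd_injective m n h⟩
        show pderiv (Fin.natAdd n l'.1) (G π (ew rows d a l.1) (bb l.1)) = _
        by_cases h : l = l'
        · subst h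
          simp [G_ew, h0, pderiv_natAdd_rename]
        · have h1 : pderiv (Fin.natAdd n l'.1) (X (Fin.natAdd n l.1) :
              MvPolynomial (Fin (n + m)) R) = 0 :=
            pderiv_X_of_ne fun e => h (Subtype.ext (Fin.natAdd_injective m n e))
          simp [G_ew, h0, h1, pderiv_natAdd_rename, h]
    rw [jd, hM, Matrix.det_fromBlocks_zero₁₂, Matrix.det_diagonal, Finset.prod_const, Finset.card_univ,
      map_mul, map_pow]
    congr 1
    exact (RingHom.map_det (rename (R := R) (Fin.castAdd m)).toRingHom _).symm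
  let t₀ : MvPolynomial (Fin (n + m)) R := rename (Fin.castAdd m) d
  haveI hsm := smooth_away_jd v cl hcl t₀
  let Φ : MvPolynomial (Fin (n + m)) R →ₐ[R]
      Localization.Away (Ideal.Quotient.mk (Ideal.span (Set.range v)) (t₀ * jd v cl)) :=
    (IsScalarTower.toAlgHom R (MvPolynomial (Fin (n + m)) R ⧸ Ideal.span (Set.range v)) _).comp (Ideal.Quotient.mkₐ R (Ideal.span (Set.range v)))
  have hΦv : ∀ i, Φ (v i) = 0 := fun i => by
    have h0 : Ideal.Quotient.mk (Ideal.span (Set.range v)) (v i) = 0 :=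
      Ideal.Quotient.eq_zero_iff_mem.2 (Ideal.subset_span ⟨i, rfl⟩)
    show algebraMap (MvPolynomial (Fin (n + m)) R ⧸ Ideal.span (Set.range v)) _
      (Ideal.Quotient.mk (Ideal.span (Set.range v)) (v i)) = 0
    rw [h0, map_zero]
  have hu₀ : IsUnit (Φ (t₀ * jd v cl)) :=
    IsLocalization.Away.algebraMap_isUnit (Ideal.Quotient.mk (Ideal.span (Set.range v)) (t₀ * jd v cl))
  have hu : IsUnit (Φ t₀ * Φ (rename (Fin.castAdd m) (Δ * d ^ K))) := by
    have h1 := (map_mul Φ t₀ (jd v cl)) ▸ hu₀
    exact (congrArg Φ hjd) ▸ h1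
  have hud : IsUnit (Φ t₀) := isUnit_of_mul_isUnit_left hu
  have huΔ : IsUnit (Φ (rename (Fin.castAdd m) Δ)) := by
    refine isUnit_of_mul_isUnit_left (y := Φ (rename (Fin.castAdd m) (d ^ K))) ?_
    exact ((congrArg Φ (map_mul (rename (Fin.castAdd m)) Δ (d ^ K))).trans (map_mul Φ _ _)) ▸
      isUnit_of_mul_isUnit_right hu
  have hker : ∀ x ∈ relI π f, Φ x = 0 :=
    kills_relI f hR rows cols d a bb hd Φ (fun i => hΦv (Sum.inl i)) (fun l hl => hΦv (Sum.inr ⟨l, hl⟩))
      hud huΔ
  -- uniform exponent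
  obtain ⟨K₀, g, hg⟩ := Submodule.fg_iff_exists_fin_generating_family.1
    (IsNoetherian.noetherian (relI π f))
  have hk : ∀ j, ∃ k : ℕ, (t₀ * jd v cl) ^ k * g j ∈ Ideal.span (Set.range v) := fun j => by
    have h0 := hker (g j) (hg ▸ Submodule.subset_span ⟨j, rfl⟩)
    obtain ⟨⟨_, k, rfl⟩, hk⟩ := (IsLocalization.map_eq_zero_iff
      (Submonoid.powers (Ideal.Quotient.mk (Ideal.span (Set.range v)) (t₀ * jd v cl))) _ _).1 h0
    refine ⟨k, Ideal.Quotient.eq_zero_iff_mem.1 ?_⟩
    rw [map_mul, map_pow]; exact hk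
  choose k hk using hk
  have hkill : ∀ x ∈ relI π f, (t₀ * jd v cl) ^ (∑ j, k j) * x ∈ Ideal.span (Set.range v) := by
    have hle : relI π f ≤ Submodule.comap
        (LinearMap.mulLeft (MvPolynomial (Fin (n + m)) R) ((t₀ * jd v cl) ^ (∑ j, k j)))
        (Ideal.span (Set.range v)) := by
      conv_lhs => rw [← hg]
      refine Submodule.span_le.2 ?_
      rintro _ ⟨j, rfl⟩
      show (t₀ * jd v cl) ^ (∑ j, k j) * g j ∈ Ideal.span (Set.range v)
      obtain ⟨r, hr⟩ := Nat.exists_eq_add_of_le' (Finset.single_le_sum (fun i _ => Nat.zero_le (k i))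
        (Finset.mem_univ j))
      rw [hr, pow_add, mul_assoc]
      exact Ideal.mul_mem_left _ _ (hk j)
    exact fun x hx => hle hx
  refine isSmoothAt_of_mul_mem (relI π f) v hv cl hcl _ hkill Q ?_
  rw [map_mul, map_mul] at hQ
  have hQd : Ideal.Quotient.mk (relI π f) t₀ ∉ Q := fun h => hQ (Q.mul_mem_right _ h)
  have hQj : Ideal.Quotient.mk (relI π f) (jd v cl) ∉ Q := fun h => by
    rw [hjd, map_mul, map_mul, map_pow, map_pow] at h
    rcases Ideal.IsPrime.mem_or_mem ‹Q.IsPrime› h with h | h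
    · exact hQ (Q.mul_mem_left _ h)
    · exact hQd (Ideal.IsPrime.mem_of_pow_mem ‹Q.IsPrime› _ h)
  rw [map_mul, map_pow, map_mul]
  intro h
  rcases Ideal.IsPrime.mem_or_mem ‹Q.IsPrime› h with h | h
  · exact (Ideal.IsPrime.mem_or_mem ‹Q.IsPrime› (Ideal.IsPrime.mem_of_pow_mem ‹Q.IsPrime› _ h)).elim hQd hQj
  · exact hQj h

/-- the map from the reduction -/
theorem exists_psi {A T : Type u} [CommRing A] [Algebra R A] [CommRing T] [Algebra R T]
    (χ : MvPolynomial (Fin n) R →ₐ[R] A) (hχs : Function.Surjective χ)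
    (hχ : ∀ p, χ p = 0 → ∃ q ∈ Ideal.span (Set.range f), ∃ r, p = C (π ^ 2) * r + q)
    (qq : MvPolynomial (Fin (n + m)) R →ₐ[R] T) (hF : ∀ j, qq (F π f j) = 0)
    (hπ : algebraMap R T π = 0) :
    ∃ ψ : A →ₐ[R] T, ∀ p, ψ (χ p) = qq (rename (Fin.castAdd m) p) := by
  have hC : qq (C π) = 0 := (AlgHom.commutes qq π).trans hπ
  have hωK : RingHom.ker χ.toRingHom ≤
      RingHom.ker (qq.comp (rename (Fin.castAdd m))).toRingHom := fun p hp => by
    obtain ⟨q, hq, r, rfl⟩ := hχ p hp
    have hle : Ideal.span (Set.range f) ≤ RingHom.ker (qq.comp (rename (Fin.castAdd m))).toRingHom := by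
      refine Ideal.span_le.2 ?_
      rintro _ ⟨j, rfl⟩
      have h1 := hF j
      rw [F, map_sub, map_mul, hC, zero_mul, sub_zero] at h1
      exact h1
    show qq (rename (Fin.castAdd m) (C (π ^ 2) * r + q)) = 0
    rw [map_add, map_add, show qq (rename (Fin.castAdd m) q) = 0 from hle hq, add_zero, map_mul,
      map_mul, rename_C, map_pow, map_pow, hC, zero_pow two_ne_zero, zero_mul]
  exact ⟨AlgHom.liftOfSurjective χ hχs _ hωK, fun p => AlgHom.liftOfSurjective_apply χ hχs _ hωK p⟩

/-- the map to `Λ` -/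
theorem exists_delta {Λ : Type u} [CommRing Λ] [Algebra R Λ]
    (hΛ : ∀ x : Λ, π ^ 2 • x = 0 → π • x = 0) (εΛ : MvPolynomial (Fin n) R →ₐ[R] Λ)
    (hε : ∀ j, ∃ μ : Λ, εΛ (f j) = algebraMap R Λ (π ^ 2) * μ) :
    ∃ δ : (MvPolynomial (Fin (n + m)) R ⧸ relI π f) →ₐ[R] Λ,
      ∀ p, δ (Ideal.Quotient.mk (relI π f) (rename (Fin.castAdd m) p)) = εΛ p := by
  choose μ hμ using hε
  let δ₀ : MvPolynomial (Fin (n + m)) R →ₐ[R] Λ :=
    aeval (Fin.append (fun i => εΛ (X i)) fun j => algebraMap R Λ π * μ j)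
  have hδx : ∀ p, δ₀ (rename (Fin.castAdd m) p) = εΛ p := fun p =>
    DFunLike.congr_fun (show δ₀.comp (rename (Fin.castAdd m)) = εΛ from
      algHom_ext fun i => by simp [δ₀]) p
  have hδz : ∀ j, δ₀ (X (Fin.natAdd n j)) = algebraMap R Λ π * μ j := fun j => by simp [δ₀]
  have hδC : ∀ r, δ₀ (C r) = algebraMap R Λ r := fun r => AlgHom.commutes δ₀ r
  have hεC : ∀ r, εΛ (C r) = algebraMap R Λ r := fun r => AlgHom.commutes εΛ r
  have hδI : ∀ x ∈ relI π f, δ₀ x = 0 := by
    have hle : relI π f ≤ RingHom.ker δ₀.toRingHom := Ideal.span_le.2 (by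
      rintro _ (⟨j, rfl⟩ | ⟨e, b, hb, rfl⟩)
      · show δ₀ (F π f j) = 0
        rw [F, map_sub, map_mul, hδx, hδz, hδC, hμ, map_pow]
        ring
      · show δ₀ (G π e b) = 0
        have h1 := congrArg εΛ hb
        simp only [map_sum, map_mul, hμ, hεC] at h1
        have h3 : δ₀ (G π e b) = algebraMap R Λ π * ((∑ j, εΛ (e j) * μ j) - εΛ b) := by
          simp only [G, map_sub, map_mul, map_sum, hδx, hδz, hδC, mul_sub, Finset.mul_sum]
          congr 1
          exact Finset.sum_congr rfl fun j _ => by ring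
        rw [h3, ← Algebra.smul_def]
        refine hΛ _ ?_
        rw [Algebra.smul_def, mul_sub, Finset.mul_sum, ← h1, sub_eq_zero]
        exact Finset.sum_congr rfl fun j _ => by ring)
    exact fun x hx => hle hx
  exact ⟨Ideal.Quotient.liftₐ _ δ₀ hδI, fun p => hδx p⟩

set_option maxHeartbeats 800000 in
theorem lifting_lemma [IsNoetherianRing R] {Λ A : Type u} [CommRing Λ] [Algebra R Λ] (π : R)
    (hR : ∀ r : R, π ^ 2 * r = 0 → π * r = 0) (hΛ : ∀ x : Λ, π ^ 2 • x = 0 → π • x = 0)
    [CommRing A] [Algebra R A] [Algebra (R ⧸ Ideal.span {π ^ 2}) A]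
    [IsScalarTower R (R ⧸ Ideal.span {π ^ 2}) A] [Algebra.FinitePresentation (R ⧸ Ideal.span {π ^ 2}) A]
    (g : A →ₐ[R] Λ ⧸ Ideal.span {algebraMap R Λ (π ^ 2)}) :
    ∃ (D : Type u) (_ : CommRing D) (_ : Algebra R D), Algebra.FinitePresentation R D ∧
      ∃ (δ : D →ₐ[R] Λ) (ψ : A →ₐ[R] D ⧸ Ideal.span {algebraMap R D π}),
        (∀ (c : A) (d : D) (l : Λ), Ideal.Quotient.mk (Ideal.span {algebraMap R D π}) d = ψ c →
          Ideal.Quotient.mk (Ideal.span {algebraMap R Λ (π ^ 2)}) l = g c →
            δ d - l ∈ Ideal.span {algebraMap R Λ π}) ∧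
        (∀ (Q : Ideal D) [Q.IsPrime], algebraMap R D π ∉ Q → Algebra.IsSmoothAt R Q) ∧
        (∀ (Q : Ideal (D ⧸ Ideal.span {algebraMap R D π})) [Q.IsPrime],
          Algebra.IsSmoothAt (R ⧸ Ideal.span {π ^ 2}) (Q.comap ψ) →
            Algebra.IsSmoothAt R (Q.comap (Ideal.Quotient.mk (Ideal.span {algebraMap R D π})))) := by
  classical
  obtain ⟨n, θ, hθ, hfg⟩ := ‹Algebra.FinitePresentation (R ⧸ Ideal.span {π ^ 2}) A›.out
  obtain ⟨m, fb, hfb⟩ := Submodule.fg_iff_exists_fin_generating_family.1 hfg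
  have hker : RingHom.ker θ.toRingHom = Ideal.span (Set.range fb) := hfb.symm
  have hmap := MvPolynomial.map_surjective (σ := Fin n) (Ideal.Quotient.mk (Ideal.span {π ^ 2}))
    Ideal.Quotient.mk_surjective
  choose f hf using fun j => hmap (fb j)
  let χ : MvPolynomial (Fin n) R →ₐ[R] A := aeval fun i => θ (X i)
  have hχ : ∀ p, χ p = θ (MvPolynomial.map (Ideal.Quotient.mk (Ideal.span {π ^ 2})) p) := fun p => by
    induction p using MvPolynomial.induction_on with
    | C r =>
      rw [MvPolynomial.map_C, ← MvPolynomial.algebraMap_eq, ← MvPolynomial.algebraMap_eq, AlgHom.commutes θ]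
      rw [AlgHom.commutes χ]
      exact IsScalarTower.algebraMap_apply R (R ⧸ Ideal.span {π ^ 2}) A r
    | add p q hp hq => rw [map_add, map_add, map_add, hp, hq]
    | mul_X p i hp => simp only [map_mul, hp, MvPolynomial.map_X]; simp [χ]
  have hχs : Function.Surjective χ := fun y => by
    obtain ⟨q, rfl⟩ := hθ y
    obtain ⟨p, rfl⟩ := hmap q
    exact ⟨p, hχ p⟩
  have hχf : ∀ j, χ (f j) = 0 := fun j => by
    rw [hχ, hf]
    have : fb j ∈ RingHom.ker θ.toRingHom := hker ▸ Ideal.subset_span ⟨j, rfl⟩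
    exact this
  have hker' : ∀ p, MvPolynomial.map (Ideal.Quotient.mk (Ideal.span {π ^ 2})) p = 0 →
      ∃ r, p = C (π ^ 2) * r := fun p hp => by
    have h1 : p ∈ RingHom.ker (MvPolynomial.map (σ := Fin n) (Ideal.Quotient.mk (Ideal.span {π ^ 2}))) := hp
    rw [MvPolynomial.ker_map, Ideal.mk_ker, Ideal.map_span, Set.image_singleton,
      Ideal.mem_span_singleton] at h1
    obtain ⟨r, hr⟩ := h1
    exact ⟨r, hr⟩
  haveI : Algebra.FinitePresentation R (MvPolynomial (Fin (n + m)) R ⧸ relI π f) :=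
    Algebra.FinitePresentation.quotient (IsNoetherian.noetherian _)
  -- the map to `Λ`
  choose lam hlam using fun i => Ideal.Quotient.mk_surjective (g (χ (X i)))
  let εΛ : MvPolynomial (Fin n) R →ₐ[R] Λ := aeval lam
  have hεg : ∀ p, Ideal.Quotient.mk _ (εΛ p) = g (χ p) := fun p =>
    DFunLike.congr_fun (show (Ideal.Quotient.mkₐ R _).comp εΛ = g.comp χ from
      algHom_ext fun i => by simp [εΛ, hlam]) p
  have hμ : ∀ j, ∃ μ : Λ, εΛ (f j) = algebraMap R Λ (π ^ 2) * μ := fun j => by
    have h1 : Ideal.Quotient.mk (Ideal.span {algebraMap R Λ (π ^ 2)}) (εΛ (f j)) = 0 := by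
      rw [hεg, hχf, map_zero]
    exact Ideal.mem_span_singleton.1 (Ideal.Quotient.eq_zero_iff_mem.1 h1)
  obtain ⟨δ, hδx⟩ := exists_delta f hΛ εΛ hμ
  have hχK : ∀ p, χ p = 0 → ∃ q ∈ Ideal.span (Set.range f), ∃ r, p = MvPolynomial.C (π ^ 2) * r + q := by
    intro p hp
    have h1 : MvPolynomial.map (Ideal.Quotient.mk (Ideal.span {π ^ 2})) p ∈
        (Ideal.span (Set.range f)).map (MvPolynomial.map (Ideal.Quotient.mk (Ideal.span {π ^ 2}))) := by
      rw [Ideal.map_span, ← Set.range_comp, show (MvPolynomial.map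
        (Ideal.Quotient.mk (Ideal.span {π ^ 2}))) ∘ f = fb from funext hf, ← hker]
      show θ _ = 0
      rw [← hχ, hp]
    obtain ⟨q, hq, hqp⟩ := (Ideal.mem_map_iff_of_surjective _ hmap).1 h1
    obtain ⟨r, hr⟩ := hker' (p - q) (by rw [map_sub, hqp, sub_self])
    exact ⟨q, hq, r, eq_add_of_sub_eq hr⟩
  obtain ⟨ψ, hψ⟩ := exists_psi (T := (MvPolynomial (Fin (n + m)) R ⧸ relI π f) ⧸
    Ideal.span {algebraMap R (MvPolynomial (Fin (n + m)) R ⧸ relI π f) π}) f χ hχs hχK
    ((Ideal.Quotient.mkₐ R (Ideal.span {algebraMap R (MvPolynomial (Fin (n + m)) R ⧸ relI π f) π})).comp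
      (Ideal.Quotient.mkₐ R (relI π f)))
    (fun j => by
      show Ideal.Quotient.mk (Ideal.span {algebraMap R (MvPolynomial (Fin (n + m)) R ⧸ relI π f) π}) (Ideal.Quotient.mk (relI π f) (F π f j)) = 0
      rw [Ideal.Quotient.eq_zero_iff_mem.2 (F_mem f j), map_zero])
    (Ideal.Quotient.eq_zero_iff_mem.2 (Ideal.subset_span (Set.mem_singleton _)))
  refine ⟨_, inferInstance, inferInstance, inferInstance, δ, ψ, ?_, ?_, ?_⟩
  · intro c d l hd hl
    obtain ⟨p, rfl⟩ := hχs c
    rw [hψ] at hd
    obtain ⟨d', hd'⟩ := Ideal.mem_span_singleton.1 (Ideal.Quotient.eq.1 hd)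
    have h1 : l - εΛ p ∈ Ideal.span {algebraMap R Λ (π ^ 2)} :=
      Ideal.Quotient.eq.1 (by rw [hl, hεg])
    obtain ⟨l', hl'⟩ := Ideal.mem_span_singleton.1 h1
    refine Ideal.mem_span_singleton.2 ⟨δ d' - algebraMap R Λ π * l', ?_⟩
    have h2 := congrArg δ hd'
    rw [map_sub, map_mul, AlgHom.commutes] at h2
    have h3 := hδx p
    rw [map_pow] at hl'
    simp only [AlgHom.toRingHom_eq_coe, RingHom.coe_coe, Ideal.Quotient.mkₐ_eq_mk, AlgHom.coe_toRingHom] at h2
    linear_combination h2 + h3 - hl'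
  · exact fun Q _ hQ => isSmoothAt_notMem f Q hQ
  · intro Q _ hQs
    haveI := hQs
    obtain ⟨c, rows, cols, db, hdb, hkill⟩ := exists_local_minor fb θ hθ hker (Q.comap ψ)
    obtain ⟨d, rfl⟩ := hmap db
    have hl : ∀ l, ∃ (a : Fin c → MvPolynomial (Fin n) R) (b : MvPolynomial (Fin n) R),
        d * f l = (∑ i, a i * f (rows i)) + C (π ^ 2) * b := fun l => by
      obtain ⟨ab, hab⟩ := (Ideal.mem_span_range_iff_exists_fun).1 (hkill l)
      choose a ha using fun i => hmap (ab i)
      obtain ⟨b, hb⟩ := hker' (d * f l - ∑ i, a i * f (rows i)) (by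
        simp only [map_sub, map_mul, map_sum, hf, ha]
        exact sub_eq_zero.2 hab.symm)
      exact ⟨a, b, by rw [← hb]; ring⟩
    choose a bb hab using hl
    refine isSmoothAt_of_minor f hR rows cols d a bb hab _ ?_
    intro h
    refine hdb ?_
    show ψ _ ∈ Q
    have e1 : MvPolynomial.map (Ideal.Quotient.mk (Ideal.span {π ^ 2}))
        (d * Matrix.det (Matrix.of fun j k : Fin c => pderiv (cols k) (f (rows j)))) =
        MvPolynomial.map (Ideal.Quotient.mk (Ideal.span {π ^ 2})) d *
          Matrix.det (Matrix.of fun j k : Fin c => pderiv (cols k) (fb (rows j))) := by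
      rw [map_mul, RingHom.map_det]
      congr 2
      refine Matrix.ext fun j k => ?_
      simp [← hf, pderiv_map]
    rw [← e1, ← hχ, hψ]
    exact h

end Groth.Agent.SmoothingLib.LiftingLemma
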