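import Groth.Agent.SmoothingLib.LocalMinor

/-!
Choice of relations and variables at a smooth point.
-/

namespace Groth.Agent.SmoothingLib

open MvPolynomial

universe u

/-- Some square minor of a matrix over a field is invertible, with rows spanning all rows. -/
theorem exists_rows_cols {K : Type*} [Field K] {m n : ℕ} (w : Fin m → Fin n → K) :
    ∃ (c : ℕ) (rows : Fin c ↪ Fin m) (cols : Fin c ↪ Fin n),
      Submodule.span K (Set.range (w ∘ rows)) = Submodule.span K (Set.range w) ∧
      Matrix.det (Matrix.of fun j k : Fin c => w (rows j) (cols k)) ≠ 0 := by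
  classical
  obtain ⟨κ, a, ha, hspan, hli⟩ := exists_linearIndependent' K w
  have : Fintype κ := Fintype.ofInjective a ha
  let eκ := (Fintype.equivFin κ).symm
  let rows : Fin (Fintype.card κ) ↪ Fin m := ⟨a ∘ eκ, ha.comp eκ.injective⟩
  have hspan' : Submodule.span K (Set.range (w ∘ rows)) = Submodule.span K (Set.range w) := by
    rw [← hspan]
    congr 1
    exact eκ.surjective.range_comp (w ∘ a)
  let W : Matrix (Fin (Fintype.card κ)) (Fin n) K := Matrix.of fun j k => w (rows j) k
  have hW : LinearIndependent K W.row := hli.comp eκ eκ.injective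
  have hrank : W.rank = Fintype.card κ := by
    rw [W.rank_eq_finrank_span_row, finrank_span_eq_card hW, Fintype.card_fin]
  have hcolspan : Submodule.span K (Set.range W.col) = ⊤ := by
    apply Submodule.eq_top_of_finrank_eq
    rw [← W.rank_eq_finrank_span_cols, hrank, Module.finrank_fintype_fun_eq_card, Fintype.card_fin]
  obtain ⟨κ', b, hb, hbspan, hbli⟩ := exists_linearIndependent' K W.col
  have : Fintype κ' := Fintype.ofInjective b hb
  have hcard : Fintype.card κ' = Fintype.card κ := by
    have h1 := finrank_span_eq_card hbli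
    rw [hbspan, hcolspan, finrank_top, Module.finrank_fintype_fun_eq_card, Fintype.card_fin] at h1
    exact h1.symm
  let eκ' : Fin (Fintype.card κ) ≃ κ' := (Fintype.equivFinOfCardEq hcard).symm
  refine ⟨_, rows, ⟨b ∘ eκ', hb.comp eκ'.injective⟩, hspan', ?_⟩
  have hli2 : LinearIndependent K
      (Matrix.of fun j k : Fin (Fintype.card κ) => w (rows j) (b (eκ' k))).col :=
    hbli.comp eκ' eκ'.injective
  exact ((Matrix.isUnit_iff_isUnit_det _).1
    (Matrix.linearIndependent_cols_iff_isUnit.1 hli2)).ne_zero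

variable {R : Type u} [CommRing R] {A : Type u} [CommRing A] [Algebra R A] {n m : ℕ}

theorem exists_local_minor (f : Fin m → MvPolynomial (Fin n) R)
    (φ : MvPolynomial (Fin n) R →ₐ[R] A) (hφ : Function.Surjective φ)
    (hker : RingHom.ker φ.toRingHom = Ideal.span (Set.range f)) (q : Ideal A) [q.IsPrime]
    [Algebra.IsSmoothAt R q] :
    ∃ (c : ℕ) (rows : Fin c ↪ Fin m) (cols : Fin c ↪ Fin n) (d : MvPolynomial (Fin n) R),
      φ (d * Matrix.det (Matrix.of fun j k : Fin c => pderiv (cols k) (f (rows j)))) ∉ q ∧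
      ∀ j, d * f j ∈ Ideal.span (Set.range (f ∘ rows)) := by
  classical
  have : Algebra.FinitePresentation R A :=
    Algebra.FinitePresentation.of_surjective hφ (Submodule.fg_def.2 ⟨_, Set.finite_range f, hker.symm⟩)
  obtain ⟨g, hgq, hsm⟩ := Algebra.IsSmoothAt.exists_notMem_smooth R q
  obtain ⟨g₀, rfl⟩ := hφ g
  set p : Ideal (MvPolynomial (Fin n) R) := Ideal.comap φ.toRingHom q with hp
  have hIp : RingHom.ker φ.toRingHom ≤ p := fun x hx => by
    show φ x ∈ q
    rw [show φ x = 0 from hx]; exact q.zero_mem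
  let w : Fin m → Fin n → p.ResidueField := fun j k =>
    algebraMap (MvPolynomial (Fin n) R) p.ResidueField (pderiv k (f j))
  obtain ⟨c, rows, cols, hspan, hdet⟩ := exists_rows_cols w
  have hf : ∀ j, f j ∈ RingHom.ker φ.toRingHom := fun j =>
    hker ▸ Ideal.subset_span ⟨j, rfl⟩
  have hl : ∀ l, ∃ u : MvPolynomial (Fin n) R, u ∉ p ∧
      u * f l ∈ Ideal.span (Set.range (f ∘ rows)) ⊔ p * Ideal.span (Set.range f) := by
    intro l
    have hmem : w l ∈ Submodule.span p.ResidueField (Set.range (w ∘ rows)) := by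
      rw [hspan]; exact Submodule.subset_span ⟨l, rfl⟩
    obtain ⟨lam, hlam⟩ := Submodule.mem_span_range_iff_exists_fun _ |>.1 hmem
    have hfrac : ∀ i, ∃ x s : MvPolynomial (Fin n) R, s ∉ p ∧
        lam i * algebraMap _ _ s = algebraMap _ _ x := by
      intro i
      obtain ⟨⟨x, s⟩, hxs⟩ :=
        IsLocalization.surj (nonZeroDivisors (MvPolynomial (Fin n) R ⧸ p)) (lam i)
      obtain ⟨x, rfl⟩ := Ideal.Quotient.mk_surjective x
      obtain ⟨s', hs'⟩ := Ideal.Quotient.mk_surjective (s : MvPolynomial (Fin n) R ⧸ p)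
      refine ⟨x, s', fun hmem => ?_, ?_⟩
      · have : (s : MvPolynomial (Fin n) R ⧸ p) = 0 := by
          rw [← hs', Ideal.Quotient.eq_zero_iff_mem]; exact hmem
        exact nonZeroDivisors.coe_ne_zero s this
      · have key : ∀ z, algebraMap (MvPolynomial (Fin n) R) p.ResidueField z =
            algebraMap (MvPolynomial (Fin n) R ⧸ p) p.ResidueField (Ideal.Quotient.mk p z) :=
          fun z => IsScalarTower.algebraMap_apply _ (MvPolynomial (Fin n) R ⧸ p) _ z
        rw [key, key, hs']
        exact hxs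
    choose x s hs hxs using hfrac
    let S := ∏ i, s i
    let μ : Fin c → MvPolynomial (Fin n) R := fun i => x i * ∏ i' ∈ Finset.univ.erase i, s i'
    have hμ : ∀ i, algebraMap _ p.ResidueField (μ i) = lam i * algebraMap _ p.ResidueField S := by
      intro i
      show algebraMap _ p.ResidueField (x i * ∏ i' ∈ Finset.univ.erase i, s i') = _
      rw [map_mul, ← hxs i, mul_assoc, ← map_mul, Finset.mul_prod_erase _ _ (Finset.mem_univ i)]
    let y := S * f l - ∑ i, μ i * f (rows i)
    have hy : φ y = 0 := by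
      have h0 : ∀ j, φ (f j) = 0 := fun j => hf j
      simp [y, h0]
    have hfp : ∀ j, algebraMap _ p.ResidueField (f j) = 0 := fun j =>
      Ideal.algebraMap_residueField_eq_zero.2 (hIp (hf j))
    have hdy : ∀ k, pderiv k y ∈ p := by
      intro k
      rw [← Ideal.algebraMap_residueField_eq_zero]
      simp only [y, map_sub, map_sum, Derivation.leibniz, smul_eq_mul, map_add, map_mul, hfp,
        zero_mul, mul_zero, add_zero]
      have := congrFun hlam k
      simp only [Finset.sum_apply, Pi.smul_apply, Function.comp_apply, smul_eq_mul] at this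
      rw [sub_eq_zero]
      calc algebraMap _ p.ResidueField S * algebraMap _ p.ResidueField (pderiv k (f l))
          = algebraMap _ p.ResidueField S * ∑ i, lam i * w (rows i) k := by rw [this]
        _ = _ := by
          rw [Finset.mul_sum]
          refine Finset.sum_congr rfl fun i _ => ?_
          rw [hμ]; simp only [w]; ring
    have : Algebra.FormallySmooth R (Localization.Away (φ g₀)) := hsm.formallySmooth
    obtain ⟨e, he⟩ := exists_pow_mul_mem φ hφ (g₀ := g₀) p hIp hy hdy
    refine ⟨g₀ ^ e * S, ?_, ?_⟩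
    · have hp' : p.IsPrime := Ideal.IsPrime.comap _
      refine hp'.mul_notMem (fun h => hgq (hp'.mem_of_pow_mem e h)) fun hS => ?_
      obtain ⟨i, -, hi⟩ := (hp'.prod_mem_iff).1 hS
      exact hs i hi
    · rw [hker] at he
      have e1 : g₀ ^ e * S * f l = g₀ ^ e * (∑ i, μ i * f (rows i)) + g₀ ^ e * y := by
        simp only [y]; ring
      rw [e1]
      exact Submodule.add_mem_sup (Ideal.mul_mem_left _ _ (Ideal.sum_mem _ fun i _ =>
        Ideal.mul_mem_left _ _ (Ideal.subset_span ⟨i, rfl⟩))) he
  choose u hu hul using hl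
  obtain ⟨d, hd, hdt⟩ := exists_mul_mem_of_le_sup f (Ideal.span (Set.range (f ∘ rows))) p
    (∏ l, u l) (fun j => by
      rw [← Finset.prod_erase_mul _ _ (Finset.mem_univ j), mul_assoc]
      exact Ideal.mul_mem_left _ _ (hul j))
  refine ⟨c, rows, cols, d, fun hmem => ?_, hd⟩
  have hp' : p.IsPrime := Ideal.IsPrime.comap _
  have hmem' : d * Matrix.det (Matrix.of fun j k : Fin c => pderiv (cols k) (f (rows j))) ∈ p := hmem
  rcases hp'.mem_or_mem hmem' with h | h
  · have h2 : (∏ l, u l) ^ m ∈ p := by
      have := p.sub_mem h hdt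
      rwa [sub_sub_cancel] at this
    obtain ⟨i, -, hi⟩ := (hp'.prod_mem_iff).1 (hp'.mem_of_pow_mem _ h2)
    exact hu i hi
  · apply hdet
    rw [← Ideal.algebraMap_residueField_eq_zero, RingHom.map_det] at h
    exact h

end Groth.Agent.SmoothingLib
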