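import Groth.Agent.SmoothingLib.Marked
import Groth.Agent.SmoothingLib.SmoothPoint
import Mathlib.Logic.Equiv.Fintype
import Mathlib.RingTheory.Smooth.StandardSmoothCotangent

/-!
Strictly standard elements lie in the singular ideal; elementary standard elements exist at smooth
points.
-/

namespace Groth.Agent.SmoothingLib

open MvPolynomial

universe u

variable {R : Type u} [CommRing R] {A : Type u} [CommRing A] [Algebra R A]

theorem MarkedPresentation.finitePresentation (P : Smoothing.MarkedPresentation R A) :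
    Algebra.FinitePresentation R A :=
  Algebra.FinitePresentation.of_surjective P.surj
    (Submodule.fg_def.2 ⟨_, Set.finite_range P.rel, P.ker_eq.symm⟩)

theorem isStrictlyStandard_of_isElementaryStandard {a : A}
    (h : Smoothing.IsElementaryStandard R A a) : Smoothing.IsStrictlyStandard R A a := by
  obtain ⟨P, ⟨a', ha'⟩, hk⟩ := h
  exact ⟨P, ha' ▸ Ideal.mul_mem_left _ a' (Ideal.subset_span ⟨_, rfl⟩), hk⟩

theorem isSmoothAt_of_isStrictlyStandard {a : A} (h : Smoothing.IsStrictlyStandard R A a)
    (q : PrimeSpectrum A) (hq : a ∉ q.asIdeal) : q ∈ Algebra.smoothLocus R A := by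
  classical
  obtain ⟨P, ha, hk⟩ := h
  have := MarkedPresentation.finitePresentation P
  obtain ⟨cols, hcols⟩ : ∃ cols : Fin P.c → Fin P.n,
      P.hom (Smoothing.jacobianMinor P.rel (Fin.castLE P.hcm) cols) ∉ q.asIdeal := by
    by_contra hall
    push Not at hall
    refine hq ((Ideal.span_le.2 ?_) ha)
    rintro _ ⟨cols, rfl⟩
    exact hall cols
  have hinj : Function.Injective cols := by
    intro i j hij
    by_contra hne
    refine hcols ?_
    have : Smoothing.jacobianMinor P.rel (Fin.castLE P.hcm) cols = 0 :=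
      Matrix.det_zero_of_column_eq hne fun r => by simp [hij]
    rw [this, map_zero]; exact q.asIdeal.zero_mem
  set Δ := Smoothing.jacobianMinor P.rel (Fin.castLE P.hcm) cols
  obtain ⟨t, ht⟩ := P.surj a
  have hst : Algebra.IsStandardSmooth R (Localization.Away (a * P.hom Δ)) := by
    refine isStandardSmooth_away_of_minor P.rel P.hom P.surj P.ker_eq (Fin.castLE P.hcm) cols hinj
      (a * P.hom Δ) ⟨a, rfl⟩ (fun j s hs => ?_)
    have hd : s - t * Δ ∈ Ideal.span (Set.range P.rel) := by
      rw [← P.ker_eq]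
      show P.hom (s - t * Δ) = 0
      rw [map_sub, map_mul, hs, ht, sub_self]
    have e : s * P.rel j = Δ * (t * P.rel j) + (s - t * Δ) * P.rel j := by ring
    rw [e]
    refine Ideal.add_mem _ (Ideal.mul_mem_left _ _ (killsTail_all hk j t ht))
      (Ideal.mem_sup_right ?_)
    rw [pow_two]
    exact Ideal.mul_mem_mul hd (Ideal.subset_span ⟨j, rfl⟩)
  have hsm : Algebra.Smooth R (Localization.Away (a * P.hom Δ)) := inferInstance
  exact (Algebra.basicOpen_subset_smoothLocus_iff_smooth.2 hsm)
    (show a * P.hom Δ ∉ q.asIdeal from fun h => (q.2.mem_or_mem h).elim hq hcols)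

theorem exists_perm_comp_eq {c N : ℕ} (h : c ≤ N) (g : Fin c ↪ Fin N) :
    ∃ σ : Equiv.Perm (Fin N), ∀ i, σ (Fin.castLE h i) = g i := by
  classical
  let e : {x // x ∈ Set.range (Fin.castLE h)} ≃ {x // x ∈ Set.range g} :=
    (Equiv.ofInjective _ (Fin.castLE_injective h)).symm.trans (Equiv.ofInjective _ g.injective)
  refine ⟨e.extendSubtype, fun i => ?_⟩
  rw [Equiv.extendSubtype_apply_of_mem e _ ⟨i, rfl⟩]
  simp [e, Equiv.ofInjective_symm_apply]

theorem exists_isElementaryStandard_notMem [Algebra.FinitePresentation R A] (q : Ideal A)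
    [q.IsPrime] [Algebra.IsSmoothAt R q] :
    ∃ a : A, a ∉ q ∧ Smoothing.IsElementaryStandard R A a := by
  classical
  obtain ⟨n, φ, hφ, hfg⟩ := Algebra.FinitePresentation.out (R := R) (A := A)
  obtain ⟨m, f, hf⟩ := Submodule.fg_iff_exists_fin_generating_family.1 hfg
  obtain ⟨c, rows, cols, d, hq, hd⟩ := exists_local_minor f φ hφ hf.symm q
  have hcm : c ≤ m := by simpa using Fintype.card_le_of_embedding rows
  have hcn : c ≤ n := by simpa using Fintype.card_le_of_embedding cols
  obtain ⟨σ, hσ⟩ := exists_perm_comp_eq hcm rows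
  obtain ⟨τ, hτ⟩ := exists_perm_comp_eq hcn cols
  let ρ : MvPolynomial (Fin n) R ≃ₐ[R] MvPolynomial (Fin n) R := renameEquiv R τ.symm
  have hρ : Set.range (fun i => ρ (f (σ i))) = ρ '' Set.range f := by
    rw [show (fun i => ρ (f (σ i))) = (ρ ∘ f) ∘ σ from rfl, σ.surjective.range_comp, Set.range_comp]
  let P : Smoothing.MarkedPresentation R A :=
    { n := n, m := m, c := c, hcn := hcn, hcm := hcm
      rel := fun i => ρ (f (σ i))
      hom := φ.comp ρ.symm.toAlgHom
      surj := hφ.comp ρ.symm.surjective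
      ker_eq := by
        rw [hρ, show (ρ '' Set.range f) = (ρ.toRingEquiv.toRingHom '' Set.range f) from rfl,
          ← Ideal.map_span, show Ideal.span (Set.range f) = RingHom.ker φ.toRingHom from hf]
        ext x
        show φ (ρ.symm x) = 0 ↔ x ∈ Ideal.map ρ.toRingEquiv (RingHom.ker φ.toRingHom)
        rw [Ideal.mem_map_of_equiv]
        constructor
        · intro hx; exact ⟨ρ.symm x, hx, ρ.apply_symm_apply x⟩
        · rintro ⟨y, hy, rfl⟩
          show φ (ρ.symm (ρ y)) = 0
          rw [ρ.symm_apply_apply]; exact hy }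
  have hminor : Smoothing.jacobianMinor P.rel (Fin.castLE P.hcm) (Fin.castLE P.hcn) =
      ρ (Matrix.det (Matrix.of fun j k : Fin c => pderiv (cols k) (f (rows j)))) := by
    rw [AlgEquiv.map_det]
    refine congrArg Matrix.det (Matrix.ext fun j k => ?_)
    show pderiv (Fin.castLE hcn k) (rename τ.symm (f (σ (Fin.castLE hcm j)))) =
      rename τ.symm (pderiv (cols k) (f (rows j)))
    rw [hσ, ← τ.symm_apply_apply (Fin.castLE hcn k), hτ,
      pderiv_rename τ.symm.injective]
  refine ⟨_, hq, P, ⟨φ d, ?_⟩, fun t ht j _ => ?_⟩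
  · rw [hminor]
    show _ = φ d * φ (ρ.symm (ρ _))
    rw [ρ.symm_apply_apply, map_mul]
  · have hd' : ρ d * P.rel j ∈ Ideal.span (P.rel '' {j' : Fin P.m | (j' : ℕ) < P.c}) := by
      rw [← range_castLE_eq]
      have := Ideal.mem_map_of_mem ρ.toRingEquiv.toRingHom (hd (σ j))
      rw [Ideal.map_span, ← Set.range_comp] at this
      show ρ d * ρ (f (σ j)) ∈ _
      rw [← map_mul]
      convert this using 3
      · funext i
        show ρ (f (σ (Fin.castLE hcm i))) = ρ (f (rows i))
        rw [hσ]
      · rfl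
    set Δ := Matrix.det (Matrix.of fun j k : Fin c => pderiv (cols k) (f (rows j)))
    have hdiff : t - ρ (d * Δ) ∈ Ideal.span (Set.range P.rel) := by
      rw [← P.ker_eq]
      show P.hom (t - ρ (d * Δ)) = 0
      rw [map_sub, ht]
      show φ (d * Δ) - φ (ρ.symm (ρ (d * Δ))) = 0
      rw [ρ.symm_apply_apply, sub_self]
    have e : t * P.rel j = ρ Δ * (ρ d * P.rel j) + (t - ρ (d * Δ)) * P.rel j := by
      rw [map_mul]; ring
    rw [e, pow_two]
    exact Submodule.add_mem_sup (Ideal.mul_mem_left _ _ hd')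
      (Ideal.mul_mem_mul hdiff (Ideal.subset_span ⟨j, rfl⟩))

theorem singularIdeal_eq_radical {S : Set A} [Algebra.FinitePresentation R A]
    (h1 : ∀ a, Smoothing.IsElementaryStandard R A a → a ∈ S)
    (h2 : ∀ a ∈ S, Smoothing.IsStrictlyStandard R A a) :
    Smoothing.singularIdeal R A = (Ideal.span S).radical := by
  have hz : (Algebra.smoothLocus R A)ᶜ = PrimeSpectrum.zeroLocus (Ideal.span S : Set A) := by
    ext q
    constructor
    · intro hq
      rw [PrimeSpectrum.zeroLocus_span, PrimeSpectrum.mem_zeroLocus]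
      intro a ha
      by_contra haq
      exact hq (isSmoothAt_of_isStrictlyStandard (h2 a ha) q haq)
    · intro hq hsm
      have : Algebra.IsSmoothAt R q.asIdeal := hsm
      obtain ⟨a, ha, hae⟩ := exists_isElementaryStandard_notMem (R := R) q.asIdeal
      exact ha (hq (Ideal.subset_span (h1 a hae)))
  rw [Smoothing.singularIdeal, hz, PrimeSpectrum.vanishingIdeal_zeroLocus_eq_radical]

end Groth.Agent.SmoothingLib
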