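import Groth.Agent.SmoothingLib.LiftingLemma

/-!
The desingularization lemma: a strictly standard element together with an approximate point gives a
factorization which is smooth away from an annihilator defect.
-/

namespace Groth.Agent.SmoothingLib.Desing

open MvPolynomial Groth.Agent.SmoothingLib.LiftingLemma

universe u

variable {R : Type u} [CommRing R]

theorem smul_eq_zero_of_flat' {M : Type u} [AddCommGroup M] [Module R M] [Module.Flat R M] {π r : R}
    (hR : ∀ x : R, π ^ 2 * x = 0 → π * (r * x) = 0) {x : M} (hx : π ^ 2 • x = 0) :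
    (π * r) • x = 0 := by
  obtain ⟨κ, a, y, hxy, ha⟩ := Module.Flat.isTrivialRelation_of_sum_smul_eq_zero
    (f := fun _ : Fin 1 => π ^ 2) (x := fun _ => x) (by simpa using hx)
  rw [show x = ∑ j, a 0 j • y j from hxy 0, Finset.smul_sum]
  refine Finset.sum_eq_zero fun j _ => ?_
  rw [← mul_smul, mul_assoc, hR (a 0 j) (by simpa using ha j), zero_smul]

theorem isSmoothAt_of_kills [IsNoetherianRing R] {N : ℕ} {κ : Type} [Fintype κ] [DecidableEq κ]
    (I : Ideal (MvPolynomial (Fin N) R)) (v : κ → MvPolynomial (Fin N) R) (hv : ∀ i, v i ∈ I)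
    (cols : κ → Fin N) (hcols : Function.Injective cols) (t : MvPolynomial (Fin N) R)
    (ht : ∀ x ∈ I, t * x ∈ Ideal.span (Set.range v) ⊔ I ^ 2)
    (Q : Ideal (MvPolynomial (Fin N) R ⧸ I)) [Q.IsPrime]
    (hQ : Ideal.Quotient.mk I (t * jd v cols) ∉ Q) : Algebra.IsSmoothAt R Q := by
  classical
  let e := (Fintype.equivFin κ).symm
  obtain ⟨K, g, hg⟩ := Submodule.fg_iff_exists_fin_generating_family.1 (IsNoetherian.noetherian I)
  have hsp : Ideal.span (Set.range (Fin.append g (v ∘ e))) = I := by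
    refine le_antisymm (Ideal.span_le.2 ?_) ?_
    · rintro _ ⟨j, rfl⟩
      induction j using Fin.addCases with
      | left j => rw [Fin.append_left]; exact hg ▸ Submodule.subset_span ⟨j, rfl⟩
      | right j => rw [Fin.append_right]; exact hv _
    · conv_lhs => rw [← hg]
      exact Ideal.span_le.2 (by
        rintro _ ⟨j, rfl⟩
        exact Ideal.subset_span ⟨Fin.castAdd _ j, Fin.append_left _ _ _⟩)
  have hrows : (Fin.append g (v ∘ e)) ∘ Fin.natAdd K = v ∘ e := funext fun j => Fin.append_right _ _ _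
  have hjd : Matrix.det (Matrix.of fun j k =>
      pderiv ((cols ∘ e) k) (Fin.append g (v ∘ e) (Fin.natAdd K j))) = jd v cols := by
    simp only [Fin.append_right]
    exact jd_reindex v cols e
  haveI := isStandardSmooth_away_of_minor (A := MvPolynomial (Fin N) R ⧸ I)
    (Fin.append g (v ∘ e)) (Ideal.Quotient.mkₐ R I) (Ideal.Quotient.mkₐ_surjective R _)
    ((Ideal.Quotient.mkₐ_ker R I).trans hsp.symm) (Fin.natAdd K) (cols ∘ e)
    (hcols.comp e.injective) (Ideal.Quotient.mk I (t * jd v cols))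
    ⟨Ideal.Quotient.mk I t, by rw [map_mul, hjd]; rfl⟩
    fun j s hs => by
      have hmem : Fin.append g (v ∘ e) j ∈ I := hsp.le (Ideal.subset_span ⟨j, rfl⟩)
      have hd : s - t * jd v cols ∈ I := Ideal.Quotient.eq.1 hs
      rw [show s * Fin.append g (v ∘ e) j = jd v cols * (t * Fin.append g (v ∘ e) j) +
        (s - t * jd v cols) * Fin.append g (v ∘ e) j from by ring]
      simp only [hrows, hsp, e.surjective.range_comp]
      exact Ideal.add_mem _ (Ideal.mul_mem_left _ _ (ht _ hmem))
        (Ideal.mem_sup_right (by rw [sq]; exact Ideal.mul_mem_mul hd hmem))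
  haveI : Algebra.FinitePresentation R (MvPolynomial (Fin N) R ⧸ I) :=
    Algebra.FinitePresentation.quotient (IsNoetherian.noetherian I)
  exact Algebra.basicOpen_subset_smoothLocus_iff_smooth.2
    (inferInstance : Algebra.Smooth R (Localization.Away (Ideal.Quotient.mk I (t * jd v cols))))
    (show Ideal.Quotient.mk I (t * jd v cols) ∉ (⟨Q, inferInstance⟩ : PrimeSpectrum _).asIdeal from hQ)

/-- Taylor expansion to second order at a rational point -/
theorem exists_taylor {n : ℕ} (α : Fin n → R) (p : MvPolynomial (Fin n) R) :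
    ∃ q : Fin n → Fin n → MvPolynomial (Fin n) R,
      ∀ {S : Type u} [CommRing S] [Algebra R S] (s : Fin n → S),
        aeval (fun i => algebraMap R S (α i) + s i) p = algebraMap R S (aeval α p) +
          (∑ i, algebraMap R S (aeval α (pderiv i p)) * s i) +
          ∑ i, ∑ k, aeval s (q i k) * (s i * s k) := by
  classical
  let J : Ideal (MvPolynomial (Fin n) R) :=
    Ideal.span (Set.range fun ik : Fin n × Fin n => X ik.1 * X ik.2)
  let T : MvPolynomial (Fin n) R → MvPolynomial (Fin n) R := fun p =>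
    aeval (fun i => C (α i) + X i) p - C (aeval α p) - ∑ i, C (aeval α (pderiv i p)) * X i
  have hT : ∀ p, T p ∈ J := by
    intro p
    induction p using MvPolynomial.induction_on with
    | C a => simp [T]
    | add p q hp hq =>
      have e : T (p + q) = T p + T q := by
        simp only [T, map_add, add_mul, Finset.sum_add_distrib]
        ring
      rw [e]
      exact J.add_mem hp hq
    | mul_X p l hp =>
      have e : T (p * X l) = T p * (C (α l) + X l) +
          ∑ i, C (aeval α (pderiv i p)) * (X i * X l) := by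
        have e1 : ∑ i, C (aeval α (pderiv i (p * X l))) * X i =
            (∑ i, C (aeval α (pderiv i p)) * X i) * C (α l) + C (aeval α p) * X l := by
          simp only [Derivation.leibniz, smul_eq_mul, map_add, map_mul, aeval_X, pderiv_X,
            Pi.single_apply, add_mul, Finset.sum_add_distrib, Finset.sum_mul]
          rw [add_comm]
          congr 1
          · exact Finset.sum_congr rfl fun i _ => by ring
          · rw [Finset.sum_eq_single l]
            · simp
            · intro i _ hi; simp [hi, Ne.symm hi]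
            · simp
        simp only [T, map_mul, aeval_X, e1]
        rw [show ∑ i, C (aeval α (pderiv i p)) * (X i * X l) =
          (∑ i, C (aeval α (pderiv i p)) * X i) * X l from by
            rw [Finset.sum_mul]; exact Finset.sum_congr rfl fun i _ => by ring]
        ring
      rw [e]
      exact J.add_mem (J.mul_mem_right _ hp) (J.sum_mem fun i _ =>
        J.mul_mem_left _ (Ideal.subset_span ⟨(i, l), rfl⟩))
  obtain ⟨q, hq⟩ := Ideal.mem_span_range_iff_exists_fun.1 (hT p)
  refine ⟨fun i k => q (i, k), fun {S} _ _ s => ?_⟩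
  have h1 := congrArg (aeval (R := R) s) hq
  simp only [map_sum, map_mul, aeval_X, T, map_sub, aeval_C, Fintype.sum_prod_type] at h1
  have h2 : aeval (R := R) s (aeval (fun i => C (α i) + X i) p) =
      aeval (fun i => algebraMap R S (α i) + s i) p :=
    DFunLike.congr_fun (show (aeval (R := R) s).comp (aeval fun i => C (α i) + X i) =
      aeval (fun i => algebraMap R S (α i) + s i) from algHom_ext fun i => by simp) p
  rw [h2] at h1
  rw [h1]
  ring

theorem pderiv_aeval {n N : ℕ} (v : Fin n → MvPolynomial (Fin N) R) (k : Fin N)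
    (p : MvPolynomial (Fin n) R) :
    pderiv k (aeval v p) = ∑ l, aeval v (pderiv l p) * pderiv k (v l) := by
  classical
  induction p using MvPolynomial.induction_on with
  | C a => simp
  | add p q hp hq => simp [map_add, hp, hq, add_mul, Finset.sum_add_distrib]
  | mul_X p l hp =>
    simp only [map_mul, aeval_X, Derivation.leibniz, smul_eq_mul, hp, map_add, add_mul,
      Finset.sum_add_distrib, pderiv_X, Pi.single_apply]
    congr 1
    · rw [Finset.sum_eq_single l]
      · simp
      · intro i _ hi; simp [hi, Ne.symm hi]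
      · simp
    · rw [Finset.mul_sum]; exact Finset.sum_congr rfl fun i _ => by ring

theorem mul_aeval_congr {N : ℕ} {S : Type u} [CommRing S] [Algebra R S] (a : S) (v w : Fin N → S)
    (h : ∀ i, a * v i = a * w i) (p : MvPolynomial (Fin N) R) :
    a * aeval v p = a * aeval w p := by
  induction p using MvPolynomial.induction_on with
  | C r => simp
  | add p q hp hq => simp only [map_add, mul_add, hp, hq]
  | mul_X p l hp =>
    simp only [map_mul, aeval_X]
    rw [← mul_assoc, hp, mul_comm a, mul_assoc, h, ← mul_assoc, mul_comm _ a, mul_assoc]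

theorem mul_eq_zero_of_pow_four {Λ : Type u} [CommRing Λ] [Algebra R Λ] {π : R}
    (hΛ : ∀ x : Λ, π ^ 2 • x = 0 → π • x = 0) {e : Λ} (h : algebraMap R Λ π ^ 4 * e = 0) :
    algebraMap R Λ π * e = 0 := by
  have h' : ∀ x : Λ, algebraMap R Λ π ^ 2 * x = 0 → algebraMap R Λ π * x = 0 := fun x hx => by
    rw [← Algebra.smul_def]
    exact hΛ x (by rw [Algebra.smul_def, map_pow]; exact hx)
  have h3 : algebraMap R Λ π ^ 3 * e = 0 := by
    rw [pow_succ', mul_assoc]
    exact h' _ (by rw [← mul_assoc, ← pow_add]; exact h)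
  have h2 : algebraMap R Λ π ^ 2 * e = 0 := by
    rw [sq, mul_assoc]
    exact h' _ (by rw [← mul_assoc, ← pow_succ]; exact h3)
  exact h' _ h2

/-- the matrix splitting the Jacobian up to `π` -/
theorem exists_right_inverse {n c : ℕ} (L : Matrix (Fin c) (Fin n) R) (w : (Fin c → Fin n) → R) :
    ∃ M : Matrix (Fin n) (Fin c) R, ∀ j k, ∑ i, L j i * M i k =
      if j = k then ∑ cols, w cols * (Matrix.of fun a b => L a (cols b)).det else 0 := by
  classical
  refine ⟨fun i k => ∑ cols : Fin c → Fin n, ∑ l, if cols l = i then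
    w cols * (Matrix.of fun a b => L a (cols b)).adjugate l k else 0, fun j k => ?_⟩
  simp only [Finset.mul_sum, mul_ite, mul_zero]
  rw [Finset.sum_comm]
  have h1 : ∀ cols : Fin c → Fin n, ∑ i, ∑ l, (if cols l = i then
      L j i * (w cols * (Matrix.of fun a b => L a (cols b)).adjugate l k) else 0) =
      if j = k then w cols * (Matrix.of fun a b => L a (cols b)).det else 0 := by
    intro cols
    rw [Finset.sum_comm]
    simp only [Finset.sum_ite_eq, Finset.mem_univ, if_true]
    have h2 : ((Matrix.of fun a b => L a (cols b)) *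
        (Matrix.of fun a b => L a (cols b)).adjugate) j k =
        if j = k then (Matrix.of fun a b => L a (cols b)).det else 0 := by
      rw [Matrix.mul_adjugate, Matrix.smul_apply, Matrix.one_apply, smul_eq_mul, mul_ite, mul_one, mul_zero]
    rw [Matrix.mul_apply] at h2
    simp only [Matrix.of_apply] at h2
    rw [show ∑ l, L j (cols l) * (w cols * (Matrix.of fun a b => L a (cols b)).adjugate l k) =
      w cols * ∑ l, L j (cols l) * (Matrix.of fun a b => L a (cols b)).adjugate l k from by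
        rw [Finset.mul_sum]; exact Finset.sum_congr rfl fun l _ => by ring, h2, mul_ite, mul_zero]
  simp only [h1]
  by_cases h : j = k <;> simp [h]

variable {n m c : ℕ}

/-- the change of variables and the divided equations -/
theorem exists_setup (hcm : c ≤ m) (f : Fin m → MvPolynomial (Fin n) R) (α : Fin n → R) (π tt : R)
    (cf : Fin m → R) (hcf : ∀ j, aeval α (f j) = π ^ 4 * cf j) (M : Matrix (Fin n) (Fin c) R)
    (hMu : ∀ j k, ∑ i, aeval α (pderiv i (f (Fin.castLE hcm j))) * M i k =
      if j = k then π * (1 + π ^ 3 * tt) else 0) :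
    ∃ (ε : MvPolynomial (Fin n) R →ₐ[R] MvPolynomial (Fin (n + c)) R)
      (G : Fin m → MvPolynomial (Fin (n + c)) R) (h : Fin c → MvPolynomial (Fin (n + c)) R)
      (ℓ : Fin c → MvPolynomial (Fin n) R) (K : Fin c → MvPolynomial (Fin (n + c)) R),
      (∀ i, ε (X i) = C (α i) + C π ^ 4 * X (Fin.castAdd c i) +
        C π ^ 3 * ∑ k, C (M i k) * X (Fin.natAdd n k)) ∧
      (∀ j, ε (f j) = C π ^ 3 * G j) ∧
      (∀ j, ε (f (Fin.castLE hcm j)) = C π ^ 4 * h j) ∧
      ∀ j, h j = C (1 + π ^ 3 * tt) * X (Fin.natAdd n j) + rename (Fin.castAdd c) (ℓ j) +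
        C π ^ 2 * K j := by
  classical
  let y : Fin n → MvPolynomial (Fin (n + c)) R := fun i =>
    C π * X (Fin.castAdd c i) + ∑ k, C (M i k) * X (Fin.natAdd n k)
  let s : Fin n → MvPolynomial (Fin (n + c)) R := fun i => C π ^ 3 * y i
  choose q hq using fun j => exists_taylor α (f j)
  let Qp : Fin m → MvPolynomial (Fin (n + c)) R := fun j =>
    ∑ i, ∑ k, aeval s (q j i k) * (y i * y k)
  let G : Fin m → MvPolynomial (Fin (n + c)) R := fun j =>
    C π * C (cf j) + (∑ i, C (aeval α (pderiv i (f j))) * y i) + C π ^ 3 * Qp j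
  let ℓ : Fin c → MvPolynomial (Fin n) R := fun j =>
    C (cf (Fin.castLE hcm j)) + ∑ i, C (aeval α (pderiv i (f (Fin.castLE hcm j)))) * X i
  have hG : ∀ j, aeval (fun i => algebraMap R (MvPolynomial (Fin (n + c)) R) (α i) + s i) (f j) =
      C π ^ 3 * G j := fun j => by
    have e2 : ∑ i, C (aeval α (pderiv i (f j))) * s i =
        C π ^ 3 * ∑ i, C (aeval α (pderiv i (f j))) * y i := by
      rw [Finset.mul_sum]
      exact Finset.sum_congr rfl fun i _ => mul_left_comm _ _ _
    have e3 : ∑ i, ∑ k, aeval s (q j i k) * (s i * s k) = C π ^ 3 * (C π ^ 3 * Qp j) := by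
      simp only [Qp, Finset.mul_sum]
      refine Finset.sum_congr rfl fun i _ => Finset.sum_congr rfl fun k _ => ?_
      show _ * ((C π ^ 3 * y i) * (C π ^ 3 * y k)) = _
      generalize aeval s (q j i k) = a
      generalize y i = b
      generalize y k = d
      ring
    rw [hq j s, hcf]
    simp only [MvPolynomial.algebraMap_eq, map_mul, map_pow, e3, e2, G]
    generalize Qp j = a
    generalize ∑ i, C (aeval α (pderiv i (f j))) * y i = b
    ring
  let h : Fin c → MvPolynomial (Fin (n + c)) R := fun j =>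
    C (1 + π ^ 3 * tt) * X (Fin.natAdd n j) + rename (Fin.castAdd c) (ℓ j) +
      C π ^ 2 * Qp (Fin.castLE hcm j)
  have hGh : ∀ j, G (Fin.castLE hcm j) = C π * h j := fun j => by
    have e1 : ∑ i, C (aeval α (pderiv i (f (Fin.castLE hcm j)))) * y i =
        C π * (∑ i, C (aeval α (pderiv i (f (Fin.castLE hcm j)))) * X (Fin.castAdd c i)) +
        C π * (C (1 + π ^ 3 * tt) * X (Fin.natAdd n j)) := by
      simp only [y, mul_add, Finset.sum_add_distrib, Finset.mul_sum]
      congr 1
      · exact Finset.sum_congr rfl fun i _ => by ring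
      · rw [Finset.sum_comm]
        simp only [← mul_assoc, ← Finset.sum_mul, ← map_mul, ← map_sum, hMu]
        simp [apply_ite (C (R := R) (σ := Fin (n + c))), ite_mul]
    simp only [G, h, ℓ, e1, map_add, map_sum, map_mul, rename_C, rename_X]
    generalize Qp (Fin.castLE hcm j) = a
    ring
  refine ⟨_, G, h, ℓ, fun j => Qp (Fin.castLE hcm j), fun i => ?_, hG, fun j => ?_, fun j => rfl⟩
  · simp only [aeval_X, s, y, MvPolynomial.algebraMap_eq, mul_add]
    ring
  · rw [hG, hGh]
    generalize h j = a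
    ring

variable {π : R} {ε : MvPolynomial (Fin n) R →ₐ[R] MvPolynomial (Fin (n + c)) R}
  {h : Fin c → MvPolynomial (Fin (n + c)) R} (f : Fin m → MvPolynomial (Fin n) R) (hcm : c ≤ m)

/-- the ideal of the new algebra -/
noncomputable def bI (ε : MvPolynomial (Fin n) R →ₐ[R] MvPolynomial (Fin (n + c)) R)
    (h : Fin c → MvPolynomial (Fin (n + c)) R) : Ideal (MvPolynomial (Fin (n + c)) R) :=
  Ideal.span (Set.range h) ⊔ Ideal.span (Set.range fun j => ε (f j))

theorem h_mem (j : Fin c) : h j ∈ bI f ε h := Ideal.mem_sup_left (Ideal.subset_span ⟨j, rfl⟩)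

theorem span_le_comap_bI : Ideal.span (Set.range f) ≤ (bI f ε h).comap ε :=
  Ideal.span_le.2 (by rintro _ ⟨j, rfl⟩; exact Ideal.mem_sup_right (Ideal.subset_span ⟨j, rfl⟩))

variable (hεh : ∀ j, ε (f (Fin.castLE hcm j)) = C π ^ 4 * h j)
include hεh

theorem rows_le_comap : Ideal.span (Set.range fun j => f (Fin.castLE hcm j)) ≤
    (Ideal.span (Set.range h)).comap ε :=
  Ideal.span_le.2 (by
    rintro _ ⟨j, rfl⟩
    show ε (f (Fin.castLE hcm j)) ∈ Ideal.span (Set.range h)
    rw [hεh]
    exact Ideal.mul_mem_left _ _ (Ideal.subset_span ⟨j, rfl⟩))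

theorem smooth_notMem [IsNoetherianRing R] {α : Fin n → R} {M : Matrix (Fin n) (Fin c) R}
    (hεX : ∀ i, ε (X i) = C (α i) + C π ^ 4 * X (Fin.castAdd c i) +
      C π ^ 3 * ∑ k, C (M i k) * X (Fin.natAdd n k))
    (hk : ∀ j, C π * f j ∈ Ideal.span (Set.range fun j => f (Fin.castLE hcm j)) ⊔
      Ideal.span (Set.range f) ^ 2)
    (w : (Fin c → Fin n) → MvPolynomial (Fin n) R)
    (hw : ∑ cols, w cols * Matrix.det (Matrix.of fun j k : Fin c =>
      pderiv (cols k) (f (Fin.castLE hcm j))) - C π ∈ Ideal.span (Set.range f))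
    (Q : Ideal (MvPolynomial (Fin (n + c)) R ⧸ bI f ε h)) [Q.IsPrime]
    (hQ : algebraMap R (MvPolynomial (Fin (n + c)) R ⧸ bI f ε h) π ∉ Q) :
    Algebra.IsSmoothAt R Q := by
  classical
  have hεC : ∀ a, ε (C a) = C a := fun a => AlgHom.commutes ε a
  let Δf : (Fin c → Fin n) → MvPolynomial (Fin n) R := fun cols =>
    Matrix.det (Matrix.of fun j k : Fin c => pderiv (cols k) (f (Fin.castLE hcm j)))
  obtain ⟨cols, hcols⟩ : ∃ cols : Fin c → Fin n,
      Ideal.Quotient.mk (bI f ε h) (ε (Δf cols)) ∉ Q := by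
    by_contra hall
    push Not at hall
    refine hQ ?_
    have h1 : ε (∑ cols, w cols * Δf cols - C π) ∈ bI f ε h := span_le_comap_bI f hw
    rw [map_sub, hεC] at h1
    have h2 := Ideal.Quotient.eq.2 h1
    show Ideal.Quotient.mk (bI f ε h) (C π) ∈ Q
    rw [← h2, map_sum, map_sum]
    exact Q.sum_mem fun cols _ => by rw [map_mul, map_mul]; exact Q.mul_mem_left _ (hall cols)
  have hinj : Function.Injective cols := by
    intro i j hij
    by_contra hne
    refine hcols ?_
    have h0 : Δf cols = 0 := Matrix.det_zero_of_column_eq hne fun r => by simp [hij]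
    rw [h0, map_zero, map_zero]; exact Q.zero_mem
  refine isSmoothAt_of_kills (bI f ε h) h (h_mem f) (fun k => Fin.castAdd c (cols k))
    ((Fin.castAdd_injective n c).comp hinj) (C π) (fun x hx => ?_) Q ?_
  · have hle : bI f ε h ≤ Submodule.comap (LinearMap.mulLeft (MvPolynomial (Fin (n + c)) R) (C π))
        (Ideal.span (Set.range h) ⊔ bI f ε h ^ 2) := by
      refine sup_le (Ideal.span_le.2 ?_) (Ideal.span_le.2 ?_)
      · rintro _ ⟨j, rfl⟩
        show C π * h j ∈ Ideal.span (Set.range h) ⊔ bI f ε h ^ 2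
        exact Ideal.mem_sup_left (Ideal.mul_mem_left _ _ (Ideal.subset_span ⟨j, rfl⟩))
      · rintro _ ⟨j, rfl⟩
        show C π * ε (f j) ∈ Ideal.span (Set.range h) ⊔ bI f ε h ^ 2
        have h1 : ε (C π * f j) ∈ Ideal.span (Set.range h) ⊔ bI f ε h ^ 2 := by
          refine (sup_le ((rows_le_comap f hcm hεh).trans (Ideal.comap_mono le_sup_left)) ?_ :
            _ ≤ Ideal.comap ε _) (hk j)
          refine le_trans ?_ (Ideal.comap_mono le_sup_right)
          rw [sq, sq, Ideal.mul_le]
          intro a ha b hb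
          show ε (a * b) ∈ bI f ε h * bI f ε h
          rw [map_mul]
          exact Ideal.mul_mem_mul (span_le_comap_bI f ha) (span_le_comap_bI f hb)
        rw [map_mul, hεC] at h1
        exact h1
    exact hle hx
  · have hd : C π ^ (4 * c) * jd h (fun k => Fin.castAdd c (cols k)) =
        C π ^ (4 * c) * ε (Δf cols) := by
      have e0 : ∀ j k, C π ^ 4 * pderiv (Fin.castAdd c (cols k)) (h j) =
          C π ^ 4 * ε (pderiv (cols k) (f (Fin.castLE hcm j))) := by
        intro j k
        have e1 := congrArg (pderiv (Fin.castAdd c (cols k))) (hεh j)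
        rw [show ε = aeval (fun i => ε (X i)) from algHom_ext fun i => by simp, pderiv_aeval,
          ← map_pow, pderiv_C_mul, map_pow] at e1
        rw [← e1, Finset.sum_eq_single (cols k)]
        · have e2 : pderiv (Fin.castAdd c (cols k)) (ε (X (cols k))) = C π ^ 4 := by
            rw [hεX, ← map_pow, ← map_pow]
            simp only [map_add, pderiv_C_mul, map_sum, pderiv_C, zero_add,
              pderiv_X_of_ne (castAdd_ne_natAdd _ _).symm, mul_zero, Finset.sum_const_zero, add_zero,
              pderiv_X_self, mul_one]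
          rw [e2, mul_comm, ← show ε = aeval (fun i => ε (X i)) from algHom_ext fun i => by simp]
        · intro l _ hl
          have e2 : pderiv (Fin.castAdd c (cols k)) (ε (X l)) = 0 := by
            rw [hεX, ← map_pow, ← map_pow]
            simp only [map_add, pderiv_C_mul, map_sum, pderiv_C, zero_add,
              pderiv_X_of_ne (castAdd_ne_natAdd _ _).symm, mul_zero, Finset.sum_const_zero, add_zero,
              pderiv_X_of_ne (fun e => hl (Fin.castAdd_injective n c e))]
          rw [e2, mul_zero]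
        · simp
      rw [pow_mul]
      have d1 : ∀ (W : Matrix (Fin c) (Fin c) (MvPolynomial (Fin (n + c)) R)),
          (C π ^ 4) ^ c * W.det = ((C π ^ 4) • W).det := fun W => by
        rw [Matrix.det_smul, Fintype.card_fin]
      rw [jd, d1, show ε (Δf cols) =
        (Matrix.of fun j k => ε (pderiv (cols k) (f (Fin.castLE hcm j)))).det from AlgHom.map_det ε _, d1]
      congr 1
      exact Matrix.ext fun j k => e0 j k
    have hπQ : Ideal.Quotient.mk (bI f ε h) (C π) ∉ Q := hQ
    rw [map_mul]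
    refine fun hmem => (Ideal.IsPrime.mem_or_mem ‹Q.IsPrime› hmem).elim hπQ fun hj => ?_
    have h3 : Ideal.Quotient.mk (bI f ε h) (C π ^ (4 * c) * ε (Δf cols)) ∈ Q := by
      rw [← hd, map_mul]; exact Q.mul_mem_left _ hj
    rw [map_mul, map_pow] at h3
    exact (Ideal.IsPrime.mem_or_mem ‹Q.IsPrime› h3).elim
      (fun h4 => hπQ (Ideal.IsPrime.mem_of_pow_mem ‹Q.IsPrime› _ h4)) hcols

theorem exists_tail_killer {r : R} {G : Fin m → MvPolynomial (Fin (n + c)) R}
    (hG : ∀ j, ε (f j) = C π ^ 3 * G j)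
    (hk : ∀ j, C π * f j ∈ Ideal.span (Set.range fun j => f (Fin.castLE hcm j)) ⊔
      Ideal.span (Set.range f) ^ 2)
    (hr : ∀ x : R, π ^ 2 * x = 0 → π * (r * x) = 0)
    {T : Type u} [CommRing T] [Algebra R T] [Module.Flat R T]
    (Φ : MvPolynomial (Fin (n + c)) R →ₐ[R] T) (hΦh : ∀ x ∈ Ideal.span (Set.range h), Φ x = 0) :
    ∃ D : MvPolynomial (Fin (n + c)) R, D - 1 ∈ Ideal.span {C π} ∧
      ∀ j, Φ (C r * D * ε (f j)) = 0 := by
  classical
  -- `π (1 - π² E) F = 0`
  have hE : ∀ j, ∃ E : Fin m → MvPolynomial (Fin (n + c)) R,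
      C π * ε (f j) - C π ^ 3 * ∑ k, E k * ε (f k) ∈ Ideal.span (Set.range h) := by
    intro j
    obtain ⟨a, ha, b, hb, hab⟩ := Submodule.mem_sup.1 (hk j)
    rw [sq] at hb
    obtain ⟨e, he, hsum⟩ := (Submodule.mem_ideal_smul_span_iff_exists_sum _ _ _).1
      (show b ∈ Ideal.span (Set.range f) • Submodule.span (MvPolynomial (Fin n) R) (Set.range f) from hb)
    have heG : ∀ k, ∃ E, ε (e k) = C π ^ 3 * E := fun k => by
      obtain ⟨co, hco⟩ := Ideal.mem_span_range_iff_exists_fun.1 (he k)
      refine ⟨∑ l, ε (co l) * G l, ?_⟩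
      rw [← hco, map_sum, Finset.mul_sum]
      exact Finset.sum_congr rfl fun l _ => by rw [map_mul, hG]; ring
    choose E hE using heG
    refine ⟨E, ?_⟩
    have hb' : ε b = C π ^ 3 * ∑ k, E k * ε (f k) := by
      have e0 : ∑ k, e k * f k = b := by
        rw [← hsum, Finsupp.sum_fintype]
        · rfl
        · intro; simp
      rw [← e0, map_sum, Finset.mul_sum]
      refine Finset.sum_congr rfl fun k _ => ?_
      rw [map_mul, hE]; ring
    rw [← hb', show C π * ε (f j) = ε (C π * f j) from by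
      rw [map_mul, show ε (C π) = C π from AlgHom.commutes ε π], ← hab, map_add, add_sub_cancel_right]
    exact rows_le_comap f hcm hεh ha
  choose E hE using hE
  let D : Matrix (Fin m) (Fin m) (MvPolynomial (Fin (n + c)) R) :=
    1 - (C π : MvPolynomial (Fin (n + c)) R) ^ 2 • Matrix.of E
  have hD : ∀ j, Φ (C π * (D.det * ε (f j))) = 0 := by
    intro j
    have h1 : ∀ i, Φ (C π * Matrix.mulVec D (fun k => ε (f k)) i) = 0 := fun i => by
      have e1 : C π * Matrix.mulVec D (fun k => ε (f k)) i =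
          C π * ε (f i) - C π ^ 3 * ∑ k, E i k * ε (f k) := by
        simp only [D, Matrix.sub_mulVec, Matrix.one_mulVec, Matrix.smul_mulVec, Pi.sub_apply,
          Pi.smul_apply, smul_eq_mul, Matrix.mulVec, dotProduct, Matrix.of_apply]
        simp only [sub_mul, one_mul, Finset.sum_sub_distrib, Finset.mul_sum, mul_sub,
          Matrix.sub_apply, Matrix.smul_apply, Matrix.of_apply, smul_eq_mul, Matrix.one_apply, ite_mul, zero_mul,
          Finset.sum_ite_eq, Finset.mem_univ, if_true, mul_ite, mul_zero]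
        congr 1
        exact Finset.sum_congr rfl fun _ _ => by ring
      rw [e1]; exact hΦh _ (hE i)
    have e2 : D.det * ε (f j) = Matrix.mulVec D.adjugate (Matrix.mulVec D fun k => ε (f k)) j := by
      rw [Matrix.mulVec_mulVec, Matrix.adjugate_mul, Matrix.smul_mulVec, Matrix.one_mulVec]
      rfl
    rw [e2]
    simp only [Matrix.mulVec, dotProduct] at h1 ⊢
    rw [Finset.mul_sum, map_sum]
    refine Finset.sum_eq_zero fun i _ => ?_
    rw [mul_left_comm, map_mul, h1, mul_zero]
  have hrD : ∀ j, Φ (C r * (D.det * ε (f j))) = 0 := by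
    intro j
    have hC : ∀ a, Φ (C a) = algebraMap R _ a := fun a => AlgHom.commutes Φ a
    have h1 : algebraMap R T π ^ 4 *
        Φ (D.det * G j) = 0 := by
      rw [← hC, ← map_pow, ← map_mul, ← hD j, hG]
      congr 1
      ring
    have h2 := smul_eq_zero_of_flat' hr (x := algebraMap R _ π ^ 2 * Φ (D.det * G j)) (by
      rw [Algebra.smul_def, map_pow, ← mul_assoc, ← pow_add]; exact h1)
    have h2' : Φ (C (π * r) * (C π ^ 2 * (D.det * G j))) = 0 := by
      rw [map_mul Φ, map_mul Φ, map_pow, hC, hC, ← Algebra.smul_def]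
      exact h2
    rw [← h2', hG, map_mul (C (R := R) (σ := Fin (n + c)))]
    congr 1
    ring
  have hdet : D.det - 1 ∈ Ideal.span {C π} := by
    rw [← Ideal.Quotient.eq, map_one, RingHom.map_det]
    have hπ0 : Ideal.Quotient.mk (Ideal.span {(C π : MvPolynomial (Fin (n + c)) R)}) (C π) = 0 :=
      Ideal.Quotient.eq_zero_iff_mem.2 (Ideal.mem_span_singleton_self _)
    have e : (Ideal.Quotient.mk (Ideal.span {(C π : MvPolynomial (Fin (n + c)) R)})).mapMatrix D = 1 := by
      refine Matrix.ext fun i j => ?_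
      by_cases hij : i = j <;> simp [D, hπ0, hij, map_sub, map_mul, map_pow, Matrix.one_apply]
    rw [e, Matrix.det_one]
  exact ⟨D.det, hdet, fun j => by rw [mul_assoc]; exact hrD j⟩

theorem smooth_mem [IsNoetherianRing R] {tt r : R} {G : Fin m → MvPolynomial (Fin (n + c)) R}
    {ℓ : Fin c → MvPolynomial (Fin n) R} {K : Fin c → MvPolynomial (Fin (n + c)) R}
    (hG : ∀ j, ε (f j) = C π ^ 3 * G j)
    (hform : ∀ j, h j = C (1 + π ^ 3 * tt) * X (Fin.natAdd n j) + rename (Fin.castAdd c) (ℓ j) +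
      C π ^ 2 * K j)
    (hk : ∀ j, C π * f j ∈ Ideal.span (Set.range fun j => f (Fin.castLE hcm j)) ⊔
      Ideal.span (Set.range f) ^ 2)
    (hr : ∀ x : R, π ^ 2 * x = 0 → π * (r * x) = 0)
    (Q : Ideal (MvPolynomial (Fin (n + c)) R ⧸ bI f ε h)) [Q.IsPrime]
    (hπQ : algebraMap R (MvPolynomial (Fin (n + c)) R ⧸ bI f ε h) π ∈ Q)
    (hrQ : algebraMap R (MvPolynomial (Fin (n + c)) R ⧸ bI f ε h) r ∉ Q) :
    Algebra.IsSmoothAt R Q := by
  classical
  have hπ0 : Ideal.Quotient.mk (Ideal.span {(C π : MvPolynomial (Fin (n + c)) R)}) (C π) = 0 :=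
    Ideal.Quotient.eq_zero_iff_mem.2 (Ideal.mem_span_singleton_self _)
  have hjd : jd h (fun k => Fin.natAdd n k) - 1 ∈ Ideal.span {C π} := by
    rw [← Ideal.Quotient.eq, map_one, jd, RingHom.map_det]
    have e : (Ideal.Quotient.mk (Ideal.span {(C π : MvPolynomial (Fin (n + c)) R)})).mapMatrix
        (Matrix.of fun j k => pderiv (Fin.natAdd n k) (h j)) = 1 := by
      refine Matrix.ext fun j k => ?_
      simp only [RingHom.mapMatrix_apply, Matrix.map_apply, Matrix.of_apply, hform]
      rw [← map_pow C π 2, map_add (pderiv (Fin.natAdd n k)), map_add (pderiv (Fin.natAdd n k)),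
        pderiv_C_mul, pderiv_C_mul, pderiv_natAdd_rename, add_zero]
      simp only [map_add, map_mul, map_pow, map_one, hπ0, zero_pow (three_ne_zero), zero_pow (two_ne_zero),
        zero_mul, add_zero, one_mul]
      by_cases hjk : j = k
      · subst hjk; simp
      · rw [pderiv_X_of_ne fun e => hjk (Fin.natAdd_injective c n e), map_zero,
          Matrix.one_apply_ne hjk]
    rw [e, Matrix.det_one]
  let cl : Fin c → Fin (n + c) := fun k => Fin.natAdd n k
  haveI := smooth_away_jd h cl (Fin.natAdd_injective c n) 1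
  let Φ : MvPolynomial (Fin (n + c)) R →ₐ[R]
      Localization.Away (Ideal.Quotient.mk (Ideal.span (Set.range h)) (1 * jd h cl)) :=
    (IsScalarTower.toAlgHom R (MvPolynomial (Fin (n + c)) R ⧸ Ideal.span (Set.range h)) _).comp
      (Ideal.Quotient.mkₐ R (Ideal.span (Set.range h)))
  have hΦh : ∀ x ∈ Ideal.span (Set.range h), Φ x = 0 := fun x hx => by
    have h0 : Ideal.Quotient.mk (Ideal.span (Set.range h)) x = 0 := Ideal.Quotient.eq_zero_iff_mem.2 hx
    show algebraMap (MvPolynomial (Fin (n + c)) R ⧸ Ideal.span (Set.range h)) _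
      (Ideal.Quotient.mk (Ideal.span (Set.range h)) x) = 0
    rw [h0, map_zero]
  obtain ⟨D, hdet, hrD⟩ := exists_tail_killer f hcm hεh hG hk hr Φ hΦh
  have hk : ∀ j, ∃ k : ℕ, (1 * jd h cl) ^ k * (C r * D * ε (f j)) ∈ Ideal.span (Set.range h) :=
    fun j => by
      obtain ⟨⟨_, k, rfl⟩, hk⟩ := (IsLocalization.map_eq_zero_iff
        (Submonoid.powers (Ideal.Quotient.mk (Ideal.span (Set.range h)) (1 * jd h cl))) _ _).1
        (hrD j)
      exact ⟨k, Ideal.Quotient.eq_zero_iff_mem.1 (by rw [map_mul, map_pow]; exact hk)⟩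
  choose k hk using hk
  refine isSmoothAt_of_kills (bI f ε h) h (h_mem f) cl (Fin.natAdd_injective c n)
    ((1 * jd h cl) ^ (∑ j, k j) * (C r * D)) (fun x hx => Ideal.mem_sup_left ?_) Q ?_
  · have hle : bI f ε h ≤ Submodule.comap (LinearMap.mulLeft (MvPolynomial (Fin (n + c)) R)
        ((1 * jd h cl) ^ (∑ j, k j) * (C r * D))) (Ideal.span (Set.range h)) := by
      refine sup_le (Ideal.span_le.2 ?_) (Ideal.span_le.2 ?_)
      · rintro _ ⟨j, rfl⟩
        show (1 * jd h cl) ^ (∑ j, k j) * (C r * D) * h j ∈ Ideal.span (Set.range h)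
        exact Ideal.mul_mem_left _ _ (Ideal.subset_span ⟨j, rfl⟩)
      · rintro _ ⟨j, rfl⟩
        show (1 * jd h cl) ^ (∑ j, k j) * (C r * D) * ε (f j) ∈ Ideal.span (Set.range h)
        obtain ⟨e, he⟩ := Nat.exists_eq_add_of_le' (Finset.single_le_sum (fun i _ => Nat.zero_le (k i))
          (Finset.mem_univ j))
        rw [he, pow_add, mul_assoc _ (C r * D), mul_assoc]
        exact Ideal.mul_mem_left _ _ (hk j)
    exact hle hx
  · have hq : ∀ x, x - 1 ∈ Ideal.span {C π} → Ideal.Quotient.mk (bI f ε h) x ∉ Q := fun x hx hxQ => by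
      obtain ⟨e, he⟩ := Ideal.mem_span_singleton.1 hx
      refine Ideal.IsPrime.ne_top ‹Q.IsPrime› ((Ideal.eq_top_iff_one Q).2 ?_)
      rw [show (1 : MvPolynomial (Fin (n + c)) R ⧸ bI f ε h) = Ideal.Quotient.mk (bI f ε h) x -
        Ideal.Quotient.mk (bI f ε h) (C π) * Ideal.Quotient.mk (bI f ε h) e from by
          rw [← map_mul, ← he, map_sub, map_one]; ring]
      exact Q.sub_mem hxQ (Q.mul_mem_right _ hπQ)
    rw [one_mul, map_mul, map_mul, map_mul, map_pow]
    intro hmem
    rcases Ideal.IsPrime.mem_or_mem ‹Q.IsPrime› hmem with h4 | h4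
    · rcases Ideal.IsPrime.mem_or_mem ‹Q.IsPrime› h4 with h5 | h5
      · exact hq _ hjd (Ideal.IsPrime.mem_of_pow_mem ‹Q.IsPrime› _ h5)
      · exact (Ideal.IsPrime.mem_or_mem ‹Q.IsPrime› h5).elim hrQ (hq _ hdet)
    · exact hq _ hjd h4

/-- the point over `Λ` -/
theorem exists_point {Λ : Type u} [CommRing Λ] [Algebra R Λ] {α : Fin n → R}
    {M : Matrix (Fin n) (Fin c) R} {tt : R}
    {ℓ : Fin c → MvPolynomial (Fin n) R} {K : Fin c → MvPolynomial (Fin (n + c)) R}
    (hεX : ∀ i, ε (X i) = C (α i) + C π ^ 4 * X (Fin.castAdd c i) +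
      C π ^ 3 * ∑ k, C (M i k) * X (Fin.natAdd n k))
    (hform : ∀ j, h j = C (1 + π ^ 3 * tt) * X (Fin.natAdd n j) + rename (Fin.castAdd c) (ℓ j) +
      C π ^ 2 * K j)
    (hΛ : ∀ x : Λ, π ^ 2 • x = 0 → π • x = 0) (χ : MvPolynomial (Fin n) R →ₐ[R] Λ)
    (hχ : ∀ j, χ (f j) = 0) (μ : Fin n → Λ)
    (hμ : ∀ i, χ (X i) = algebraMap R Λ (α i) + algebraMap R Λ π ^ 4 * μ i) :
    ∃ β : MvPolynomial (Fin (n + c)) R →ₐ[R] Λ, (∀ p, β (ε p) = χ p) ∧ ∀ x ∈ bI f ε h, β x = 0 := by
  classical
  let πΛ := algebraMap R Λ π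
  let v0 : Fin (n + c) → Λ := Fin.append μ 0
  let zz : Fin c → Λ := fun j => -aeval v0 (h j)
  let vz : Fin (n + c) → Λ := Fin.append μ zz
  have h0 : ∀ p, aeval v0 (ε p) = χ p := fun p =>
    DFunLike.congr_fun (show (aeval (R := R) v0).comp ε = χ from algHom_ext fun i => by
      rw [AlgHom.comp_apply, hεX, hμ]
      simp [v0]) p
  have hz : ∀ j, πΛ * zz j = 0 := fun j => by
    refine mul_eq_zero_of_pow_four hΛ ?_
    have h1 := h0 (f (Fin.castLE hcm j))
    rw [hχ, hεh, map_mul, map_pow, aeval_C] at h1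
    simp only [zz, mul_neg]
    rw [h1, neg_zero]
  have hsame : ∀ p, πΛ * aeval vz p = πΛ * aeval v0 p := mul_aeval_congr (R := R) πΛ vz v0 fun l => by
    induction l using Fin.addCases with
    | left i => simp [vz, v0]
    | right j => simp [vz, v0, hz]
  have hεv : ∀ p, aeval vz (ε p) = χ p := fun p =>
    DFunLike.congr_fun (show (aeval (R := R) vz).comp ε = χ from algHom_ext fun i => by
      rw [← h0 (X i), AlgHom.comp_apply, hεX]
      simp only [map_add, map_mul, map_pow, aeval_C, aeval_X, vz, v0, Fin.append_left]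
      congr 1
      rw [pow_succ, mul_assoc, mul_assoc]
      exact congrArg _ (hsame _)) p
  have hl : ∀ j (v : Fin (n + c) → Λ), (∀ i, v (Fin.castAdd c i) = μ i) →
      aeval v (rename (Fin.castAdd c) (ℓ j)) = aeval μ (ℓ j) := fun j v hv => by
    rw [aeval_rename]
    congr 2
    exact funext hv
  have hvh : ∀ j, aeval vz (h j) = 0 := fun j => by
    have h2 : aeval vz (h j) = aeval v0 (h j) + zz j := by
      have hu : algebraMap R Λ (1 + π ^ 3 * tt) * zz j = zz j := by
        rw [map_add, map_one, map_mul, map_pow, add_mul, one_mul]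
        linear_combination (πΛ ^ 2 * algebraMap R Λ tt) * hz j
      have hQ2 : πΛ ^ 2 * aeval vz (K j) = πΛ ^ 2 * aeval v0 (K j) := by
        rw [sq, mul_assoc, hsame, ← mul_assoc]
      rw [hform]
      simp only [map_add, map_mul, map_pow, aeval_C, aeval_X,
        hl j vz (fun i => Fin.append_left _ _ i), hl j v0 (fun i => Fin.append_left _ _ i)]
      simp only [vz, v0, Fin.append_right, Pi.zero_apply, mul_zero, map_add, map_one, map_mul, map_pow] at hu hQ2 ⊢
      linear_combination hu + hQ2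
    rw [h2]
    simp [zz]
  refine ⟨aeval vz, hεv, fun x hx => ?_⟩
  have hle : bI f ε h ≤ RingHom.ker (aeval (R := R) vz).toRingHom := sup_le
    (Ideal.span_le.2 (by rintro _ ⟨j, rfl⟩; exact hvh j))
    (Ideal.span_le.2 (by
      rintro _ ⟨j, rfl⟩
      show aeval vz (ε (f j)) = 0
      rw [hεv, hχ]))
  exact hle hx

omit hεh

theorem desingularize [IsNoetherianRing R] {Λ A : Type u} [CommRing Λ] [Algebra R Λ] (π : R)
    (hΛ : ∀ x : Λ, π ^ 2 • x = 0 → π • x = 0) [CommRing A] [Algebra R A]
    (φ : A →ₐ[R] Λ) (hπ : Smoothing.IsStrictlyStandard R A (algebraMap R A π))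
    (ρ : A →ₐ[R] R ⧸ Ideal.span {π ^ 4})
    (hρ : ∀ (a : A) (r : R), Ideal.Quotient.mk (Ideal.span {π ^ 4}) r = ρ a →
      algebraMap R Λ r - φ a ∈ Ideal.span {algebraMap R Λ (π ^ 4)}) :
    ∃ (B : Type u) (_ : CommRing B) (_ : Algebra R B), Algebra.FinitePresentation R B ∧
      ∃ (α : A →ₐ[R] B) (β : B →ₐ[R] Λ), β.comp α = φ ∧
        ∀ r : R, (∀ x : R, π ^ 2 * x = 0 → π * (r * x) = 0) →
          algebraMap R B r ∈ Smoothing.singularIdeal R B := by
  classical
  obtain ⟨⟨n, m, c, hcn, hcm, f, θ, hθ, hker⟩, hstd, hkill⟩ := hπ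
  simp only at hstd hkill
  have hθf : ∀ j, θ (f j) = 0 := fun j => by
    have h1 : f j ∈ Ideal.span (Set.range f) := Ideal.subset_span ⟨j, rfl⟩
    rw [← hker] at h1; exact h1
  choose α hα using fun i => Ideal.Quotient.mk_surjective (ρ (θ (X i)))
  have hαp : ∀ p, Ideal.Quotient.mk (Ideal.span {π ^ 4}) (aeval α p) = ρ (θ p) := fun p =>
    DFunLike.congr_fun (show (Ideal.Quotient.mkₐ R _).comp (aeval α) = ρ.comp θ from
      algHom_ext fun i => by simp [hα]) p
  have hαf : ∀ j, ∃ cj, aeval α (f j) = π ^ 4 * cj := fun j => by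
    have h1 := hαp (f j)
    rw [hθf, map_zero] at h1
    exact Ideal.mem_span_singleton.1 (Ideal.Quotient.eq_zero_iff_mem.1 h1)
  choose cf hcf using hαf
  choose μ hμ using fun i => Ideal.mem_span_singleton.1 (hρ (θ (X i)) (α i) (hα i))
  obtain ⟨w, hw⟩ := Ideal.mem_span_range_iff_exists_fun.1 hstd
  choose w' hw' using fun cols => hθ (w cols)
  let Δf : (Fin c → Fin n) → MvPolynomial (Fin n) R := fun cols =>
    Matrix.det (Matrix.of fun j k : Fin c => pderiv (cols k) (f (Fin.castLE hcm j)))
  have hw0 : ∑ cols, w' cols * Δf cols - C π ∈ Ideal.span (Set.range f) := by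
    rw [← hker]
    show θ _ = 0
    rw [map_sub, map_sum, show θ (C π) = algebraMap R A π from AlgHom.commutes θ π, sub_eq_zero, ← hw]
    refine Finset.sum_congr rfl fun cols _ => ?_
    rw [map_mul, hw']
    rfl
  obtain ⟨tt, htt⟩ : ∃ tt, aeval α (∑ cols, w' cols * Δf cols) = π * (1 + π ^ 3 * tt) := by
    have hle : Ideal.span (Set.range f) ≤ (Ideal.span {π ^ 4}).comap (aeval (R := R) α) :=
      Ideal.span_le.2 (by rintro _ ⟨j, rfl⟩; exact Ideal.mem_span_singleton.2 ⟨cf j, hcf j⟩)
    obtain ⟨tt, htt⟩ := Ideal.mem_span_singleton.1 (hle hw0)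
    refine ⟨tt, ?_⟩
    have h1 : aeval α (∑ cols, w' cols * Δf cols) - π = π ^ 4 * tt := by
      rw [← htt, map_sub, aeval_C, Algebra.algebraMap_self, RingHom.id_apply]
    linear_combination h1
  obtain ⟨M, hM⟩ := exists_right_inverse
    (Matrix.of fun (j : Fin c) i => aeval α (pderiv i (f (Fin.castLE hcm j))))
    (fun cols => aeval α (w' cols))
  have hMu : ∀ j k, ∑ i, aeval α (pderiv i (f (Fin.castLE hcm j))) * M i k =
      if j = k then π * (1 + π ^ 3 * tt) else 0 := by
    intro j k
    refine (hM j k).trans ?_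
    rw [← htt]
    simp only [map_sum, map_mul]
    refine if_congr Iff.rfl (Finset.sum_congr rfl fun cols _ => ?_) rfl
    rw [AlgHom.map_det]
    rfl
  obtain ⟨ε, G, h, ℓ, K, hεX, hG, hεh, hform⟩ := exists_setup hcm f α π tt cf hcf M hMu
  have hk : ∀ j, C π * f j ∈ Ideal.span (Set.range fun j => f (Fin.castLE hcm j)) ⊔
      Ideal.span (Set.range f) ^ 2 := by
    intro j
    by_cases hj : c ≤ (j : ℕ)
    · have hle : Ideal.span (f '' {j' : Fin m | (j' : ℕ) < c}) ≤
          Ideal.span (Set.range fun j => f (Fin.castLE hcm j)) := by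
        refine Ideal.span_mono ?_
        rintro _ ⟨j', hj', rfl⟩
        exact ⟨⟨j', hj'⟩, rfl⟩
      exact (sup_le (hle.trans le_sup_left) le_sup_right : _ ≤ Ideal.span (Set.range fun j => f (Fin.castLE hcm j)) ⊔
        Ideal.span (Set.range f) ^ 2) (hkill (C π) (AlgHom.commutes θ π) j hj)
    · exact Ideal.mem_sup_left (Ideal.mul_mem_left _ _ (Ideal.subset_span ⟨⟨j, not_le.1 hj⟩, rfl⟩))
  obtain ⟨β, hβε, hβI⟩ := exists_point f hcm hεh hεX hform hΛ (φ.comp θ)
    (fun j => by rw [AlgHom.comp_apply, hθf, map_zero]) (fun i => -μ i) fun i => by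
      have h1 := hμ i
      rw [map_pow] at h1
      rw [AlgHom.comp_apply]
      linear_combination -h1
  haveI : Algebra.FinitePresentation R (MvPolynomial (Fin (n + c)) R ⧸ bI f ε h) :=
    Algebra.FinitePresentation.quotient (IsNoetherian.noetherian _)
  have hα0 : RingHom.ker θ.toRingHom ≤
      RingHom.ker ((Ideal.Quotient.mkₐ R (bI f ε h)).comp ε).toRingHom := fun p hp => by
    rw [hker] at hp
    exact Ideal.Quotient.eq_zero_iff_mem.2 (span_le_comap_bI f hp)
  refine ⟨_, inferInstance, inferInstance, inferInstance,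
    AlgHom.liftOfSurjective θ hθ ((Ideal.Quotient.mkₐ R (bI f ε h)).comp ε) hα0,
    Ideal.Quotient.liftₐ (bI f ε h) β hβI, ?_, ?_⟩
  · refine AlgHom.ext fun x => ?_
    obtain ⟨p, rfl⟩ := hθ x
    rw [AlgHom.comp_apply, AlgHom.liftOfSurjective_apply]
    exact hβε p
  · intro r hr
    refine (PrimeSpectrum.mem_vanishingIdeal _ _).2 fun Q hQ => ?_
    by_contra hrQ
    by_cases hπQ : algebraMap R (MvPolynomial (Fin (n + c)) R ⧸ bI f ε h) π ∈ Q.asIdeal
    · exact hQ (smooth_mem f hcm hεh hG hform hk hr Q.asIdeal hπQ hrQ)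
    · exact hQ (smooth_notMem f hcm hεh hεX hk w' hw0 Q.asIdeal hπQ)

end Groth.Agent.SmoothingLib.Desing
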