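import Groth.Agent.SmoothingLib.Strict
import Mathlib.RingTheory.Kaehler.TensorProduct
import Mathlib.LinearAlgebra.Matrix.ToLin
import Mathlib.LinearAlgebra.Isomorphisms

/-!
The Kaehler differentials of `A[1/a]` for `a` strictly standard are stably free.
-/

namespace Groth.Agent.SmoothingLib

open MvPolynomial

universe u

variable {R : Type u} [CommRing R]

theorem derivation_aeval {B : Type u} [CommRing B] [Algebra R B] {M : Type u} [AddCommGroup M]
    [Module R M] [Module B M] {n : ℕ} (D : Derivation R B M) (g : Fin n → B)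
    (p : MvPolynomial (Fin n) R) :
    D (aeval g p) = ∑ k, aeval g (pderiv k p) • D (g k) := by
  classical
  induction p using MvPolynomial.induction_on with
  | C r => simp [← algebraMap_eq]
  | add p q hp hq => simp [hp, hq, add_smul, Finset.sum_add_distrib]
  | mul_X p j hp =>
    rw [map_mul, aeval_X, Derivation.leibniz, hp, Finset.smul_sum]
    simp only [Derivation.leibniz, pderiv_X, smul_eq_mul, map_add, map_mul, aeval_X, add_smul,
      Finset.sum_add_distrib, mul_smul]
    congr 1
    simp [Pi.single_apply, apply_ite (aeval g), ite_smul, smul_ite]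

variable {A : Type u} [CommRing A] [Algebra R A]

theorem exists_left_inverse_of_minors {S : Type u} [CommRing S] {n c : ℕ}
    (J : Matrix (Fin n) (Fin c) S) {x : S}
    (hx : x ∈ Ideal.span (Set.range fun cols : Fin c → Fin n =>
      Matrix.det (Matrix.of fun i j : Fin c => J (cols i) j))) :
    ∃ L : Matrix (Fin c) (Fin n) S, L * J = x • (1 : Matrix (Fin c) (Fin c) S) := by
  classical
  induction hx using Submodule.span_induction with
  | mem y hy =>
    obtain ⟨cols, rfl⟩ := hy
    refine ⟨(Matrix.of fun i j : Fin c => J (cols i) j).adjugate *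
      (Matrix.of fun i k => if k = cols i then (1 : S) else 0), ?_⟩
    rw [Matrix.mul_assoc]
    have e : (Matrix.of fun i k => if k = cols i then (1 : S) else 0) * J =
        Matrix.of fun i j : Fin c => J (cols i) j := by
      ext i j; simp [Matrix.mul_apply]
    rw [e, Matrix.adjugate_mul]
  | zero => exact ⟨0, by simp⟩
  | add y z _ _ hy hz =>
    obtain ⟨L, hL⟩ := hy
    obtain ⟨L', hL'⟩ := hz
    exact ⟨L + L', by rw [Matrix.add_mul, hL, hL', add_smul]⟩
  | smul r y _ hy =>
    obtain ⟨L, hL⟩ := hy
    exact ⟨r • L, by rw [Matrix.smul_mul, hL, smul_smul]; rfl⟩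

theorem stablyFree_kaehler_of_isStrictlyStandard {a : A}
    (h : Smoothing.IsStrictlyStandard R A a) :
    ∃ p q : ℕ, Nonempty ((Ω[Localization.Away a⁄R] × (Fin p → Localization.Away a))
      ≃ₗ[Localization.Away a] (Fin q → Localization.Away a)) := by
  classical
  obtain ⟨P, ha, hk⟩ := h
  let S := Localization.Away a
  let ev : MvPolynomial (Fin P.n) R →ₐ[R] S := (IsScalarTower.toAlgHom R A S).comp P.hom
  have hev : ev = aeval (fun k => ev (X k)) := by
    ext k; simp
  have hu : IsUnit (algebraMap A S a) := IsLocalization.Away.algebraMap_isUnit a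
  let G : Matrix (Fin P.n) (Fin P.c) S :=
    Matrix.of fun k j => ev (pderiv k (P.rel (Fin.castLE P.hcm j)))
  have hmin : algebraMap A S a ∈ Ideal.span (Set.range fun cols : Fin P.c → Fin P.n =>
      Matrix.det (Matrix.of fun i j : Fin P.c => G (cols i) j)) := by
    have := Ideal.mem_map_of_mem (algebraMap A S) ha
    rw [Ideal.map_span, ← Set.range_comp] at this
    convert this using 4 with cols
    rw [← Matrix.det_transpose]
    show _ = ev (Smoothing.jacobianMinor P.rel (Fin.castLE P.hcm) cols)
    rw [Smoothing.jacobianMinor, AlgHom.map_det]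
    rfl
  obtain ⟨L₀, hL₀⟩ := exists_left_inverse_of_minors G hmin
  let L := ((↑hu.unit⁻¹ : S) • L₀).mulVecLin
  have hLu : ∀ v, L (G.mulVecLin v) = v := fun v => by
    show ((↑hu.unit⁻¹ : S) • L₀).mulVec (G.mulVec v) = v
    rw [Matrix.smul_mulVec, Matrix.mulVec_mulVec, hL₀, Matrix.smul_mulVec, Matrix.one_mulVec,
      smul_smul, hu.val_inv_mul, one_smul]
  let grad : MvPolynomial (Fin P.n) R →+ (Fin P.n → S) :=
    { toFun := fun p k => ev (pderiv k p)
      map_zero' := by ext; simp
      map_add' := fun p q => by ext; simp }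
  have hgrad : ∀ p q, grad (p * q) = ev p • grad q + ev q • grad p := fun p q => by
    ext k
    simp [grad, Derivation.leibniz]
  let N := LinearMap.range G.mulVecLin
  have hz : ∀ x ∈ Ideal.span (Set.range P.rel), ev x = 0 := fun x hx => by
    rw [← P.ker_eq] at hx
    show algebraMap A S (P.hom x) = 0
    rw [show P.hom x = 0 from hx, map_zero]
  have hlead : ∀ z ∈ Ideal.span (Set.range (P.rel ∘ Fin.castLE P.hcm)), grad z ∈ N := by
    intro z hzl
    induction hzl using Submodule.span_induction with
    | mem y hy =>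
      obtain ⟨j, rfl⟩ := hy
      exact ⟨Pi.single j 1, by ext k; simp [G, grad]⟩
    | zero => rw [map_zero]; exact N.zero_mem
    | add y z _ _ hy hz => rw [map_add]; exact N.add_mem hy hz
    | smul r y hy' hy =>
      have hle : Ideal.span (Set.range (P.rel ∘ Fin.castLE P.hcm)) ≤ Ideal.span (Set.range P.rel) :=
        Ideal.span_mono (Set.range_comp_subset_range _ _)
      rw [smul_eq_mul, hgrad, hz y (hle hy'), zero_smul, add_zero]
      exact N.smul_mem _ hy
  have hsq : ∀ z ∈ Ideal.span (Set.range P.rel) ^ 2, grad z = 0 := by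
    intro z hz2
    rw [pow_two] at hz2
    induction hz2 using Submodule.mul_induction_on' with
    | mem_mul_mem x hx y hy => rw [hgrad, hz x hx, hz y hy, zero_smul, zero_smul, add_zero]
    | add y _ z _ hy hz => rw [map_add, hy, hz, add_zero]
  have hrel : ∀ j, grad (P.rel j) ∈ N := by
    intro j
    obtain ⟨t, ht⟩ := P.surj a
    obtain ⟨y, hy, z, hz2, hyz⟩ := Submodule.mem_sup.1 (killsTail_all hk j t ht)
    have h1 : grad (t * P.rel j) ∈ N := by
      rw [← hyz, map_add, hsq z hz2, add_zero]
      exact hlead y hy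
    rw [hgrad, hz _ (Ideal.subset_span ⟨j, rfl⟩), zero_smul, add_zero,
      show ev t = algebraMap A S a from congrArg (algebraMap A S) ht] at h1
    have := N.smul_mem (↑hu.unit⁻¹ : S) h1
    rwa [smul_smul, hu.val_inv_mul, one_smul] at this
  have hI : ∀ z ∈ Ideal.span (Set.range P.rel), grad z ∈ N := by
    intro z hzI
    induction hzI using Submodule.span_induction with
    | mem y hy => obtain ⟨j, rfl⟩ := hy; exact hrel j
    | zero => rw [map_zero]; exact N.zero_mem
    | add y z _ _ hy hz => rw [map_add]; exact N.add_mem hy hz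
    | smul r y hy' hy =>
      rw [smul_eq_mul, hgrad, hz y hy', zero_smul, add_zero]
      exact N.smul_mem _ hy
  have hwd : ∀ p p', P.hom p = P.hom p' → N.mkQ (grad p) = N.mkQ (grad p') := fun p p' hpp => by
    rw [Submodule.mkQ_apply, Submodule.mkQ_apply, Submodule.Quotient.eq, ← map_sub]
    refine hI _ ?_
    rw [← P.ker_eq]
    show P.hom (p - p') = 0
    rw [map_sub, hpp, sub_self]
  let σ := Function.surjInv P.surj
  have hσ : ∀ x, P.hom (σ x) = x := Function.surjInv_eq P.surj
  let dA : A →ₗ[R] ((Fin P.n → S) ⧸ N) :=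
    { toFun := fun x => N.mkQ (grad (σ x))
      map_add' := fun x y => by
        rw [hwd (σ (x + y)) (σ x + σ y) (by simp [hσ]), map_add, map_add]
      map_smul' := fun r x => by
        rw [hwd (σ (r • x)) (r • σ x) (by simp [hσ]), RingHom.id_apply,
          show grad (r • σ x) = r • grad (σ x) from funext fun k => by simp [grad],
          LinearMap.map_smul_of_tower] }
  have hdA : ∀ p, dA (P.hom p) = N.mkQ (grad p) := fun p => hwd _ _ (hσ _)
  let DA : Derivation R A ((Fin P.n → S) ⧸ N) := Derivation.mk' dA (fun x y => by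
    obtain ⟨p, rfl⟩ := P.surj x
    obtain ⟨q, rfl⟩ := P.surj y
    rw [← map_mul, hdA, hdA, hdA, hgrad, map_add, map_smul, map_smul]
    exact congrArg₂ (· + ·) (algebraMap_smul S (P.hom p) _) (algebraMap_smul S (P.hom q) _))
  let mapK : Ω[A⁄R] →ₗ[A] Ω[S⁄R] := KaehlerDifferential.map R R A S
  have hmap : IsLocalizedModule (Submonoid.powers a) mapK := inferInstance
  have hunitQ : ∀ x : Submonoid.powers a,
      IsUnit (algebraMap A (Module.End A ((Fin P.n → S) ⧸ N)) x) := by
    rintro ⟨_, k, rfl⟩
    rw [Module.End.isUnit_iff]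
    have hxu : IsUnit (algebraMap A S (a ^ k)) := by rw [map_pow]; exact hu.pow k
    have e : ∀ v : (Fin P.n → S) ⧸ N, a ^ k • v = algebraMap A S (a ^ k) • v :=
      fun v => (algebraMap_smul S _ v).symm
    constructor
    · intro v w hvw
      have : algebraMap A S (a ^ k) • v = algebraMap A S (a ^ k) • w := by
        rw [← e, ← e]; exact hvw
      exact hxu.smul_left_cancel.1 this
    · intro v
      refine ⟨(↑hxu.unit⁻¹ : S) • v, ?_⟩
      show a ^ k • ((↑hxu.unit⁻¹ : S) • v) = v
      rw [e, smul_smul, hxu.mul_val_inv, one_smul]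
  let ψA : Ω[S⁄R] →ₗ[A] ((Fin P.n → S) ⧸ N) :=
    IsLocalizedModule.lift (Submonoid.powers a) mapK DA.liftKaehlerDifferential hunitQ
  let ψ : Ω[S⁄R] →ₗ[S] ((Fin P.n → S) ⧸ N) :=
    LinearMap.extendScalarsOfIsLocalization (Submonoid.powers a) S ψA
  let π₀ : (Fin P.n → S) →ₗ[S] Ω[S⁄R] :=
    Fintype.linearCombination S fun k => KaehlerDifferential.D R S (ev (X k))
  have hπgrad : ∀ p, π₀ (grad p) = KaehlerDifferential.D R S (ev p) := fun p => by
    rw [Fintype.linearCombination_apply]
    conv_rhs => rw [hev]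
    rw [derivation_aeval]
    refine Finset.sum_congr rfl fun k _ => ?_
    show ev (pderiv k p) • _ = _
    rw [← hev]
  have hN : N ≤ LinearMap.ker π₀ := by
    rintro _ ⟨v, rfl⟩
    rw [LinearMap.mem_ker]
    have e : G.mulVecLin v = ∑ j, v j • grad (P.rel (Fin.castLE P.hcm j)) := by
      ext k
      simp [Matrix.mulVec, dotProduct, G, grad, mul_comm]
    rw [e, map_sum, Finset.sum_eq_zero]
    intro j _
    rw [map_smul, hπgrad, hz _ (Ideal.subset_span ⟨Fin.castLE P.hcm j, rfl⟩), map_zero, smul_zero]
  let π : ((Fin P.n → S) ⧸ N) →ₗ[S] Ω[S⁄R] := N.liftQ π₀ hN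
  have hψD : ∀ p, ψ (KaehlerDifferential.D R S (ev p)) = N.mkQ (grad p) := fun p => by
    show ψA (KaehlerDifferential.D R S (algebraMap A S (P.hom p))) = _
    rw [← KaehlerDifferential.map_D R R A S, IsLocalizedModule.lift_apply,
      Derivation.liftKaehlerDifferential_comp_D]
    exact hdA p
  have h1 : ψ ∘ₗ π = LinearMap.id := by
    apply Submodule.linearMap_qext
    apply LinearMap.pi_ext
    intro k s
    show ψ (π₀ (Pi.single k s)) = N.mkQ (Pi.single k s)
    rw [show (Pi.single k s : Fin P.n → S) = s • Pi.single k 1 by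
      rw [← Pi.single_smul', smul_eq_mul, mul_one], map_smul, map_smul, map_smul]
    congr 1
    rw [Fintype.linearCombination_apply_single, one_smul, hψD]
    congr 1
    ext i
    simp [grad, pderiv_X, Pi.single_apply, eq_comm]
  have h2 : π ∘ₗ ψ = LinearMap.id := by
    have hA : (π ∘ₗ ψ).restrictScalars A = (LinearMap.id : Ω[S⁄R] →ₗ[S] Ω[S⁄R]).restrictScalars A := by
      refine IsLocalizedModule.ext (Submonoid.powers a) mapK
        (IsLocalizedModule.map_units mapK) ?_
      refine Derivation.liftKaehlerDifferential_unique _ _ ?_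
      ext x
      obtain ⟨p, rfl⟩ := P.surj x
      show π (ψ (mapK (KaehlerDifferential.D R A (P.hom p)))) =
        mapK (KaehlerDifferential.D R A (P.hom p))
      rw [show mapK (KaehlerDifferential.D R A (P.hom p)) =
        KaehlerDifferential.D R S (ev p) from KaehlerDifferential.map_D R R A S _, hψD]
      exact hπgrad p
    exact LinearMap.restrictScalars_injective A hA
  let e₁ : Ω[S⁄R] ≃ₗ[S] ((Fin P.n → S) ⧸ N) := LinearEquiv.ofLinear ψ π h1 h2
  let F : (Fin P.n → S) →ₗ[S] ((Fin P.n → S) ⧸ N) × (Fin P.c → S) := N.mkQ.prod L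
  have hF : Function.Bijective F := by
    constructor
    · rw [← LinearMap.ker_eq_bot, eq_bot_iff]
      intro v hv
      have hv' := LinearMap.mem_ker.1 hv
      simp only [F, LinearMap.prod_apply, Function.prod_apply, Submodule.mkQ_apply, Prod.mk_eq_zero,
        Submodule.Quotient.mk_eq_zero] at hv'
      obtain ⟨⟨w, rfl⟩, hL⟩ := hv'
      rw [hLu] at hL
      simp [hL]
    · rintro ⟨x, y⟩
      obtain ⟨v, rfl⟩ := N.mkQ_surjective x
      refine ⟨v + G.mulVecLin (y - L v), Prod.ext ?_ ?_⟩
      · show N.mkQ (v + _) = N.mkQ v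
        rw [map_add, add_eq_left, Submodule.mkQ_apply, Submodule.Quotient.mk_eq_zero]
        exact ⟨_, rfl⟩
      · show L (v + _) = y
        rw [map_add, hLu, add_sub_cancel]
  exact ⟨P.c, P.n, ⟨(e₁.prodCongr (LinearEquiv.refl S _)).trans (LinearEquiv.ofBijective F hF).symm⟩⟩

end Groth.Agent.SmoothingLib
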