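import Groth.Agent.SmoothingLib.StrictPow
import Mathlib.Algebra.MvPolynomial.PDeriv

/-!
Adding variables to a presentation until the conormal module is free.
-/

namespace Groth.Agent.SmoothingLib.StrictExt

open MvPolynomial FreeKaehler StrictPow

universe u

variable {R : Type u} [CommRing R] {A : Type u} [CommRing A] [Algebra R A] {n m : ℕ}
  (f : Fin m → MvPolynomial (Fin n) R) (φ : MvPolynomial (Fin n) R →ₐ[R] A)

/-- extra variables sent to zero -/
noncomputable def extHom (q : ℕ) : MvPolynomial (Fin (n + q)) R →ₐ[R] A :=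
  aeval (Fin.addCases (fun k => φ (X k)) fun _ => 0)

/-- the extended relations -/
noncomputable def extRel (q : ℕ) : Fin (m + q) → MvPolynomial (Fin (n + q)) R :=
  Fin.addCases (fun j => rename (Fin.castAdd q) (f j)) fun i => X (Fin.natAdd n i)

theorem extHom_rename (q : ℕ) (p : MvPolynomial (Fin n) R) :
    extHom φ q (rename (Fin.castAdd q) p) = φ p := by
  rw [extHom, aeval_rename]
  conv_rhs => rw [show φ = aeval fun k => φ (X k) from algHom_ext fun k => by simp]
  congr 2
  funext k
  simp

theorem extHom_X (q : ℕ) (i : Fin q) : extHom φ q (X (Fin.natAdd n i)) = 0 := by simp [extHom]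

variable {f φ}

theorem ext_spec (hφ : Function.Surjective φ)
    (hker : RingHom.ker φ.toRingHom = Ideal.span (Set.range f)) (q : ℕ) :
    Function.Surjective (extHom φ q) ∧
      RingHom.ker (extHom φ q).toRingHom = Ideal.span (Set.range (extRel f q)) := by
  refine ⟨fun c => ?_, ?_⟩
  · obtain ⟨p, rfl⟩ := hφ c
    exact ⟨_, extHom_rename φ q p⟩
  set J := Ideal.span (Set.range (extRel f q))
  have hX : ∀ i, X (Fin.natAdd n i) ∈ J := fun i =>
    Ideal.subset_span ⟨Fin.natAdd m i, by simp [extRel]⟩
  refine le_antisymm (fun z hz => ?_) (Ideal.span_le.2 ?_)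
  · let back : MvPolynomial (Fin (n + q)) R →ₐ[R] MvPolynomial (Fin n) R :=
      aeval (Fin.addCases (fun k => X k) fun _ => 0)
    have h1 : ∀ p, p - rename (Fin.castAdd q) (back p) ∈ J := fun p => by
      induction p using MvPolynomial.induction_on with
      | C c => simp [back]
      | add p p' hp hp' =>
        rw [map_add, map_add, add_sub_add_comm]; exact J.add_mem hp hp'
      | mul_X p i hp =>
        rw [map_mul, map_mul]
        refine Fin.addCases (fun k => ?_) (fun k => ?_) i
        · rw [show back (X (Fin.castAdd q k)) = X k by simp [back], rename_X, ← sub_mul]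
          exact J.mul_mem_right _ hp
        · rw [show back (X (Fin.natAdd n k)) = 0 by simp [back], map_zero, mul_zero, sub_zero]
          exact J.mul_mem_left _ (hX k)
    have h2 : φ (back z) = 0 := by
      have h3 : (φ.comp back) = extHom φ q := algHom_ext fun i => by
        refine Fin.addCases (fun k => ?_) (fun k => ?_) i <;> simp [back, extHom]
      exact (DFunLike.congr_fun h3 z).trans hz
    have h4 : rename (Fin.castAdd q) (back z) ∈ J := by
      have h5 : back z ∈ Ideal.span (Set.range f) := hker ▸ h2
      have h6 := Ideal.mem_map_of_mem (rename (R := R) (Fin.castAdd (n := n) q)).toRingHom h5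
      rw [Ideal.map_span, ← Set.range_comp] at h6
      refine Ideal.span_mono ?_ h6
      rintro _ ⟨j, rfl⟩
      exact ⟨Fin.castAdd q j, by simp [extRel]⟩
    simpa using J.add_mem (h1 z) h4
  · rintro _ ⟨i, rfl⟩
    show extHom φ q (extRel f q i) = 0
    refine Fin.addCases (fun j => ?_) (fun j => ?_) i
    · have h1 : f j ∈ Ideal.span (Set.range f) := Ideal.subset_span ⟨j, rfl⟩
      rw [← hker] at h1
      simpa [extRel, extHom_rename] using h1
    · simp [extRel, extHom_X]

theorem jac_ext {S : Type u} [CommRing S] (al : A →+* S) (q : ℕ) (w : Fin (m + q) → S) :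
    (fun k => ∑ j, al (extHom φ q (pderiv k (extRel f q j))) * w j) =
      Fin.append (fun k => ∑ j, al (φ (pderiv k (f j))) * w (Fin.castAdd q j))
        (fun i => w (Fin.natAdd m i)) := by
  classical
  funext k
  rw [Fin.sum_univ_add]
  refine Fin.addCases (fun k => ?_) (fun k => ?_) k
  · have h : ∀ i : Fin q, pderiv (Fin.castAdd q k) (X (R := R) (Fin.natAdd n i)) = 0 := fun i =>
      pderiv_X_of_ne fun e => by
        have := congrArg Fin.val e
        simp at this
        omega
    simp [extRel, pderiv_rename (Fin.castAdd_injective n q), extHom_rename, h]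
  · have h : ∀ j : Fin m, pderiv (Fin.natAdd n k) (rename (Fin.castAdd q) (f j)) = 0 := fun j => by
      refine pderiv_eq_zero_of_notMem_vars fun hmem => ?_
      obtain ⟨i, -, hi⟩ := Finset.mem_image.1 (vars_rename _ _ hmem)
      have := congrArg Fin.val hi
      simp at this
      omega
    simp [extRel, h, pderiv_X, Pi.single_apply, apply_ite al, apply_ite (extHom φ q)]

/-- splitting a vector at `n` -/
def splitEquiv (S : Type u) [CommRing S] (n q : ℕ) :
    (Fin (n + q) → S) ≃ₗ[S] (Fin n → S) × (Fin q → S) where
  toFun w := (fun k => w (Fin.castAdd q k), fun i => w (Fin.natAdd n i))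
  invFun x := Fin.append x.1 x.2
  map_add' _ _ := rfl
  map_smul' _ _ := rfl
  left_inv w := by
    funext i
    refine Fin.addCases (fun k => ?_) (fun k => ?_) i <;> simp
  right_inv x := by simp

set_option maxHeartbeats 400000 in
theorem exists_pow_isStrictlyStandard [Algebra.FinitePresentation R A] (a : A)
    [Algebra.Smooth R (Localization.Away a)] (p q : ℕ)
    (e : (Ω[Localization.Away a⁄R] × (Fin p → Localization.Away a)) ≃ₗ[Localization.Away a]
      (Fin q → Localization.Away a)) :
    ∃ e₀ : ℕ, ∀ n : ℕ, e₀ ≤ n → Smoothing.IsStrictlyStandard R A (a ^ n) := by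
  classical
  by_cases hS : Nontrivial (Localization.Away a)
  swap
  · rw [not_nontrivial_iff_subsingleton] at hS
    obtain ⟨⟨_, k, rfl⟩, hk⟩ := (IsLocalization.map_eq_zero_iff (Submonoid.powers a) (Localization.Away a) (1 : A)).1
      (Subsingleton.elim _ _)
    refine ⟨k, fun j hj => ?_⟩
    have h0 : a ^ j = 0 := by
      have hk' : a ^ k * 1 = 0 := hk
      rw [← Nat.sub_add_cancel hj, pow_add, ← mul_one (a ^ k), hk', mul_zero]
    rw [h0]
    exact isStrictlyStandard_zero
  obtain ⟨n, φ, hφ, hfg⟩ := ‹Algebra.FinitePresentation R A›.out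
  obtain ⟨m, f, hf⟩ := Submodule.fg_iff_exists_fin_generating_family.1 hfg
  have hker : RingHom.ker φ.toRingHom = Ideal.span (Set.range f) := hf.symm
  obtain ⟨N, P, hP⟩ := exists_splitting f φ hφ hker a
  choose l hl using hP
  let al : A →+* (Localization.Away a) := algebraMap A (Localization.Away a)
  have hu : al a ^ N * IsLocalization.Away.invSelf a ^ N = 1 := by
    rw [← mul_pow, IsLocalization.Away.mul_invSelf, one_pow]
  obtain ⟨-, hGLG⟩ := splitting_relations hker a hl al (fun _ => (0 : (Localization.Away a)))
    (IsLocalization.Away.invSelf a ^ N) hu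
    (fun l => (IsLocalization.Away.algebraMap_isUnit (S := Localization.Away a) a).pow l) (fun v _ => by simp)
  let G : Matrix (Fin n) (Fin m) (Localization.Away a) := Matrix.of (jac f φ al)
  let L : Matrix (Fin m) (Fin n) (Localization.Away a) :=
    Matrix.of fun i k => IsLocalization.Away.invSelf a ^ N * al (P i k)
  let E := G * L
  have hEG : E * G = G := by ext i j; exact hGLG i j
  have hEE : E * E = E := by rw [show E * E = E * G * L from (Matrix.mul_assoc E G L).symm, hEG]
  obtain ⟨Ds, hDs⟩ := exists_section hφ hker a E fun i j => congrFun (congrFun hEG i) j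
  let s := Ds.liftKaehlerDifferential
  let x : Fin n → (Localization.Away a) := fun k => al (φ (X k))
  let π : (Fin n → (Localization.Away a)) →ₗ[(Localization.Away a)] Ω[(Localization.Away a)⁄R] :=
    Fintype.linearCombination (Localization.Away a) fun k => KaehlerDifferential.D R (Localization.Away a) (x k)
  have hscal : ∀ c, algebraMap R (Localization.Away a) c = al (φ (C c)) := fun c => by
    rw [← MvPolynomial.algebraMap_eq, AlgHom.commutes, ← IsScalarTower.algebraMap_apply]
  have hπG : ∀ v, π (G.mulVec v) = 0 := by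
    intro v
    have h : ∀ j, ∑ k, G k j • KaehlerDifferential.D R (Localization.Away a) (x k) = 0 := fun j => by
      have h := derivation_aeval (KaehlerDifferential.D R (Localization.Away a)) x (f j)
      rw [aeval_eq al hscal, show φ (f j) = 0 from by
        have h1 : f j ∈ Ideal.span (Set.range f) := Ideal.subset_span ⟨j, rfl⟩
        rw [← hker] at h1; exact h1, map_zero, map_zero] at h
      simp only [x, aeval_eq al hscal] at h
      exact h.symm
    simp only [π, Fintype.linearCombination_apply, Matrix.mulVec, dotProduct, Finset.sum_smul]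
    rw [Finset.sum_comm]
    refine Finset.sum_eq_zero fun j _ => ?_
    simp only [mul_comm (G _ j), mul_smul, ← Finset.smul_sum, h, smul_zero]
  have hπE : ∀ v, π (E.mulVec v) = 0 := fun v => by
    rw [← Matrix.mulVec_mulVec]; exact hπG _
  have hsπ : ∀ v, s (π v) = v - E.mulVec v := by
    intro v
    have h : s ∘ₗ π = LinearMap.id - Matrix.mulVecLin E := by
      apply LinearMap.pi_ext'
      intro k
      apply LinearMap.ext_ring
      show s (π (Pi.single k 1)) = Pi.single k 1 - E.mulVec (Pi.single k 1)
      simp only [π, s, Fintype.linearCombination_apply_single, one_smul,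
        Derivation.liftKaehlerDifferential_comp_D]
      funext i
      simp [x, al]
      exact hDs k i
    exact DFunLike.congr_fun h v
  have hπs : ∀ ω, π (s ω) = ω := by
    have h : π.compDer Ds = KaehlerDifferential.D R (Localization.Away a) := by
      refine derivation_eq_of_away a _ _ fun c => ?_
      obtain ⟨z, rfl⟩ := hφ c
      change (π.compDer Ds) (al (φ z)) = KaehlerDifferential.D R (Localization.Away a) (al (φ z))
      rw [← aeval_eq al hscal, derivation_aeval, derivation_aeval]
      refine Finset.sum_congr rfl fun k _ => ?_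
      congr 1
      show π (Ds (al (φ (X k)))) = _
      rw [show Ds (al (φ (X k))) = Pi.single k 1 - E.mulVec (Pi.single k 1) by
        funext i; simp [al]; exact hDs k i, map_sub, hπE, sub_zero]
      simp [π, x, Fintype.linearCombination_apply_single]
    have h' : π ∘ₗ s = LinearMap.id := by
      refine Derivation.liftKaehlerDifferential_unique _ _ ?_
      ext t
      show π (s (KaehlerDifferential.D R (Localization.Away a) t)) = KaehlerDifferential.D R (Localization.Away a) t
      rw [Derivation.liftKaehlerDifferential_comp_D, ← h]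
      rfl
    exact fun ω => DFunLike.congr_fun h' ω
  have hEs : ∀ ω, E.mulVec (s ω) = 0 := fun ω => by
    rw [← hπs ω, hsπ, Matrix.mulVec_sub, Matrix.mulVec_mulVec, hEE, sub_self]
  obtain ⟨hφ', hker'⟩ := ext_spec hφ hker q
  let σ₁ := splitEquiv (Localization.Away a) n p
  let σ₂ := splitEquiv (Localization.Away a) m q
  let σ₃ := splitEquiv (Localization.Away a) n q
  let Vl : (Fin (n + p) → Localization.Away a) →ₗ[Localization.Away a] (Fin (m + q) → Localization.Away a) :=
    σ₂.symm.toLinearMap ∘ₗ LinearMap.prod (L.mulVecLin ∘ₗ LinearMap.fst _ _ _)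
      (e.toLinearMap ∘ₗ LinearMap.prodMap π LinearMap.id) ∘ₗ σ₁.toLinearMap
  let Wl : (Fin (n + q) → Localization.Away a) →ₗ[Localization.Away a] (Fin (n + p) → Localization.Away a) :=
    σ₁.symm.toLinearMap ∘ₗ LinearMap.prod
      (E.mulVecLin ∘ₗ LinearMap.fst _ _ _ +
        s ∘ₗ LinearMap.fst _ _ _ ∘ₗ e.symm.toLinearMap ∘ₗ LinearMap.snd _ _ _)
      (LinearMap.snd _ _ _ ∘ₗ e.symm.toLinearMap ∘ₗ LinearMap.snd _ _ _) ∘ₗ σ₃.toLinearMap
  let G' : Matrix (Fin (n + q)) (Fin (m + q)) (Localization.Away a) :=
    Matrix.of fun k j => al (extHom φ q (pderiv k (extRel f q j)))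
  have hG' : ∀ w, Matrix.toLin' G' w = σ₃.symm (G.mulVec (σ₂ w).1, (σ₂ w).2) := fun w => by
    rw [Matrix.toLin'_apply]
    exact jac_ext al q w
  have hWU : ∀ v, Wl (Matrix.toLin' G' (Vl v)) = v := by
    intro v
    rw [hG']
    simp only [Vl, Wl, LinearMap.comp_apply, LinearEquiv.coe_coe, LinearMap.prod_apply, Function.prod, LinearMap.add_apply,
      LinearMap.fst_apply, LinearMap.snd_apply, LinearMap.prodMap_apply, LinearMap.id_apply,
      Matrix.mulVecLin_apply, LinearEquiv.apply_symm_apply,
      LinearEquiv.symm_apply_apply, Matrix.mulVec_mulVec, hEG]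
    rw [show E * (G * L) = E from hEE, hsπ, add_sub_cancel, Prod.mk.eta,
      LinearEquiv.symm_apply_apply]
  have hUW : ∀ w, Matrix.toLin' G' (Vl (Wl (Matrix.toLin' G' w))) = Matrix.toLin' G' w := by
    intro w
    simp only [hG', Vl, Wl, LinearMap.comp_apply, LinearEquiv.coe_coe, LinearMap.prod_apply, Function.prod, LinearMap.add_apply,
      LinearMap.fst_apply, LinearMap.snd_apply, LinearMap.prodMap_apply, LinearMap.id_apply,
      Matrix.mulVecLin_apply, LinearEquiv.apply_symm_apply,
      map_add, hπE, hπs, zero_add, Prod.mk.eta]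
    congr 2
    rw [Matrix.mulVec_add, Matrix.mulVec_mulVec _ G L,
      Matrix.mulVec_mulVec _ G L, Matrix.mulVec_mulVec _ (G * L) E,
      show G * L = E from rfl, hEE, hEs, add_zero, Matrix.mulVec_mulVec, hEG]
  have hinj : Function.Injective (Matrix.toLin' G' ∘ₗ Vl) := fun v v' h => by
    have := congrArg Wl h
    simpa only [LinearMap.comp_apply, hWU] using this
  have hle : n + p ≤ n + q := by
    have := LinearMap.finrank_le_finrank_of_injective hinj
    simpa using this
  refine isStrictlyStandard_of_frame hφ' hker' a hle (LinearMap.toMatrix' Vl)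
    (LinearMap.toMatrix' Wl) G' (fun _ _ => rfl) ?_ ?_
  · apply Matrix.toLin'.injective
    rw [Matrix.toLin'_mul, Matrix.toLin'_mul, Matrix.toLin'_toMatrix', Matrix.toLin'_toMatrix',
      Matrix.toLin'_one]
    exact LinearMap.ext hWU
  · apply Matrix.toLin'.injective
    rw [Matrix.toLin'_mul, Matrix.toLin'_mul, Matrix.toLin'_mul, Matrix.toLin'_toMatrix',
      Matrix.toLin'_toMatrix']
    exact LinearMap.ext hUW

end Groth.Agent.SmoothingLib.StrictExt
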