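import Mathlib.RingTheory.Smooth.StandardSmooth
import Mathlib.RingTheory.Localization.Away.Basic
import Mathlib.LinearAlgebra.Matrix.Adjugate
import Mathlib.LinearAlgebra.Matrix.SchurComplement
import Mathlib.Algebra.MvPolynomial.PDeriv

/-!
An element which is a multiple of a square Jacobian minor and moves the remaining relations into
`(leading relations) + I ^ 2` cuts out a standard smooth open.
-/

namespace Groth.Agent.SmoothingLib

open MvPolynomial

universe u

variable {R : Type u} [CommRing R]

/-- If `ā • I ⊆ J + I²` with `I` generated by finitely many elements then some multiple `g` of `ā`,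
congruent to a power of `ā` modulo `I`, moves `I` into `J`. -/
theorem exists_mul_mem_of_killsTail {P : Type u} [CommRing P] {m : ℕ} (f : Fin m → P)
    (J : Ideal P) (t : P) (h : ∀ j, t * f j ∈ J ⊔ Ideal.span (Set.range f) ^ 2) :
    ∃ g : P, (∀ x ∈ Ideal.span (Set.range f), g * x ∈ J) ∧
      g - t ^ (m + 1) ∈ Ideal.span (Set.range f) := by
  set I := Ideal.span (Set.range f) with hI
  have hM : ∀ j, ∃ M : Fin m → P, (∀ k, M k ∈ I) ∧ t * f j - ∑ k, M k * f k ∈ J := by
    intro j
    obtain ⟨y, hy, z, hz, hyz⟩ := Submodule.mem_sup.1 (h j)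
    rw [sq] at hz
    have hz' : z ∈ I • Submodule.span P (Set.range f) := hz
    obtain ⟨a, ha, hsum⟩ := (Submodule.mem_ideal_smul_span_iff_exists_sum _ _ _).1 hz'
    refine ⟨fun k => a k, ha, ?_⟩
    have e : (∑ k, a k * f k) = z := by
      rw [← hsum, Finsupp.sum_fintype]
      · rfl
      · intro; simp
    rw [e, ← hyz, add_sub_cancel_right]
    exact hy
  choose M hMI hMJ using hM
  let X : Matrix (Fin m) (Fin m) P := t • (1 : Matrix (Fin m) (Fin m) P) - Matrix.of M
  have hXf : ∀ j, X.mulVec f j ∈ J := fun j => by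
    have : X.mulVec f j = t * f j - ∑ k, M j k * f k := by
      simp [X, Matrix.sub_mulVec, Matrix.smul_mulVec, Matrix.mulVec, dotProduct, sub_mul,
        Finset.sum_sub_distrib, Matrix.one_apply]
    rw [this]; exact hMJ j
  have hdet : ∀ j, X.det * f j ∈ J := fun j => by
    have : X.det * f j = (X.adjugate.mulVec (X.mulVec f)) j := by
      rw [Matrix.mulVec_mulVec, Matrix.adjugate_mul, Matrix.smul_mulVec, Matrix.one_mulVec]
      rfl
    rw [this]
    show ∑ k, X.adjugate j k * X.mulVec f k ∈ J
    exact Ideal.sum_mem _ fun k _ => J.mul_mem_left _ (hXf k)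
  refine ⟨t * X.det, fun x hx => ?_, ?_⟩
  · rw [hI] at hx
    induction hx using Submodule.span_induction with
    | mem y hy =>
      obtain ⟨j, rfl⟩ := hy
      rw [mul_assoc]; exact J.mul_mem_left _ (hdet j)
    | zero => simp
    | add y z _ _ hy hz => rw [mul_add]; exact J.add_mem hy hz
    | smul r y _ hy => rw [smul_eq_mul, mul_left_comm]; exact J.mul_mem_left _ hy
  · rw [← Ideal.Quotient.eq]
    have e : (Ideal.Quotient.mk I).mapMatrix X =
        Ideal.Quotient.mk I t • (1 : Matrix (Fin m) (Fin m) (P ⧸ I)) := by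
      ext i j
      have : Ideal.Quotient.mk I (M i j) = 0 := Ideal.Quotient.eq_zero_iff_mem.2 (hMI i j)
      simp [X, Matrix.one_apply, this, apply_ite (Ideal.Quotient.mk I)]
    rw [map_mul, RingHom.map_det, e, Matrix.det_smul, Matrix.det_one, Fintype.card_fin, map_pow,
      pow_succ]
    ring

theorem isStandardSmooth_away_of_minor {n m c : ℕ} {A : Type u} [CommRing A] [Algebra R A]
    (f : Fin m → MvPolynomial (Fin n) R) (φ : MvPolynomial (Fin n) R →ₐ[R] A)
    (hφ : Function.Surjective φ) (hker : RingHom.ker φ.toRingHom = Ideal.span (Set.range f))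
    (rows : Fin c → Fin m) (cols : Fin c → Fin n) (hcols : Function.Injective cols) (a : A)
    (hminor : ∃ a' : A,
      a = a' * φ (Matrix.det (Matrix.of fun j k : Fin c => pderiv (cols k) (f (rows j)))))
    (hkill : ∀ j, ∀ t, φ t = a →
      t * f j ∈ Ideal.span (Set.range (f ∘ rows)) ⊔ Ideal.span (Set.range f) ^ 2) :
    Algebra.IsStandardSmooth R (Localization.Away a) := by
  classical
  obtain ⟨t, ht⟩ := hφ a
  obtain ⟨a', ha'⟩ := hminor
  obtain ⟨t', ht'⟩ := hφ a'
  obtain ⟨g, hgI, hgt⟩ := exists_mul_mem_of_killsTail f (Ideal.span (Set.range (f ∘ rows))) t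
    (fun j => hkill j t ht)
  set Δ := Matrix.det (Matrix.of fun j k : Fin c => pderiv (cols k) (f (rows j))) with hΔ
  let v : Fin c ⊕ Unit → MvPolynomial (Fin n ⊕ Unit) R :=
    Sum.elim (fun j => rename Sum.inl (f (rows j)))
      (fun _ => X (Sum.inr ()) * rename Sum.inl g - 1)
  let T := MvPolynomial (Fin n ⊕ Unit) R ⧸ Ideal.span (Set.range v)
  let q : MvPolynomial (Fin n ⊕ Unit) R →ₐ[R] T := Ideal.Quotient.mkₐ R _
  let ψ : MvPolynomial (Fin n) R →ₐ[R] T := q.comp (rename Sum.inl)
  have hq : ∀ i, q (v i) = 0 := fun i =>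
    Ideal.Quotient.eq_zero_iff_mem.2 (Ideal.subset_span ⟨i, rfl⟩)
  have hgu : q (X (Sum.inr ())) * ψ g = 1 := by
    have := hq (Sum.inr ())
    simp only [v, Sum.elim_inr, map_sub, map_mul, map_one, sub_eq_zero] at this
    exact this
  have hψ : ∀ x ∈ Ideal.span (Set.range f), ψ x = 0 := by
    intro x hx
    have h0 : ψ (g * x) = 0 := by
      have hle : Ideal.span (Set.range (f ∘ rows)) ≤ RingHom.ker ψ.toRingHom := by
        rw [Ideal.span_le]
        rintro _ ⟨j, rfl⟩
        exact hq (Sum.inl j)
      exact hle (hgI x hx)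
    calc ψ x = (q (X (Sum.inr ())) * ψ g) * ψ x := by rw [hgu, one_mul]
      _ = 0 := by rw [mul_assoc, ← map_mul, h0, mul_zero]
  have hφI : ∀ x, φ x = 0 ↔ x ∈ Ideal.span (Set.range f) := fun x => by rw [← hker]; rfl
  let α : A →ₐ[R] T := AlgHom.liftOfSurjective φ hφ ψ (fun x hx => hψ x ((hφI x).1 hx))
  have hα : ∀ x, α (φ x) = ψ x := fun x =>
    AlgHom.liftOfSurjective_apply φ hφ ψ (fun x hx => hψ x ((hφI x).1 hx)) x
  have hgA : φ g = a ^ (m + 1) := by
    have := (hφI _).2 hgt
    rw [map_sub, map_pow, ht, sub_eq_zero] at this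
    exact this
  have hau : IsUnit (α a) := by
    refine (isUnit_pow_iff (Nat.succ_ne_zero m)).1 ?_
    rw [← map_pow, ← hgA, hα]
    exact IsUnit.of_mul_eq_one_right _ hgu
  let β : Localization.Away a →ₐ[R] T := IsLocalization.liftAlgHom (M := Submonoid.powers a)
    (f := α) (by rintro ⟨_, k, rfl⟩; rw [map_pow]; exact hau.pow k)
  have hβ : ∀ x, β (algebraMap A _ x) = α x := fun x => IsLocalization.lift_eq _ x
  have hau' : IsUnit (algebraMap A (Localization.Away a) (a ^ (m + 1))) := by
    rw [map_pow]; exact (IsLocalization.Away.algebraMap_isUnit a).pow _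
  let γ₀ : MvPolynomial (Fin n ⊕ Unit) R →ₐ[R] Localization.Away a :=
    aeval (Sum.elim (fun i => algebraMap A _ (φ (X i))) (fun _ => ↑hau'.unit⁻¹))
  have hγ₀ : ∀ x, γ₀ (rename Sum.inl x) = algebraMap A (Localization.Away a) (φ x) := by
    intro x
    have : γ₀.comp (rename Sum.inl) =
        (IsScalarTower.toAlgHom R A (Localization.Away a)).comp φ := by
      ext i; simp [γ₀]
    exact DFunLike.congr_fun this x
  let γ : T →ₐ[R] Localization.Away a := Ideal.Quotient.liftₐ _ γ₀ (fun x hx => by
    have hle : Ideal.span (Set.range v) ≤ RingHom.ker γ₀.toRingHom := by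
      rw [Ideal.span_le]
      rintro _ ⟨i | i, rfl⟩
      · show γ₀ (rename Sum.inl (f (rows i))) = 0
        rw [hγ₀, (hφI _).2 (Ideal.subset_span ⟨rows i, rfl⟩), map_zero]
      · show γ₀ (X (Sum.inr ()) * rename Sum.inl g - 1) = 0
        rw [map_sub, map_mul, map_one, hγ₀, hgA, sub_eq_zero]
        simp [γ₀]
    exact hle hx)
  have hγq : ∀ x, γ (q x) = γ₀ x := fun x => rfl
  have e1 : β.comp γ = AlgHom.id R T := by
    apply Ideal.Quotient.algHom_ext
    apply MvPolynomial.algHom_ext
    rintro (i | i)
    · show β (γ (q (X (Sum.inl i)))) = q (X (Sum.inl i))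
      rw [hγq, ← rename_X Sum.inl i, hγ₀, hβ, hα]
      rfl
    · show β (γ (q (X (Sum.inr i)))) = q (X (Sum.inr i))
      have h1 : β (γ (q (X (Sum.inr i)))) * ψ g = 1 := by
        rw [hγq, ← hα g, hgA, ← hβ, ← map_mul]
        simp [γ₀]
      exact left_inv_eq_right_inv h1 (by rw [mul_comm]; exact hgu)
  have e2 : γ.comp β = AlgHom.id R (Localization.Away a) := by
    apply IsLocalization.algHom_ext (Submonoid.powers a)
    ext x
    obtain ⟨y, rfl⟩ := hφ x
    show γ (β (algebraMap A _ (φ y))) = algebraMap A _ (φ y)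
    rw [hβ, hα]
    exact hγ₀ y
  have hΔu : IsUnit (ψ Δ) := by
    have h1 : ψ t' * ψ Δ = α a := by
      rw [← map_mul, ← hα, map_mul, ht', ha']
    exact isUnit_of_mul_isUnit_right (h1 ▸ hau)
  let P : Algebra.SubmersivePresentation R T (Fin n ⊕ Unit) (Fin c ⊕ Unit) :=
    { toPreSubmersivePresentation :=
        Algebra.PreSubmersivePresentation.naive (v := v) (Sum.map cols id)
          (Sum.map_injective.2 ⟨hcols, Function.injective_id⟩)
      jacobian_isUnit := by
        rw [Algebra.PreSubmersivePresentation.jacobian_eq_jacobiMatrix_det]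
        set J := (Algebra.PreSubmersivePresentation.naive (v := v) (Sum.map cols id)
          (Sum.map_injective.2 ⟨hcols, Function.injective_id⟩)).jacobiMatrix with hJ
        have hJ' : J = Matrix.fromBlocks
            (Matrix.of fun i j : Fin c => rename Sum.inl (pderiv (cols i) (f (rows j))))
            (Matrix.of fun (i : Fin c) (_ : Unit) =>
              X (Sum.inr ()) * rename Sum.inl (pderiv (cols i) g)) 0
            (Matrix.of fun (_ _ : Unit) => rename Sum.inl g) := by
          refine Matrix.ext fun i j => ?_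
          rcases i with i | i <;> rcases j with j | j <;>
            rw [hJ, Algebra.PreSubmersivePresentation.jacobiMatrix_naive]
          · simp [v, pderiv_rename Sum.inl_injective]
          · simp [v, pderiv_X, pderiv_rename Sum.inl_injective]
          · simp only [v, Sum.elim_inl, Sum.map_inr, id_eq, Matrix.fromBlocks_apply₂₁,
              Matrix.zero_apply]
            apply pderiv_eq_zero_of_notMem_vars
            intro hmem
            obtain ⟨k, -, hk⟩ := Finset.mem_image.1 (vars_rename _ _ hmem)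
            exact Sum.inl_ne_inr hk
          · simp only [v, Sum.elim_inr, Sum.map_inr, id_eq, Matrix.fromBlocks_apply₂₂,
              Matrix.of_apply, map_sub, Derivation.leibniz, pderiv_X_self,
              Derivation.map_one_eq_zero, sub_zero, smul_eq_mul, mul_one]
            rw [pderiv_eq_zero_of_notMem_vars (f := rename Sum.inl g), mul_zero, zero_add]
            intro hmem
            obtain ⟨k, -, hk⟩ := Finset.mem_image.1 (vars_rename _ _ hmem)
            exact Sum.inl_ne_inr hk
        have hdet : J.det = rename Sum.inl Δ * rename Sum.inl g := by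
          rw [hJ', Matrix.det_fromBlocks_zero₂₁, Matrix.det_unique (n := Unit), hΔ]
          congr 1
          rw [← Matrix.det_transpose, AlgHom.map_det]
          rfl
        rw [hdet]
        show IsUnit (q (rename Sum.inl Δ * rename Sum.inl g))
        rw [map_mul]
        exact hΔu.mul (IsUnit.of_mul_eq_one_right _ hgu) }
  have : Algebra.IsStandardSmooth R T := P.isStandardSmooth
  exact Algebra.IsStandardSmooth.of_algEquiv (AlgEquiv.ofAlgHom γ β e2 e1)

end Groth.Agent.SmoothingLib
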