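import Groth.Prelude.Def_Smoothing
import Groth.Agent.SmoothingLib.Elementary

/-!
Marked presentations: the leading relations as the range of `Fin.castLE`.
-/

namespace Groth.Agent.SmoothingLib

open MvPolynomial

universe u

variable {R : Type u} [CommRing R] {A : Type u} [CommRing A] [Algebra R A]

theorem range_castLE_eq (P : Smoothing.MarkedPresentation R A) :
    Set.range (P.rel ∘ Fin.castLE P.hcm) = P.rel '' {j' : Fin P.m | (j' : ℕ) < P.c} := by
  ext y
  constructor
  · rintro ⟨i, rfl⟩; exact ⟨_, i.2, rfl⟩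
  · rintro ⟨j, hj, rfl⟩; exact ⟨⟨j, hj⟩, rfl⟩

theorem killsTail_all {P : Smoothing.MarkedPresentation R A} {a : A}
    (h : Smoothing.KillsTail P a) (j : Fin P.m) (t : MvPolynomial (Fin P.n) R) (ht : P.hom t = a) :
    t * P.rel j ∈ Ideal.span (Set.range (P.rel ∘ Fin.castLE P.hcm)) ⊔
      Ideal.span (Set.range P.rel) ^ 2 := by
  rw [range_castLE_eq]
  rcases lt_or_ge (j : ℕ) P.c with hj | hj
  · exact Ideal.mem_sup_left (Ideal.mul_mem_left _ _ (Ideal.subset_span ⟨j, hj, rfl⟩))
  · exact h t ht j hj

theorem isStandardSmooth_away_of_isElementaryStandard {a : A}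
    (h : Smoothing.IsElementaryStandard R A a) :
    Algebra.IsStandardSmooth R (Localization.Away a) := by
  obtain ⟨P, hminor, hkill⟩ := h
  exact isStandardSmooth_away_of_minor P.rel P.hom P.surj P.ker_eq (Fin.castLE P.hcm)
    (Fin.castLE P.hcn) (Fin.castLE_injective _) a hminor (killsTail_all hkill)

end Groth.Agent.SmoothingLib
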