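import Groth.Agent.SmoothingLib.DelocBase

/-!
Weak delocalization at a prime.
-/

namespace Groth.Agent.SmoothingLib.DelocWeak

open MvPolynomial TensorProduct DelocBase

universe u

variable {R : Type u} [CommRing R]

/-- homogenisation -/
theorem exists_homog {ι : Type} (F : MvPolynomial ι R) :
    ∃ (N : ℕ) (H : MvPolynomial (ι ⊕ Unit) R), ∀ (T : Type u) [CommRing T] [Algebra R T] (y : ι → T) (z : T),
      aeval (Sum.elim (fun i => z * y i) fun _ => z) H = z ^ N * aeval y F := by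
  induction F using MvPolynomial.induction_on with
  | C r => exact ⟨0, C r, fun T _ _ y z => by simp⟩
  | add p q hp hq =>
    obtain ⟨N, H, hH⟩ := hp
    obtain ⟨N', H', hH'⟩ := hq
    refine ⟨N + N', X (Sum.inr ()) ^ N' * H + X (Sum.inr ()) ^ N * H', fun T _ _ y z => ?_⟩
    simp only [map_add, map_mul, map_pow, aeval_X, Sum.elim_inr, hH, hH']
    ring
  | mul_X p i hp =>
    obtain ⟨N, H, hH⟩ := hp
    refine ⟨N + 1, H * X (Sum.inl i), fun T _ _ y z => ?_⟩
    simp only [map_mul, aeval_X, Sum.elim_inl, hH]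
    ring

/-- the value map on a localisation at a preimage prime -/
theorem val_isUnit {C Λq : Type u} [CommRing C] [CommRing Λq] [IsLocalRing Λq] (vC : C →+* Λq)
    (c : ((IsLocalRing.maximalIdeal Λq).comap vC).primeCompl) : IsUnit (vC c) :=
  not_not.1 fun hnu => c.2 ((IsLocalRing.mem_maximalIdeal _).2 hnu)

/-- Two algebras with a common value in a local ring whose local rings at the center agree. -/
theorem isSmoothAt_of_compare {C D Λq : Type u} [CommRing C] [Algebra R C] [CommRing D] [Algebra R D]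
    [Algebra.FormallySmooth R D] [CommRing Λq] [IsLocalRing Λq] (vC : C →+* Λq) (vD : D →+* Λq)
    (ψ : C →ₐ[R] D) (hψ : ∀ c, vD (ψ c) = vC c)
    (θ₀ : D →+* Localization.AtPrime ((IsLocalRing.maximalIdeal Λq).comap vC))
    (hθψ : ∀ c, θ₀ (ψ c) = algebraMap C _ c)
    (hθval : ∀ w, IsLocalization.lift (M := ((IsLocalRing.maximalIdeal Λq).comap vC).primeCompl)
      (val_isUnit vC) (θ₀ w) = vD w)
    (hgen : ∀ (T : Type u) [CommRing T] (F G : D →+* T), (∀ c, F (ψ c) = G (ψ c)) →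
      (∀ c : C, vC c ∉ IsLocalRing.maximalIdeal Λq → IsUnit (F (ψ c))) → F = G) :
    Algebra.IsSmoothAt R ((IsLocalRing.maximalIdeal Λq).comap vC) := by
  set Qc := (IsLocalRing.maximalIdeal Λq).comap vC
  set Qd := (IsLocalRing.maximalIdeal Λq).comap vD
  let hCq : Localization.AtPrime Qc →+* Λq := IsLocalization.lift (M := Qc.primeCompl) (val_isUnit vC)
  have hunit : ∀ w : Localization.AtPrime Qc, IsUnit (hCq w) → IsUnit w := by
    intro w hw
    obtain ⟨⟨c, s⟩, hcs⟩ := IsLocalization.surj Qc.primeCompl w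
    have h1 : IsUnit (vC c) := by
      have h2 := congrArg hCq hcs
      simp only [hCq, map_mul, IsLocalization.lift_eq] at h2
      rw [← h2]
      exact hw.mul (val_isUnit vC s)
    have h3 : IsUnit (algebraMap C (Localization.AtPrime Qc) c) :=
      IsLocalization.map_units _ (⟨c, fun hmem => (IsLocalRing.mem_maximalIdeal _).1 hmem h1⟩ : Qc.primeCompl)
    rw [← hcs] at h3
    exact isUnit_of_mul_isUnit_left h3
  haveI : Algebra.FormallySmooth R (Localization.AtPrime Qd) := by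
    haveI : Algebra.FormallySmooth D (Localization.AtPrime Qd) :=
      Algebra.FormallySmooth.of_isLocalization Qd.primeCompl
    exact Algebra.FormallySmooth.comp R D _
  let θ : Localization.AtPrime Qd →+* Localization.AtPrime Qc :=
    IsLocalization.lift (M := Qd.primeCompl) (g := θ₀) fun w => hunit _ (by
      show IsUnit (hCq (θ₀ w))
      rw [show hCq (θ₀ w) = vD w from hθval w]
      exact val_isUnit vD w)
  have hθ : ∀ w, θ (algebraMap D _ w) = θ₀ w := fun w => IsLocalization.lift_eq _ _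
  let Ψ : Localization.AtPrime Qc →+* Localization.AtPrime Qd :=
    IsLocalization.lift (M := Qc.primeCompl) (g := (algebraMap D _).comp ψ.toRingHom) fun c =>
      IsLocalization.map_units _ (⟨ψ c, fun hmem => c.2 (by
        have h1 : vD (ψ c) ∈ IsLocalRing.maximalIdeal Λq := hmem
        rw [hψ] at h1; exact h1)⟩ : Qd.primeCompl)
  have hΨ : ∀ c, Ψ (algebraMap C _ c) = algebraMap D _ (ψ c) := fun c => IsLocalization.lift_eq _ _
  have h1 : θ.comp Ψ = RingHom.id _ := IsLocalization.ringHom_ext Qc.primeCompl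
    (RingHom.ext fun c => by
      show θ (Ψ (algebraMap C _ c)) = algebraMap C _ c
      rw [hΨ, hθ, hθψ])
  have h2 : Ψ.comp θ = RingHom.id _ := IsLocalization.ringHom_ext Qd.primeCompl (by
    refine (hgen _ _ _ (fun c => ?_) fun c hc => ?_)
    · show Ψ (θ (algebraMap D _ (ψ c))) = algebraMap D _ (ψ c)
      rw [hθ, hθψ, hΨ]
    · show IsUnit (Ψ (θ (algebraMap D _ (ψ c))))
      rw [hθ, hθψ, hΨ]
      exact IsLocalization.map_units _ (⟨ψ c, fun hmem => hc (by
        have h1 : vD (ψ c) ∈ IsLocalRing.maximalIdeal Λq := hmem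
        rw [hψ] at h1; exact h1)⟩ : Qd.primeCompl))
  let e : Localization.AtPrime Qd ≃ₐ[R] Localization.AtPrime Qc :=
    AlgEquiv.ofRingEquiv (f := RingEquiv.ofRingHom θ Ψ h1 h2) fun r => by
      show θ (algebraMap R _ r) = _
      rw [IsScalarTower.algebraMap_apply R D (Localization.AtPrime Qd), hθ, ← ψ.commutes, hθψ,
        ← IsScalarTower.algebraMap_apply]
  exact Algebra.FormallySmooth.of_equiv e

section Model

variable {Rₚ : Type u} [CommRing Rₚ] [Algebra R Rₚ] (p₀ : Submonoid R) [IsLocalization p₀ Rₚ]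
  {B' : Type u} [CommRing B'] [Algebra Rₚ B'] [Algebra R B'] [IsScalarTower R Rₚ B']
  {n M N MA : ℕ} (π : MvPolynomial (Fin n) Rₚ →ₐ[Rₚ] B')

/-- Model relations hold in the local ring and give back the local algebra. -/
theorem exists_back {L : Type u} [CommRing L] [Algebra R L] (hR : ∀ r : p₀, IsUnit (algebraMap R L r))
    (hπ : Function.Surjective π) (f : Fin M → MvPolynomial (Fin n) Rₚ)
    (hkerπ : RingHom.ker π.toRingHom = Ideal.span (Set.range f))
    (F₁ : Fin M → MvPolynomial (Fin n) R) (s₁ : Fin M → R) (hs₁ : ∀ j, s₁ j ∈ p₀)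
    (hF₁ : ∀ j, MvPolynomial.map (algebraMap R Rₚ) (F₁ j) = C (algebraMap R Rₚ (s₁ j)) * f j)
    (zb : Fin N → B') (pz : Fin N → MvPolynomial (Fin n) Rₚ) (hpz : ∀ k, π (pz k) = zb k)
    (Q : Fin N → MvPolynomial (Fin n) R) (s₂ : Fin N → R) (hs₂ : ∀ k, s₂ k ∈ p₀)
    (hQ : ∀ k, MvPolynomial.map (algebraMap R Rₚ) (Q k) = C (algebraMap R Rₚ (s₂ k)) * pz k)
    (yC : Fin n → L) (zk : Fin N → L) (h1 : ∀ j, aeval yC (F₁ j) = 0)
    (h2 : ∀ k, algebraMap R L (s₂ k) * zk k = aeval yC (Q k)) :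
    ∃ e : B' →ₐ[R] L, (∀ i, e (π (X i)) = yC i) ∧ ∀ k, e (zb k) = zk k := by
  classical
  let eR : Rₚ →ₐ[R] L := IsLocalization.liftAlgHom (M := p₀) (f := Algebra.ofId R L) hR
  letI : Algebra Rₚ L := eR.toRingHom.toAlgebra
  haveI : IsScalarTower R Rₚ L := IsScalarTower.of_algebraMap_eq fun r => (eR.commutes r).symm
  have hle : RingHom.ker π.toRingHom ≤
      RingHom.ker (aeval yC : MvPolynomial (Fin n) Rₚ →ₐ[Rₚ] L).toRingHom := by
    rw [hkerπ, Ideal.span_le]
    rintro _ ⟨j, rfl⟩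
    show aeval yC (f j) = 0
    have h := h1 j
    rw [← aeval_map_algebraMap Rₚ, hF₁, map_mul, aeval_C] at h
    exact (((isUnit_of_mem (Rₛ := Rₚ) p₀ (hs₁ j))).map _).mul_right_eq_zero.1 h
  let e : B' →ₐ[Rₚ] L := AlgHom.liftOfSurjective π hπ (aeval yC) hle
  have he : ∀ p, e (π p) = aeval yC p := fun p => AlgHom.liftOfSurjective_apply π hπ _ hle p
  refine ⟨e.restrictScalars R, fun i => ?_, fun k => ?_⟩
  · show e (π (X i)) = yC i
    rw [he, aeval_X]
  · show e (zb k) = zk k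
    rw [← hpz, he]
    refine (hR ⟨_, hs₂ k⟩).mul_left_cancel ?_
    rw [h2, ← aeval_map_algebraMap Rₚ yC (Q k), hQ, map_mul, aeval_C,
      ← IsScalarTower.algebraMap_apply R Rₚ L]

end Model

section Model2

variable {Rₚ : Type u} [CommRing Rₚ] [Algebra R Rₚ] (p₀ : Submonoid R) [IsLocalization p₀ Rₚ]
  {B' : Type u} [CommRing B'] [Algebra Rₚ B'] [Algebra R B'] [IsScalarTower R Rₚ B']
  {n M N MA : ℕ} (π : MvPolynomial (Fin n) Rₚ →ₐ[Rₚ] B')

/-- variables -/
abbrev Var (n N : ℕ) : Type := (Fin n ⊕ Fin 2) ⊕ Fin N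

/-- place of the homogenised variables -/
def hvar (n N : ℕ) : Fin n ⊕ Unit → Var n N :=
  Sum.elim (fun i => Sum.inl (Sum.inl i)) fun _ => Sum.inl (Sum.inr 0)

/-- model relations -/
noncomputable def mrel (s₂ : Fin N → R) (N₂ : Fin N → ℕ) (H₁ : Fin M → MvPolynomial (Fin n ⊕ Unit) R)
    (H₂ : Fin N → MvPolynomial (Fin n ⊕ Unit) R) (G : Fin MA → MvPolynomial (Fin N) R) :
    (Fin M ⊕ Fin N) ⊕ Fin MA → MvPolynomial (Var n N) R :=
  Sum.elim (Sum.elim (fun j => X (Sum.inl (Sum.inr 1)) * rename (hvar n N) (H₁ j))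
    fun k => X (Sum.inl (Sum.inr 1)) *
      (C (s₂ k) * X (Sum.inl (Sum.inr 0)) ^ N₂ k * X (Sum.inr k) - rename (hvar n N) (H₂ k)))
    fun l => rename Sum.inr (G l)

set_option maxHeartbeats 1000000 in
theorem smoothAt_model (hπ : Function.Surjective π) (f : Fin M → MvPolynomial (Fin n) Rₚ)
    (hkerπ : RingHom.ker π.toRingHom = Ideal.span (Set.range f))
    (F₁ : Fin M → MvPolynomial (Fin n) R) (s₁ : Fin M → R) (hs₁ : ∀ j, s₁ j ∈ p₀)
    (hF₁ : ∀ j, MvPolynomial.map (algebraMap R Rₚ) (F₁ j) = C (algebraMap R Rₚ (s₁ j)) * f j)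
    (zb : Fin N → B') (pz : Fin N → MvPolynomial (Fin n) Rₚ) (hpz : ∀ k, π (pz k) = zb k)
    (Q : Fin N → MvPolynomial (Fin n) R) (s₂ : Fin N → R) (hs₂ : ∀ k, s₂ k ∈ p₀)
    (hQ : ∀ k, MvPolynomial.map (algebraMap R Rₚ) (Q k) = C (algebraMap R Rₚ (s₂ k)) * pz k)
    (N₁ : Fin M → ℕ) (H₁ : Fin M → MvPolynomial (Fin n ⊕ Unit) R)
    (hH₁ : ∀ j (T : Type u) [CommRing T] [Algebra R T] (y : Fin n → T) (z : T),
      aeval (Sum.elim (fun i => z * y i) fun _ => z) (H₁ j) = z ^ N₁ j * aeval y (F₁ j))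
    (N₂ : Fin N → ℕ) (H₂ : Fin N → MvPolynomial (Fin n ⊕ Unit) R)
    (hH₂ : ∀ k (T : Type u) [CommRing T] [Algebra R T] (y : Fin n → T) (z : T),
      aeval (Sum.elim (fun i => z * y i) fun _ => z) (H₂ k) = z ^ N₂ k * aeval y (Q k))
    (G : Fin MA → MvPolynomial (Fin N) R) (hG : ∀ l, aeval zb (G l) = 0)
    {Λq : Type u} [CommRing Λq] [IsLocalRing Λq] [Algebra Rₚ Λq] (h : B' →ₐ[Rₚ] Λq) (b₀ : B')
    [Algebra.Smooth Rₚ (Localization.Away b₀)] (hhb₀ : IsUnit (h b₀)) (t₀ : Λq) (ht₀ : IsUnit t₀)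
    (u₀ : Λq) (hu₀ : IsUnit u₀)
    (vC : MvPolynomial (Var n N) R ⧸ Ideal.span (Set.range (mrel s₂ N₂ H₁ H₂ G)) →+* Λq)
    (hvR : ∀ r, algebraMap Rₚ Λq (algebraMap R Rₚ r) = vC (algebraMap R _ r))
    (hvy : ∀ i, vC (Ideal.Quotient.mk _ (X (Sum.inl (Sum.inl i)))) = t₀ * h (π (X i)))
    (hvz : vC (Ideal.Quotient.mk _ (X (Sum.inl (Sum.inr 0)))) = t₀)
    (hvu : vC (Ideal.Quotient.mk _ (X (Sum.inl (Sum.inr 1)))) = u₀)
    (hvk : ∀ k, vC (Ideal.Quotient.mk _ (X (Sum.inr k))) = h (zb k)) :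
    Algebra.IsSmoothAt R ((IsLocalRing.maximalIdeal Λq).comap vC) := by
  classical
  let J := Ideal.span (Set.range (mrel s₂ N₂ H₁ H₂ G))
  let cm : MvPolynomial (Var n N) R →ₐ[R] MvPolynomial (Var n N) R ⧸ J := Ideal.Quotient.mkₐ R J
  haveI : Algebra.FormallySmooth R Rₚ := Algebra.FormallySmooth.of_isLocalization p₀
  haveI : Algebra.FormallySmooth R (Localization.Away b₀) :=
    Algebra.FormallySmooth.comp R Rₚ (Localization.Away b₀)
  haveI : Algebra.FormallySmooth R (MvPolynomial (Fin 2) (Localization.Away b₀)) :=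
    Algebra.FormallySmooth.comp R (Localization.Away b₀) _
  let h' : Localization.Away b₀ →+* Λq := IsLocalization.Away.lift (g := h.toRingHom) b₀ hhb₀
  have hh' : ∀ b, h' (algebraMap B' _ b) = h b := fun b => IsLocalization.Away.lift_eq b₀ hhb₀ b
  let vD : MvPolynomial (Fin 2) (Localization.Away b₀) →+* Λq := eval₂Hom h' ![t₀, u₀]
  let cB : B' →ₐ[R] MvPolynomial (Fin 2) (Localization.Away b₀) :=
    (IsScalarTower.toAlgHom R (Localization.Away b₀) _).comp
      (IsScalarTower.toAlgHom R B' (Localization.Away b₀))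
  have hcB : ∀ b, vD (cB b) = h b := fun b => by
    show eval₂Hom h' _ (algebraMap (Localization.Away b₀) _ (algebraMap B' _ b)) = _
    rw [MvPolynomial.algebraMap_eq, eval₂Hom_C, hh']
  let xD : Var n N → MvPolynomial (Fin 2) (Localization.Away b₀) :=
    Sum.elim (Sum.elim (fun i => X 0 * cB (π (X i))) X) fun k => cB (zb k)
  have hcBev : ∀ p : MvPolynomial (Fin n) R,
      aeval (fun i => cB (π (X i))) p = cB (π (MvPolynomial.map (algebraMap R Rₚ) p)) := fun p => by
    rw [← DFunLike.congr_fun (show cB.comp ((π.restrictScalars R).comp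
      (MvPolynomial.mapAlgHom (Algebra.ofId R Rₚ))) = aeval fun i => cB (π (X i)) from
      algHom_ext fun i => by simp) p]
    rfl
  have hxDh : ∀ H : MvPolynomial (Fin n ⊕ Unit) R, aeval xD (rename (hvar n N) H) =
      aeval (Sum.elim (fun i => X 0 * cB (π (X i))) fun _ => X 0) H := fun H => by
    rw [aeval_rename]
    congr 2
    funext x
    rcases x with x | x <;> rfl
  have hf0 : ∀ j, π (f j) = 0 := fun j => by
    have h1 : f j ∈ Ideal.span (Set.range f) := Ideal.subset_span ⟨j, rfl⟩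
    rw [← hkerπ] at h1; exact h1
  have hxDJ : ∀ p ∈ J, aeval xD p = 0 := by
    have hle : J ≤ RingHom.ker (aeval xD : MvPolynomial (Var n N) R →ₐ[R] _).toRingHom :=
      Ideal.span_le.2 (by
      rintro _ ⟨(j | k) | l, rfl⟩
      · show aeval xD _ = 0
        simp only [mrel, Sum.elim_inl, map_mul, hxDh]
        rw [hH₁ j, hcBev, hF₁]
        simp only [map_mul, hf0, map_zero, mul_zero]
      · show aeval xD _ = 0
        simp only [mrel, Sum.elim_inl, Sum.elim_inr, map_mul, map_sub, map_pow, hxDh, aeval_X, aeval_C]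
        rw [hH₂ k, hcBev, hQ]
        simp only [map_mul, hpz, ← MvPolynomial.algebraMap_eq, AlgHom.commutes,
          ← IsScalarTower.algebraMap_apply R Rₚ B', xD, Sum.elim_inl, Sum.elim_inr]
        ring
      · show aeval xD _ = 0
        simp only [mrel, Sum.elim_inr, aeval_rename, xD, Sum.elim_comp_inr]
        rw [← MvPolynomial.comp_aeval zb cB, AlgHom.comp_apply, hG, map_zero])
    exact fun p hp => hle hp
  let ψ : MvPolynomial (Var n N) R ⧸ J →ₐ[R] MvPolynomial (Fin 2) (Localization.Away b₀) :=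
    Ideal.Quotient.liftₐ J (aeval xD) hxDJ
  have hψ : ∀ c, vD (ψ c) = vC c := fun c => by
    obtain ⟨p, rfl⟩ := Ideal.Quotient.mk_surjective c
    show vD (aeval xD p) = vC (cm p)
    induction p using MvPolynomial.induction_on with
    | C r =>
      rw [aeval_C, ← MvPolynomial.algebraMap_eq, cm.commutes, ← hvR, ← cB.commutes, hcB,
        IsScalarTower.algebraMap_apply R Rₚ B', h.commutes]
    | add p p' hp hp' => simp only [map_add, hp, hp']
    | mul_X p i hp =>
      simp only [map_mul, hp, aeval_X]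
      congr 1
      show _ = vC (Ideal.Quotient.mk J (X i))
      rcases i with (i | i) | k
      · rw [hvy]
        simp only [xD, Sum.elim_inl, map_mul, hcB]
        simp [vD]
      · fin_cases i
        · exact (eval₂Hom_X' h' ![t₀, u₀] 0).trans hvz.symm
        · exact (eval₂Hom_X' h' ![t₀, u₀] 1).trans hvu.symm
      · rw [hvk]
        simp only [xD, Sum.elim_inr, hcB]
  -- the inverse
  set Qc := (IsLocalRing.maximalIdeal Λq).comap vC
  let jC : MvPolynomial (Var n N) R ⧸ J →ₐ[R] Localization.AtPrime Qc := IsScalarTower.toAlgHom R _ _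
  let hCq : Localization.AtPrime Qc →+* Λq := IsLocalization.lift (M := Qc.primeCompl) (val_isUnit vC)
  have hhCq : ∀ c, hCq (jC c) = vC c := fun c => IsLocalization.lift_eq _ _
  have hunitC : ∀ c, IsUnit (vC c) → IsUnit (jC c) := fun c hc =>
    IsLocalization.map_units _ (⟨c, fun hmem => (IsLocalRing.mem_maximalIdeal _).1 hmem hc⟩ : Qc.primeCompl)
  let zC := jC (cm (X (Sum.inl (Sum.inr 0))))
  let uC := jC (cm (X (Sum.inl (Sum.inr 1))))
  have hzC : IsUnit zC := hunitC _ (by exact hvz.symm ▸ ht₀)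
  have huC : IsUnit uC := hunitC _ (by exact hvu.symm ▸ hu₀)
  let yC : Fin n → Localization.AtPrime Qc := fun i =>
    jC (cm (X (Sum.inl (Sum.inl i)))) * ↑hzC.unit⁻¹
  have hzy : ∀ i, zC * yC i = jC (cm (X (Sum.inl (Sum.inl i)))) := fun i => by
    simp only [yC]
    rw [mul_comm, mul_assoc, hzC.val_inv_mul, mul_one]
  have hja₀ : ∀ H : MvPolynomial (Fin n ⊕ Unit) R, jC (cm (rename (hvar n N) H)) =
      aeval (Sum.elim (fun i => zC * yC i) fun _ => zC) H := fun H => by
    rw [← DFunLike.congr_fun (show (jC.comp cm).comp (rename (hvar n N)) =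
      aeval (Sum.elim (fun i => zC * yC i) fun _ => zC) from algHom_ext fun x => by
        rcases x with x | x
        · simp [hvar, hzy]
        · simp [hvar, zC]) H]
    rfl
  have hrel0 : ∀ x, jC (cm (mrel s₂ N₂ H₁ H₂ G x)) = 0 := fun x => by
    rw [show cm (mrel s₂ N₂ H₁ H₂ G x) = 0 from
      Ideal.Quotient.eq_zero_iff_mem.2 (Ideal.subset_span ⟨x, rfl⟩), map_zero]
  have hR : ∀ r : p₀, IsUnit (algebraMap R (Localization.AtPrime Qc) r) := fun r => by
    rw [← jC.commutes]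
    refine hunitC _ ?_
    rw [← hvR]
    exact (IsLocalization.map_units Rₚ r).map _
  obtain ⟨eB, heB, hezk⟩ := exists_back p₀ π hR hπ f hkerπ F₁ s₁ hs₁ hF₁ zb pz hpz Q s₂ hs₂ hQ yC
    (fun k => jC (cm (X (Sum.inr k)))) (fun j => by
      have h1 : uC * jC (cm (rename (hvar n N) (H₁ j))) = 0 :=
        (map_mul (jC.comp cm) (X (Sum.inl (Sum.inr 1))) (rename (hvar n N) (H₁ j))).symm.trans
          (hrel0 (Sum.inl (Sum.inl j)))
      rw [hja₀, hH₁ j _ yC zC] at h1
      exact (hzC.pow _).mul_right_eq_zero.1 (huC.mul_right_eq_zero.1 h1)) (fun k => by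
      have h1 : uC * (jC.comp cm) (C (s₂ k) * X (Sum.inl (Sum.inr 0)) ^ N₂ k * X (Sum.inr k) -
          rename (hvar n N) (H₂ k)) = 0 :=
        (map_mul (jC.comp cm) (X (Sum.inl (Sum.inr 1))) _).symm.trans (hrel0 (Sum.inl (Sum.inr k)))
      rw [map_sub, map_mul, map_mul, map_pow] at h1
      change uC * ((jC.comp cm) (C (s₂ k)) * zC ^ N₂ k * jC (cm (X (Sum.inr k))) -
        jC (cm (rename (hvar n N) (H₂ k)))) = 0 at h1
      rw [hja₀, hH₂ k _ yC zC] at h1
      have h2 := huC.mul_right_eq_zero.1 h1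
      rw [sub_eq_zero, ← MvPolynomial.algebraMap_eq, AlgHom.commutes] at h2
      refine (hzC.pow (N₂ k)).mul_left_cancel ?_
      rw [← h2]
      show zC ^ N₂ k * _ = _ * zC ^ N₂ k * _
      ring)
  have hheB : ∀ b, hCq (eB b) = h b := by
    have hR' : hCq.comp (eB.toRingHom.comp (algebraMap Rₚ B')) = algebraMap Rₚ Λq :=
      IsLocalization.ringHom_ext p₀ (RingHom.ext fun r => by
        show hCq (eB (algebraMap Rₚ B' (algebraMap R Rₚ r))) = algebraMap Rₚ Λq (algebraMap R Rₚ r)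
        rw [← IsScalarTower.algebraMap_apply, eB.commutes, ← jC.commutes, hhCq, hvR])
    intro b
    obtain ⟨p, rfl⟩ := hπ b
    induction p using MvPolynomial.induction_on with
    | C r =>
      rw [← MvPolynomial.algebraMap_eq, AlgHom.commutes, AlgHom.commutes]
      exact RingHom.congr_fun hR' r
    | add p p' hp hp' => simp only [map_add, hp, hp']
    | mul_X p i hp =>
      simp only [map_mul, hp]
      congr 1
      rw [heB]
      refine ht₀.mul_left_cancel ?_
      have h1 := congrArg hCq (hzy i)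
      rw [map_mul, hhCq, hhCq] at h1
      exact (hvz ▸ h1).trans (hvy i)
  have hb₀u : IsUnit (eB b₀) := by
    obtain ⟨⟨c, s⟩, hcs⟩ := IsLocalization.surj Qc.primeCompl (eB b₀)
    have h2 := congrArg hCq hcs
    rw [map_mul, hheB] at h2
    have h3 : IsUnit (jC c) := hunitC c (by
      rw [← hhCq c, show hCq (jC c) = hCq (algebraMap _ _ c) from rfl, ← h2]
      exact hhb₀.mul ((IsLocalization.map_units (Localization.AtPrime Qc) s).map hCq))
    change IsUnit (algebraMap _ (Localization.AtPrime Qc) c) at h3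
    rw [← hcs] at h3
    exact isUnit_of_mul_isUnit_left h3
  let eB₀ : Localization.Away b₀ →+* Localization.AtPrime Qc :=
    IsLocalization.Away.lift (g := eB.toRingHom) b₀ hb₀u
  have heB₀ : ∀ b, eB₀ (algebraMap B' _ b) = eB b := fun b => IsLocalization.Away.lift_eq b₀ hb₀u b
  let θ₀ : MvPolynomial (Fin 2) (Localization.Away b₀) →+* Localization.AtPrime Qc :=
    eval₂Hom eB₀ ![zC, uC]
  have hθc : ∀ b, θ₀ (cB b) = eB b := fun b => by
    show eval₂Hom eB₀ _ (algebraMap (Localization.Away b₀) _ (algebraMap B' _ b)) = _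
    rw [MvPolynomial.algebraMap_eq, eval₂Hom_C, heB₀]
  refine isSmoothAt_of_compare vC vD ψ hψ θ₀ (fun c => ?_) (fun w => ?_) fun T _ F G' hFG hFu => ?_
  · obtain ⟨p, rfl⟩ := Ideal.Quotient.mk_surjective c
    show θ₀ (aeval xD p) = jC (cm p)
    induction p using MvPolynomial.induction_on with
    | C r =>
      rw [aeval_C, ← cB.commutes, hθc, eB.commutes, ← MvPolynomial.algebraMap_eq, cm.commutes,
        jC.commutes]
    | add p p' hp hp' => simp only [map_add, hp, hp']
    | mul_X p i hp =>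
      simp only [map_mul, hp, aeval_X]
      congr 1
      rcases i with (i | i) | k
      · simp only [xD, Sum.elim_inl, map_mul, hθc, heB]
        simp only [θ₀, eval₂Hom_X']
        exact hzy i
      · fin_cases i <;> simp [xD, θ₀, zC, uC]
      · simp only [xD, Sum.elim_inr, hθc, hezk]
  · have h1 : hCq.comp θ₀ = vD := by
      refine MvPolynomial.ringHom_ext (fun b => ?_) (fun i => ?_)
      · have h2 : hCq.comp eB₀ = h' := IsLocalization.ringHom_ext (Submonoid.powers b₀)
          (RingHom.ext fun b => by simp [heB₀, hheB, hh'])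
        simp only [θ₀, vD, RingHom.comp_apply, eval₂Hom_C]
        exact RingHom.congr_fun h2 b
      · fin_cases i
        · exact (congrArg hCq (eval₂Hom_X' eB₀ ![zC, uC] 0)).trans
            (((hhCq _).trans hvz).trans (eval₂Hom_X' h' ![t₀, u₀] 0).symm)
        · exact (congrArg hCq (eval₂Hom_X' eB₀ ![zC, uC] 1)).trans
            (((hhCq _).trans hvu).trans (eval₂Hom_X' h' ![t₀, u₀] 1).symm)
    exact RingHom.congr_fun h1 w
  · have hψX : ∀ x, ψ (cm (X x)) = xD x := fun x => aeval_X xD x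
    have hX : ∀ i, F (X i) = G' (X i) := fun i => by
      have h1 := hFG (cm (X (Sum.inl (Sum.inr i))))
      rw [hψX] at h1
      exact h1
    have hX0 : IsUnit (F (X 0)) := by
      have h1 := hFu (cm (X (Sum.inl (Sum.inr 0)))) (fun hmem =>
        (IsLocalRing.mem_maximalIdeal _).1 hmem (by exact hvz.symm ▸ ht₀))
      rw [hψX] at h1
      exact h1
    refine MvPolynomial.ringHom_ext (fun b => ?_) hX
    have hb : (F.comp MvPolynomial.C).comp (algebraMap B' _) =
        (G'.comp MvPolynomial.C).comp (algebraMap B' (Localization.Away b₀)) := by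
      refine RingHom.ext fun b => ?_
      show F (cB b) = G' (cB b)
      obtain ⟨p, rfl⟩ := hπ b
      induction p using MvPolynomial.induction_on with
      | C r =>
        obtain ⟨⟨a, s⟩, has⟩ := IsLocalization.surj p₀ r
        rw [← MvPolynomial.algebraMap_eq, π.commutes]
        have hs : ∀ a : R, F (cB (algebraMap Rₚ B' (algebraMap R Rₚ a))) =
            G' (cB (algebraMap Rₚ B' (algebraMap R Rₚ a))) := fun a => by
          rw [← IsScalarTower.algebraMap_apply, cB.commutes]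
          have h1 := hFG (algebraMap R _ a)
          rwa [ψ.commutes] at h1
        have hsu : IsUnit (F (cB (algebraMap Rₚ B' (algebraMap R Rₚ s)))) :=
          ((((IsLocalization.map_units Rₚ s).map (algebraMap Rₚ B')).map cB).map F)
        refine hsu.mul_right_cancel ?_
        conv_rhs => rw [hs s]
        rw [← map_mul, ← map_mul, ← map_mul, has, hs, ← map_mul, ← map_mul, ← map_mul, has]
      | add p p' hp hp' => simp only [map_add, hp, hp']
      | mul_X p i hp =>
        simp only [map_mul, hp]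
        congr 1
        refine hX0.mul_left_cancel ?_
        conv_rhs => rw [hX 0]
        rw [← map_mul, ← map_mul]
        have h1 := hFG (cm (X (Sum.inl (Sum.inl i))))
        rw [hψX] at h1
        exact h1
    exact RingHom.congr_fun (IsLocalization.ringHom_ext (Submonoid.powers b₀) hb) b

end Model2

set_option maxHeartbeats 1000000 in
theorem delocalize_weak {A Λ Rₚ Λq : Type u} [CommRing A] [Algebra R A] [Algebra.FinitePresentation R A]
    [CommRing Λ] [Algebra R Λ] (φ : A →ₐ[R] Λ) (q : Ideal Λ) [q.IsPrime]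
    [CommRing Rₚ] [Algebra R Rₚ] [IsLocalization.AtPrime Rₚ (q.comap (algebraMap R Λ))]
    [CommRing Λq] [Algebra Λ Λq] [IsLocalization.AtPrime Λq q] [Algebra R Λq] [IsScalarTower R Λ Λq]
    [Algebra Rₚ Λq] [IsScalarTower R Rₚ Λq]
    (hres : Smoothing.Resolvable Rₚ
      (Algebra.TensorProduct.lift (Algebra.ofId Rₚ Λq) ((IsScalarTower.toAlgHom R Λ Λq).comp φ)
        (fun _ _ => Commute.all _ _) : Rₚ ⊗[R] A →ₐ[Rₚ] Λq) (q.map (algebraMap Λ Λq))) :
    ∃ (C : Type u) (_ : CommRing C) (_ : Algebra R C), Algebra.FinitePresentation R C ∧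
      ∃ (g : A →ₐ[R] C) (h : C →ₐ[R] Λ), h.comp g = φ ∧
        ¬ (Smoothing.singularIdeal R C).map h ≤ q := by
  classical
  obtain ⟨B', _, _, hB', g, h, hgh, -, hnle⟩ := hres
  haveI := hB'
  let m := q.map (algebraMap Λ Λq)
  have hm : m.IsPrime := by
    haveI : IsLocalRing Λq := IsLocalization.AtPrime.isLocalRing Λq q
    rw [show m = IsLocalRing.maximalIdeal Λq from IsLocalization.AtPrime.map_eq_maximalIdeal q Λq]
    infer_instance
  haveI := hm
  let Qb := m.comap h.toRingHom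
  have hQb : Algebra.IsSmoothAt Rₚ Qb := by
    obtain ⟨b, hb, hbm⟩ : ∃ b ∈ Smoothing.singularIdeal Rₚ B', h b ∉ m := by
      by_contra hall
      push Not at hall
      refine hnle ((hm.radical_le_iff).2 (Ideal.map_le_iff_le_comap.2 fun b hb => hall b hb))
    by_contra hns
    exact hbm ((PrimeSpectrum.mem_vanishingIdeal _ _).1 hb ⟨Qb, inferInstance⟩ hns)
  obtain ⟨b₀, hb₀, hsm⟩ := Algebra.IsSmoothAt.exists_notMem_smooth Rₚ Qb
  haveI := hsm
  have hhb₀ : IsUnit (h b₀) := by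
    haveI : IsLocalRing Λq := IsLocalization.AtPrime.isLocalRing Λq q
    refine not_not.1 fun hnu => hb₀ ?_
    show h b₀ ∈ m
    rw [show m = IsLocalRing.maximalIdeal Λq from IsLocalization.AtPrime.map_eq_maximalIdeal q Λq]
    exact (IsLocalRing.mem_maximalIdeal _).2 hnu
  -- presentations
  obtain ⟨n, π, hπ, hfg⟩ := hB'.out
  obtain ⟨M, f, hf⟩ := Submodule.fg_iff_exists_fin_generating_family.1 hfg
  have hkerπ : RingHom.ker π.toRingHom = Ideal.span (Set.range f) := hf.symm
  obtain ⟨N, πA, hπA, hfgA⟩ := ‹Algebra.FinitePresentation R A›.out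
  obtain ⟨MA, G, hGspan⟩ := Submodule.fg_iff_exists_fin_generating_family.1 hfgA
  have hkerA : RingHom.ker πA.toRingHom = Ideal.span (Set.range G) := hGspan.symm
  have hf0 : ∀ j, π (f j) = 0 := fun j => by
    have h1 : f j ∈ Ideal.span (Set.range f) := Ideal.subset_span ⟨j, rfl⟩
    rw [← hkerπ] at h1; exact h1
  have hG0 : ∀ l, πA (G l) = 0 := fun l => by
    have h1 : G l ∈ Ideal.span (Set.range G) := Ideal.subset_span ⟨l, rfl⟩
    rw [← hkerA] at h1; exact h1
  let p₀ := (q.comap (algebraMap R Λ)).primeCompl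
  choose s₁ hs₁ F₁ hF₁ using fun j => exists_clear p₀ (f j)
  choose pz hpz using fun k : Fin N => hπ (g ((1 : Rₚ) ⊗ₜ[R] πA (X k)))
  choose s₂ hs₂ Q hQ using fun k => exists_clear p₀ (pz k)
  choose N₁ H₁ hH₁ using fun j => exists_homog (F₁ j)
  choose N₂ H₂ hH₂ using fun k => exists_homog (Q k)
  obtain ⟨t, ht⟩ := IsLocalization.exist_integer_multiples q.primeCompl Finset.univ
    fun i => h (π (X i))
  choose lam hlam using fun i => ht i (Finset.mem_univ i)
  -- variables of `C`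
  let a₀ : (Fin n ⊕ Unit) → (Fin n ⊕ Fin 2) ⊕ Fin N := hvar n N
  let ι := (Fin n ⊕ Fin 2) ⊕ Fin N
  let Xz : MvPolynomial ((Fin n ⊕ Fin 2) ⊕ Fin N) R := X (Sum.inl (Sum.inr 0))
  let Xu : MvPolynomial ((Fin n ⊕ Fin 2) ⊕ Fin N) R := X (Sum.inl (Sum.inr 1))
  let rel : (Fin M ⊕ Fin N) ⊕ Fin MA → MvPolynomial ((Fin n ⊕ Fin 2) ⊕ Fin N) R :=
    mrel s₂ N₂ H₁ H₂ G
  have hrel' : rel =
    Sum.elim (Sum.elim (fun j => Xu * rename a₀ (H₁ j))
      fun k => Xu * (C (s₂ k) * Xz ^ N₂ k * X (Sum.inr k) - rename a₀ (H₂ k)))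
      fun l => rename Sum.inr (G l) := rfl
  let J : Ideal (MvPolynomial ((Fin n ⊕ Fin 2) ⊕ Fin N) R) := Ideal.span (Set.range rel)
  -- values in `Λq`
  let y₀ : Fin n → Λq := fun i => h (π (X i))
  let t₀ : Λq := algebraMap Λ Λq t
  have hlam' : ∀ i, algebraMap Λ Λq (lam i) = t₀ * y₀ i := fun i => by
    rw [hlam i]; exact Algebra.smul_def _ _
  have hev : ∀ p : MvPolynomial (Fin n) Rₚ, aeval y₀ p = h (π p) := fun p =>
    DFunLike.congr_fun (show aeval y₀ = h.comp π from algHom_ext fun i => by simp [y₀]) p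
  have hevR : ∀ (p : MvPolynomial (Fin n) R), aeval y₀ p =
      h (π (MvPolynomial.map (algebraMap R Rₚ) p)) := fun p => by rw [← hev, aeval_map_algebraMap]
  have hga : ∀ a : A, h (g ((1 : Rₚ) ⊗ₜ[R] a)) = algebraMap Λ Λq (φ a) := fun a => by
    have h1 := DFunLike.congr_fun hgh ((1 : Rₚ) ⊗ₜ[R] a)
    simpa using h1
  have hvalH : ∀ (H : MvPolynomial (Fin n ⊕ Unit) R),
      algebraMap Λ Λq (aeval (Sum.elim lam fun _ => (t : Λ)) H) =
        aeval (Sum.elim (fun i => t₀ * y₀ i) fun _ => t₀) H := fun H => by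
    rw [← aeval_algebraMap_apply]
    congr 2
    funext x
    rcases x with x | x
    · exact hlam' x
    · rfl
  have hkill : ∀ x : Λ, algebraMap Λ Λq x = 0 → ∃ c ∉ q, c * x = 0 := fun x hx => by
    obtain ⟨⟨c, hc⟩, hcx⟩ := (IsLocalization.map_eq_zero_iff q.primeCompl Λq x).1 hx
    exact ⟨c, hc, hcx⟩
  choose c₁ hc₁ hc₁0 using fun j => hkill (aeval (Sum.elim lam fun _ => (t : Λ)) (H₁ j)) (by
    rw [hvalH, hH₁, hevR, hF₁, map_mul, hf0, mul_zero, map_zero, mul_zero])
  choose c₂ hc₂ hc₂0 using fun k => hkill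
    (algebraMap R Λ (s₂ k) * (t : Λ) ^ N₂ k * φ (πA (X k)) - aeval (Sum.elim lam fun _ => (t : Λ)) (H₂ k)) (by
    rw [map_sub, map_mul, map_mul, map_pow, hvalH, hH₂, hevR, hQ, map_mul, hpz, map_mul, hga,
      ← MvPolynomial.algebraMap_eq, AlgHom.commutes, AlgHom.commutes,
      ← IsScalarTower.algebraMap_apply R Λ Λq, ← IsScalarTower.algebraMap_apply R Rₚ Λq]
    ring)
  let u : Λ := (∏ j, c₁ j) * ∏ k, c₂ k
  have hu : u ∉ q := fun hmem => by
    rcases (Ideal.IsPrime.mem_or_mem ‹q.IsPrime› hmem) with h1 | h1 <;>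
      obtain ⟨x, -, hx⟩ := Ideal.IsPrime.prod_mem_iff.1 h1
    · exact hc₁ x hx
    · exact hc₂ x hx
  let v : (Fin n ⊕ Fin 2) ⊕ Fin N → Λ :=
    Sum.elim (Sum.elim lam ![(t : Λ), u]) fun k => φ (πA (X k))
  have hva₀ : ∀ H : MvPolynomial (Fin n ⊕ Unit) R, aeval v (rename a₀ H) = aeval (Sum.elim lam fun _ => (t : Λ)) H := fun H => by
    rw [aeval_rename]
    congr 2
    funext x
    rcases x with x | x <;> rfl
  have hφπ : ∀ p : MvPolynomial (Fin N) R, aeval (fun k => φ (πA (X k))) p = φ (πA p) := fun p =>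
    DFunLike.congr_fun (show (aeval fun k => φ (πA (X k))) = φ.comp πA from
      algHom_ext fun k => by simp) p
  have hvJ : ∀ p ∈ J, aeval v p = 0 := by
    have hle : J ≤ RingHom.ker (aeval v : MvPolynomial _ R →ₐ[R] Λ).toRingHom := Ideal.span_le.2 (by
      rintro _ ⟨(j | k) | l, rfl⟩
      · show aeval v _ = 0
        simp only [hrel', Sum.elim_inl, map_mul, hva₀, Xu, aeval_X]
        show u * _ = 0
        obtain ⟨d, hd⟩ := Finset.dvd_prod_of_mem c₁ (Finset.mem_univ j)
        rw [show u = (∏ j, c₁ j) * ∏ k, c₂ k from rfl, hd,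
          show c₁ j * d * (∏ k, c₂ k) * aeval (Sum.elim lam fun _ => (t : Λ)) (H₁ j) =
            d * (∏ k, c₂ k) * (c₁ j * aeval (Sum.elim lam fun _ => (t : Λ)) (H₁ j)) by ring,
          hc₁0, mul_zero]
      · show aeval v _ = 0
        simp only [hrel', Sum.elim_inl, Sum.elim_inr, map_mul, map_sub, map_pow, hva₀, Xu, Xz, aeval_X,
          aeval_C]
        show u * (_ * (t : Λ) ^ _ * φ _ - _) = 0
        obtain ⟨d, hd⟩ := Finset.dvd_prod_of_mem c₂ (Finset.mem_univ k)
        rw [show u = (∏ j, c₁ j) * ∏ k, c₂ k from rfl, hd, ← mul_assoc,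
          show (∏ j, c₁ j) * c₂ k * d * (algebraMap R Λ (s₂ k) * (t : Λ) ^ N₂ k * φ (πA (X k)) -
            aeval (Sum.elim lam fun _ => (t : Λ)) (H₂ k)) = (∏ j, c₁ j) * d *
            (c₂ k * (algebraMap R Λ (s₂ k) * (t : Λ) ^ N₂ k * φ (πA (X k)) -
            aeval (Sum.elim lam fun _ => (t : Λ)) (H₂ k))) by ring,
          hc₂0, mul_zero]
      · show aeval v _ = 0
        simp only [hrel', Sum.elim_inr, aeval_rename, v, Sum.elim_comp_inr, hφπ, hG0, map_zero])
    exact fun p hp => hle hp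
  let Cq := MvPolynomial ((Fin n ⊕ Fin 2) ⊕ Fin N) R ⧸ J
  let cm : MvPolynomial ((Fin n ⊕ Fin 2) ⊕ Fin N) R →ₐ[R] MvPolynomial ((Fin n ⊕ Fin 2) ⊕ Fin N) R ⧸ J :=
    Ideal.Quotient.mkₐ R J
  let hC : MvPolynomial ((Fin n ⊕ Fin 2) ⊕ Fin N) R ⧸ J →ₐ[R] Λ := Ideal.Quotient.liftₐ J (aeval v) hvJ
  have hfp : Algebra.FinitePresentation R (MvPolynomial ((Fin n ⊕ Fin 2) ⊕ Fin N) R ⧸ J) :=
    Algebra.FinitePresentation.quotient (Submodule.fg_def.2 ⟨_, Set.finite_range _, rfl⟩)
  haveI := hfp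
  have hα : RingHom.ker πA.toRingHom ≤ RingHom.ker (cm.comp (rename Sum.inr)).toRingHom := by
    rw [hkerA, Ideal.span_le]
    rintro _ ⟨l, rfl⟩
    exact Ideal.Quotient.eq_zero_iff_mem.2 (Ideal.subset_span ⟨Sum.inr l, rfl⟩)
  refine ⟨MvPolynomial ((Fin n ⊕ Fin 2) ⊕ Fin N) R ⧸ J, inferInstance, inferInstance, hfp,
    AlgHom.liftOfSurjective πA hπA _ hα, hC, ?_, ?_⟩
  · refine AlgHom.ext fun a => ?_
    obtain ⟨p, rfl⟩ := hπA a
    rw [AlgHom.comp_apply, AlgHom.liftOfSurjective_apply]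
    show aeval v (rename Sum.inr p) = φ (πA p)
    simp only [v, aeval_rename, Sum.elim_comp_inr, hφπ]
  -- smoothness at the point
  let Qc := q.comap hC.toRingHom
  suffices hsmooth : Algebra.IsSmoothAt R Qc by
    intro hle
    obtain ⟨a, ha, hstd⟩ := exists_isElementaryStandard_notMem (R := R) Qc
    refine ha (hle (Ideal.mem_map_of_mem _ ((PrimeSpectrum.mem_vanishingIdeal _ _).2 fun P hP => ?_)))
    by_contra hna
    exact hP (isSmoothAt_of_isStrictlyStandard (isStrictlyStandard_of_isElementaryStandard hstd) P hna)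
  -- the comparison algebra
  haveI : IsLocalRing Λq := IsLocalization.AtPrime.isLocalRing Λq q
  have hmax : m = IsLocalRing.maximalIdeal Λq := IsLocalization.AtPrime.map_eq_maximalIdeal q Λq
  letI : Algebra R B' := ((algebraMap Rₚ B').comp (algebraMap R Rₚ)).toAlgebra
  haveI : IsScalarTower R Rₚ B' := IsScalarTower.of_algebraMap_eq fun _ => rfl
  let gA : A →ₐ[R] B' := (g.restrictScalars R).comp Algebra.TensorProduct.includeRight
  have hQeq : Qc = (IsLocalRing.maximalIdeal Λq).comap ((algebraMap Λ Λq).comp hC.toRingHom) := by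
    rw [← Ideal.comap_comap]
    exact congrArg (Ideal.comap hC.toRingHom) (IsLocalization.AtPrime.under_maximalIdeal (S := Λq) q).symm
  have key := smoothAt_model p₀ π hπ f hkerπ F₁ s₁ hs₁ hF₁ (fun k => g ((1 : Rₚ) ⊗ₜ[R] πA (X k))) pz hpz
    Q s₂ hs₂ hQ N₁ H₁ hH₁ N₂ H₂ hH₂ G (fun l => by
      rw [show (fun k => g ((1 : Rₚ) ⊗ₜ[R] πA (X k))) = fun k => (gA.comp πA) (X k) from rfl,
        ← show gA.comp πA = aeval fun k => (gA.comp πA) (X k) from algHom_ext fun k => by simp,
        AlgHom.comp_apply, hG0, map_zero])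
    h b₀ hhb₀ t₀ (IsLocalization.map_units Λq t) (algebraMap Λ Λq u)
    (IsLocalization.map_units Λq (⟨u, hu⟩ : q.primeCompl))
    ((algebraMap Λ Λq).comp hC.toRingHom)
    (fun r => (IsScalarTower.algebraMap_apply R Rₚ Λq r).symm.trans (by
      show _ = algebraMap Λ Λq (hC (algebraMap R _ r))
      rw [AlgHom.commutes, ← IsScalarTower.algebraMap_apply]))
    (fun i => by
      show algebraMap Λ Λq (aeval v (X (Sum.inl (Sum.inl i)))) = _
      simp [v, hlam', y₀])
    (by show algebraMap Λ Λq (aeval v Xz) = _; simp [Xz, v, t₀])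
    (by show algebraMap Λ Λq (aeval v Xu) = _; simp [Xu, v])
    (fun k => by
      show algebraMap Λ Λq (aeval v (X (Sum.inr k))) = _
      simp [v, hga])
  show Algebra.IsSmoothAt R Qc
  simp only [hQeq]
  exact key

end Groth.Agent.SmoothingLib.DelocWeak
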