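import Groth.Agent.SmoothingLib.StablyFree
import Mathlib.Algebra.TrivSqZeroExt.Basic
import Mathlib.RingTheory.Smooth.Basic

/-!
A retraction algebra over a finitely presented algebra whose differentials are free over the
smooth locus.
-/

namespace Groth.Agent.SmoothingLib.FreeKaehler

open MvPolynomial

universe u

variable {R : Type u} [CommRing R] {A : Type u} [CommRing A] [Algebra R A] {n m : ℕ}
  (f : Fin m → MvPolynomial (Fin n) R) (φ : MvPolynomial (Fin n) R →ₐ[R] A)

/-- relations among the classes of the `f`s in the conormal module -/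
def Rel (v : Fin m → A) : Prop :=
  ∃ p : Fin m → MvPolynomial (Fin n) R, (∀ j, φ (p j) = v j) ∧
    ∑ j, p j * f j ∈ Ideal.span (Set.range f) ^ 2

/-- the linear forms -/
noncomputable def relIdeal : Ideal (MvPolynomial (Fin m) A) :=
  Ideal.span {z | ∃ v, Rel f φ v ∧ z = ∑ j, C (v j) * X j}

/-- the symmetric algebra of the conormal module, by generators and linear forms -/
abbrev SymAlg : Type u := MvPolynomial (Fin m) A ⧸ relIdeal f φ

theorem rel_jacobian (hker : RingHom.ker φ.toRingHom = Ideal.span (Set.range f)) {v : Fin m → A}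
    (hv : Rel f φ v) (k : Fin n) : ∑ j, v j * φ (pderiv k (f j)) = 0 := by
  obtain ⟨p, hp, hmem⟩ := hv
  have hz : ∀ x ∈ Ideal.span (Set.range f), φ x = 0 := fun x hx => by
    rw [← hker] at hx; exact hx
  have hsq : ∀ z ∈ Ideal.span (Set.range f) ^ 2, φ (pderiv k z) = 0 := by
    intro z hz2
    rw [pow_two] at hz2
    induction hz2 using Submodule.mul_induction_on' with
    | mem_mul_mem x hx y hy =>
      rw [Derivation.leibniz, map_add, smul_eq_mul, smul_eq_mul, map_mul, map_mul, hz x hx, hz y hy,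
        zero_mul, zero_mul, add_zero]
    | add y _ z _ hy hz => rw [map_add, map_add, hy, hz, add_zero]
  have h := hsq _ hmem
  simp only [map_sum, Derivation.leibniz, map_add, smul_eq_mul, map_mul, hp] at h
  simpa [hz _ (Ideal.subset_span (Set.mem_range_self _))] using h

/-- the splitting of the conormal sequence over a smooth open, with cleared denominators -/
theorem exists_splitting (hφ : Function.Surjective φ)
    (hker : RingHom.ker φ.toRingHom = Ideal.span (Set.range f)) (a : A)
    [Algebra.Smooth R (Localization.Away a)] :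
    ∃ (N : ℕ) (P : Fin m → Fin n → A), ∀ j, ∃ l : ℕ, Rel f φ fun i =>
      (if i = j then a ^ (N + l) else 0) - a ^ l * ∑ k, φ (pderiv k (f j)) * P i k := by
  classical
  obtain ⟨a', ha'⟩ := hφ a
  set I := Ideal.span (Set.range f)
  let Q := MvPolynomial (Fin n) R ⧸ I ^ 2
  let π : MvPolynomial (Fin n) R →ₐ[R] Q := Ideal.Quotient.mkₐ R (I ^ 2)
  have hI2 : ∀ x ∈ I ^ 2, φ x = 0 := fun x hx => by
    have h1 : x ∈ I := Ideal.pow_le_self two_ne_zero hx
    rw [← hker] at h1; exact h1
  let ψ : Q →ₐ[R] A := Ideal.Quotient.liftₐ (I ^ 2) φ hI2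
  let S := Localization.Away (π a')
  let A' := Localization.Away a
  let ψ' : Q →ₐ[R] A' := (IsScalarTower.toAlgHom R A A').comp ψ
  have hunit : ∀ y : Submonoid.powers (π a'), IsUnit (ψ' y) := by
    rintro ⟨_, l, rfl⟩
    change IsUnit (algebraMap A A' (ψ ((π a') ^ l)))
    rw [map_pow, show ψ (π a') = a from ha', map_pow]
    exact (IsLocalization.Away.algebraMap_isUnit a).pow l
  let g : S →ₐ[R] A' := IsLocalization.liftAlgHom (M := Submonoid.powers (π a')) (f := ψ') hunit
  have hg : ∀ p, g (algebraMap Q S (π p)) = algebraMap A A' (φ p) := fun p =>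
    IsLocalization.lift_eq _ _
  have hgs : Function.Surjective g := by
    intro t
    obtain ⟨⟨b, ⟨_, l, rfl⟩⟩, hb⟩ := IsLocalization.surj (Submonoid.powers a) t
    obtain ⟨p, rfl⟩ := hφ b
    refine ⟨algebraMap Q S (π p) * IsLocalization.Away.invSelf (π a') ^ l, ?_⟩
    have hu : IsUnit (algebraMap A A' (a ^ l)) := by
      rw [map_pow]; exact (IsLocalization.Away.algebraMap_isUnit a).pow l
    have hga : algebraMap A A' (a ^ l) = g (algebraMap Q S (π a')) ^ l := by
      rw [hg, map_pow, ha']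
    rw [← hu.mul_left_inj, hb, map_mul, hg, mul_assoc, hga, map_pow g, ← mul_pow, ← map_mul g,
      mul_comm (IsLocalization.Away.invSelf (π a')), IsLocalization.Away.mul_invSelf, map_one,
      one_pow, mul_one]
  -- the kernel
  have hkerg : ∀ z : S, g z = 0 → ∃ (e : ℕ) (p : MvPolynomial (Fin n) R), p ∈ I ∧
      algebraMap Q S (π a') ^ e * z = algebraMap Q S (π p) := by
    intro z hz
    obtain ⟨⟨q, ⟨_, e, rfl⟩⟩, hq⟩ := IsLocalization.surj (Submonoid.powers (π a')) z
    obtain ⟨p, rfl⟩ := Ideal.Quotient.mk_surjective q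
    have h1 : algebraMap A A' (φ p) = 0 := by
      rw [← hg, show algebraMap Q S (π p) = z * algebraMap Q S ((π a') ^ e) from hq.symm, map_mul, hz,
        zero_mul]
    obtain ⟨⟨_, l, rfl⟩, hl⟩ := (IsLocalization.map_eq_zero_iff (Submonoid.powers a) A' _).1 h1
    refine ⟨l + e, a' ^ l * p, ?_, ?_⟩
    · rw [← hker]
      show φ (a' ^ l * p) = 0
      rw [map_mul, map_pow, ha']; exact hl
    · rw [pow_add, mul_assoc, mul_comm _ z, ← map_pow (algebraMap Q S) _ e, hq, map_mul π, map_mul,
        map_pow π, map_pow]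
      rfl
  have hnil : IsNilpotent (RingHom.ker (g : S →+* A')) := by
    refine ⟨2, ?_⟩
    rw [Ideal.zero_eq_bot, eq_bot_iff, pow_two (RingHom.ker (g : S →+* A')), Ideal.mul_le]
    intro x hx y hy
    obtain ⟨e, p, hp, hep⟩ := hkerg x hx
    obtain ⟨e', p', hp', hep'⟩ := hkerg y hy
    rw [Ideal.mem_bot]
    refine (((IsLocalization.Away.algebraMap_isUnit (π a')).pow e).mul
      ((IsLocalization.Away.algebraMap_isUnit (π a')).pow e')).mul_right_eq_zero.1 ?_
    rw [mul_mul_mul_comm, hep, hep', ← map_mul, ← map_mul,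
      show π (p * p') = 0 from Ideal.Quotient.eq_zero_iff_mem.2
        (pow_two I ▸ Ideal.mul_mem_mul hp hp'), map_zero]
  have : Algebra.FormallySmooth R A' := inferInstance
  let σ : A' →ₐ[R] S := Algebra.FormallySmooth.liftOfSurjective (AlgHom.id R A') g hgs hnil
  have hσ : ∀ t, g (σ t) = t := fun t =>
    Algebra.FormallySmooth.liftOfSurjective_apply (AlgHom.id R A') g hgs hnil t
  -- the derivation into the kernel
  let ι : MvPolynomial (Fin n) R →ₐ[R] S := (IsScalarTower.toAlgHom R Q S).comp π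
  let δ : MvPolynomial (Fin n) R → S := fun p => ι p - σ (algebraMap A A' (φ p))
  have hδg : ∀ p, g (δ p) = 0 := fun p => by
    simp only [δ, map_sub, hσ]
    exact sub_eq_zero.2 (hg p)
  have hsq : ∀ p q, δ p * δ q = 0 := by
    intro p q
    obtain ⟨e, r, hr, her⟩ := hkerg _ (hδg p)
    obtain ⟨e', r', hr', her'⟩ := hkerg _ (hδg q)
    refine (((IsLocalization.Away.algebraMap_isUnit (π a')).pow e).mul
      ((IsLocalization.Away.algebraMap_isUnit (π a')).pow e')).mul_right_eq_zero.1 ?_
    rw [mul_mul_mul_comm, her, her', ← map_mul, ← map_mul,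
      show π (r * r') = 0 from Ideal.Quotient.eq_zero_iff_mem.2
        (pow_two I ▸ Ideal.mul_mem_mul hr hr'), map_zero]
  have hmul : ∀ p q, δ (p * q) = ι p * δ q + ι q * δ p := fun p q => by
    have h := hsq p q
    simp only [δ, map_mul] at h ⊢
    linear_combination -h
  have hexp : ∀ p, δ p = ∑ k, ι (pderiv k p) * δ (X k) := by
    intro p
    induction p using MvPolynomial.induction_on with
    | C r =>
      simp only [pderiv_C, map_zero, zero_mul, Finset.sum_const_zero, δ]
      rw [← MvPolynomial.algebraMap_eq, AlgHom.commutes, AlgHom.commutes,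
        ← IsScalarTower.algebraMap_apply R A A', AlgHom.commutes, sub_self]
    | add p q hp hq =>
      rw [show δ (p + q) = δ p + δ q by simp only [δ, map_add]; ring, hp, hq]
      simp only [map_add, add_mul, Finset.sum_add_distrib]
    | mul_X p i hp =>
      rw [hmul, hp, Finset.mul_sum]
      simp only [Derivation.leibniz, pderiv_X, smul_eq_mul, map_add, map_mul, add_mul,
        Finset.sum_add_distrib, mul_assoc]
      congr 1
      simp [Pi.single_apply, apply_ite ι, ite_mul, mul_ite]
  choose e r hr her using fun k => hkerg _ (hδg (X k))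
  let N := ∑ k, e k
  have heN : ∀ k, e k ≤ N := fun k => Finset.single_le_sum (fun i _ => Nat.zero_le _) (Finset.mem_univ k)
  choose c hc using fun k => (Ideal.mem_span_range_iff_exists_fun).1 (hr k)
  refine ⟨N, fun i k => a ^ (N - e k) * φ (c k i), fun j => ?_⟩
  have hf : δ (f j) = ι (f j) := by
    simp only [δ]
    rw [show φ (f j) = 0 from by
      have h1 : f j ∈ I := Ideal.subset_span ⟨j, rfl⟩
      rw [← hker] at h1; exact h1, map_zero, map_zero, sub_zero]
  let z : MvPolynomial (Fin n) R :=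
    a' ^ N * f j - ∑ k, pderiv k (f j) * (a' ^ (N - e k) * r k)
  have hz : algebraMap Q S (π z) = 0 := by
    show ι z = 0
    have h2 : ∀ k, ι (a' ^ (N - e k) * r k) = ι a' ^ N * δ (X k) := fun k => by
      rw [map_mul, map_pow, show ι (r k) = algebraMap Q S (π (r k)) from rfl, ← her k,
        show algebraMap Q S (π a') = ι a' from rfl, ← mul_assoc, ← pow_add,
        Nat.sub_add_cancel (heN k)]
    simp only [z, map_sub, map_sum, map_mul ι (pderiv _ _), h2]
    rw [map_mul, ← hf, hexp, Finset.mul_sum, map_pow, sub_eq_zero]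
    exact Finset.sum_congr rfl fun k _ => by ring
  obtain ⟨⟨_, l, rfl⟩, hl⟩ := (IsLocalization.map_eq_zero_iff (Submonoid.powers (π a')) S _).1 hz
  refine ⟨l, fun i => (if i = j then a' ^ (N + l) else 0) -
    a' ^ l * ∑ k, pderiv k (f j) * (a' ^ (N - e k) * c k i), fun i => ?_, ?_⟩
  · rw [map_sub, apply_ite φ, map_pow, map_zero, ha']
    simp only [map_mul, map_sum, map_pow, ha']
  · have hl' : a' ^ l * z ∈ I ^ 2 := by
      rw [← Ideal.Quotient.eq_zero_iff_mem]
      exact hl
    convert hl' using 1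
    simp only [z, ← hc, sub_mul, Finset.sum_sub_distrib, ite_mul, zero_mul, Finset.sum_ite_eq',
      Finset.mem_univ, if_true, Finset.mul_sum, Finset.sum_mul, mul_sub, pow_add]
    rw [Finset.sum_comm]
    congr 1
    · ring
    · exact Finset.sum_congr rfl fun i _ => Finset.sum_congr rfl fun k _ => by ring

/-- A derivation out of a localization is determined on the base. -/
theorem derivation_eq_of_away {B T M : Type u} [CommRing B] [Algebra R B] [CommRing T]
    [Algebra R T] [Algebra B T] [IsScalarTower R B T] (b : B) [IsLocalization.Away b T]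
    [AddCommGroup M] [Module T M] [Module R M] (D₁ D₂ : Derivation R T M)
    (h : ∀ c : B, D₁ (algebraMap B T c) = D₂ (algebraMap B T c)) : D₁ = D₂ := by
  refine Derivation.ext fun t => ?_
  obtain ⟨⟨c, ⟨_, l, rfl⟩⟩, hc⟩ := IsLocalization.surj (Submonoid.powers b) t
  have hu : IsUnit (algebraMap B T (b ^ l)) := by
    rw [map_pow]; exact (IsLocalization.Away.algebraMap_isUnit b).pow l
  have h1 := congrArg D₁ hc
  have h2 := congrArg D₂ hc
  rw [Derivation.leibniz] at h1 h2
  rw [h, h] at h1
  rw [← h2, add_right_inj] at h1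
  exact hu.smul_left_cancel.1 h1

variable {f φ}

/-- the Jacobian matrix pushed along `ι` -/
noncomputable def jac {B : Type u} [CommRing B] (f : Fin m → MvPolynomial (Fin n) R)
    (φ : MvPolynomial (Fin n) R →ₐ[R] A) (ι : A →+* B) (k : Fin n) (j : Fin m) : B :=
  ι (φ (pderiv k (f j)))

/-- columns of a square matrix -/
def col {B : Type u} (E : Fin n → Fin n → B) (k : Fin n) : Fin n → B := fun i => E i k

theorem aeval_eq {B : Type u} [CommRing B] [Algebra R B] (ι : A →+* B)
    (hscal : ∀ c, algebraMap R B c = ι (φ (C c))) (p : MvPolynomial (Fin n) R) :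
    aeval (fun k => ι (φ (X k))) p = ι (φ p) := by
  induction p using MvPolynomial.induction_on with
  | C c => rw [aeval_C, hscal]
  | add p q hp hq => simp [hp, hq]
  | mul_X p i hp => simp [hp]

theorem exists_derivation (hφ : Function.Surjective φ)
    (hker : RingHom.ker φ.toRingHom = Ideal.span (Set.range f)) (a : A)
    {B : Type u} [CommRing B] [Algebra R B] (ι : A →+* B) (yb : Fin m → B)
    (hscal : ∀ c, algebraMap R B c = ι (φ (C c))) (hua : IsUnit (ι a))
    (hrel : ∀ v, Rel f φ v → ∑ j, ι (v j) * yb j = 0)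
    (hlift : ∀ (T : Type u) [CommRing T] (ρ : A →+* T) (z : Fin m → T),
      (∀ v, Rel f φ v → ∑ j, ρ (v j) * z j = 0) → IsUnit (ρ a) →
        ∃ F : B →+* T, (∀ c, F (ι c) = ρ c) ∧ ∀ j, F (yb j) = z j)
    (hext : ∀ F₁ F₂ : B →+* B, (∀ c, F₁ (ι c) = F₂ (ι c)) → (∀ j, F₁ (yb j) = F₂ (yb j)) → F₁ = F₂)
    (E : Fin n → Fin n → B) (y : Fin n → B)
    (hEG : ∀ p j, ∑ k, E p k * jac f φ ι k j = jac f φ ι p j)
    (hyb : ∀ j, yb j = ∑ k, jac f φ ι k j * y k) :
    ∃ D₀ : Derivation R B (Fin n → B),
      (∀ k, D₀ (ι (φ (X k))) = (Pi.single k 1 : Fin n → B) - col E k) ∧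
      ∀ j, D₀ (yb j) = ∑ k, (jac f φ ι k j • col E k + y k • D₀ (jac f φ ι k j)) := by
  classical
  let G := jac f φ ι
  let ε := col E
  -- the derivation on `A`
  let grad : MvPolynomial (Fin n) R → (Fin n → B) := fun p i =>
    ι (φ (pderiv i p)) - ∑ k, E i k * ι (φ (pderiv k p))
  have hgrad_mul : ∀ p q, grad (p * q) = ι (φ p) • grad q + ι (φ q) • grad p := fun p q => by
    funext i
    simp only [grad, Derivation.leibniz, smul_eq_mul, map_add, map_mul, mul_add,
      Finset.sum_add_distrib, Pi.add_apply, Pi.smul_apply, mul_sub, Finset.mul_sum]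
    rw [Finset.sum_congr rfl fun k _ => mul_left_comm (E i k) (ι (φ p)) (ι (φ (pderiv k q))),
      Finset.sum_congr rfl fun k _ => mul_left_comm (E i k) (ι (φ q)) (ι (φ (pderiv k p)))]
    ring
  have hgrad_add : ∀ p q, grad (p + q) = grad p + grad q := fun p q => by
    funext i
    simp only [grad, map_add, mul_add, Finset.sum_add_distrib, Pi.add_apply]
    ring
  have hgradI : ∀ z ∈ Ideal.span (Set.range f), grad z = 0 := by
    intro z hz
    induction hz using Submodule.span_induction with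
    | mem z hz =>
      obtain ⟨j, rfl⟩ := hz
      funext i
      exact sub_eq_zero.2 (hEG i j).symm
    | zero => funext i; simp [grad]
    | add z w _ _ hz hw => rw [hgrad_add, hz, hw, add_zero]
    | smul r z hz' hz =>
      have h0 : φ z = 0 := by
        have h1 : z ∈ Ideal.span (Set.range f) := hz'
        rw [← hker] at h1; exact h1
      rw [smul_eq_mul, hgrad_mul, hz, h0, map_zero, zero_smul, smul_zero, add_zero]
  let s₀ : A → (Fin n → B) := fun c => grad (Function.surjInv hφ c)
  have hs₀ : ∀ p, s₀ (φ p) = grad p := fun p => by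
    have h : Function.surjInv hφ (φ p) - p ∈ Ideal.span (Set.range f) := by
      rw [← hker]
      show φ _ = 0
      rw [map_sub, Function.surjInv_eq hφ, sub_self]
    have h1 := hgrad_add (Function.surjInv hφ (φ p) - p) p
    rw [hgradI _ h, zero_add, sub_add_cancel] at h1
    exact h1
  let ρ : A →+* TrivSqZeroExt B (Fin n → B) :=
    { toFun := fun c => TrivSqZeroExt.inl (ι c) + TrivSqZeroExt.inr (s₀ c)
      map_one' := by
        refine TrivSqZeroExt.ext (by simp) ?_
        have h := hs₀ 1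
        rw [map_one] at h
        funext i
        simp [h, grad]
      map_zero' := by
        refine TrivSqZeroExt.ext (by simp) ?_
        have h := hs₀ 0
        rw [map_zero] at h
        funext i
        simp [h, grad]
      map_add' := fun c d => by
        obtain ⟨p, rfl⟩ := hφ c
        obtain ⟨q, rfl⟩ := hφ d
        refine TrivSqZeroExt.ext (by simp) ?_
        have h := hs₀ (p + q)
        rw [map_add] at h
        simp [h, hs₀, hgrad_add]
      map_mul' := fun c d => by
        obtain ⟨p, rfl⟩ := hφ c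
        obtain ⟨q, rfl⟩ := hφ d
        refine TrivSqZeroExt.ext (by simp) ?_
        have h := hs₀ (p * q)
        rw [map_mul] at h
        simp [h, hs₀, hgrad_mul, TrivSqZeroExt.snd_mul, add_comm] }
  have hρfst : ∀ c, (ρ c).fst = ι c := fun c => by simp [ρ]
  have hρsnd : ∀ c, (ρ c).snd = s₀ c := fun c => by simp [ρ]
  let μ : Fin m → (Fin n → B) := fun j =>
    ∑ k, (G k j • ε k + y k • s₀ (φ (pderiv k (f j))))
  have hz : ∀ v, Rel f φ v →
      ∑ j, ρ (v j) * (TrivSqZeroExt.inl (yb j) + TrivSqZeroExt.inr (μ j)) = 0 := by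
    intro v hv
    refine TrivSqZeroExt.ext ?_ ?_
    · rw [TrivSqZeroExt.fst_sum, TrivSqZeroExt.fst_zero, ← hrel v hv]
      exact Finset.sum_congr rfl fun j _ => by simp [hρfst]
    · rw [TrivSqZeroExt.snd_sum, TrivSqZeroExt.snd_zero]
      have hA : ∀ k, ∑ j, ι (v j) * G k j = 0 := fun k => by
        simp only [G, jac, ← map_mul, ← map_sum, rel_jacobian f φ hker hv k, map_zero]
      have hB : ∀ k, ∑ j, (ι (v j) • s₀ (φ (pderiv k (f j))) + G k j • s₀ (v j)) = 0 := by
        intro k
        have hmul' : ∀ c d, s₀ (c * d) = ι c • s₀ d + ι d • s₀ c := fun c d => by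
          rw [← hρsnd, map_mul, TrivSqZeroExt.snd_mul, hρfst, hρfst, hρsnd, hρsnd]
          simp
        calc ∑ j, (ι (v j) • s₀ (φ (pderiv k (f j))) + G k j • s₀ (v j))
            = ∑ j, (ρ (v j * φ (pderiv k (f j)))).snd := Finset.sum_congr rfl fun j _ => by
              rw [hρsnd, hmul']
              rfl
          _ = (ρ (∑ j, v j * φ (pderiv k (f j)))).snd := by rw [map_sum, TrivSqZeroExt.snd_sum]
          _ = 0 := by rw [rel_jacobian f φ hker hv k, map_zero, TrivSqZeroExt.snd_zero]
      calc ∑ j, (ρ (v j) * (TrivSqZeroExt.inl (yb j) + TrivSqZeroExt.inr (μ j))).snd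
          = ∑ j, (ι (v j) • μ j + yb j • s₀ (v j)) := Finset.sum_congr rfl fun j _ => by
            simp [TrivSqZeroExt.snd_mul, hρfst, hρsnd]
        _ = ∑ j, ∑ k, ((ι (v j) * G k j) • ε k +
              y k • (ι (v j) • s₀ (φ (pderiv k (f j))) + G k j • s₀ (v j))) := by
            refine Finset.sum_congr rfl fun j _ => ?_
            conv_lhs => rw [hyb j]
            simp only [μ, Finset.smul_sum, Finset.sum_smul, ← Finset.sum_add_distrib]
            exact Finset.sum_congr rfl fun k _ => by module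
        _ = 0 := by
            rw [Finset.sum_comm]
            refine Finset.sum_eq_zero fun k _ => ?_
            rw [Finset.sum_add_distrib, ← Finset.sum_smul, hA, zero_smul, zero_add,
              ← Finset.smul_sum, hB, smul_zero]
  obtain ⟨F, hFι', hFyb'⟩ := hlift _ ρ _ hz (by
    rw [TrivSqZeroExt.isUnit_iff_isUnit_fst, hρfst]
    exact hua)
  have hFfst : ∀ t, (F t).fst = t := fun t => by
    have h : (TrivSqZeroExt.fstHom B B (Fin n → B)).toRingHom.comp F = RingHom.id B :=
      hext _ _ (fun c => by simp [hFι', hρfst]) (fun j => by simp [hFyb'])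
    exact RingHom.congr_fun h t
  have hFι : ∀ c, (F (ι c)).snd = s₀ c := fun c => by rw [hFι', hρsnd]
  have hFyb : ∀ j, (F (yb j)).snd = μ j := fun j => by rw [hFyb']; simp
  let DL : B →ₗ[R] (Fin n → B) :=
    { toFun := fun t => (F t).snd
      map_add' := fun s t => by simp
      map_smul' := fun c t => by
        have h0 : (F (algebraMap R B c)).snd = 0 := by
          rw [hscal, hFι, hs₀]
          funext i; simp [grad]
        rw [RingHom.id_apply, Algebra.smul_def c t, map_mul, TrivSqZeroExt.snd_mul, h0, hFfst,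
          hFfst]
        funext i
        simp [Algebra.smul_def] }
  let D₀ : Derivation R B (Fin n → B) := Derivation.mk' DL fun s t => by
    show (F (s * t)).snd = s • (F t).snd + t • (F s).snd
    rw [map_mul, TrivSqZeroExt.snd_mul, hFfst, hFfst]
    simp
  have hD₀ι : ∀ c, D₀ (ι c) = s₀ c := hFι
  have hD₀yb : ∀ j, D₀ (yb j) = μ j := hFyb
  refine ⟨D₀, fun k => ?_, fun j => ?_⟩
  · rw [hD₀ι, hs₀]
    funext i
    simp [grad, col, pderiv_X, Pi.single_apply, apply_ite φ, apply_ite ι, mul_ite, eq_comm]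
  · rw [hD₀yb]
    simp only [μ, ε, G, jac, hD₀ι]

theorem matrix_identities {B : Type u} [CommRing B] (G : Fin n → Fin m → B) (L : Fin m → Fin n → B)
    (yb : Fin m → B) (hyb : ∀ j, yb j = ∑ k, G k j * ∑ i, L i k * yb i)
    (hG : ∀ p j, ∑ k, (∑ i, G p i * L i k) * G k j = G p j) :
    (∀ p k, ∑ q, (∑ i, G p i * L i q) * (∑ i, G q i * L i k) = ∑ i, G p i * L i k) ∧
      ∀ k, ∑ i, L i k * yb i = ∑ p, (∑ i, G p i * L i k) * ∑ i, L i p * yb i := by
  refine ⟨fun p k => ?_, fun k => ?_⟩
  · calc ∑ q, (∑ i, G p i * L i q) * (∑ i, G q i * L i k)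
        = ∑ q, ∑ i, (∑ i, G p i * L i q) * G q i * L i k := Finset.sum_congr rfl fun q _ => by
          rw [Finset.mul_sum]; exact Finset.sum_congr rfl fun i _ => (mul_assoc _ _ _).symm
      _ = ∑ i, (∑ q, (∑ i, G p i * L i q) * G q i) * L i k := by
          rw [Finset.sum_comm]; exact Finset.sum_congr rfl fun i _ => (Finset.sum_mul _ _ _).symm
      _ = ∑ i, G p i * L i k := by simp only [hG]
  · calc ∑ i, L i k * yb i = ∑ i, L i k * ∑ p, G p i * ∑ l, L l p * yb l :=
          Finset.sum_congr rfl fun i _ => by rw [← hyb i]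
      _ = ∑ i, ∑ p, G p i * L i k * ∑ l, L l p * yb l := Finset.sum_congr rfl fun i _ => by
          rw [Finset.mul_sum]; exact Finset.sum_congr rfl fun p _ => by ring
      _ = _ := by rw [Finset.sum_comm]; exact Finset.sum_congr rfl fun p _ => (Finset.sum_mul _ _ _).symm

theorem splitting_relations (hker : RingHom.ker φ.toRingHom = Ideal.span (Set.range f)) (a : A) {N : ℕ}
    {P : Fin m → Fin n → A} {l : Fin m → ℕ}
    (hl : ∀ j, Rel f φ fun i =>
      (if i = j then a ^ (N + l j) else 0) - a ^ l j * ∑ k, φ (pderiv k (f j)) * P i k)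
    {B : Type u} [CommRing B] (ι : A →+* B) (yb : Fin m → B) (u : B)
    (hu : ι a ^ N * u = 1) (hua : ∀ l : ℕ, IsUnit (ι a ^ l))
    (hrel : ∀ v, Rel f φ v → ∑ j, ι (v j) * yb j = 0) :
    (∀ j, yb j = ∑ k, jac f φ ι k j * ∑ i, u * ι (P i k) * yb i) ∧
      ∀ p j, ∑ k, (∑ i, jac f φ ι p i * (u * ι (P i k))) * jac f φ ι k j = jac f φ ι p j := by
  classical
  refine ⟨fun j => ?_, fun p j => ?_⟩
  · have h := hrel _ (hl j)
    simp only [map_sub, apply_ite ι, map_zero, map_pow, map_mul, map_sum, sub_mul, ite_mul,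
      zero_mul, Finset.sum_sub_distrib, Finset.sum_ite_eq', Finset.mem_univ, if_true] at h
    refine (hua (N + l j)).mul_left_cancel ((sub_eq_zero.1 h).trans ?_)
    simp only [jac, Finset.mul_sum, Finset.sum_mul]
    rw [Finset.sum_comm]
    refine Finset.sum_congr rfl fun k _ => Finset.sum_congr rfl fun i _ => ?_
    rw [pow_add]
    linear_combination (-(ι a ^ l j * ι (φ (pderiv k (f j))) * ι (P i k) * yb i)) * hu
  · have h := congrArg ι (rel_jacobian f φ hker (hl j) p)
    simp only [map_sub, apply_ite ι, map_zero, map_pow, map_mul, map_sum, sub_mul, ite_mul,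
      zero_mul, Finset.sum_sub_distrib, Finset.sum_ite_eq', Finset.mem_univ, if_true] at h
    refine (hua (N + l j)).mul_left_cancel (Eq.trans ?_ (sub_eq_zero.1 h).symm)
    simp only [jac, Finset.mul_sum, Finset.sum_mul]
    rw [Finset.sum_comm]
    refine Finset.sum_congr rfl fun i _ => Finset.sum_congr rfl fun k _ => ?_
    rw [pow_add]
    linear_combination (ι a ^ l j * ι (φ (pderiv k (f j))) * ι (P i k) * ι (φ (pderiv p (f i)))) * hu

theorem free_of_derivation {B : Type u} [CommRing B] [Algebra R B] (x : Fin n → B)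
    (G : Fin n → Fin m → B) (L : Fin m → Fin n → B) (yb : Fin m → B) (E : Fin n → Fin n → B)
    (y : Fin n → B) (hEdef : ∀ p k, E p k = ∑ i, G p i * L i k) (hydef : ∀ k, y k = ∑ i, L i k * yb i)
    (hyb : ∀ j, yb j = ∑ k, G k j * y k) (hEE : ∀ p k, ∑ q, E p q * E q k = E p k)
    (hyE : ∀ k, y k = ∑ p, E p k * y p)
    (D₀ : Derivation R B (Fin n → B)) (hDx : ∀ k, D₀ (x k) = (Pi.single k 1 : Fin n → B) - col E k)
    (hD₀yb : ∀ j, D₀ (yb j) = ∑ k, (G k j • col E k + y k • D₀ (G k j)))
    (hdx : ∀ j, ∑ k, G k j • KaehlerDifferential.D R B (x k) = 0)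
    (hA : ∀ D₁ : Derivation R B Ω[B⁄R], (∀ k, D₁ (x k) = KaehlerDifferential.D R B (x k)) →
      (∀ k j, D₁ (G k j) = KaehlerDifferential.D R B (G k j)) ∧
        ∀ i k, D₁ (L i k) = KaehlerDifferential.D R B (L i k))
    (hgen : ∀ D₁ D₂ : Derivation R B Ω[B⁄R], (∀ k, D₁ (x k) = D₂ (x k)) →
      (∀ j, D₁ (yb j) = D₂ (yb j)) → D₁ = D₂) :
    Module.Free B Ω[B⁄R] := by
  classical
  have hεε : ∀ k, ∑ p, E p k • col E p = col E k := fun k => by
    funext i
    rw [Finset.sum_apply]
    refine Eq.trans (Finset.sum_congr rfl fun p _ => ?_) (hEE i k)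
    exact mul_comm _ _
  have hw : ∀ k, D₀ (y k) = col E k + ∑ p, y p • D₀ (E p k) := by
    intro k
    have h1 : D₀ (y k) = ∑ i, ∑ p, ((G p i * L i k) • col E p + y p • D₀ (G p i * L i k)) := by
      rw [hydef k, map_sum]
      refine Finset.sum_congr rfl fun i _ => ?_
      rw [Derivation.leibniz, hD₀yb]
      conv_lhs => rw [hyb i]
      simp only [Finset.smul_sum, Finset.sum_smul, ← Finset.sum_add_distrib, Derivation.leibniz]
      refine Finset.sum_congr rfl fun p _ => ?_
      module
    rw [h1, Finset.sum_comm, ← hεε k, ← Finset.sum_add_distrib]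
    refine Finset.sum_congr rfl fun p _ => ?_
    rw [Finset.sum_add_distrib, ← Finset.sum_smul, ← Finset.smul_sum, ← map_sum, ← hEdef]
  let dy : Fin n → Ω[B⁄R] := fun k => KaehlerDifferential.D R B (y k)
  let Φ : (Fin n → B) →ₗ[B] Ω[B⁄R] := Fintype.linearCombination B fun k =>
    KaehlerDifferential.D R B (x k) + ∑ i, E i k • dy i
  let Ψ := D₀.liftKaehlerDifferential
  have hΨΦ : Ψ ∘ₗ Φ = LinearMap.id := by
    apply LinearMap.pi_ext'
    intro k
    apply LinearMap.ext_ring
    show Ψ (Φ (Pi.single k 1)) = Pi.single k 1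
    simp only [Φ, Fintype.linearCombination_apply_single, one_smul, map_add, map_sum, map_smul, dy,
      Ψ, Derivation.liftKaehlerDifferential_comp_D, hDx]
    have h1 := congrArg D₀ (hyE k)
    simp only [map_sum, Derivation.leibniz, Finset.sum_add_distrib] at h1
    rw [hw k, add_left_inj] at h1
    rw [← h1, sub_add_cancel]
  have hEdx : ∀ k, ∑ p, E p k • KaehlerDifferential.D R B (x p) = 0 := fun k => by
    simp only [hEdef, Finset.sum_smul]
    rw [Finset.sum_comm]
    refine Finset.sum_eq_zero fun i _ => ?_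
    simp only [mul_comm (G _ i), mul_smul, ← Finset.smul_sum, hdx, smul_zero]
  have hΦε : ∀ k, Φ (col E k) = ∑ i, E i k • dy i := fun k => by
    simp only [Φ, col, Fintype.linearCombination_apply, smul_add, Finset.sum_add_distrib, hEdx,
      zero_add, Finset.smul_sum, smul_smul]
    rw [Finset.sum_comm]
    refine Finset.sum_congr rfl fun i _ => ?_
    rw [← Finset.sum_smul]
    congr 1
    simp only [mul_comm (E _ k)]
    exact hEE i k
  let D₁ : Derivation R B Ω[B⁄R] := Φ.compDer D₀
  have hD₁x : ∀ k, D₁ (x k) = KaehlerDifferential.D R B (x k) := fun k => by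
    show Φ (D₀ (x k)) = _
    rw [hDx, map_sub, hΦε, sub_eq_iff_eq_add]
    simp [Φ, Fintype.linearCombination_apply_single]
  obtain ⟨hG, hL⟩ := hA D₁ hD₁x
  have hE : ∀ p k, D₁ (E p k) = KaehlerDifferential.D R B (E p k) := fun p k => by
    simp only [hEdef, map_sum, Derivation.leibniz, hG, hL]
  have hy : ∀ k, D₁ (y k) = dy k := fun k => by
    show Φ (D₀ (y k)) = _
    rw [hw, map_add, hΦε, map_sum]
    have h1 : ∀ p, Φ (y p • D₀ (E p k)) = y p • KaehlerDifferential.D R B (E p k) := fun p => by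
      rw [map_smul]; exact congrArg _ (hE p k)
    simp only [h1]
    conv_rhs => rw [show dy k = KaehlerDifferential.D R B (∑ p, E p k * y p) from
      congrArg (fun t => KaehlerDifferential.D R B t) (hyE k)]
    simp only [map_sum, Derivation.leibniz, Finset.sum_add_distrib]
    rfl
  have hyb' : ∀ j, D₁ (yb j) = KaehlerDifferential.D R B (yb j) := fun j => by
    rw [hyb j]
    simp only [map_sum, Derivation.leibniz, hy, dy, hG]
  have hD : D₁ = KaehlerDifferential.D R B := hgen _ _ hD₁x hyb'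
  have hΦΨ : Φ ∘ₗ Ψ = LinearMap.id := by
    refine Derivation.liftKaehlerDifferential_unique _ _ ?_
    ext t
    show Φ (Ψ (KaehlerDifferential.D R B t)) = KaehlerDifferential.D R B t
    rw [Derivation.liftKaehlerDifferential_comp_D, ← hD]
    rfl
  exact Module.Free.of_equiv (LinearEquiv.ofLinear Φ Ψ hΦΨ hΨΦ)

theorem free_kaehler_aux (hφ : Function.Surjective φ)
    (hker : RingHom.ker φ.toRingHom = Ideal.span (Set.range f)) (a : A) {N : ℕ}
    {P : Fin m → Fin n → A} {l : Fin m → ℕ}
    (hl : ∀ j, Rel f φ fun i =>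
      (if i = j then a ^ (N + l j) else 0) - a ^ l j * ∑ k, φ (pderiv k (f j)) * P i k)
    {B : Type u} [CommRing B] [Algebra R B] (ι : A →+* B) (yb : Fin m → B) (u : B)
    (hscal : ∀ c, algebraMap R B c = ι (φ (C c)))
    (hu : ι a ^ N * u = 1) (hua : ∀ l : ℕ, IsUnit (ι a ^ l))
    (hrel : ∀ v, Rel f φ v → ∑ j, ι (v j) * yb j = 0)
    (hlift : ∀ (T : Type u) [CommRing T] (ρ : A →+* T) (z : Fin m → T),
      (∀ v, Rel f φ v → ∑ j, ρ (v j) * z j = 0) → IsUnit (ρ a) →
        ∃ F : B →+* T, (∀ c, F (ι c) = ρ c) ∧ ∀ j, F (yb j) = z j)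
    (hext : ∀ F₁ F₂ : B →+* B, (∀ c, F₁ (ι c) = F₂ (ι c)) → (∀ j, F₁ (yb j) = F₂ (yb j)) → F₁ = F₂)
    (hgen : ∀ D₁ D₂ : Derivation R B Ω[B⁄R], (∀ c, D₁ (ι c) = D₂ (ι c)) →
      (∀ j, D₁ (yb j) = D₂ (yb j)) → D₁ = D₂) :
    Module.Free B Ω[B⁄R] := by
  obtain ⟨hyb, hEG⟩ := splitting_relations hker a hl ι yb u hu hua hrel
  obtain ⟨hEE, hyE⟩ := matrix_identities (jac f φ ι) (fun i k => u * ι (P i k)) yb hyb hEG
  obtain ⟨D₀, hDx, hD₀yb⟩ := exists_derivation hφ hker a ι yb hscal (pow_one (ι a) ▸ hua 1) hrel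
    hlift hext _ _ hEG hyb
  have hι : ∀ D₁ D₂ : Derivation R B Ω[B⁄R],
      (∀ k, D₁ (ι (φ (X k))) = D₂ (ι (φ (X k)))) → ∀ c, D₁ (ι c) = D₂ (ι c) := by
    intro D₁ D₂ h c
    obtain ⟨p, rfl⟩ := hφ c
    rw [← aeval_eq ι hscal, derivation_aeval, derivation_aeval]
    simp only [h]
  refine free_of_derivation (fun k => ι (φ (X k))) (jac f φ ι) (fun i k => u * ι (P i k)) yb _ _
    (fun _ _ => rfl) (fun _ => rfl) hyb hEE hyE D₀ hDx hD₀yb (fun j => ?_) (fun D₁ h => ?_)
    (fun D₁ D₂ h1 h2 => hgen _ _ (hι _ _ h1) h2)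
  · have h := derivation_aeval (KaehlerDifferential.D R B) (fun k => ι (φ (X k))) (f j)
    rw [aeval_eq ι hscal, show φ (f j) = 0 from by
      have h1 : f j ∈ Ideal.span (Set.range f) := Ideal.subset_span ⟨j, rfl⟩
      rw [← hker] at h1; exact h1, map_zero, map_zero] at h
    simp only [aeval_eq ι hscal] at h
    exact h.symm
  · have hc := hι D₁ (KaehlerDifferential.D R B) h
    refine ⟨fun k j => hc _, fun i k => ?_⟩
    have h1 := congrArg D₁ hu
    have h2 := congrArg (KaehlerDifferential.D R B) hu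
    rw [Derivation.leibniz, Derivation.map_one_eq_zero, ← map_pow, hc] at h1
    rw [Derivation.leibniz, Derivation.map_one_eq_zero, ← map_pow, ← h1, add_left_inj] at h2
    have hu' := (map_pow ι a N ▸ hua N).smul_left_cancel.1 h2
    rw [Derivation.leibniz, Derivation.leibniz, hc, hu']

set_option maxHeartbeats 400000 in
theorem free_kaehler (hφ : Function.Surjective φ)
    (hker : RingHom.ker φ.toRingHom = Ideal.span (Set.range f)) (a : A)
    [Algebra.Smooth R (Localization.Away a)] :
    Module.Free (Localization.Away (algebraMap A (SymAlg f φ) a))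
      Ω[Localization.Away (algebraMap A (SymAlg f φ) a)⁄R] := by
  classical
  obtain ⟨N, P, hP⟩ := exists_splitting f φ hφ hker a
  choose l hl using hP
  let b := algebraMap A (SymAlg f φ) a
  let q : MvPolynomial (Fin m) A →+* SymAlg f φ := Ideal.Quotient.mk _
  let j₀ : SymAlg f φ →+* Localization.Away b := algebraMap _ _
  let ι : A →+* Localization.Away b := j₀.comp (algebraMap A (SymAlg f φ))
  refine free_kaehler_aux hφ hker a hl ι (fun j => j₀ (q (X j)))
    (IsLocalization.Away.invSelf b ^ N) (fun c => ?_) ?_ ?_ (fun v hv => ?_) ?_ ?_ ?_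
  · rw [← MvPolynomial.algebraMap_eq, AlgHom.commutes]
    simp only [ι, j₀, RingHom.comp_apply, ← IsScalarTower.algebraMap_apply R A (SymAlg f φ),
      ← IsScalarTower.algebraMap_apply R (SymAlg f φ) (Localization.Away b)]
    rfl
  · show j₀ b ^ N * _ = 1
    rw [← mul_pow, IsLocalization.Away.mul_invSelf, one_pow]
  · exact fun l => (IsLocalization.Away.algebraMap_isUnit b).pow l
  · show ∑ j, j₀ (q (C (v j))) * j₀ (q (X j)) = 0
    simp only [← map_mul, ← map_sum]
    rw [show q (∑ j, C (v j) * X j) = 0 from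
      Ideal.Quotient.eq_zero_iff_mem.2 (Ideal.subset_span ⟨v, hv, rfl⟩), map_zero]
  · intro T _ ρ z hz hu
    let F₀ : MvPolynomial (Fin m) A →+* T := eval₂Hom ρ z
    have hle : relIdeal f φ ≤ RingHom.ker F₀ := by
      refine Ideal.span_le.2 ?_
      rintro _ ⟨v, hv, rfl⟩
      show F₀ _ = 0
      simpa [F₀] using hz v hv
    let F₁ : SymAlg f φ →+* T := Ideal.Quotient.lift _ F₀ fun x hx => hle hx
    have hF₁ : ∀ c, F₁ (algebraMap A (SymAlg f φ) c) = ρ c := fun c => by
      show F₀ (C c) = ρ c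
      exact eval₂Hom_C _ _ _
    have hbu : IsUnit (F₁ b) := by rw [hF₁]; exact hu
    refine ⟨IsLocalization.Away.lift b hbu, fun c => ?_, fun j => ?_⟩
    · exact (IsLocalization.Away.lift_eq b hbu _).trans (hF₁ c)
    · refine (IsLocalization.Away.lift_eq b hbu _).trans ?_
      show F₀ (X j) = z j
      exact eval₂Hom_X' _ _ _
  · intro F₁ F₂ h1 h2
    refine IsLocalization.ringHom_ext (Submonoid.powers b) (Ideal.Quotient.ringHom_ext ?_)
    exact MvPolynomial.ringHom_ext h1 h2
  · intro D₁ D₂ h1 h2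
    refine derivation_eq_of_away b D₁ D₂ fun c => ?_
    obtain ⟨p, rfl⟩ := Ideal.Quotient.mk_surjective c
    induction p using MvPolynomial.induction_on with
    | C c => exact h1 c
    | add p q hp hq => simp [hp, hq]
    | mul_X p i hp =>
      rw [map_mul, map_mul, Derivation.leibniz, Derivation.leibniz, hp]
      exact congrArg (fun w => _ • w + _) (h2 i)

theorem exists_retraction :
    Algebra.FiniteType A (SymAlg f φ) ∧ Nonempty (SymAlg f φ →ₐ[A] A) := by
  refine ⟨inferInstance, ⟨Ideal.Quotient.liftₐ _ (aeval fun _ => (0 : A)) fun z hz => ?_⟩⟩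
  have hle : relIdeal f φ ≤ RingHom.ker (aeval (R := A) fun _ : Fin m => (0 : A)).toRingHom := by
    refine Ideal.span_le.2 ?_
    rintro _ ⟨v, -, rfl⟩
    show aeval _ _ = 0
    simp
  exact hle hz

end Groth.Agent.SmoothingLib.FreeKaehler
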