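import Groth.Agent.SmoothingLib.DimZero
import Groth.Agent.SmoothingLib.DvrIndSmooth
import Mathlib

/-!
# Resolving at a point where the problem factors through the local ring of the base
-/

set_option autoImplicit false
universe u

open TensorProduct IsLocalRing

namespace Groth.Agent.SmoothingLib.CharPTop

set_option maxHeartbeats 800000 in
theorem resolvable_section {R Λ : Type u} [CommRing R] [IsNoetherianRing R] [CommRing Λ] [IsNoetherianRing Λ]
    [Algebra R Λ] (q : Ideal Λ) [q.IsPrime] (K : Ideal R) (hKq : K.map (algebraMap R Λ) ≤ q)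
    (hnil : ∃ N, maximalIdeal (Localization.AtPrime q) ^ N ≤
      (K.map (algebraMap R Λ)).map (algebraMap Λ (Localization.AtPrime q)))
    {A₁ : Type u} [CommRing A₁] [Algebra (R ⧸ K) A₁] [Algebra.FinitePresentation (R ⧸ K) A₁]
    (φ₁ : A₁ →ₐ[R ⧸ K] Λ ⧸ K.map (algebraMap R Λ))
    (σ : A₁ →+* Localization.AtPrime (q.comap (algebraMap R Λ)) ⧸
      K.map (algebraMap R (Localization.AtPrime (q.comap (algebraMap R Λ)))))
    (hσR : ∀ r : R, σ (algebraMap (R ⧸ K) A₁ (Ideal.Quotient.mk K r)) =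
      Ideal.Quotient.mk _ (algebraMap R _ r))
    (hσ : ∀ (a : A₁) (y : Localization.AtPrime (q.comap (algebraMap R Λ))) (z : Λ),
      σ a = Ideal.Quotient.mk _ y → φ₁ a = Ideal.Quotient.mk _ z →
      Localization.localRingHom (q.comap (algebraMap R Λ)) q (algebraMap R Λ) rfl y -
        algebraMap Λ (Localization.AtPrime q) z ∈
        (K.map (algebraMap R Λ)).map (algebraMap Λ (Localization.AtPrime q))) :
    Smoothing.Resolvable (R ⧸ K) φ₁ (q.map (Ideal.Quotient.mk (K.map (algebraMap R Λ)))) := by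
  classical
  by_cases hsing : Smoothing.singRad (R ⧸ K) φ₁ ≤ q.map (Ideal.Quotient.mk (K.map (algebraMap R Λ)))
  swap
  · exact ⟨A₁, inferInstance, inferInstance, inferInstance, AlgHom.id _ _, φ₁, AlgHom.comp_id _, le_rfl, hsing⟩
  set KΛ := K.map (algebraMap R Λ)
  haveI hq₁ : (q.map (Ideal.Quotient.mk KΛ)).IsPrime :=
    Ideal.map_isPrime_of_surjective Ideal.Quotient.mk_surjective (by rw [Ideal.mk_ker]; exact hKq)
  have hq₁c : (q.map (Ideal.Quotient.mk KΛ)).comap (Ideal.Quotient.mk KΛ) = q := by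
    rw [Ideal.comap_map_of_surjective _ Ideal.Quotient.mk_surjective, ← RingHom.ker_eq_comap_bot, Ideal.mk_ker,
      sup_eq_left.2 hKq]
  set P' := q.comap (algebraMap R Λ) with hP'
  set P₁ := (q.map (Ideal.Quotient.mk KΛ)).comap (algebraMap (R ⧸ K) (Λ ⧸ KΛ)) with hP₁
  have hP₁c : ∀ r : R, Ideal.Quotient.mk K r ∈ P₁ ↔ r ∈ P' := fun r => by
    rw [hP₁, Ideal.mem_comap, show algebraMap (R ⧸ K) (Λ ⧸ KΛ) (Ideal.Quotient.mk K r) =
      Ideal.Quotient.mk KΛ (algebraMap R Λ r) from rfl, ← Ideal.mem_comap, hq₁c]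
    rfl
  let KR : Ideal (Localization.AtPrime P') := K.map (algebraMap R (Localization.AtPrime P'))
  haveI : IsLocalization.AtPrime (Localization.AtPrime P' ⧸ KR) P₁ := by
    have e : Algebra.algebraMapSubmonoid (R ⧸ K) P'.primeCompl = P₁.primeCompl := by
      ext x
      constructor
      · rintro ⟨y, hy, rfl⟩ hmem
        exact hy ((hP₁c y).mp hmem)
      · intro hx
        obtain ⟨y, rfl⟩ := Ideal.Quotient.mk_surjective x
        exact ⟨y, fun hy => hx ((hP₁c y).mpr hy), rfl⟩
    show IsLocalization _ _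
    rw [← e]
    infer_instance
  let Kq : Ideal (Localization.AtPrime q) := KΛ.map (algebraMap Λ (Localization.AtPrime q))
  haveI hloc : IsLocalization.AtPrime (Localization.AtPrime q ⧸ Kq) (q.map (Ideal.Quotient.mk KΛ)) := by
    have e : Algebra.algebraMapSubmonoid (Λ ⧸ KΛ) q.primeCompl = (q.map (Ideal.Quotient.mk KΛ)).primeCompl := by
      ext x
      constructor
      · rintro ⟨y, hy, rfl⟩ hmem
        exact hy (hq₁c ▸ hmem)
      · intro hx
        obtain ⟨y, rfl⟩ := Ideal.Quotient.mk_surjective x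
        exact ⟨y, fun hy => hx (Ideal.mem_map_of_mem _ hy), rfl⟩
    show IsLocalization _ _
    rw [← e]
    infer_instance
  let φloc := Localization.localRingHom P' q (algebraMap R Λ) rfl
  have hφloc : ∀ r, φloc (algebraMap R _ r) = algebraMap Λ _ (algebraMap R Λ r) := fun r =>
    Localization.localRingHom_to_map _ _ _ rfl r
  let ρ : (Localization.AtPrime P' ⧸ KR) →+* Localization.AtPrime q ⧸ Kq :=
    Ideal.quotientMap Kq φloc (Ideal.map_le_iff_le_comap.mpr fun r hr => by
      rw [Ideal.mem_comap, Ideal.mem_comap, hφloc]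
      exact Ideal.mem_map_of_mem _ (Ideal.mem_map_of_mem _ hr))
  letI : Algebra (Localization.AtPrime P' ⧸ KR) (Localization.AtPrime q ⧸ Kq) := ρ.toAlgebra
  letI : Algebra (R ⧸ K) (Localization.AtPrime q ⧸ Kq) :=
    ((algebraMap (Λ ⧸ KΛ) (Localization.AtPrime q ⧸ Kq)).comp (algebraMap (R ⧸ K) (Λ ⧸ KΛ))).toAlgebra
  haveI : IsScalarTower (R ⧸ K) (Λ ⧸ KΛ) (Localization.AtPrime q ⧸ Kq) := IsScalarTower.of_algebraMap_eq' rfl
  haveI : IsScalarTower (R ⧸ K) (Localization.AtPrime P' ⧸ KR) (Localization.AtPrime q ⧸ Kq) :=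
    IsScalarTower.of_algebraMap_eq (R := R ⧸ K) (S := Localization.AtPrime P' ⧸ KR)
      (A := Localization.AtPrime q ⧸ Kq) fun x => by
        obtain ⟨r, rfl⟩ := Ideal.Quotient.mk_surjective x
        exact congrArg (Ideal.Quotient.mk Kq) (hφloc r).symm
  let σ₁ : A₁ →ₐ[R ⧸ K] Localization.AtPrime P' ⧸ KR :=
    { σ with
      commutes' := fun x => by
        obtain ⟨r, rfl⟩ := Ideal.Quotient.mk_surjective x
        exact hσR r }
  haveI : IsLocalRing (Localization.AtPrime q ⧸ Kq) :=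
    IsLocalization.AtPrime.isLocalRing _ (q.map (Ideal.Quotient.mk KΛ))
  obtain ⟨N, hN⟩ := hnil
  have hdim : ringKrullDim (Localization.AtPrime q ⧸ Kq) = 0 := by
    haveI : Ring.KrullDimLE 0 (Localization.AtPrime q ⧸ Kq) := by
      refine Ring.krullDimLE_zero_iff.2 fun P hP => ?_
      have h1 : maximalIdeal (Localization.AtPrime q ⧸ Kq) ≤ P := by
        rw [← IsLocalRing.map_maximalIdeal_of_surjective _ (Ideal.Quotient.mk_surjective (I := Kq))]
        refine (Ideal.IsPrime.pow_le_iff (P := P) (n := N + 1) (Nat.succ_ne_zero N)).1 ?_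
        rw [← Ideal.map_pow]
        refine (Ideal.map_mono ((Ideal.pow_le_pow_right (Nat.le_succ N)).trans hN)).trans ?_
        rw [Ideal.map_quotient_self]; exact bot_le
      rw [← (IsLocalRing.maximalIdeal.isMaximal _).eq_of_le hP.ne_top h1]
      exact IsLocalRing.maximalIdeal.isMaximal _
    exact le_antisymm (Ring.krullDimLE_iff.1 inferInstance) ringKrullDim_nonneg_of_nontrivial
  haveI : IsNoetherianRing (R ⧸ K) := inferInstance
  refine DimZero.resolvable_of_dim_zero φ₁ _ ?_ (Rₚ := Localization.AtPrime P' ⧸ KR)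
    (Λq := Localization.AtPrime q ⧸ Kq) hdim ?_
  · refine ⟨⟨hq₁, hsing⟩, fun P ⟨hP, _⟩ hPq => ?_⟩
    intro x hx
    obtain ⟨y, rfl⟩ := Ideal.Quotient.mk_surjective x
    rw [← Ideal.mem_comap, hq₁c] at hx
    have h1 : algebraMap Λ (Localization.AtPrime q) (y ^ (N + 1)) ∈ Kq := by
      rw [map_pow]
      exact hN (Ideal.pow_le_pow_right (Nat.le_succ N) (Ideal.pow_mem_pow
        ((IsLocalization.AtPrime.to_map_mem_maximal_iff _ q y).mpr hx) (N + 1)))
    obtain ⟨s, hs, hsy⟩ := (IsLocalization.algebraMap_mem_map_algebraMap_iff q.primeCompl _ KΛ _).mp h1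
    have h2 : Ideal.Quotient.mk KΛ (s * y ^ (N + 1)) ∈ P := by
      rw [Ideal.Quotient.eq_zero_iff_mem.mpr hsy]; exact P.zero_mem
    rw [map_mul, map_pow] at h2
    refine hP.mem_of_pow_mem (N + 1) ((hP.mem_or_mem h2).resolve_left fun hsP => hs ?_)
    rw [← hq₁c]
    exact hPq hsP
  · refine ⟨Localization.AtPrime P' ⧸ KR, inferInstance, inferInstance, inferInstance,
      Algebra.TensorProduct.lift (Algebra.ofId _ _) σ₁ (fun _ _ => Commute.all _ _),
      Algebra.ofId _ _, ?_, ?_, ?_⟩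
    · refine Algebra.TensorProduct.ext' fun c a => ?_
      simp only [AlgHom.comp_apply, Algebra.TensorProduct.lift_tmul, map_mul, Algebra.ofId_apply,
        Algebra.algebraMap_self_apply, IsScalarTower.coe_toAlgHom']
      congr 1
      obtain ⟨y, hy⟩ := Ideal.Quotient.mk_surjective (σ a)
      obtain ⟨z, hz⟩ := Ideal.Quotient.mk_surjective (φ₁ a)
      show ρ (σ a) = algebraMap (Λ ⧸ KΛ) (Localization.AtPrime q ⧸ Kq) (φ₁ a)
      rw [← hy, ← hz]
      exact Ideal.Quotient.eq.mpr (hσ a y z hy.symm hz.symm)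
    all_goals
      have htop : Smoothing.singRad (Localization.AtPrime P' ⧸ KR)
          (Algebra.ofId (Localization.AtPrime P' ⧸ KR) (Localization.AtPrime q ⧸ Kq)) = ⊤ := by
        rw [Ideal.eq_top_iff_one]
        refine Ideal.le_radical ?_
        rw [← map_one (Algebra.ofId (Localization.AtPrime P' ⧸ KR) (Localization.AtPrime q ⧸ Kq))]
        exact Ideal.mem_map_of_mem _ (DvrIndSmooth.mem_singularIdeal_of_smooth_top 1)
      rw [htop]
    · exact le_top
    · intro hle
      have h1 := IsLocalization.AtPrime.map_eq_maximalIdeal (q.map (Ideal.Quotient.mk KΛ))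
        (Localization.AtPrime q ⧸ Kq)
      rw [h1, top_le_iff] at hle
      exact (IsLocalRing.maximalIdeal.isMaximal _).ne_top hle

end Groth.Agent.SmoothingLib.CharPTop
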