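import Groth.Agent.SmoothingLib.CharPBase
import Groth.Agent.SmoothingLib.CharPTop
import Groth.Agent.SmoothingLib.RegularResolve
import Groth.Agent.JacAdic16.GeomReg
import Groth.Agent.S2471
import Mathlib

/-!
# Resolving over a field of positive characteristic
-/

set_option autoImplicit false
universe u

open MvPolynomial TensorProduct

namespace Groth.Agent.SmoothingLib.CharPResolve

open RegularResolve DesingStd

variable {k : Type u} [Field k]

set_option maxHeartbeats 1600000 in
theorem resolvable_geometricallyRegular (p : ℕ) [Fact p.Prime] [CharP k p]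
    {A Λ : Type u} [CommRing A] [Algebra k A] [Algebra.FinitePresentation k A]
    [CommRing Λ] [Algebra k Λ] [IsNoetherianRing Λ] (hreg : CAlg.IsGeometricallyRegular k Λ)
    (φ : A →ₐ[k] Λ) (q : Ideal Λ) [q.IsPrime]
    (hmin : q ∈ (Smoothing.singRad k φ).minimalPrimes) : Smoothing.Resolvable k φ q := by
  classical
  have hFS := JacAdic16.GeomReg.adic_of_geomRegular (JacAdic16.GeomReg.localization hreg q)
  obtain ⟨hregloc, -⟩ := Groth.Agent.S2471.result.mp hFS
  haveI := hregloc
  haveI : IsNoetherianRing A := Algebra.FiniteType.isNoetherianRing k A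
  obtain ⟨d, hd, -⟩ := RegLoc.exists_natCast_eq_ringKrullDim (Localization.AtPrime q)
  obtain ⟨r, a, ha⟩ := Submodule.fg_iff_exists_fin_generating_family.1
    (IsNoetherian.noetherian (Smoothing.singularIdeal k A))
  have hal : ∀ l, a l ∈ Smoothing.singularIdeal k A := fun l => ha ▸ Submodule.subset_span ⟨l, rfl⟩
  let I : Ideal Λ := (Smoothing.singularIdeal k A).map φ
  have hI : I = Ideal.span (Set.range fun l => φ (a l)) := by
    show Ideal.map φ _ = _
    rw [← ha, ← Ideal.span, Ideal.map_span, ← Set.range_comp]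
    rfl
  have hIq : I ≤ q := Ideal.le_radical.trans hmin.1.2
  obtain ⟨n, hn, hpow⟩ := exists_pow_le φ q hmin
  letI : Algebra (MvPolynomial (Fin d) k) (Model a n d) := (xs a n).toRingHom.toAlgebra
  haveI : IsScalarTower k (MvPolynomial (Fin d) k) (Model a n d) :=
    IsScalarTower.of_algebraMap_eq fun c => ((xs a n).commutes c).symm
  haveI : Algebra.FinitePresentation k (Model a n d) := by
    haveI : Algebra.FinitePresentation k (MvPolynomial (Fin d ⊕ (Fin d × Fin r)) A) :=
      Algebra.FinitePresentation.trans k A _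
    exact Algebra.FinitePresentation.quotient (Submodule.fg_def.2 ⟨_, Set.finite_range _, rfl⟩)
  haveI : Algebra.FinitePresentation (MvPolynomial (Fin d) k) (Model a n d) :=
    Algebra.FinitePresentation.of_restrict_scalars_finitePresentation k _ _
  have hB : ∀ l, Ideal.Quotient.mk (modelI (d := d) a n) (MvPolynomial.C (a l)) ∈
      Smoothing.singularIdeal (MvPolynomial (Fin d) k) (Model a n d) := fun l =>
    mem_singularIdeal_model a n (fun p => rfl) l (hal l)
  obtain ⟨C', _, _, hC', ι, ρ, hρι, hιsing, hιstd⟩ :=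
    SymSmooth.exists_retract_strictlyStandard (R := MvPolynomial (Fin d) k) (A := Model a n d)
  haveI := hC'
  have hXn : ∀ i, algebraMap (MvPolynomial (Fin d) k) (Model a n d) (X i) ^ n ∈
      Smoothing.singularIdeal (MvPolynomial (Fin d) k) (Model a n d) := fun i => by
    have h0 : Ideal.Quotient.mk (modelI a n) (rel (d := d) a n i) = 0 :=
      Ideal.Quotient.eq_zero_iff_mem.2 (Ideal.subset_span ⟨i, rfl⟩)
    rw [rel, map_sub, map_pow, map_sum, sub_eq_zero] at h0
    rw [show algebraMap (MvPolynomial (Fin d) k) (Model a n d) (X i) =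
      Ideal.Quotient.mk (modelI a n) (X (Sum.inl i)) from aeval_X _ _, h0]
    exact Ideal.sum_mem _ fun l _ => by rw [map_mul]; exact Ideal.mul_mem_right _ _ (hB l)
  choose e₀ he₀ using fun i => hιstd _ (hXn i)
  let M : ℕ := n * ((∑ i, e₀ i) + 1)
  have hM : 0 < M := Nat.mul_pos hn (Nat.succ_pos _)
  have hstd : ∀ i, Smoothing.IsStrictlyStandard (MvPolynomial (Fin d) k) C'
      (algebraMap (MvPolynomial (Fin d) k) C' (X i ^ M)) := fun i => by
    have h1 := he₀ i ((∑ i, e₀ i) + 1)
      (le_trans (Finset.single_le_sum (fun j _ => Nat.zero_le (e₀ j)) (Finset.mem_univ i)) (Nat.le_succ _))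
    rwa [← map_pow ι, ← pow_mul, ← map_pow (algebraMap _ (Model a n d)), AlgHom.commutes] at h1
  obtain ⟨π, hπgen, hπI, -⟩ := Params.exists_parameters I q hIq n (M * 8) d hn
    (Nat.mul_pos hM (by norm_num)) hpow hd
  choose lam hlam using fun i => (Ideal.mem_span_range_iff_exists_fun).1 (hI ▸ hπI i)
  let v : Fin d ⊕ (Fin d × Fin r) → Λ := Sum.elim π fun il => lam il.1 il.2
  let ψ₀ : MvPolynomial (Fin d ⊕ (Fin d × Fin r)) A →ₐ[k] Λ := MvPolynomial.aevalTower φ v
  have hψ₀ : ∀ p ∈ modelI (d := d) a n, ψ₀ p = 0 := by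
    have hle : modelI (d := d) a n ≤ RingHom.ker ψ₀.toRingHom := Ideal.span_le.2 (by
      rintro _ ⟨i, rfl⟩
      show ψ₀ (rel a n i) = 0
      simp only [rel, map_sub, map_pow, map_sum, map_mul, ψ₀, MvPolynomial.aevalTower_C,
        MvPolynomial.aevalTower_X, v, Sum.elim_inl, Sum.elim_inr]
      rw [← hlam, sub_eq_zero]
      exact Finset.sum_congr rfl fun l _ => mul_comm _ _)
    exact fun p hp => hle hp
  let ψ₁ : Model a n d →ₐ[k] Λ := Ideal.Quotient.liftₐ (R₁ := k) (modelI a n) ψ₀ hψ₀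
  have hπq : ∀ i, π i ∈ q := fun i =>
    ‹q.IsPrime›.mem_of_pow_mem n (hIq (hπI i))
  have hψxs : ∀ p, ψ₁ (algebraMap (MvPolynomial (Fin d) k) (Model a n d) p) = aeval π p :=
    DFunLike.congr_fun (show ψ₁.comp (xs a n) = aeval π from
      algHom_ext fun i => by simp [ψ₁, xs, ψ₀, v])
  -- generators of `C'`
  obtain ⟨nC, πC, hπC, -⟩ := ‹Algebra.FinitePresentation (MvPolynomial (Fin d) k) C'›.out
  let wC : Fin nC → Λ := fun j => ψ₁ (ρ (πC (X j)))
  -- the base ring
  obtain ⟨R', _, _, hR', ψ, x, h, c, hψx, hψh, hcondR, hcondΛ, hRq, hRal, T, hTx, hTk, hTker, hTE⟩ :=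
    CharPBase.exists_base_ring p q hFS hd π hπgen hπq (fun l => φ (a l))
      (fun l => hIq (Ideal.mem_map_of_mem φ (hal l))) (M * 8) (by omega) (Finset.univ.image wC)
  haveI := hR'
  haveI : IsNoetherianRing R' := Algebra.FiniteType.isNoetherianRing k R'
  letI : Algebra (MvPolynomial (Fin d) k) R' := (aeval x).toRingHom.toAlgebra
  haveI : IsScalarTower k (MvPolynomial (Fin d) k) R' :=
    IsScalarTower.of_algebraMap_eq fun c => ((aeval x).commutes c).symm
  letI : Algebra R' Λ := ψ.toRingHom.toAlgebra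
  haveI : IsScalarTower k R' Λ := IsScalarTower.of_algebraMap_eq fun c => (ψ.commutes c).symm
  letI : Algebra (MvPolynomial (Fin d) k) Λ := (aeval π).toRingHom.toAlgebra
  haveI : IsScalarTower (MvPolynomial (Fin d) k) R' Λ := IsScalarTower.of_algebraMap_eq fun p =>
    (DFunLike.congr_fun (show ψ.comp (aeval x) = aeval π from algHom_ext fun i => by simp [hψx]) p).symm
  let ψm : Model a n d →ₐ[MvPolynomial (Fin d) k] Λ := { ψ₁.toRingHom with commutes' := hψxs }
  let φ' : C' →ₐ[MvPolynomial (Fin d) k] Λ := ψm.comp ρ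
  let φR : R' ⊗[MvPolynomial (Fin d) k] C' →ₐ[R'] Λ :=
    Algebra.TensorProduct.lift (Algebra.ofId R' Λ) φ' fun _ _ => Commute.all _ _
  let π' : Fin d → R' := fun i => (h ^ c i * x i) ^ M
  obtain ⟨K, hK⟩ : ∃ K : Ideal R', K = Ideal.span (Set.range fun i => π' i ^ 8) := ⟨_, rfl⟩
  have hπ'q : ∀ i, algebraMap R' Λ (π' i) ∈ q := fun i => by
    show ψ ((h ^ c i * x i) ^ M) ∈ q
    rw [map_pow, map_mul, hψx]
    exact Ideal.pow_mem_of_mem _ (Ideal.mul_mem_left _ _ (hπq i)) M hM
  have hstd' : ∀ i, Smoothing.IsStrictlyStandard R' (R' ⊗[MvPolynomial (Fin d) k] C')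
      (algebraMap R' (R' ⊗[MvPolynomial (Fin d) k] C') (π' i)) := fun i => by
    have h1 := CharPTools.isStrictlyStandard_mul (isStrictlyStandard_baseChange R' (hstd i))
      (((h ^ c i) ^ M) ⊗ₜ (1 : C'))
    have e : ((h ^ c i) ^ M) ⊗ₜ[MvPolynomial (Fin d) k] (1 : C') *
        (1 : R') ⊗ₜ[MvPolynomial (Fin d) k] algebraMap (MvPolynomial (Fin d) k) C' (X i ^ M) =
        algebraMap R' (R' ⊗[MvPolynomial (Fin d) k] C') (π' i) := by
      rw [Algebra.TensorProduct.tmul_mul_tmul, one_mul, mul_one, Algebra.TensorProduct.algebraMap_apply,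
        Algebra.algebraMap_self_apply, Algebra.algebraMap_eq_smul_one, ← TensorProduct.smul_tmul]
      congr 1
      show (X i ^ M : MvPolynomial (Fin d) k) • (h ^ c i) ^ M = _
      rw [Algebra.smul_def, show algebraMap (MvPolynomial (Fin d) k) R' (X i ^ M) = aeval x (X i ^ M) from rfl,
        map_pow, aeval_X]
      show x i ^ M * (h ^ c i) ^ M = (h ^ c i * x i) ^ M
      ring
    rwa [e] at h1
  haveI : Algebra.FinitePresentation (R' ⧸ K)
      ((R' ⊗[MvPolynomial (Fin d) k] C') ⧸ K.map (algebraMap R' (R' ⊗[MvPolynomial (Fin d) k] C'))) := by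
    haveI : Algebra.FinitePresentation R'
        ((R' ⊗[MvPolynomial (Fin d) k] C') ⧸ K.map (algebraMap R' (R' ⊗[MvPolynomial (Fin d) k] C'))) :=
      Algebra.FinitePresentation.quotient (Ideal.FG.map (IsNoetherian.noetherian K) _)
    exact Algebra.FinitePresentation.of_restrict_scalars_finitePresentation R' _ _
  let φK₀ : R' ⊗[MvPolynomial (Fin d) k] C' →ₐ[R'] Λ ⧸ K.map (algebraMap R' Λ) :=
    (Ideal.Quotient.mkₐ _ _).comp φR
  have hφK₀ : ∀ y ∈ K.map (algebraMap R' (R' ⊗[MvPolynomial (Fin d) k] C')), φK₀ y = 0 := by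
    have hle : K.map (algebraMap R' (R' ⊗[MvPolynomial (Fin d) k] C')) ≤ RingHom.ker φK₀.toRingHom :=
      Ideal.map_le_iff_le_comap.2 fun c hc => by
        show φK₀ (algebraMap R' _ c) = 0
        rw [AlgHom.commutes]
        exact Ideal.Quotient.eq_zero_iff_mem.2 (Ideal.mem_map_of_mem _ hc)
    exact fun y hy => hle hy
  let φK₁ := Ideal.Quotient.liftₐ (R₁ := R') _ φK₀ hφK₀
  let φK : ((R' ⊗[MvPolynomial (Fin d) k] C') ⧸ K.map (algebraMap R' (R' ⊗[MvPolynomial (Fin d) k] C')))
      →ₐ[R' ⧸ K] Λ ⧸ K.map (algebraMap R' Λ) :=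
    { φK₁.toRingHom with
      commutes' := fun c => by
        obtain ⟨c, rfl⟩ := Ideal.Quotient.mk_surjective c
        exact φK₁.commutes c }
  -- the section
  let fR := algebraMap R' (Localization.AtPrime (q.comap (algebraMap R' Λ)))
  let KR : Ideal (Localization.AtPrime (q.comap (algebraMap R' Λ))) := K.map fR
  let φloc := Localization.localRingHom (q.comap (algebraMap R' Λ)) q (algebraMap R' Λ) rfl
  have hφloc : ∀ y, φloc (fR y) = algebraMap Λ (Localization.AtPrime q) (algebraMap R' Λ y) := fun y =>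
    Localization.localRingHom_to_map _ _ _ rfl y
  set Ie := Ideal.span (Set.range fun i => algebraMap Λ (Localization.AtPrime q) (π i) ^ (M * 8))
  have hKR : KR = Ideal.span (Set.range fun i => fR ((h ^ c i * x i) ^ (M * 8))) := by
    show K.map fR = _
    rw [hK, Ideal.map_span, ← Set.range_comp]
    simp only [Function.comp_def, π', ← pow_mul]
  have hKΛ : (K.map (algebraMap R' Λ)).map (algebraMap Λ (Localization.AtPrime q)) = Ie := by
    rw [hK, Ideal.map_span, ← Set.range_comp, Ideal.map_span, ← Set.range_comp]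
    refine le_antisymm (Ideal.span_le.2 ?_) (Ideal.span_le.2 ?_)
    · rintro _ ⟨i, rfl⟩
      show algebraMap Λ _ (ψ (((h ^ c i * x i) ^ M) ^ 8)) ∈ Ie
      rw [← pow_mul, map_pow, map_pow, map_mul, map_mul, hψx, mul_pow]
      exact Ideal.mul_mem_left _ _ (Ideal.subset_span ⟨i, rfl⟩)
    · rintro _ ⟨i, rfl⟩
      have hu : IsUnit (algebraMap Λ (Localization.AtPrime q) (ψ (h ^ c i)) ^ (M * 8)) :=
        (IsLocalization.map_units (Localization.AtPrime q) (⟨ψ (h ^ c i), fun hmem => hψh
          (Ideal.IsPrime.mem_of_pow_mem ‹q.IsPrime› (c i) ((map_pow ψ h (c i)) ▸ hmem))⟩ : q.primeCompl)).pow _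
      refine (Ideal.unit_mul_mem_iff_mem _ hu).mp ?_
      refine Ideal.subset_span ⟨i, ?_⟩
      show algebraMap Λ _ (ψ (((h ^ c i * x i) ^ M) ^ 8)) =
        algebraMap Λ _ (ψ (h ^ c i)) ^ (M * 8) * algebraMap Λ _ (π i) ^ (M * 8)
      rw [← pow_mul, map_pow, map_pow, map_mul, map_mul, hψx, mul_pow]
  have hnil : ∃ N, IsLocalRing.maximalIdeal (Localization.AtPrime q) ^ N ≤
      (K.map (algebraMap R' Λ)).map (algebraMap Λ (Localization.AtPrime q)) := by
    rw [hKΛ]
    refine Ideal.exists_pow_le_of_le_radical_of_fg ?_ (IsNoetherian.noetherian _)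
    rw [← Localization.AtPrime.map_eq_maximalIdeal, ← hπgen, Ideal.span_le]
    rintro _ ⟨i, rfl⟩
    exact ⟨M * 8, Ideal.subset_span ⟨i, rfl⟩⟩
  let polyT : MvPolynomial (Fin d) k →+* Localization.AtPrime (q.comap (algebraMap R' Λ)) :=
    fR.comp (aeval x).toRingHom
  choose yv hyv hyvw using fun j => hTE (wC j) (Finset.mem_image_of_mem wC (Finset.mem_univ j))
  let Θ₀ : MvPolynomial (Fin nC) (MvPolynomial (Fin d) k) →+*
      Localization.AtPrime (q.comap (algebraMap R' Λ)) := eval₂Hom polyT yv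
  have hpolyT : ∀ p, polyT p ∈ T := fun p => by
    induction p using MvPolynomial.induction_on with
    | C z =>
      show fR (aeval x (C z)) ∈ T
      rw [aeval_C]; exact hTk z
    | add p q hp hq => rw [map_add]; exact add_mem hp hq
    | mul_X p i hp =>
      rw [map_mul]
      refine mul_mem hp ?_
      show fR (aeval x (X i)) ∈ T
      rw [aeval_X]; exact hTx i
  have hΘT : ∀ P, Θ₀ P ∈ T := fun P => by
    induction P using MvPolynomial.induction_on with
    | C z => rw [show Θ₀ (C z) = polyT z from eval₂Hom_C _ _ _]; exact hpolyT z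
    | add p q hp hq => rw [map_add]; exact add_mem hp hq
    | mul_X p i hp =>
      rw [map_mul, show Θ₀ (X i) = yv i from eval₂Hom_X' _ _ _]
      exact mul_mem hp (hyv i)
  have hΘcompat : ∀ P, φloc (Θ₀ P) - algebraMap Λ (Localization.AtPrime q) (φ' (πC P)) ∈ Ie := fun P => by
    induction P using MvPolynomial.induction_on with
    | C z =>
      rw [show Θ₀ (C z) = polyT z from eval₂Hom_C _ _ _, ← MvPolynomial.algebraMap_eq, AlgHom.commutes,
        AlgHom.commutes]
      show φloc (fR (aeval x z)) - _ ∈ Ie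
      rw [hφloc, show aeval x z = algebraMap (MvPolynomial (Fin d) k) R' z from rfl,
        ← IsScalarTower.algebraMap_apply (MvPolynomial (Fin d) k) R' Λ, sub_self]
      exact zero_mem _
    | add p q hp hq => simp only [map_add]; rw [add_sub_add_comm]; exact add_mem hp hq
    | mul_X p i hp =>
      simp only [map_mul]
      rw [show Θ₀ (X i) = yv i from eval₂Hom_X' _ _ _]
      have h2 : φloc (yv i) - algebraMap Λ (Localization.AtPrime q) (φ' (πC (X i))) ∈ Ie := hyvw i
      have h3 := add_mem (Ideal.mul_mem_right (φloc (yv i)) _ hp)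
        (Ideal.mul_mem_left _ (algebraMap Λ (Localization.AtPrime q) (φ' (πC p))) h2)
      ring_nf at h3 ⊢
      exact h3
  let Θ : MvPolynomial (Fin nC) (MvPolynomial (Fin d) k) →+*
      Localization.AtPrime (q.comap (algebraMap R' Λ)) ⧸ KR := (Ideal.Quotient.mk KR).comp Θ₀
  have hΘker : RingHom.ker πC.toRingHom ≤ RingHom.ker Θ := fun P hP => by
    show Ideal.Quotient.mk KR (Θ₀ P) = 0
    rw [Ideal.Quotient.eq_zero_iff_mem, hKR]
    refine hTker _ (hΘT P) ?_
    have h1 := hΘcompat P
    rw [show πC P = 0 from hP, map_zero, map_zero, sub_zero] at h1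
    exact h1
  let σC : C' →+* Localization.AtPrime (q.comap (algebraMap R' Λ)) ⧸ KR :=
    RingHom.liftOfSurjective πC.toRingHom hπC ⟨Θ, hΘker⟩
  have hσC : ∀ P, σC (πC P) = Θ P := fun P =>
    RingHom.liftOfRightInverse_comp_apply πC.toRingHom (Function.surjInv hπC)
      (Function.rightInverse_surjInv hπC) ⟨Θ, hΘker⟩ P
  let σC' : C' →ₐ[MvPolynomial (Fin d) k] Localization.AtPrime (q.comap (algebraMap R' Λ)) ⧸ KR :=
    { σC with
      commutes' := fun z => by
        show σC (algebraMap _ C' z) = _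
        rw [← πC.commutes, hσC]
        show Ideal.Quotient.mk KR (Θ₀ (C z)) = _
        rw [show Θ₀ (C z) = polyT z from eval₂Hom_C _ _ _,
          IsScalarTower.algebraMap_apply (MvPolynomial (Fin d) k) R'
            (Localization.AtPrime (q.comap (algebraMap R' Λ)) ⧸ KR)]
        rfl }
  let σR : R' ⊗[MvPolynomial (Fin d) k] C' →ₐ[R'] Localization.AtPrime (q.comap (algebraMap R' Λ)) ⧸ KR :=
    Algebra.TensorProduct.lift (Algebra.ofId R' _) σC' fun _ _ => Commute.all _ _
  have hσker : ∀ y ∈ K.map (algebraMap R' (R' ⊗[MvPolynomial (Fin d) k] C')), σR y = 0 := by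
    have hle : K.map (algebraMap R' (R' ⊗[MvPolynomial (Fin d) k] C')) ≤ RingHom.ker σR.toRingHom :=
      Ideal.map_le_iff_le_comap.2 fun c hc => by
        show σR (algebraMap R' _ c) = 0
        rw [AlgHom.commutes]
        exact Ideal.Quotient.eq_zero_iff_mem.2 (Ideal.mem_map_of_mem _ hc)
    exact fun y hy => hle hy
  let σ : ((R' ⊗[MvPolynomial (Fin d) k] C') ⧸ K.map (algebraMap R' (R' ⊗[MvPolynomial (Fin d) k] C'))) →+*
      Localization.AtPrime (q.comap (algebraMap R' Λ)) ⧸ KR := Ideal.Quotient.lift _ σR.toRingHom hσker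
  let ρq : (Localization.AtPrime (q.comap (algebraMap R' Λ)) ⧸ KR) →+* Localization.AtPrime q ⧸ Ie :=
    Ideal.quotientMap Ie φloc (by
      rw [← hKΛ]
      exact Ideal.map_le_iff_le_comap.mpr fun y hy => by
        show φloc (fR y) ∈ (K.map (algebraMap R' Λ)).map (algebraMap Λ (Localization.AtPrime q))
        rw [hφloc]
        exact Ideal.mem_map_of_mem _ (Ideal.mem_map_of_mem _ hy))
  have hσΛ : ∀ y, ρq (σR y) = Ideal.Quotient.mk Ie (algebraMap Λ (Localization.AtPrime q) (φR y)) := by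
    intro y
    induction y using TensorProduct.induction_on with
    | zero => simp
    | add y z hy hz => simp only [map_add, hy, hz]
    | tmul y z =>
      obtain ⟨P, rfl⟩ := hπC z
      simp only [σR, φR, Algebra.TensorProduct.lift_tmul, map_mul, Algebra.ofId_apply]
      refine congrArg₂ (· * ·) (congrArg (Ideal.Quotient.mk Ie) (hφloc y)) ?_
      show ρq (σC (πC P)) = _
      rw [hσC]
      exact Ideal.Quotient.eq.mpr (hΘcompat P)
  have htop : Smoothing.Resolvable (R' ⧸ K) φK (q.map (Ideal.Quotient.mk (K.map (algebraMap R' Λ)))) := by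
    refine CharPTop.resolvable_section q K ?_ hnil φK σ ?_ ?_
    · rw [hK, Ideal.map_le_iff_le_comap, Ideal.span_le]
      rintro _ ⟨i, rfl⟩
      show algebraMap R' Λ (π' i ^ 8) ∈ q
      rw [map_pow]; exact Ideal.pow_mem_of_mem _ (hπ'q i) 8 (by norm_num)
    · intro y
      show σR (algebraMap R' _ y) = _
      rw [AlgHom.commutes]; rfl
    · intro y u z hu hz
      obtain ⟨y, rfl⟩ := Ideal.Quotient.mk_surjective y
      rw [hKΛ, ← Ideal.Quotient.eq]
      have h1 := hσΛ y
      rw [show σR y = Ideal.Quotient.mk KR u from hu] at h1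
      refine h1.trans (Ideal.Quotient.eq.mpr ?_)
      rw [← map_sub, ← hKΛ]
      exact Ideal.mem_map_of_mem _ (Ideal.Quotient.eq.mp (show Ideal.Quotient.mk _ (φR y) = _ from hz))
  have hres := ResolveMod.resolvable_of_resolvable_mod φR q π'
    (fun i y hy => CharPTools.pow_cond (fun i => h ^ c i * x i) hM hcondR i y hy)
    (fun i y hy => by
      have key : ∀ j, algebraMap R' Λ (π' j) = (ψ h ^ c j * π j) ^ M := fun j => by
        show ψ _ = _
        rw [map_pow, map_mul, map_pow, hψx]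
      obtain ⟨y, rfl⟩ := Ideal.Quotient.mk_surjective y
      rw [← map_pow, ← map_mul, Ideal.Quotient.eq_zero_iff_mem] at hy
      rw [← map_mul, Ideal.Quotient.eq_zero_iff_mem]
      simp only [key] at hy ⊢
      have h1 := CharPTools.pow_cond (fun i => ψ h ^ c i * π i) hM hcondΛ i (Ideal.Quotient.mk _ y) (by
        rw [← map_pow, ← map_mul, Ideal.Quotient.eq_zero_iff_mem]; exact hy)
      rwa [← map_mul, Ideal.Quotient.eq_zero_iff_mem] at h1)
    hstd' K hK φK (fun y => rfl) hπ'q htop
  obtain ⟨D, _, _, hD, g, hD', hgh, hle, hnle⟩ := hres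
  haveI := hD
  letI : Algebra k D := ((algebraMap R' D).comp (algebraMap k R')).toAlgebra
  haveI : IsScalarTower k R' D := IsScalarTower.of_algebraMap_eq' rfl
  haveI : Algebra.FinitePresentation k D := Algebra.FinitePresentation.trans k R' D
  have hprod : ∀ b ∈ Smoothing.singularIdeal R' D, ∀ y ∈ Smoothing.singularIdeal k R',
      algebraMap R' D y * b ∈ Smoothing.singularIdeal k D := fun b hb y hy =>
    mem_singularIdeal fun Q _ hQ => by
      haveI : Algebra.IsSmoothAt R' Q := isSmoothAt_of_notMem hb Q fun hbQ => hQ (Q.mul_mem_left _ hbQ)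
      haveI : Algebra.IsSmoothAt k (Q.comap (algebraMap R' D)) :=
        isSmoothAt_of_notMem hy _ fun hyQ => hQ (Q.mul_mem_right _ hyQ)
      exact isSmoothAt_comp (D := R') Q
  have hmul : (Smoothing.singularIdeal R' D).map hD' * (Smoothing.singularIdeal k R').map ψ ≤
      (Smoothing.singularIdeal k D).map (hD'.restrictScalars k) := by
    rw [Ideal.map, Ideal.map, Ideal.span_mul_span', Ideal.span_le]
    rintro _ ⟨_, ⟨b, hb, rfl⟩, _, ⟨y, hy, rfl⟩, rfl⟩
    show hD' b * ψ y ∈ _
    rw [mul_comm, show ψ y = hD' (algebraMap R' D y) from (hD'.commutes y).symm, ← map_mul]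
    exact Ideal.mem_map_of_mem (hD'.restrictScalars k) (hprod b hb y hy)
  letI : Algebra k C' := ((algebraMap (MvPolynomial (Fin d) k) C').comp (algebraMap k _)).toAlgebra
  haveI : IsScalarTower k (MvPolynomial (Fin d) k) C' := IsScalarTower.of_algebraMap_eq' rfl
  refine ⟨D, inferInstance, inferInstance, inferInstance,
    (g.restrictScalars k).comp (((Algebra.TensorProduct.includeRight :
      C' →ₐ[MvPolynomial (Fin d) k] R' ⊗[MvPolynomial (Fin d) k] C').restrictScalars k).comp
        ((ι.restrictScalars k).comp (IsScalarTower.toAlgHom k A (Model a n d)))),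
    hD'.restrictScalars k, AlgHom.ext fun y => ?_, ?_, fun hh => ?_⟩
  · show hD' (g ((1 : R') ⊗ₜ ι (algebraMap A (Model a n d) y))) = φ y
    rw [← AlgHom.comp_apply, hgh]
    show algebraMap R' Λ 1 * ψ₁ (ρ (ι (algebraMap A (Model a n d) y))) = _
    rw [map_one, one_mul]
    refine (congrArg ψ₁ (DFunLike.congr_fun hρι _)).trans ?_
    exact MvPolynomial.aevalTower_C _ _ _
  · refine Ideal.radical_le_radical_iff.2 ?_
    show I ≤ _
    rw [hI, Ideal.span_le]
    rintro _ ⟨l, rfl⟩
    obtain ⟨e₁, he₁⟩ := hιstd _ (hB l)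
    have h1 : (1 : R') ⊗ₜ[MvPolynomial (Fin d) k] (ι (Ideal.Quotient.mk (modelI a n) (MvPolynomial.C (a l))) ^ e₁) ∈
        Smoothing.singularIdeal R' (R' ⊗[MvPolynomial (Fin d) k] C') :=
      mem_singularIdeal fun Q _ hQ => isSmoothAt_of_isStrictlyStandard
        (isStrictlyStandard_baseChange R' (he₁ e₁ le_rfl)) ⟨Q, inferInstance⟩ hQ
    have h2 : φR ((1 : R') ⊗ₜ[MvPolynomial (Fin d) k]
        (ι (Ideal.Quotient.mk (modelI a n) (MvPolynomial.C (a l))) ^ e₁)) = φ (a l) ^ e₁ := by
      rw [show φR ((1 : R') ⊗ₜ[MvPolynomial (Fin d) k] _) = algebraMap R' Λ 1 * φ' _ from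
        Algebra.TensorProduct.lift_tmul _ _ _ _ _, map_one, one_mul, map_pow]
      congr 1
      refine (congrArg ψ₁ (DFunLike.congr_fun hρι _)).trans ?_
      exact MvPolynomial.aevalTower_C _ _ _
    have h3 : φ (a l) ^ e₁ ∈ Smoothing.singRad R' hD' :=
      hle (h2 ▸ Ideal.le_radical (Ideal.mem_map_of_mem φR h1))
    obtain ⟨N₁, hN₁⟩ := h3
    obtain ⟨N₂, hN₂⟩ := hRal l
    refine ⟨e₁ * N₁ + N₂, ?_⟩
    show φ (a l) ^ (e₁ * N₁ + N₂) ∈ _
    rw [pow_add, pow_mul]
    exact hmul (Ideal.mul_mem_mul hN₁ hN₂)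
  · have h1 : (Smoothing.singularIdeal R' D).map hD' * (Smoothing.singularIdeal k R').map ψ ≤ q :=
      hmul.trans (Ideal.le_radical.trans hh)
    rcases (‹q.IsPrime›.mul_le).mp h1 with h2 | h2
    · exact hnle ((Ideal.radical_mono h2).trans (Ideal.IsPrime.radical ‹q.IsPrime›).le)
    · exact hRq h2

end Groth.Agent.SmoothingLib.CharPResolve
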