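import Groth.Agent.SmoothingLib.Approx
import Groth.Agent.AlgSpCov.SmoothSlice

/-!
Artin approximation by etale neighbourhoods.
-/

namespace Groth.Agent.SmoothingLib.ApproxEtale

open TensorProduct

universe u

/-- Ind-smoothness descends along a localization of the base. -/
theorem indSmooth_of_localization {R L Λ : Type u} [CommRing R] [CommRing L] [CommRing Λ] [Algebra R L]
    (S : Submonoid R) [IsLocalization S L] [Algebra L Λ] [Algebra R Λ] [IsScalarTower R L Λ]
    (h : Smoothing.IndSmooth L Λ) : Smoothing.IndSmooth R Λ := by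
  intro A _ _ hA φ
  haveI := hA
  let μ : L ⊗[R] Λ →ₐ[L] Λ :=
    Algebra.TensorProduct.lift (Algebra.ofId L Λ) (AlgHom.id R Λ) fun _ _ => Commute.all _ _
  have hμ : ∀ z, (1 : L) ⊗ₜ[R] μ z = z := by
    intro z
    induction z using TensorProduct.induction_on with
    | zero => rw [map_zero, TensorProduct.tmul_zero]
    | tmul c l =>
      obtain ⟨⟨r, s⟩, hrs⟩ := IsLocalization.surj S c
      obtain ⟨u, hu⟩ := IsLocalization.map_units L s
      have hs : ∀ a b : L ⊗[R] Λ, (s : R) • a = (s : R) • b → a = b := fun a b hab => by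
        rw [← algebraMap_smul L (s : R) a, ← algebraMap_smul L (s : R) b, ← hu] at hab
        exact (IsUnit.smul_left_cancel u.isUnit).1 hab
      refine hs _ _ ?_
      rw [← TensorProduct.tmul_smul,
        show (s : R) • μ (c ⊗ₜ[R] l) = (μ.restrictScalars R) ((s : R) • (c ⊗ₜ[R] l)) from
          (map_smul (μ.restrictScalars R) _ _).symm, TensorProduct.smul_tmul',
        show (s : R) • c = r • (1 : L) by
          rw [Algebra.smul_def, mul_comm, hrs, Algebra.smul_def, mul_one]]
      show (1 : L) ⊗ₜ[R] μ ((r • (1 : L)) ⊗ₜ[R] l) = _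
      rw [TensorProduct.smul_tmul]
      show (1 : L) ⊗ₜ[R] (algebraMap L Λ 1 * (r • l)) = _
      rw [map_one, one_mul]
    | add x y hx hy => rw [map_add, TensorProduct.tmul_add, hx, hy]
  let includeR : Λ →ₐ[L] L ⊗[R] Λ :=
    { (Algebra.TensorProduct.includeRight : Λ →ₐ[R] L ⊗[R] Λ).toRingHom with
      commutes' := fun c => by
        show (1 : L) ⊗ₜ[R] algebraMap L Λ c = c ⊗ₜ[R] (1 : Λ)
        rw [← hμ (c ⊗ₜ[R] (1 : Λ))]
        congr 1
        show _ = algebraMap L Λ c * 1
        rw [mul_one] }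
  obtain ⟨B', _, _, hB', g, k, hk⟩ := h (L ⊗[R] A) inferInstance
    (μ.comp (Algebra.TensorProduct.map (AlgHom.id L L) φ))
  haveI := hB'
  obtain ⟨B₁, _, _, α, β, hβ, s, hs, hel⟩ :=
    DelocBase.delocalize (Rₛ := L) S φ g (includeR.comp k) (by
      rw [AlgHom.comp_assoc, hk, ← AlgHom.comp_assoc]
      exact AlgHom.ext fun z => hμ _)
  haveI : Algebra.FinitePresentation R B₁ := by
    obtain ⟨P, -⟩ := hel
    exact MarkedPresentation.finitePresentation P
  have hsm : algebraMap R B₁ s ∈ Smoothing.singularIdeal R B₁ :=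
    DesingStd.mem_singularIdeal fun Q _ hQ =>
      isSmoothAt_of_isStrictlyStandard (isStrictlyStandard_of_isElementaryStandard hel) ⟨Q, inferInstance⟩ hQ
  haveI := DimZero.smooth_away_of_mem hsm
  have hu : ∀ y : Submonoid.powers (algebraMap R B₁ s), IsUnit (β y) := by
    rintro ⟨_, e, rfl⟩
    rw [map_pow, AlgHom.commutes, IsScalarTower.algebraMap_apply R L Λ]
    exact ((IsLocalization.map_units L (⟨s, hs⟩ : S)).map _).pow e
  refine ⟨Localization.Away (algebraMap R B₁ s), inferInstance, inferInstance, inferInstance,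
    (IsScalarTower.toAlgHom R B₁ _).comp α,
    IsLocalization.liftAlgHom (M := Submonoid.powers (algebraMap R B₁ s)) (f := β) hu, ?_⟩
  rw [← hβ, ← AlgHom.comp_assoc]
  congr 1
  exact AlgHom.ext fun b => IsLocalization.lift_eq _ b

variable {R L : Type u} [CommRing R] [CommRing L] [IsNoetherianRing L] [IsLocalRing L] [Algebra R L]

local notation "Λ'" => AdicCompletion (IsLocalRing.maximalIdeal L) L

theorem evalₐ_algebraMap (n : ℕ) (r : R) :
    AdicCompletion.evalₐ (IsLocalRing.maximalIdeal L) n (algebraMap R Λ' r) =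
      Ideal.Quotient.mk _ (algebraMap R L r) := by
  rw [IsScalarTower.algebraMap_apply R L Λ', AlgHom.commutes]
  rfl

/-- A point of the completion of the local ring lifts to an etale neighbourhood, up to any order. -/
theorem exists_etale_nbhd (hind : Smoothing.IndSmooth R Λ')
    (hL : ∀ x : L, ∃ r s : R, IsUnit (algebraMap R L s) ∧ algebraMap R L s * x = algebraMap R L r)
    {T : Type u} [CommRing T] [Algebra R T] [Algebra.FinitePresentation R T] (f : T →ₐ[R] Λ') (n : ℕ)
    (hn : n ≠ 0) :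
    ∃ (D : Type u) (_ : CommRing D) (_ : Algebra R D), Algebra.Etale R D ∧
      ∃ (ψ : D →ₐ[R] Λ') (ρ : T →ₐ[R] D), ∀ t,
        AdicCompletion.evalₐ (IsLocalRing.maximalIdeal L) n (ψ (ρ t)) =
          AdicCompletion.evalₐ (IsLocalRing.maximalIdeal L) n (f t) := by
  classical
  obtain ⟨B, _, _, hB, g₀, h, hgh⟩ := hind T inferInstance f
  haveI := hB
  obtain ⟨B₂, _, _, _, _, -, ⟨r⟩, hstd⟩ := exists_smooth_retract (R := R) (A := B)
  haveI := hstd
  let h₂ : B₂ →ₐ[R] Λ' := h.comp (r.restrictScalars R)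
  let M := IsLocalRing.maximalIdeal L ^ n
  let ev : Λ' →ₐ[R] L ⧸ M := (AdicCompletion.evalₐ (IsLocalRing.maximalIdeal L) n).restrictScalars R
  obtain ⟨G, hG⟩ := (Algebra.FiniteType.out : (⊤ : Subalgebra R B₂).FG)
  choose lf hlf using fun x : B₂ => Ideal.Quotient.mk_surjective (ev (h₂ x))
  choose num den hden hnum using fun x : B₂ => hL (lf x)
  let d : R := ∏ x ∈ G, den x
  have hd : IsUnit (algebraMap R L d) := by
    rw [map_prod]
    exact IsUnit.prod_iff.2 fun x _ => hden x
  have hdp : ∀ y : Submonoid.powers d, IsUnit (Algebra.ofId R L y) := by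
    rintro ⟨_, e, rfl⟩
    rw [map_pow]
    exact hd.pow e
  let ι : Localization.Away d →ₐ[R] L := IsLocalization.liftAlgHom (M := Submonoid.powers d) hdp
  let ιbar : Localization.Away d →ₐ[R] L ⧸ M := (Ideal.Quotient.mkₐ R M).comp ι
  let J : Ideal (Localization.Away d) := RingHom.ker ιbar.toRingHom
  let ib : (Localization.Away d ⧸ J) →ₐ[R] L ⧸ M := Ideal.Quotient.liftₐ (R₁ := R) J ιbar fun _ hz => hz
  have hib : Function.Injective ib := (injective_iff_map_eq_zero _).2 fun z hz => by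
    obtain ⟨z, rfl⟩ := Ideal.Quotient.mk_surjective z
    exact Ideal.Quotient.eq_zero_iff_mem.2 hz
  have hgen : ∀ b, ev (h₂ b) ∈ ib.range := by
    have hle : (⊤ : Subalgebra R B₂) ≤ ib.range.comap (ev.comp h₂) := by
      rw [← hG]
      refine Algebra.adjoin_le fun x hx => ?_
      show ev (h₂ x) ∈ ib.range
      obtain ⟨u, hu⟩ : ∃ u, algebraMap R (Localization.Away d) (den x) * u = 1 := by
        refine ⟨algebraMap R _ (∏ y ∈ G.erase x, den y) *
          IsLocalization.Away.invSelf d, ?_⟩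
        rw [← mul_assoc, ← map_mul, Finset.mul_prod_erase G _ hx]
        exact IsLocalization.Away.mul_invSelf d
      refine ⟨Ideal.Quotient.mk J (algebraMap R _ (num x) * u), ?_⟩
      show ib (Ideal.Quotient.mk J (algebraMap R _ (num x) * u)) = ev (h₂ x)
      show Ideal.Quotient.mk M (ι (algebraMap R _ (num x) * u)) = ev (h₂ x)
      rw [← hlf x]
      congr 1
      refine (hden x).mul_left_cancel ?_
      have h1 : algebraMap R L (den x) * ι u = 1 := by
        rw [← ι.commutes (den x), ← map_mul, hu, map_one]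
      rw [map_mul, AlgHom.commutes, hnum, mul_left_comm, h1, mul_one]
    exact fun b => hle (Algebra.mem_top (x := b))
  choose φ₀ hφ₀ using hgen
  let φ : B₂ →+* Localization.Away d ⧸ J :=
    { toFun := φ₀
      map_one' := hib ((hφ₀ 1).trans (by rw [map_one, map_one, map_one]))
      map_mul' := fun a b => hib ((hφ₀ _).trans (by rw [map_mul, map_mul, map_mul]; exact (congrArg₂ (· * ·) (hφ₀ a) (hφ₀ b)).symm))
      map_zero' := hib ((hφ₀ 0).trans (by rw [map_zero, map_zero, map_zero]))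
      map_add' := fun a b => hib ((hφ₀ _).trans (by rw [map_add, map_add, map_add]; exact (congrArg₂ (· + ·) (hφ₀ a) (hφ₀ b)).symm)) }
  have hφ : φ.comp (algebraMap R B₂) = (Ideal.Quotient.mk J).comp (algebraMap R (Localization.Away d)) :=
    RingHom.ext fun c => hib ((hφ₀ _).trans (by
      rw [AlgHom.commutes, AlgHom.commutes]
      exact (ib.commutes c).symm))
  obtain ⟨D, _, ψ₀, ρ, hψ₀, hρ, hbij, hcompat⟩ := AlgSpCov.exists_etale_lift_of_standardSmooth
    (algebraMap R B₂) (RingHom.isStandardSmooth_algebraMap.2 hstd) (algebraMap R (Localization.Away d)) J φ hφ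
  letI : Algebra (Localization.Away d) D := ψ₀.toAlgebra
  letI : Algebra R D := (ψ₀.comp (algebraMap R (Localization.Away d))).toAlgebra
  haveI : IsScalarTower R (Localization.Away d) D := IsScalarTower.of_algebraMap_eq fun _ => rfl
  haveI : Algebra.Etale (Localization.Away d) D := RingHom.etale_algebraMap.1 hψ₀
  haveI : Algebra.Etale R (Localization.Away d) := Algebra.Etale.of_isLocalizationAway d
  haveI : Algebra.Etale R D := Algebra.Etale.comp R (Localization.Away d) D
  let qm := RingEquiv.ofBijective (Ideal.quotientMap (J.map ψ₀) ψ₀ Ideal.le_comap_map) hbij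
  let δ : D →ₐ[R] L ⧸ M :=
    { ib.toRingHom.comp (qm.symm.toRingHom.comp (Ideal.Quotient.mk (J.map ψ₀))) with
      commutes' := fun c => by
        show ib (qm.symm (Ideal.Quotient.mk (J.map ψ₀) (ψ₀ (algebraMap R _ c)))) = _
        rw [show Ideal.Quotient.mk (J.map ψ₀) (ψ₀ (algebraMap R (Localization.Away d) c)) =
          qm (Ideal.Quotient.mk J (algebraMap R _ c)) from rfl, qm.symm_apply_apply]
        exact ib.commutes c }
  haveI : IsNoetherianRing Λ' := RegLoc.Completion.isNoetherianRing_adicCompletion' _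
  have hfg : (IsLocalRing.maximalIdeal L).FG := IsNoetherian.noetherian _
  have hker : RingHom.ker ev.toRingHom =
      ((IsLocalRing.maximalIdeal L).map (algebraMap L Λ')) ^ n := by
    rw [← Ideal.map_pow]
    exact Ideal.ext fun z => (Adic.Rig.mem_pow_map_iff hfg n z).symm
  haveI := Adic.Rig.isAdicComplete_map hfg
  haveI : HenselianRing Λ' (RingHom.ker ev.toRingHom) :=
    Hensel.henselianRing_of_radical_eq (I := (IsLocalRing.maximalIdeal L).map (algebraMap L Λ'))
      (hker ▸ (Ideal.pow_le_self hn).trans Ideal.le_radical)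
  let e : (Λ' ⧸ RingHom.ker ev.toRingHom) ≃ₐ[R] L ⧸ M :=
    Ideal.quotientKerAlgEquivOfSurjective (f := ev) (AdicCompletion.surjective_evalₐ _ n)
  obtain ⟨ψ, hψ⟩ := Groth.Agent.S0536.result R D Λ' (RingHom.ker ev.toRingHom) (e.symm.toAlgHom.comp δ)
  let ρ' : B₂ →ₐ[R] D := { ρ with commutes' := fun c => DFunLike.congr_fun hρ c }
  refine ⟨D, inferInstance, inferInstance, inferInstance, ψ,
    ρ'.comp ((IsScalarTower.toAlgHom R B B₂).comp g₀), fun t => ?_⟩
  have h1 : ∀ y : D, ev (ψ y) = δ y := fun y => by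
    show e (Ideal.Quotient.mk _ (ψ y)) = δ y
    rw [show Ideal.Quotient.mk _ (ψ y) = e.symm (δ y) from DFunLike.congr_fun hψ y, e.apply_symm_apply]
  show ev (ψ (ρ (algebraMap B B₂ (g₀ t)))) = ev (f t)
  rw [h1]
  show ib (qm.symm (Ideal.Quotient.mk (J.map ψ₀) (ρ _))) = _
  rw [show Ideal.Quotient.mk (J.map ψ₀) (ρ (algebraMap B B₂ (g₀ t))) = qm (φ (algebraMap B B₂ (g₀ t))) from
    DFunLike.congr_fun hcompat _, qm.symm_apply_apply]
  refine (hφ₀ _).trans ?_
  show ev (h (r (algebraMap B B₂ (g₀ t)))) = _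
  rw [r.commutes, Algebra.algebraMap_self, RingHom.id_apply, show h (g₀ t) = f t from DFunLike.congr_fun hgh t]

open MvPolynomial in
/-- Solutions in the completion of a local ring are approximated in etale neighbourhoods. -/
theorem exists_nbhd_system (hind : Smoothing.IndSmooth R Λ')
    (hL : ∀ x : L, ∃ r s : R, IsUnit (algebraMap R L s) ∧ algebraMap R L s * x = algebraMap R L r)
    {σ τ : Type} [Finite σ] [Finite τ] (F : τ → MvPolynomial σ R) (a : σ → Λ')
    (ha : ∀ j, aeval a (F j) = 0) (N : ℕ) :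
    ∃ (D : Type u) (_ : CommRing D) (_ : Algebra R D), Algebra.Etale R D ∧
      ∃ (ψ : D →ₐ[R] Λ') (m' : Ideal D), m'.IsPrime ∧
        m'.comap (algebraMap R D) = (IsLocalRing.maximalIdeal L).comap (algebraMap R L) ∧
        (∀ x : D, ∃ r s : R, IsUnit (algebraMap R L s) ∧ algebraMap R D s * x - algebraMap R D r ∈ m') ∧
        (∀ x ∈ m', ψ x ∈ (IsLocalRing.maximalIdeal L).map (algebraMap L Λ')) ∧
        ∃ b : σ → D, (∀ j, aeval b (F j) = 0) ∧
          ∀ i, a i - ψ (b i) ∈ (IsLocalRing.maximalIdeal L ^ N).map (algebraMap L Λ') := by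
  haveI : Algebra.FinitePresentation R (MvPolynomial σ R ⧸ Ideal.span (Set.range F)) :=
    Algebra.FinitePresentation.quotient (Submodule.fg_def.2 ⟨_, Set.finite_range _, rfl⟩)
  have hkerF : ∀ p ∈ Ideal.span (Set.range F), aeval a p = 0 := by
    have hle : Ideal.span (Set.range F) ≤ RingHom.ker (aeval (R := R) a).toRingHom :=
      Ideal.span_le.2 (by rintro _ ⟨j, rfl⟩; exact ha j)
    exact fun p hp => hle hp
  let q : MvPolynomial σ R →ₐ[R] MvPolynomial σ R ⧸ Ideal.span (Set.range F) := Ideal.Quotient.mkₐ R _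
  let f : (MvPolynomial σ R ⧸ Ideal.span (Set.range F)) →ₐ[R] Λ' :=
    Ideal.Quotient.liftₐ (R₁ := R) (Ideal.span (Set.range F)) (aeval a) hkerF
  obtain ⟨D, _, _, hD, ψ, ρ, hρ⟩ := exists_etale_nbhd hind hL f (N + 1) N.succ_ne_zero
  have hfg : (IsLocalRing.maximalIdeal L).FG := IsNoetherian.noetherian _
  let ε : D →ₐ[R] L ⧸ IsLocalRing.maximalIdeal L ^ 1 :=
    ((AdicCompletion.evalₐ (IsLocalRing.maximalIdeal L) 1).restrictScalars R).comp ψ
  haveI : (⊥ : Ideal (L ⧸ IsLocalRing.maximalIdeal L ^ 1)).IsPrime := by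
    haveI : (IsLocalRing.maximalIdeal L ^ 1).IsPrime := by rw [pow_one]; infer_instance
    exact Ideal.isPrime_bot
  refine ⟨D, inferInstance, inferInstance, hD, ψ, RingHom.ker ε.toRingHom,
    Ideal.IsPrime.comap (K := (⊥ : Ideal (L ⧸ IsLocalRing.maximalIdeal L ^ 1))) ε.toRingHom, ?_, fun x => ?_, fun x hx => ?_, fun i => ρ (q (X i)), fun j => ?_, fun i => ?_⟩
  · ext r
    rw [Ideal.mem_comap, RingHom.mem_ker, Ideal.mem_comap]
    show ε (algebraMap R D r) = 0 ↔ _
    rw [AlgHom.commutes, IsScalarTower.algebraMap_apply R L (L ⧸ IsLocalRing.maximalIdeal L ^ 1),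
      Ideal.Quotient.algebraMap_eq, Ideal.Quotient.eq_zero_iff_mem, pow_one]
  · obtain ⟨y, hy⟩ := Ideal.Quotient.mk_surjective (ε x)
    obtain ⟨r, s, hs, hrs⟩ := hL y
    refine ⟨r, s, hs, ?_⟩
    show ε (algebraMap R D s * x - algebraMap R D r) = 0
    rw [map_sub, map_mul, AlgHom.commutes, AlgHom.commutes, ← hy,
      IsScalarTower.algebraMap_apply R L (L ⧸ IsLocalRing.maximalIdeal L ^ 1),
      IsScalarTower.algebraMap_apply R L (L ⧸ IsLocalRing.maximalIdeal L ^ 1),
      Ideal.Quotient.algebraMap_eq, ← map_mul, hrs, sub_self]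
  · have h1 := (Adic.Rig.mem_pow_map_iff hfg 1 (ψ x)).2 hx
    rwa [pow_one] at h1
  · rw [show (aeval fun i => ρ (q (X i))) = ρ.comp q from algHom_ext fun i => by simp,
      AlgHom.comp_apply, show q (F j) = 0 from Ideal.Quotient.eq_zero_iff_mem.2
      (Ideal.subset_span ⟨j, rfl⟩), map_zero]
  · refine Ideal.map_mono (Ideal.pow_le_pow_right N.le_succ)
      ((Adic.Rig.mem_pow_map_iff hfg (N + 1) _).2 ?_)
    rw [map_sub, hρ, show f (q (X i)) = a i from aeval_X _ _, sub_self]

end Groth.Agent.SmoothingLib.ApproxEtale
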