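import Groth.Agent.SmoothingLib.FreeKaehler
import Groth.Agent.S2043

/-!
Idempotent matrices lift along étale neighbourhoods; derivations extend along étale maps.
-/

namespace Groth.Agent.SmoothingLib.IdemLift

open MvPolynomial

universe u

theorem matrix_idem_lift {Q : Type u} [CommRing Q] (J : Ideal Q) (hJ : J ^ 2 = ⊥) {m : ℕ}
    (M : Matrix (Fin m) (Fin m) Q) (hM : ∀ i j, (M * M - M) i j ∈ J) :
    ∃ N : Matrix (Fin m) (Fin m) Q, N * N = N ∧ ∀ i j, N i j - M i j ∈ J := by
  have h0 : (M * M - M) * (M * M - M) = 0 := by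
    ext i j
    rw [Matrix.mul_apply, Matrix.zero_apply]
    refine Finset.sum_eq_zero fun k _ => ?_
    have h := Ideal.mul_mem_mul (hM i k) (hM k j)
    rwa [← pow_two, hJ, Ideal.mem_bot] at h
  refine ⟨3 • (M * M) - 2 • (M * M * M), ?_, fun i j => ?_⟩
  · have h : (3 • (M * M) - 2 • (M * M * M)) * (3 • (M * M) - 2 • (M * M * M)) -
        (3 • (M * M) - 2 • (M * M * M)) =
        (M * M - M) * (M * M - M) * (4 • (M * M) - 4 • M - 3 • 1) := by noncomm_ring
    rw [h0, zero_mul, sub_eq_zero] at h
    exact h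
  · have h : 3 • (M * M) - 2 • (M * M * M) - M = (M * M - M) * (1 - 2 • M) := by noncomm_ring
    rw [← Matrix.sub_apply, h, Matrix.mul_apply]
    exact J.sum_mem fun k _ => J.mul_mem_right _ (hM i k)

variable (C : Type u) [CommRing C] (m : ℕ)

/-- the generic matrix -/
noncomputable def genMat : Matrix (Fin m) (Fin m) (MvPolynomial (Fin m × Fin m) C) :=
  Matrix.of fun i j => X (i, j)

/-- the equations of idempotency -/
noncomputable def idemIdeal : Ideal (MvPolynomial (Fin m × Fin m) C) :=
  Ideal.span (Set.range fun x : Fin m × Fin m => (genMat C m * genMat C m - genMat C m) x.1 x.2)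

/-- the algebra of idempotent matrices -/
abbrev IdemAlg : Type u := MvPolynomial (Fin m × Fin m) C ⧸ idemIdeal C m

variable {C m}

theorem idemIdeal_le_ker {T : Type u} [CommRing T] [Algebra C T] (N : Matrix (Fin m) (Fin m) T)
    (hN : N * N = N) :
    idemIdeal C m ≤ RingHom.ker (aeval (R := C) fun x : Fin m × Fin m => N x.1 x.2).toRingHom := by
  refine Ideal.span_le.2 ?_
  rintro _ ⟨⟨i, j⟩, rfl⟩
  show aeval _ ((genMat C m * genMat C m - genMat C m) i j) = 0
  have h := congrFun (congrFun hN i) j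
  rw [Matrix.mul_apply] at h
  simp [genMat, Matrix.mul_apply, h]

theorem idemAlg_smooth : Algebra.Smooth C (IdemAlg C m) := by
  have hfp : Algebra.FinitePresentation C (IdemAlg C m) :=
    Algebra.FinitePresentation.quotient (Submodule.fg_def.2 ⟨_, Set.finite_range _, rfl⟩)
  refine ⟨Algebra.FormallySmooth.of_comp_surjective fun Q _ _ J hJ h => ?_, hfp⟩
  let q : MvPolynomial (Fin m × Fin m) C →+* IdemAlg C m := Ideal.Quotient.mk _
  choose v hv using fun x : Fin m × Fin m => Ideal.Quotient.mk_surjective (h (q (X x)))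
  let M : Matrix (Fin m) (Fin m) Q := Matrix.of fun i j => v (i, j)
  have hM : ∀ i j, (M * M - M) i j ∈ J := fun i j => by
    rw [← Ideal.Quotient.eq_zero_iff_mem]
    have h1 : h (q ((genMat C m * genMat C m - genMat C m) i j)) = 0 := by
      rw [show q ((genMat C m * genMat C m - genMat C m) i j) = 0 from
        Ideal.Quotient.eq_zero_iff_mem.2 (Ideal.subset_span ⟨(i, j), rfl⟩), map_zero]
    rw [← h1]
    simp [genMat, Matrix.mul_apply, M, hv]
  obtain ⟨N, hN, hNM⟩ := matrix_idem_lift J hJ M hM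
  refine ⟨Ideal.Quotient.liftₐ _ (aeval fun x : Fin m × Fin m => N x.1 x.2)
    (fun x hx => idemIdeal_le_ker N hN hx), ?_⟩
  apply Ideal.Quotient.algHom_ext
  apply MvPolynomial.algHom_ext
  rintro ⟨i, j⟩
  show Ideal.Quotient.mk J (aeval (fun x : Fin m × Fin m => N x.1 x.2) (X (i, j))) = h (q (X (i, j)))
  rw [aeval_X, ← hv, Ideal.Quotient.eq]
  exact hNM i j

theorem exists_nhd {A₀ : Type u} [CommRing A₀] (π : C →+* A₀) (hπ : Function.Surjective π)
    (F₀ : Matrix (Fin m) (Fin m) A₀) (hF₀ : F₀ * F₀ = F₀) :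
    ∃ (C' : Type u) (_ : CommRing C') (_ : Algebra C C') (_ : Algebra.Etale C C') (π' : C' →+* A₀),
      π'.comp (algebraMap C C') = π ∧ Function.Surjective π' ∧
        RingHom.ker π' = (RingHom.ker π).map (algebraMap C C') ∧
        ∃ E : Matrix (Fin m) (Fin m) C', E * E = E ∧ E.map π' = F₀ := by
  classical
  let J := RingHom.ker π
  let e : C ⧸ J ≃+* A₀ := RingHom.quotientKerEquivOfSurjective hπ
  let F₁ : Matrix (Fin m) (Fin m) (C ⧸ J) := F₀.map e.symm
  have hF₁ : F₁ * F₁ = F₁ := by
    have h := congrArg (fun M : Matrix (Fin m) (Fin m) A₀ => M.map e.symm) hF₀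
    rw [Matrix.map_mul] at h
    exact h
  let σ : IdemAlg C m →ₐ[C] C ⧸ J := Ideal.Quotient.liftₐ _ (aeval fun x : Fin m × Fin m => F₁ x.1 x.2)
    (fun x hx => idemIdeal_le_ker F₁ hF₁ hx)
  have := idemAlg_smooth (C := C) (m := m)
  obtain ⟨C', _, _, hC', hbij, τ, hτ⟩ := Groth.Agent.S2043.result (B := IdemAlg C m) J σ
  let b : C ⧸ J ≃+* C' ⧸ J.map (algebraMap C C') := RingEquiv.ofBijective _ hbij
  let π' : C' →+* A₀ :=
    (b.symm.trans e).toRingHom.comp (Ideal.Quotient.mk (J.map (algebraMap C C')))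
  refine ⟨C', inferInstance, inferInstance, hC', π', RingHom.ext fun c => ?_, ?_, ?_, ?_⟩
  · show e (b.symm (Ideal.Quotient.mk _ (algebraMap C C' c))) = π c
    rw [show Ideal.Quotient.mk _ (algebraMap C C' c) = b (Ideal.Quotient.mk J c) from rfl,
      RingEquiv.symm_apply_apply]
    rfl
  · exact (b.symm.trans e).surjective.comp Ideal.Quotient.mk_surjective
  · ext z
    rw [RingHom.mem_ker]
    show (b.symm.trans e) (Ideal.Quotient.mk _ z) = 0 ↔ _
    rw [map_eq_zero_iff _ (b.symm.trans e).injective, Ideal.Quotient.eq_zero_iff_mem]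
  · refine ⟨Matrix.of fun i j => τ (Ideal.Quotient.mk _ (X (i, j))), ?_, ?_⟩
    · ext i j
      have h : Ideal.Quotient.mk (idemIdeal C m) ((genMat C m * genMat C m - genMat C m) i j) = 0 :=
        Ideal.Quotient.eq_zero_iff_mem.2 (Ideal.subset_span ⟨(i, j), rfl⟩)
      have h' := congrArg τ h
      simpa [genMat, Matrix.mul_apply, sub_eq_zero] using h'
    · ext i j
      show e (b.symm (Ideal.Quotient.mk _ (τ (Ideal.Quotient.mk _ (X (i, j)))))) = F₀ i j
      rw [hτ, show σ (Ideal.Quotient.mk _ (X (i, j))) = F₁ i j from aeval_X _ _]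
      show e (b.symm (b (F₁ i j))) = _
      rw [RingEquiv.symm_apply_apply]
      exact e.apply_symm_apply _

theorem exists_derivation {R : Type u} [CommRing R] {n : ℕ} (C' : Type u) [CommRing C']
    [Algebra (MvPolynomial (Fin n) R) C'] [Algebra.Etale (MvPolynomial (Fin n) R) C'] [Algebra R C']
    [IsScalarTower R (MvPolynomial (Fin n) R) C'] :
    ∃ D : Derivation R C' (Fin n → C'), ∀ p : MvPolynomial (Fin n) R,
      D (algebraMap _ C' p) = fun k => algebraMap _ C' (pderiv k p) := by
  classical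
  let al : MvPolynomial (Fin n) R →+* C' := algebraMap _ _
  let ρ : MvPolynomial (Fin n) R →+* TrivSqZeroExt C' (Fin n → C') :=
    { toFun := fun p => TrivSqZeroExt.inl (al p) + TrivSqZeroExt.inr (fun k => al (pderiv k p))
      map_one' := by
        refine TrivSqZeroExt.ext (by simp) ?_
        funext i
        simp
      map_zero' := by
        refine TrivSqZeroExt.ext (by simp) ?_
        funext i
        simp
      map_add' := fun p q => by
        refine TrivSqZeroExt.ext (by simp) ?_
        funext i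
        simp
      map_mul' := fun p q => by
        refine TrivSqZeroExt.ext (by simp) ?_
        funext i
        simp [TrivSqZeroExt.snd_mul, Derivation.leibniz] }
  letI : Algebra (MvPolynomial (Fin n) R) (TrivSqZeroExt C' (Fin n → C')) := ρ.toAlgebra
  let fst : TrivSqZeroExt C' (Fin n → C') →ₐ[MvPolynomial (Fin n) R] C' :=
    { TrivSqZeroExt.fstHom C' C' (Fin n → C') with
      commutes' := fun p => by
        show (ρ p).fst = al p
        simp [ρ] }
  have hfst : Function.Surjective fst := fun c =>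
    ⟨(TrivSqZeroExt.inl c : TrivSqZeroExt C' (Fin n → C')), TrivSqZeroExt.fst_inl (M := Fin n → C') c⟩
  have hnil : IsNilpotent (RingHom.ker (fst : TrivSqZeroExt C' (Fin n → C') →+* C')) := by
    refine ⟨2, ?_⟩
    rw [Ideal.zero_eq_bot, eq_bot_iff]
    rw [show (2 : ℕ) = 1 + 1 from rfl, Submodule.pow_succ, Submodule.pow_one]
    rw [Ideal.mul_le]
    intro x hx y hy
    rw [Ideal.mem_bot]
    have hx' : x.fst = 0 := hx
    have hy' : y.fst = 0 := hy
    exact TrivSqZeroExt.ext (by simp [hx', hy']) (by simp [TrivSqZeroExt.snd_mul, hx', hy'])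
  let F := Algebra.FormallySmooth.liftOfSurjective (AlgHom.id (MvPolynomial (Fin n) R) C') fst hfst hnil
  have hF : ∀ c, (F c).fst = c := fun c =>
    Algebra.FormallySmooth.liftOfSurjective_apply (AlgHom.id _ C') fst hfst hnil c
  have hFal : ∀ p, (F (al p)).snd = fun k => al (pderiv k p) := fun p => by
    rw [show F (al p) = ρ p from F.commutes p]
    simp [ρ]
  let DL : C' →ₗ[R] (Fin n → C') :=
    { toFun := fun t => (F t).snd
      map_add' := fun s t => by simp
      map_smul' := fun c t => by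
        have h0 : (F (algebraMap R C' c)).snd = 0 := by
          rw [IsScalarTower.algebraMap_apply R (MvPolynomial (Fin n) R) C', MvPolynomial.algebraMap_eq,
            hFal]
          funext i; simp
        rw [RingHom.id_apply, Algebra.smul_def c t, map_mul, TrivSqZeroExt.snd_mul, h0, hF, hF]
        funext i
        simp [Algebra.smul_def] }
  exact ⟨Derivation.mk' DL fun s t => by
    show (F (s * t)).snd = s • (F t).snd + t • (F s).snd
    rw [map_mul, TrivSqZeroExt.snd_mul, hF, hF]
    simp, hFal⟩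

end Groth.Agent.SmoothingLib.IdemLift
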