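import Groth.Agent.SmoothingLib.PBasisLift
import Groth.Agent.PBasis.Field
import Groth.Agent.FieldSep.Cartier
import Mathlib

/-!
# Artinian local algebras with residue field of finite imperfection are flat over subalgebras of
finite type
-/

set_option autoImplicit false
universe u

open IsLocalRing KaehlerDifferential TensorProduct

namespace Groth.Agent.SmoothingLib.ArtinSub

open EGA41 Groth.Agent.PBasis.Basic Groth.Agent.PBasis.Field

/-- All but finitely many differentials of a `p`-basis of `k` stay independent in `K`. -/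
theorem exists_finite_indep {k₀ k K : Type u} [CommRing k₀] [Field k] [Field K] [Algebra k₀ k]
    [Algebra k₀ K] [Algebra k K] [IsScalarTower k₀ k K] {ι : Type u} (x : ι → k)
    (b : Module.Basis ι k Ω[k⁄k₀]) (hb : ∀ i, b i = D k₀ k (x i))
    (hH : Module.Finite K (Algebra.H1Cotangent k K)) :
    ∃ F : Finset ι,
      LinearIndependent K (fun i : {i // i ∉ F} => D k₀ K (algebraMap k K (x i.1))) := by
  classical
  let b' : Module.Basis ι K (K ⊗[k] Ω[k⁄k₀]) := b.baseChange K
  obtain ⟨s, hs⟩ := hH.fg_top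
  let δ := Algebra.H1Cotangent.δ k₀ k K
  let F : Finset ι := s.biUnion fun h => (b'.repr (δ h)).support
  refine ⟨F, linearIndependent_iff.mpr fun l hl => ?_⟩
  let t : K ⊗[k] Ω[k⁄k₀] := Finsupp.linearCombination K (fun i : {i // i ∉ F} => b' i.1) l
  have hker : mapBaseChange k₀ k K t = 0 := by
    rw [Finsupp.apply_linearCombination]
    have e : ((mapBaseChange k₀ k K) ∘ fun i : {i // i ∉ F} => b' i.1) =
        fun i : {i // i ∉ F} => D k₀ K (algebraMap k K (x i.1)) := by
      funext i
      simp only [Function.comp_apply, b', Module.Basis.baseChange_apply, hb, mapBaseChange_tmul,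
        map_D, one_smul]
    rw [e]
    exact hl
  obtain ⟨h, hh⟩ := ((Algebra.H1Cotangent.exact_δ_mapBaseChange k₀ k K) t).mp hker
  have hsupp : (b'.repr t).support ⊆ F := by
    have hmem : h ∈ Submodule.span K (s : Set (Algebra.H1Cotangent k K)) := hs ▸ Submodule.mem_top
    have : δ h ∈ Submodule.span K (b' '' (F : Set ι)) := by
      clear hh
      induction hmem using Submodule.span_induction with
      | mem y hy =>
        rw [Module.Basis.mem_span_image]
        exact fun i hi => Finset.mem_biUnion.mpr ⟨y, hy, hi⟩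
      | zero => simp
      | add a c _ _ ha hc => rw [map_add]; exact add_mem ha hc
      | smul r a _ ha => rw [map_smul]; exact Submodule.smul_mem _ r ha
    rw [show δ h = t from hh, Module.Basis.mem_span_image] at this
    exact fun i hi => this hi
  refine Finsupp.ext fun i => ?_
  have hrepr : b'.repr t = l.mapDomain Subtype.val := by
    have ht : t = Finsupp.linearCombination K b' (l.mapDomain Subtype.val) := by
      rw [Finsupp.linearCombination_mapDomain]; rfl
    rw [ht, Module.Basis.repr_linearCombination]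
  have h0 : b'.repr t i.1 = 0 := by
    by_contra hne
    exact i.2 (hsupp (Finsupp.mem_support_iff.mpr hne))
  rwa [hrepr, Finsupp.mapDomain_apply Subtype.val_injective] at h0

/-- A `p`-generating set generates a field over high powers. -/
theorem mem_closure_pow (p : ℕ) [Fact p.Prime] {k₀ k : Type u} [Field k₀] [Field k] [Algebra k₀ k]
    [CharP k p] (hk₀ : ∀ c : k₀, ∃ c' : k₀, c' ^ p = c) {B : Set k}
    (hB : IsPGenerating p k₀ (Subtype.val : B → k)) (n : ℕ) (x : k) :
    x ∈ Subring.closure ((Set.range fun y : k => y ^ p ^ n) ∪ B) := by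
  induction n generalizing x with
  | zero => exact Subring.subset_closure (Or.inl ⟨x, by simp⟩)
  | succ n ih =>
    have hmap : ∀ y : k, y ^ p ∈ Subring.closure ((Set.range fun y : k => y ^ p ^ (n + 1)) ∪ B) := by
      intro y
      induction ih y using Subring.closure_induction with
      | mem z hz =>
        rcases hz with ⟨w, rfl⟩ | hz
        · exact Subring.subset_closure (Or.inl ⟨w, by simp [← pow_mul, pow_succ]⟩)
        · refine pow_mem ?_ _
          exact Subring.subset_closure (Or.inr hz)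
      | zero => rw [zero_pow (Fact.out : p.Prime).ne_zero]; exact zero_mem _
      | one => rw [one_pow]; exact one_mem _
      | add a c _ _ ha hc => rw [add_pow_char]; exact add_mem ha hc
      | neg a _ ha =>
        have : (-a) ^ p = -(a ^ p) := map_neg (frobenius k p) a
        rw [this]; exact neg_mem ha
      | mul a c _ _ ha hc => rw [mul_pow]; exact mul_mem ha hc
    have hx : x ∈ Algebra.adjoin (pPowerSubalgebra p k₀ k) (Set.range (Subtype.val : B → k)) :=
      ((isPGenerating_iff_adjoin p _).mp hB) ▸ Algebra.mem_top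
    induction hx using Algebra.adjoin_induction with
    | mem y hy => obtain ⟨b, rfl⟩ := hy; exact Subring.subset_closure (Or.inr b.2)
    | algebraMap r =>
      obtain ⟨r, hr⟩ := r
      show r ∈ _
      induction hr using Algebra.adjoin_induction with
      | mem z hz => obtain ⟨y, rfl⟩ := hz; exact hmap y
      | algebraMap c =>
        obtain ⟨c', rfl⟩ := hk₀ c
        rw [map_pow]; exact hmap _
      | add a c _ _ ha hc => exact add_mem ha hc
      | mul a c _ _ ha hc => exact mul_mem ha hc
    | add a c _ _ ha hc => exact add_mem ha hc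
    | mul a c _ _ ha hc => exact mul_mem ha hc

variable {k Λ : Type u} [Field k] [CommRing Λ] [Algebra k Λ] [IsLocalRing Λ] [IsArtinianRing Λ]

/-- A coefficient field which agrees with the ground field up to finitely many elements. -/
theorem exists_section (p : ℕ) [Fact p.Prime] [CharP k p]
    (hH : Module.Finite (ResidueField Λ) (Algebra.H1Cotangent k (ResidueField Λ))) :
    ∃ (σ : ResidueField Λ →+* Λ) (μ : Finset Λ), (∀ c, residue Λ (σ c) = c) ∧
      (∀ c ∈ μ, c ∈ maximalIdeal Λ) ∧
      ∀ T : Subring Λ, (∀ a : k, σ (algebraMap k (ResidueField Λ) a) ∈ T) → (↑μ : Set Λ) ⊆ T →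
        ∀ a : k, algebraMap k Λ a ∈ T := by
  classical
  set κ := ResidueField Λ
  haveI : IsScalarTower (⊥ : Subfield k) k κ := IsScalarTower.of_algebraMap_eq fun c => by
    rw [IsScalarTower.algebraMap_apply (⊥ : Subfield k) Λ κ,
      IsScalarTower.algebraMap_apply (⊥ : Subfield k) k Λ, ← IsScalarTower.algebraMap_apply k Λ κ]
  haveI : CharP κ p := (RingHom.charP_iff _ (algebraMap k κ).injective p).mp ‹_›
  haveI : CharP Λ p := (RingHom.charP_iff _ (algebraMap k Λ).injective p).mp ‹_›
  haveI : PerfectField (⊥ : Subfield k) := FieldSep.Cartier.perfectField_bot k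
  haveI : Algebra.FormallySmooth (⊥ : Subfield k) κ :=
    FieldSep.Cartier.formallySmooth_of_perfectField _ _
  obtain ⟨Bk, hBk⟩ := exists_isPBasis p (⊥ : Subfield k) k
  obtain ⟨bk, hbk⟩ := exists_kaehler_basis p _ hBk
  obtain ⟨F, hF⟩ := exists_finite_indep _ bk hbk hH
  let x : {i : Bk // i ∉ F} → κ := fun i => algebraMap k κ (i.1 : k)
  have hxind : IsPIndependent p (⊥ : Subfield k) x := (isPIndependent_iff_kaehler p x).mpr hF
  have hxinj : Function.Injective x := fun i j h =>
    Subtype.ext (Subtype.ext ((algebraMap k κ).injective h))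
  have hL : IndepOn p (⊥ : Subfield k) (id : κ → κ) (Set.range x) :=
    (isPIndependent_iff_reindex p (id : κ → κ) x hxinj).mp hxind
  obtain ⟨B, hxB, -, hB⟩ := exists_isPBasis_between p (Set.subset_univ (Set.range x))
    (eq_top_iff.mpr fun y _ => subset_gen p _ (Set.mem_univ y)) hL
  obtain ⟨b, hb⟩ := exists_kaehler_basis p _ hB
  obtain ⟨r, hr⟩ := (residue_surjective (R := Λ)).hasRightInverse
  let g : B → Λ := fun c => if h : ∃ i, x i = (c : κ) then algebraMap k Λ (h.choose.1 : k) else r c
  have hres : ∀ a : k, residue Λ (algebraMap k Λ a) = algebraMap k κ a := fun a => rfl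
  have hg : ∀ c : B, residue Λ (g c) = c := fun c => by
    simp only [g]
    split_ifs with h
    · rw [hres]; exact h.choose_spec
    · exact hr _
  have hgx : ∀ (i : {i : Bk // i ∉ F}) (c : B), x i = c → g c = algebraMap k Λ (i.1 : k) := by
    intro i c hc
    have h : ∃ j, x j = (c : κ) := ⟨i, hc⟩
    simp only [g, dif_pos h]
    rw [hxinj (h.choose_spec.trans hc.symm)]
  have hnil : IsNilpotent (maximalIdeal Λ) := by
    rw [← IsLocalRing.jacobson_eq_maximalIdeal ⊥ bot_ne_top, Ideal.jacobson_bot]
    exact IsSemiprimaryRing.isNilpotent (R := Λ)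
  obtain ⟨v, hv, hv'⟩ := PBasisLift.exists_lift (fun c : B => (c : κ)) b hb
    (maximalIdeal Λ) hnil (AlgHom.id (⊥ : Subfield k) κ) g hg
  have hσ : ∀ c, residue Λ (v c) = c := fun c => DFunLike.congr_fun hv' c
  let μf : Bk → Λ := fun i => algebraMap k Λ (i : k) - v (algebraMap k κ (i : k))
  refine ⟨v.toRingHom, F.image μf, hσ, fun c hc => ?_, fun T hT hμ => ?_⟩
  · obtain ⟨i, -, rfl⟩ := Finset.mem_image.mp hc
    rw [← residue_eq_zero_iff, map_sub, hσ, hres, sub_self]
  obtain ⟨n, hn⟩ := hnil
  intro a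
  induction mem_closure_pow p (k₀ := (⊥ : Subfield k)) (surjective_frobenius (⊥ : Subfield k) p)
    hBk.2 n a using Subring.closure_induction with
  | mem z hz =>
    rcases hz with ⟨y, rfl⟩ | hz
    · have hmem : algebraMap k Λ y - v (algebraMap k κ y) ∈ maximalIdeal Λ := by
        rw [← residue_eq_zero_iff, map_sub, hσ, hres, sub_self]
      have h0 : (algebraMap k Λ y - v (algebraMap k κ y)) ^ p ^ n = 0 := by
        have h1 := Ideal.pow_le_pow_right (I := maximalIdeal Λ)
          (Nat.lt_pow_self (Fact.out : p.Prime).one_lt (n := n)).le (Ideal.pow_mem_pow hmem (p ^ n))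
        rw [hn] at h1
        exact h1
      rw [sub_pow_char_pow, sub_eq_zero] at h0
      show algebraMap k Λ (y ^ p ^ n) ∈ T
      rw [map_pow, h0]
      exact pow_mem (hT y) _
    · by_cases hzF : (⟨z, hz⟩ : Bk) ∈ F
      · have h1 : μf ⟨z, hz⟩ ∈ T := hμ (Finset.mem_image_of_mem μf hzF)
        have h2 := add_mem h1 (hT z)
        have e : μf ⟨z, hz⟩ + v.toRingHom (algebraMap k κ z) = algebraMap k Λ z := sub_add_cancel _ _
        exact e ▸ h2
      · let i : {i : Bk // i ∉ F} := ⟨⟨z, hz⟩, hzF⟩
        have h1 := hv ⟨x i, hxB ⟨i, rfl⟩⟩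
        rw [hgx i ⟨x i, hxB ⟨i, rfl⟩⟩ rfl] at h1
        exact (show algebraMap k Λ z = v (algebraMap k κ z) from h1.symm) ▸ hT z
  | zero => rw [map_zero]; exact zero_mem _
  | one => rw [map_one]; exact one_mem _
  | add a c _ _ ha hc => rw [map_add]; exact add_mem ha hc
  | neg a _ ha => rw [map_neg]; exact neg_mem ha
  | mul a c _ _ ha hc => rw [map_mul]; exact mul_mem ha hc

/-- A subring surjecting onto the residue field and containing generators of a nilpotent maximal
ideal is everything. -/
theorem mem_of_residue {R : Type u} [CommRing R] [IsLocalRing R]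
    (hnil : IsNilpotent (maximalIdeal R)) (S : Subring R) (gens : Set R)
    (hgen : Ideal.span gens = maximalIdeal R) (hgS : gens ⊆ S)
    (hres : ∀ a, ∃ y ∈ S, a - y ∈ maximalIdeal R) (a : R) : a ∈ S := by
  set m := maximalIdeal R
  have hm : ∀ b ∈ m, ∃ y ∈ S, y ∈ m ∧ b - y ∈ m ^ 2 := by
    intro b hb
    rw [← hgen] at hb
    induction hb using Submodule.span_induction with
    | mem y hy => exact ⟨y, hgS hy, hgen ▸ Ideal.subset_span hy, by simp⟩
    | zero => exact ⟨0, zero_mem _, zero_mem _, by simp⟩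
    | add b c _ _ hb hc =>
      obtain ⟨y, hy, hym, h⟩ := hb
      obtain ⟨z, hz, hzm, h'⟩ := hc
      exact ⟨y + z, add_mem hy hz, add_mem hym hzm, by
        rw [show b + c - (y + z) = (b - y) + (c - z) by ring]; exact add_mem h h'⟩
    | smul r b hb' hb =>
      obtain ⟨y, hy, hym, h⟩ := hb
      obtain ⟨z, hz, h'⟩ := hres r
      refine ⟨z * y, mul_mem hz hy, Ideal.mul_mem_left _ _ hym, ?_⟩
      rw [smul_eq_mul, show r * b - z * y = r * (b - y) + (r - z) * y by ring]
      exact add_mem (Ideal.mul_mem_left _ _ h) (by rw [pow_two]; exact Ideal.mul_mem_mul h' hym)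
  have key : ∀ j, ∀ x ∈ m ^ j, ∃ y ∈ S, y ∈ m ^ j ∧ x - y ∈ m ^ (j + 1) := by
    intro j
    induction j with
    | zero =>
      intro x _
      obtain ⟨y, hy, h⟩ := hres x
      exact ⟨y, hy, by simp, by simpa using h⟩
    | succ j ih =>
      intro x hx
      rw [pow_succ] at hx
      refine Submodule.mul_induction_on hx (fun b hb c hc => ?_) fun b c hb hc => ?_
      · obtain ⟨y, hy, hym, h⟩ := ih b hb
        obtain ⟨z, hz, hzm, h'⟩ := hm c hc
        refine ⟨y * z, mul_mem hy hz, by rw [pow_succ]; exact Ideal.mul_mem_mul hym hzm, ?_⟩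
        rw [show b * c - y * z = (b - y) * z + b * (c - z) by ring]
        refine add_mem ?_ ?_
        · rw [pow_succ]; exact Ideal.mul_mem_mul h hzm
        · rw [show j + 1 + 1 = j + 2 from rfl, pow_add]; exact Ideal.mul_mem_mul hb h'
      · obtain ⟨y, hy, hym, h⟩ := hb
        obtain ⟨z, hz, hzm, h'⟩ := hc
        exact ⟨y + z, add_mem hy hz, add_mem hym hzm, by
          rw [show b + c - (y + z) = (b - y) + (c - z) by ring]; exact add_mem h h'⟩
  have happ : ∀ j, ∃ y ∈ S, a - y ∈ m ^ j := by
    intro j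
    induction j with
    | zero => exact ⟨0, zero_mem _, by simp⟩
    | succ j ih =>
      obtain ⟨y, hy, h⟩ := ih
      obtain ⟨z, hz, -, h'⟩ := key j _ h
      exact ⟨y + z, add_mem hy hz, by rw [show a - (y + z) = a - y - z by ring]; exact h'⟩
  obtain ⟨n, hn⟩ := hnil
  obtain ⟨y, hy, h⟩ := happ n
  rw [hn] at h
  exact (sub_eq_zero.mp h) ▸ hy

/-- An Artinian local algebra containing any finite subset, over which `Λ` is flat. -/
theorem exists_subalgebra (p : ℕ) [Fact p.Prime] [CharP k p]
    (hH : Module.Finite (ResidueField Λ) (Algebra.H1Cotangent k (ResidueField Λ))) (E : Finset Λ) :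
    ∃ (A : Subalgebra k Λ) (_ : IsLocalRing A), (↑E : Set Λ) ⊆ A ∧ IsArtinianRing A ∧
      Module.Flat A Λ ∧ Algebra.EssFiniteType k A ∧
      (IsLocalRing.maximalIdeal A).map (algebraMap A Λ) = IsLocalRing.maximalIdeal Λ := by
  classical
  obtain ⟨σ, μ, hσ, hμm, hμ⟩ := exists_section p hH
  have hnil : IsNilpotent (maximalIdeal Λ) := by
    rw [← IsLocalRing.jacobson_eq_maximalIdeal ⊥ bot_ne_top, Ideal.jacobson_bot]
    exact IsSemiprimaryRing.isNilpotent (R := Λ)
  obtain ⟨gens, hgens⟩ := IsNoetherian.noetherian (maximalIdeal Λ)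
  letI : Algebra (ResidueField Λ) Λ := σ.toAlgebra
  have hfin : Module.Finite (ResidueField Λ) Λ := by
    have h1 : Algebra.adjoin (ResidueField Λ) (gens : Set Λ) = ⊤ :=
      eq_top_iff.mpr fun a _ => mem_of_residue hnil (Algebra.adjoin (ResidueField Λ) (gens : Set Λ)).toSubring
        (gens : Set Λ) hgens Algebra.subset_adjoin
        (fun a => ⟨σ (residue Λ a), Subalgebra.algebraMap_mem _ (residue Λ a), by
          rw [← residue_eq_zero_iff, map_sub, hσ, sub_self]⟩) a
    refine ⟨?_⟩
    rw [← Algebra.top_toSubmodule, ← h1]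
    refine fg_adjoin_of_finite gens.finite_toSet fun x hx => ?_
    obtain ⟨n, hn⟩ := hnil
    have hxm : x ∈ maximalIdeal Λ := hgens ▸ Submodule.subset_span hx
    have hx0 : x ^ (n + 1) = 0 := by
      have := Ideal.pow_mem_pow hxm n
      rw [hn] at this
      rw [pow_succ, show x ^ n = 0 from this, zero_mul]
    exact IsIntegral.of_pow n.succ_pos (hx0 ▸ isIntegral_zero)
  obtain ⟨ι, e⟩ := Module.Free.exists_basis (ResidueField Λ) Λ
  haveI : Finite ι := Module.Finite.finite_basis e
  cases nonempty_fintype ι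
  let vecs : Finset Λ := E ∪ μ ∪ gens ∪ {1} ∪ Finset.image (fun q : ι × ι => e q.1 * e q.2) Finset.univ
  let G : Finset (ResidueField Λ) :=
    (vecs.biUnion fun v => Finset.image (fun i => e.repr v i) Finset.univ) ∪
      Finset.image (fun i => residue Λ (e i)) Finset.univ
  let K : IntermediateField k (ResidueField Λ) := IntermediateField.adjoin k (G : Set (ResidueField Λ))
  have hGK : ∀ c ∈ G, c ∈ K := fun c hc => IntermediateField.subset_adjoin k _ hc
  have hvecs : ∀ v ∈ vecs, ∀ i, e.repr v i ∈ K := fun v hv i =>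
    hGK _ (Finset.mem_union_left _
      (Finset.mem_biUnion.mpr ⟨v, hv, Finset.mem_image_of_mem _ (Finset.mem_univ i)⟩))
  have hsmul : ∀ c x, σ c * x = c • x := fun c x => rfl
  let A₀ : Subring Λ :=
  { carrier := {a | ∀ i, e.repr a i ∈ K}
    one_mem' := hvecs 1 (by simp [vecs])
    zero_mem' := fun i => by simp
    add_mem' := fun ha hb i => by simpa using add_mem (ha i) (hb i)
    neg_mem' := fun ha i => by simpa using neg_mem (ha i)
    mul_mem' := fun {a c} ha hc i => by
      rw [← e.sum_repr a, ← e.sum_repr c]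
      simp only [Finset.sum_mul, Finset.mul_sum, smul_mul_assoc, mul_smul_comm, map_sum, map_smul,
        Finsupp.coe_finsetSum, Finset.sum_apply, Finsupp.smul_apply, smul_eq_mul]
      refine sum_mem fun x _ => sum_mem fun y _ => ?_
      exact mul_mem (hc x) (mul_mem (ha y) (hvecs _ (by simp [vecs]) i)) }
  have hσK : ∀ c ∈ K, σ c ∈ A₀ := fun c hc i => by
    rw [← mul_one (σ c), hsmul, map_smul]
    exact mul_mem hc (hvecs 1 (by simp [vecs]) i)
  have hk : ∀ a : k, algebraMap k Λ a ∈ A₀ := hμ A₀ (fun a => hσK _ (K.algebraMap_mem a))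
    fun v hv => hvecs v (by simp [vecs, Finset.mem_coe.mp hv])
  let A : Subalgebra k Λ := { A₀ with algebraMap_mem' := hk }
  have memA : ∀ x, x ∈ A ↔ ∀ i, e.repr x i ∈ K := fun x => Iff.rfl
  have hresA : ∀ a ∈ A, residue Λ a ∈ K := fun a ha => by
    rw [← e.sum_repr a, map_sum]
    refine sum_mem fun i _ => ?_
    rw [← hsmul, map_mul, hσ]
    exact mul_mem (ha i) (hGK _ (Finset.mem_union_right _
      (Finset.mem_image_of_mem _ (Finset.mem_univ i))))
  have heA : ∀ i, e i ∈ A := fun i j => by
    rw [e.repr_self, Finsupp.single_apply]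
    split
    · exact one_mem K
    · exact zero_mem K
  -- `A` as a `K`-algebra
  let τ : K →+* A := (σ.comp K.toSubfield.subtype).codRestrict A fun c => hσK c c.2
  letI : Algebra K A := τ.toAlgebra
  haveI : IsScalarTower K A Λ := IsScalarTower.of_algebraMap_eq fun _ => rfl
  have hAsum : ∀ a : A, a = ∑ i, (⟨e.repr (a : Λ) i, a.2 i⟩ : K) • (⟨e i, heA i⟩ : A) := fun a =>
    Subtype.ext (by
      conv_lhs => rw [← e.sum_repr (a : Λ)]
      rw [AddSubmonoidClass.coe_finsetSum]
      exact Finset.sum_congr rfl fun i _ => rfl)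
  haveI : Module.Finite K A := ⟨⟨Finset.image (fun i => (⟨e i, heA i⟩ : A)) Finset.univ,
    eq_top_iff.mpr fun a _ => by
      rw [hAsum a]
      exact Submodule.sum_mem _ fun i _ => Submodule.smul_mem _ _
        (Submodule.subset_span (Finset.mem_image_of_mem _ (Finset.mem_univ i)))⟩⟩
  haveI : IsArtinianRing A := IsArtinianRing.of_finite K A
  have hunit : ∀ a : A, IsUnit a ↔ IsUnit (a : Λ) := fun a =>
    ⟨fun h => h.map A.val, fun h => IsArtinianRing.isUnit_of_mem_nonZeroDivisors
      (mem_nonZeroDivisors_iff_right.mpr fun x hx => Subtype.ext ((IsUnit.mul_left_eq_zero h).mp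
        (congrArg Subtype.val hx)))⟩
  haveI hloc : IsLocalRing A := IsLocalRing.of_nonunits_add fun a c ha hc => by
    rw [mem_nonunits_iff, hunit] at ha hc ⊢
    exact fun h => (IsLocalRing.isUnit_or_isUnit_of_isUnit_add h).elim ha hc
  have hmax : ∀ a : A, a ∈ maximalIdeal A ↔ (a : Λ) ∈ maximalIdeal Λ := fun a => by
    rw [mem_maximalIdeal, mem_maximalIdeal, mem_nonunits_iff, mem_nonunits_iff, hunit]
  refine ⟨A, hloc, fun v hv => hvecs v (by simp [vecs, Finset.mem_coe.mp hv]), inferInstance,
    ?_, ?_, ?_⟩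
  · let f : A ⊗[K] ResidueField Λ →ₗ[A] Λ :=
      LinearMap.liftBaseChange A ((IsScalarTower.toAlgHom K (ResidueField Λ) Λ).toLinearMap)
    let g : Λ → A ⊗[K] ResidueField Λ := fun x => ∑ i, (⟨e i, heA i⟩ : A) ⊗ₜ[K] e.repr x i
    have hfg : ∀ x, f (g x) = x := fun x => by
      simp only [g, f, map_sum, LinearMap.liftBaseChange_tmul]
      conv_rhs => rw [← e.sum_repr x]
      exact Finset.sum_congr rfl fun i _ => mul_comm _ _
    have hgf : ∀ z, g (f z) = z := fun z => by
      induction z with
      | zero => simp [g]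
      | add y z hy hz => simp only [g, map_add, Finsupp.coe_add, Pi.add_apply, tmul_add,
          Finset.sum_add_distrib] at hy hz ⊢; rw [hy, hz]
      | tmul a c =>
        conv_rhs => rw [hAsum a, TensorProduct.sum_tmul]
        refine Finset.sum_congr rfl fun i _ => ?_
        rw [show f (a ⊗ₜ[K] c) = c • (a : Λ) from (LinearMap.liftBaseChange_tmul _ _ _ _).trans (mul_comm _ _), map_smul, TensorProduct.smul_tmul]
        exact congrArg _ (mul_comm _ _)
    exact Module.Flat.of_linearEquiv (LinearEquiv.ofBijective f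
      ⟨fun y z h => by rw [← hgf y, h, hgf], fun x => ⟨g x, hfg x⟩⟩).symm
  · rw [Algebra.essFiniteType_iff]
    obtain ⟨gA, hgA⟩ := IsNoetherian.noetherian (maximalIdeal A)
    let lift : ResidueField Λ → A := fun c => if h : c ∈ K then τ ⟨c, h⟩ else 0
    refine ⟨G.image lift ∪ gA, fun s => ?_⟩
    set P := Algebra.adjoin k ((G.image lift ∪ gA : Finset A) : Set A)
    let S : Subring A :=
    { carrier := {a | ∃ t ∈ P, IsUnit t ∧ a * t ∈ P}
      one_mem' := ⟨1, one_mem _, isUnit_one, by simp⟩
      zero_mem' := ⟨1, one_mem _, isUnit_one, by simp⟩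
      neg_mem' := fun ⟨t, ht, htu, h⟩ => ⟨t, ht, htu, by rw [neg_mul]; exact neg_mem h⟩
      add_mem' := fun {a c} ⟨t, ht, htu, h⟩ ⟨t', ht', htu', h'⟩ => ⟨t * t', mul_mem ht ht',
        htu.mul htu', by
          rw [show (a + c) * (t * t') = a * t * t' + c * t' * t by ring]
          exact add_mem (mul_mem h ht') (mul_mem h' ht)⟩
      mul_mem' := fun {a c} ⟨t, ht, htu, h⟩ ⟨t', ht', htu', h'⟩ => ⟨t * t', mul_mem ht ht',
        htu.mul htu', by
          rw [show (a * c) * (t * t') = (a * t) * (c * t') by ring]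
          exact mul_mem h h'⟩ }
    have hPS : ∀ a ∈ P, a ∈ S := fun a ha => ⟨1, one_mem _, isUnit_one, by rwa [mul_one]⟩
    have hgen : ∀ a ∈ G.image lift ∪ gA, a ∈ S := fun a ha => hPS a (Algebra.subset_adjoin ha)
    have hK : ∀ c ∈ K, ∃ y ∈ S, residue Λ (y : Λ) = c := by
      intro c hc
      induction hc using IntermediateField.adjoin_induction with
      | mem c hc =>
        refine ⟨lift c, hgen _ (Finset.mem_union_left _ (Finset.mem_image_of_mem _ hc)), ?_⟩
        simp only [lift, dif_pos (hGK c hc)]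
        exact hσ c
      | algebraMap r => exact ⟨algebraMap k A r, hPS _ (P.algebraMap_mem r), rfl⟩
      | add a c _ _ ha hc =>
        obtain ⟨y, hy, h⟩ := ha
        obtain ⟨z, hz, h'⟩ := hc
        exact ⟨y + z, add_mem hy hz, by simp [h, h']⟩
      | mul a c _ _ ha hc =>
        obtain ⟨y, hy, h⟩ := ha
        obtain ⟨z, hz, h'⟩ := hc
        exact ⟨y * z, mul_mem hy hz, by simp [h, h']⟩
      | inv a _ ha =>
        obtain ⟨y, hy, h⟩ := ha
        rcases eq_or_ne a 0 with rfl | hne
        · exact ⟨0, zero_mem _, by simp⟩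
        have hu : IsUnit y := (hunit y).mpr (residue_ne_zero_iff_isUnit (y : Λ) |>.mp (h ▸ hne))
        obtain ⟨t, ht, htu, hyt⟩ := hy
        refine ⟨(hu.unit⁻¹ : Aˣ), ⟨y * t, hyt, hu.mul htu, ?_⟩, ?_⟩
        · rw [← mul_assoc, IsUnit.val_inv_mul, one_mul]; exact ht
        · refine eq_inv_of_mul_eq_one_left ?_
          rw [← h, ← map_mul, ← Subalgebra.coe_mul, IsUnit.val_inv_mul, Subalgebra.coe_one, map_one]
    have hnilA : IsNilpotent (maximalIdeal A) := by
      rw [← IsLocalRing.jacobson_eq_maximalIdeal ⊥ bot_ne_top, Ideal.jacobson_bot]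
      exact IsSemiprimaryRing.isNilpotent (R := A)
    exact mem_of_residue hnilA S (gA : Set A) hgA (fun a ha => hgen a (Finset.mem_union_right _ ha))
      (fun a => by
        obtain ⟨y, hy, h⟩ := hK _ (hresA a a.2)
        exact ⟨y, hy, by rw [hmax, ← residue_eq_zero_iff]; simp [h]⟩) s
  · refine le_antisymm (Ideal.map_le_iff_le_comap.mpr fun a ha => (hmax a).mp ha) ?_
    rw [← hgens]
    refine Ideal.span_le.mpr fun v hv => ?_
    have hvA : v ∈ A := hvecs v (by simp [vecs, Finset.mem_coe.mp hv])
    exact Ideal.mem_map_of_mem (algebraMap A Λ) (x := ⟨v, hvA⟩)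
      ((hmax _).mpr (hgens ▸ Submodule.subset_span hv))

end Groth.Agent.SmoothingLib.ArtinSub
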