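import Groth.Agent.SmoothingLib.ApproxEtale
import Groth.Agent.EGA4Lib.GRingPoly
import Groth.Agent.EGA4Lib.ExcellentLoc
import Mathlib.RingTheory.Unramified.LocalRing
import Mathlib.AlgebraicGeometry.AffineScheme
import Mathlib.AlgebraicGeometry.Stalk

/-!
Lemmas for approximation by morphisms from etale neighbourhoods.
-/

namespace Groth.Agent.SmoothingLib.ApproxNbhd

open IsLocalRing

universe u

section Core

variable {L E : Type u} [CommRing L] [IsLocalRing L] [CommRing E] [IsLocalRing E] [Algebra L E]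
  [IsLocalHom (algebraMap L E)] [Algebra.FormallyUnramified L E] [Algebra.EssFiniteType L E] {n : ℕ}
  (hn : n ≠ 0) (θ : E →+* L ⧸ maximalIdeal L ^ n)
  (hθ : ∀ c, θ (algebraMap L E c) = Ideal.Quotient.mk (maximalIdeal L ^ n) c)
include hn hθ

theorem exists_sub_mem (z : E) : ∃ c, z - algebraMap L E c ∈ maximalIdeal E := by
  obtain ⟨c, hc⟩ := Ideal.Quotient.mk_surjective (θ z)
  refine ⟨c, fun hu => ?_⟩
  have h1 : θ (z - algebraMap L E c) = 0 := by rw [map_sub, hθ, hc, sub_self]
  haveI : Nontrivial (L ⧸ maximalIdeal L ^ n) := Ideal.Quotient.nontrivial_iff.2 fun h =>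
    (maximalIdeal.isMaximal L).ne_top (top_le_iff.1 (h ▸ Ideal.pow_le_self hn))
  exact not_isUnit_zero (h1 ▸ hu.map θ)

theorem exists_sub_mem_pow (z : E) (k : ℕ) : ∃ c, z - algebraMap L E c ∈ maximalIdeal E ^ k := by
  induction k generalizing z with
  | zero => exact ⟨0, by rw [pow_zero, Ideal.one_eq_top]; exact Submodule.mem_top⟩
  | succ k ih =>
    obtain ⟨c, hc⟩ := ih z
    have hm : (maximalIdeal L).map (algebraMap L E) = maximalIdeal E :=
      Algebra.FormallyUnramified.map_maximalIdeal
    have key : ∀ w ∈ maximalIdeal E ^ k, ∃ c', w - algebraMap L E c' ∈ maximalIdeal E ^ (k + 1) := by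
      intro w hw
      rw [← hm, ← Ideal.map_pow] at hw
      induction hw using Submodule.span_induction with
      | mem x hx =>
        obtain ⟨a, -, rfl⟩ := hx
        exact ⟨a, by rw [sub_self]; exact zero_mem _⟩
      | zero => exact ⟨0, by rw [map_zero, sub_zero]; exact zero_mem _⟩
      | add x y _ _ hx hy =>
        obtain ⟨a, ha⟩ := hx
        obtain ⟨b, hb⟩ := hy
        exact ⟨a + b, by rw [map_add, add_sub_add_comm]; exact add_mem ha hb⟩
      | smul e x hx _ =>
        have hxk : x ∈ maximalIdeal E ^ k := by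
          rw [← hm, ← Ideal.map_pow]; exact hx
        obtain ⟨b, hb⟩ := exists_sub_mem hn θ hθ e
        obtain ⟨a, ha⟩ := ‹∃ c', x - algebraMap L E c' ∈ maximalIdeal E ^ (k + 1)›
        refine ⟨b * a, ?_⟩
        rw [smul_eq_mul, map_mul, show e * x - algebraMap L E b * algebraMap L E a =
          (e - algebraMap L E b) * x + algebraMap L E b * (x - algebraMap L E a) by ring]
        refine add_mem ?_ (Ideal.mul_mem_left _ _ ha)
        rw [pow_succ']
        exact Ideal.mul_mem_mul hb hxk
    obtain ⟨c', hc'⟩ := key _ hc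
    exact ⟨c + c', by rw [map_add, ← sub_sub]; exact hc'⟩

theorem sub_mem_pow (z : E) (c : L) (h : θ z = Ideal.Quotient.mk (maximalIdeal L ^ n) c) :
    z - algebraMap L E c ∈ maximalIdeal E ^ n := by
  have hm : (maximalIdeal L).map (algebraMap L E) = maximalIdeal E :=
    Algebra.FormallyUnramified.map_maximalIdeal
  obtain ⟨c', hc'⟩ := exists_sub_mem_pow hn θ hθ z n
  have h0 : ∀ w ∈ maximalIdeal E ^ n, θ w = 0 := by
    have hle : maximalIdeal E ^ n ≤ RingHom.ker θ := by
      rw [← hm, ← Ideal.map_pow, Ideal.map_le_iff_le_comap]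
      intro a ha
      show θ (algebraMap L E a) = 0
      rw [hθ, Ideal.Quotient.eq_zero_iff_mem]
      exact ha
    exact fun w hw => hle hw
  have h1 := h0 _ hc'
  rw [map_sub, h, hθ, ← map_sub, Ideal.Quotient.eq_zero_iff_mem] at h1
  have h2 : algebraMap L E (c - c') ∈ maximalIdeal E ^ n := by
    rw [← hm, ← Ideal.map_pow]; exact Ideal.mem_map_of_mem _ h1
  rw [show z - algebraMap L E c = (z - algebraMap L E c') - algebraMap L E (c - c') by rw [map_sub]; ring]
  exact sub_mem hc' h2

end Core

/-- An algebra essentially of finite type over a G-ring is a G-ring. -/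
theorem isGRing_of_essFiniteType {A L : Type u} [CommRing A] [CommRing L] [Algebra A L]
    [Algebra.EssFiniteType A L] (hA : CAlg.IsGRing A) : CAlg.IsGRing L :=
  EGA4Lib.isGRing_of_isLocalization (Algebra.EssFiniteType.submonoid A L) L
    (EGA4Lib.Jac.isGRing_of_finiteType hA (Algebra.EssFiniteType.subalgebra A L))

open CategoryTheory AlgebraicGeometry

/-- The map of stalks of a morphism given on an affine open by a ring map. -/
theorem stalkMap_germ_spec {Y : Scheme.{u}} {V : Y.Opens} (hV : IsAffineOpen V) {D : Type u} [CommRing D]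
    (g : Γ(Y, V) ⟶ CommRingCat.of D) (f : Spec (CommRingCat.of D) ⟶ Y) (hf : f = Spec.map g ≫ hV.fromSpec)
    (w : Spec (CommRingCat.of D)) (y : Y) (hfy : f w = y) (hy : y ∈ V) :
    Y.presheaf.germ V y hy ≫ (Y.presheaf.stalkCongr (Inseparable.of_eq hfy)).inv ≫ f.stalkMap w =
      g ≫ StructureSheaf.toStalk (CommRingCat.of D) w := by
  subst hfy
  refine Spec.map_injective ?_
  have : Mono hV.fromSpec := inferInstance
  rw [← cancel_mono hV.fromSpec]
  have h2 : Spec.map (Y.presheaf.germ V (f w) hy) ≫ hV.fromSpec = Y.fromSpecStalk (f w) :=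
    hV.fromSpecStalk_eq_fromSpecStalk hy
  have h3 : Spec.map ((Y.presheaf.stalkCongr (Inseparable.of_eq (rfl : f w = f w))).inv) = 𝟙 _ := by
    rw [show (Y.presheaf.stalkCongr (Inseparable.of_eq (rfl : f w = f w))).inv = 𝟙 _ from
      Y.presheaf.stalkSpecializes_refl (f w)]
    exact Spec.map_id _
  simp only [Spec.map_comp, Category.assoc, h2, h3, Category.id_comp,
    Scheme.SpecMap_stalkMap_fromSpecStalk, Spec.fromSpecStalk_eq']
  rw [hf]
  exact (Spec.map_comp_assoc g (StructureSheaf.toStalk _ w) hV.fromSpec).symm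

end Groth.Agent.SmoothingLib.ApproxNbhd
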