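import Groth.Agent.Adic.Rig.Hom
import Groth.Agent.EtStruct.FiniteLevel
import Mathlib.RingTheory.AdicCompletion.LocalRing
import Mathlib.RingTheory.Unramified.LocalRing

/-!
A local map congruent to an isomorphism of completions is etale.
-/

namespace Groth.Agent.SmoothingLib.ApproxIso

open IsLocalRing

universe u

variable {A L : Type u} [CommRing A] [IsLocalRing A] [IsNoetherianRing A] [CommRing L] [IsLocalRing L]
  [IsNoetherianRing L]
  (φ : AdicCompletion (maximalIdeal A) A ≃+* AdicCompletion (maximalIdeal L) L)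

theorem map_pow_eq (n : ℕ) :
    ((maximalIdeal A ^ n).map (algebraMap A (AdicCompletion (maximalIdeal A) A))).map φ.toRingHom =
      (maximalIdeal L ^ n).map (algebraMap L (AdicCompletion (maximalIdeal L) L)) := by
  rw [Ideal.map_pow, Ideal.map_pow, Ideal.map_pow, ← AdicCompletion.maximalIdeal_eq_map,
    ← AdicCompletion.maximalIdeal_eq_map]
  congr 1
  haveI : ((maximalIdeal (AdicCompletion (maximalIdeal A) A)).map φ.toRingHom).IsMaximal :=
    Ideal.map_isMaximal_of_equiv φ
  exact IsLocalRing.eq_maximalIdeal inferInstance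

/-- the truncations of the isomorphism -/
noncomputable def trunc (n : ℕ) : A →+* L ⧸ maximalIdeal L ^ n :=
  (AdicCompletion.evalₐ (maximalIdeal L) n).toRingHom.comp
    (φ.toRingHom.comp (algebraMap A (AdicCompletion (maximalIdeal A) A)))

theorem trunc_eq_zero_iff (n : ℕ) (a : A) : trunc φ n a = 0 ↔ a ∈ maximalIdeal A ^ n := by
  show AdicCompletion.evalₐ (maximalIdeal L) n (φ (algebraMap A _ a)) = 0 ↔ _
  rw [← Adic.Rig.mem_pow_map_iff (IsNoetherian.noetherian _), ← map_pow_eq φ n]
  show φ.toRingHom (algebraMap A _ a) ∈ _ ↔ _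
  refine Iff.trans ?_ (Iff.trans (Adic.Rig.mem_pow_map_iff (IsNoetherian.noetherian (maximalIdeal A)) n
    (algebraMap A _ a)) ?_)
  · constructor
    · intro h
      obtain ⟨z, hz, hza⟩ := (Ideal.mem_map_iff_of_surjective _ φ.surjective).1 h
      exact φ.injective hza ▸ hz
    · exact fun h => Ideal.mem_map_of_mem _ h
  · rw [AlgHom.commutes, Ideal.Quotient.algebraMap_eq, Ideal.Quotient.eq_zero_iff_mem]

theorem trunc_surjective (n : ℕ) : Function.Surjective (trunc φ n) := fun w => by
  obtain ⟨z, hz⟩ := AdicCompletion.surjective_evalₐ (maximalIdeal L) n w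
  obtain ⟨a, ha⟩ := Adic.Rig.exists_sub_mem_pow_map (IsNoetherian.noetherian (maximalIdeal A)) (φ.symm z) n
  refine ⟨a, ?_⟩
  have h1 := Ideal.mem_map_of_mem φ.toRingHom ha
  rw [map_pow_eq φ n, map_sub, show φ.toRingHom (φ.symm z) = z from φ.apply_symm_apply z,
    Adic.Rig.mem_pow_map_iff (IsNoetherian.noetherian _), map_sub, sub_eq_zero, hz] at h1
  exact h1.symm

variable {φ}

/-- A surjective endomorphism of a noetherian ring is injective. -/
theorem injective_of_surjective {R : Type u} [CommRing R] [IsNoetherianRing R] (g : R →+* R)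
    (hg : Function.Surjective g) : Function.Injective g := by
  let K : ℕ →o Ideal R := ⟨fun k => RingHom.ker (g ^ k), monotone_nat_of_le_succ fun k x hx => by
    rw [RingHom.mem_ker, RingHom.coe_pow] at hx ⊢
    rw [Function.iterate_succ_apply', hx, map_zero]⟩
  obtain ⟨k, hk⟩ := monotone_stabilizes_iff_noetherian.2 ‹IsNoetherianRing R› K
  refine (injective_iff_map_eq_zero _).2 fun x hx => ?_
  obtain ⟨y, rfl⟩ := hg.iterate k x
  have h1 : y ∈ K (k + 1) := by
    show (g ^ (k + 1)) y = 0
    rw [RingHom.coe_pow, Function.iterate_succ_apply']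
    exact hx
  rw [← hk (k + 1) k.le_succ] at h1
  change (g ^ k) y = 0 at h1
  rwa [RingHom.coe_pow] at h1

variable (φ) {E : Type u} [CommRing E] [IsLocalRing E] [IsNoetherianRing E] [Algebra A E] [Algebra L E]
  [IsLocalHom (algebraMap A E)] [IsLocalHom (algebraMap L E)] [Algebra.EssFiniteType A E]
  [Module.Flat L E]

/-- The congruence makes `A → E` flat, unramified, with trivial residue extension. -/
theorem flat_unramified {N : ℕ} (hN : 2 ≤ N)
    (hmL : (maximalIdeal L).map (algebraMap L E) = maximalIdeal E)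
    (hresL : ∀ b : E, ∃ l : L, b - algebraMap L E l ∈ maximalIdeal E)
    (hag : ∀ (a : A) (l : L), trunc φ N a = Ideal.Quotient.mk _ l →
      algebraMap A E a - algebraMap L E l ∈ maximalIdeal E ^ N) :
    Module.Flat A E ∧ (maximalIdeal A).map (algebraMap A E) = maximalIdeal E ∧
      ∀ b : E, ∃ a : A, b - algebraMap A E a ∈ maximalIdeal E := by
  have hsq : ∀ b : E, ∃ a : A, b - algebraMap A E a ∈ maximalIdeal E ^ 2 := fun b => by
    obtain ⟨l, hl⟩ := EtStruct.exists_sub_mem_pow hmL hresL N b
    obtain ⟨a, ha⟩ := trunc_surjective φ N (Ideal.Quotient.mk _ l)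
    refine ⟨a, Ideal.pow_le_pow_right hN ?_⟩
    rw [show b - algebraMap A E a = (b - algebraMap L E l) - (algebraMap A E a - algebraMap L E l) by ring]
    exact sub_mem hl (hag a l ha)
  have hm := EtStruct.map_maximalIdeal_eq_of_forall_sub_mem_sq hsq
  have hres : ∀ b : E, ∃ a : A, b - algebraMap A E a ∈ maximalIdeal E := fun b =>
    (hsq b).imp fun a ha => Ideal.pow_le_self two_ne_zero ha
  haveI : Algebra.IsSeparable (ResidueField A) (ResidueField E) := ⟨fun z => by
    obtain ⟨b, rfl⟩ := residue_surjective z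
    obtain ⟨a, ha⟩ := hres b
    rw [show residue E b = algebraMap (ResidueField A) (ResidueField E) (residue A a) from
      Ideal.Quotient.eq.2 ha]
    exact isSeparable_algebraMap _⟩
  haveI : Algebra.FormallyUnramified A E := Algebra.FormallyUnramified.of_map_maximalIdeal hm
  refine ⟨EtStruct.flat_of_quotient_bijective hres fun n => ?_, hm, hres⟩
  have hA : ∀ a ∈ maximalIdeal A ^ n, algebraMap A E a ∈ maximalIdeal E ^ n := fun a ha => by
    rw [← hm, ← Ideal.map_pow]; exact Ideal.mem_map_of_mem _ ha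
  refine le_antisymm ?_ fun a ha => hA a ha
  let qA : A ⧸ maximalIdeal A ^ n →+* E ⧸ maximalIdeal E ^ n :=
    Ideal.quotientMap (maximalIdeal E ^ n) (algebraMap A E) fun a ha => hA a ha
  let qL : L ⧸ maximalIdeal L ^ n →+* E ⧸ maximalIdeal E ^ n :=
    Ideal.quotientMap (maximalIdeal E ^ n) (algebraMap L E) (EtStruct.comap_pow_maximalIdeal hmL n).ge
  have hqA : Function.Surjective qA := fun w => by
    obtain ⟨b, rfl⟩ := Ideal.Quotient.mk_surjective w
    obtain ⟨a, ha⟩ := EtStruct.exists_sub_mem_pow hm hres n b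
    exact ⟨Ideal.Quotient.mk _ a, (Ideal.Quotient.eq.2 ha).symm⟩
  have hqL : Function.Bijective qL := by
    refine ⟨(injective_iff_map_eq_zero _).2 fun w hw => ?_, fun w => ?_⟩
    · obtain ⟨l, rfl⟩ := Ideal.Quotient.mk_surjective w
      exact Ideal.Quotient.eq_zero_iff_mem.2
        ((EtStruct.comap_pow_maximalIdeal hmL n).le (Ideal.Quotient.eq_zero_iff_mem.1 hw :))
    · obtain ⟨b, rfl⟩ := Ideal.Quotient.mk_surjective w
      obtain ⟨l, hl⟩ := EtStruct.exists_sub_mem_pow hmL hresL n b
      exact ⟨Ideal.Quotient.mk _ l, (Ideal.Quotient.eq.2 hl).symm⟩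
  let t : A ⧸ maximalIdeal A ^ n →+* L ⧸ maximalIdeal L ^ n :=
    Ideal.Quotient.lift _ (trunc φ n) fun a ha => (trunc_eq_zero_iff φ n a).2 ha
  have ht : Function.Bijective t :=
    ⟨(injective_iff_map_eq_zero _).2 fun w hw => by
      obtain ⟨a, rfl⟩ := Ideal.Quotient.mk_surjective w
      exact Ideal.Quotient.eq_zero_iff_mem.2 ((trunc_eq_zero_iff φ n a).1 hw),
      Ideal.Quotient.lift_surjective_of_surjective _ _ (trunc_surjective φ n)⟩
  let eL := RingEquiv.ofBijective qL hqL
  let et := RingEquiv.ofBijective t ht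
  have hinj : Function.Injective qA := by
    let g : A ⧸ maximalIdeal A ^ n →+* A ⧸ maximalIdeal A ^ n :=
      et.symm.toRingHom.comp (eL.symm.toRingHom.comp qA)
    have h1 := injective_of_surjective g (et.symm.surjective.comp (eL.symm.surjective.comp hqA))
    intro v w hvw
    exact h1 (show et.symm (eL.symm (qA v)) = et.symm (eL.symm (qA w)) by rw [hvw])
  intro a ha
  rw [← Ideal.Quotient.eq_zero_iff_mem]
  refine hinj ?_
  rw [map_zero]
  exact Ideal.Quotient.eq_zero_iff_mem.2 ha

end Groth.Agent.SmoothingLib.ApproxIso
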