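import Groth.Agent.CplBC.Scheme
import Groth.Agent.Adic.Rig.Hom
import Groth.Agent.FDesc.BaseChangeStalk
import Groth.Agent.Hens.BranchPreimmersion
import Groth.Agent.EtStruct.FiniteLevel

/-!
# Completed local rings of the base change to the completion of the base local ring
-/

set_option autoImplicit false
set_option linter.style.haveILetI false
set_option backward.isDefEq.respectTransparency false
set_option backward.isDefEq.respectTransparency.types false

universe u

open CategoryTheory CategoryTheory.Limits AlgebraicGeometry IsLocalRing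

namespace Groth.Agent.SmoothingLib.MatchCpl

/-- Levelwise bijectivity gives an isomorphism of completions extending the map. -/
theorem exists_completion_equiv {B C : Type u} [CommRing B] [CommRing C] (P : Ideal B) (Q : Ideal C) (ψ : B →+* C)
    (h : ∀ n, P ^ n ≤ (Q ^ n).comap ψ) (hbij : ∀ n, Function.Bijective (Ideal.quotientMap (Q ^ n) ψ (h n))) :
    ∃ μ : AdicCompletion P B ≃+* AdicCompletion Q C,
      ∀ b, μ (algebraMap B _ b) = algebraMap C _ (ψ b) := by
  let e : ∀ n, B ⧸ P ^ n ≃+* C ⧸ Q ^ n := fun n => RingEquiv.ofBijective _ (hbij n)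
  have hnat : ∀ {m n : ℕ} (hle : m ≤ n) (x : B ⧸ P ^ n),
      Ideal.Quotient.factorPow Q hle (e n x) = e m (Ideal.Quotient.factorPow P hle x) := fun hle x => by
    obtain ⟨b, rfl⟩ := Ideal.Quotient.mk_surjective x
    rfl
  have hev : ∀ {R : Type u} [CommRing R] (I : Ideal R) {m n : ℕ} (hle : m ≤ n) (x : AdicCompletion I R),
      Ideal.Quotient.factorPow I hle (AdicCompletion.evalₐ I n x) = AdicCompletion.evalₐ I m x := by
    intro R _ I m n hle x
    obtain ⟨c, rfl⟩ := AdicCompletion.mk_surjective I R x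
    rw [AdicCompletion.evalₐ_mk, AdicCompletion.evalₐ_mk]
    exact (Ideal.Quotient.eq.2 (by
      have := c.2 hle
      rw [smul_eq_mul, Ideal.mul_top, SModEq.sub_mem] at this
      simpa using neg_mem this))
  let F := AdicCompletion.liftRingHom Q (fun n => (e n).toRingHom.comp (AdicCompletion.evalₐ P n).toRingHom)
    fun hle => RingHom.ext fun x => (hnat hle _).trans (congrArg (e _) (hev P hle x))
  let G := AdicCompletion.liftRingHom P (fun n => (e n).symm.toRingHom.comp (AdicCompletion.evalₐ Q n).toRingHom)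
    fun {m n} hle => RingHom.ext fun x => (e m).injective (by
      show e m (Ideal.Quotient.factorPow P hle ((e n).symm _)) = e m ((e m).symm _)
      rw [← hnat, RingEquiv.apply_symm_apply, RingEquiv.apply_symm_apply]
      exact hev Q hle x)
  refine ⟨RingEquiv.ofRingHom F G
    (RingHom.ext fun x => AdicCompletion.ext_evalₐ fun n => by
      simp only [F, G, RingHom.comp_apply, AdicCompletion.evalₐ_liftRingHom, RingHom.id_apply]
      show e n (AdicCompletion.evalₐ P n (AdicCompletion.liftRingHom P _ _ x)) = _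
      rw [AdicCompletion.evalₐ_liftRingHom]
      exact (e n).apply_symm_apply _)
    (RingHom.ext fun x => AdicCompletion.ext_evalₐ fun n => by
      simp only [F, G, RingHom.comp_apply, AdicCompletion.evalₐ_liftRingHom, RingHom.id_apply]
      show (e n).symm (AdicCompletion.evalₐ Q n (AdicCompletion.liftRingHom Q _ _ x)) = _
      rw [AdicCompletion.evalₐ_liftRingHom]
      exact (e n).symm_apply_apply _), fun b => AdicCompletion.ext_evalₐ fun n => ?_⟩
  show AdicCompletion.evalₐ Q n (F (algebraMap B _ b)) = _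
  simp only [F, AdicCompletion.evalₐ_liftRingHom, RingHom.comp_apply, AlgHom.commutes]
  show e n (AdicCompletion.evalₐ P n (algebraMap B _ b)) = _
  rw [AlgHom.commutes]
  rfl

/-- The stalk maps of a flat preimmersion are bijective. -/
theorem bijective_stalkMap_of_flat_preimmersion {X Y : Scheme.{u}} (f : X ⟶ Y) [Flat f] [IsPreimmersion f]
    (x : X) : Function.Bijective (f.stalkMap x).hom := by
  refine ⟨?_, f.stalkMap_surjective x⟩
  letI := (f.stalkMap x).hom.toAlgebra
  haveI : Module.Flat (Y.presheaf.stalk (f x)) (X.presheaf.stalk x) := Flat.stalkMap f x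
  haveI : IsLocalHom (algebraMap (Y.presheaf.stalk (f x)) (X.presheaf.stalk x)) :=
    inferInstanceAs (IsLocalHom (f.stalkMap x).hom)
  haveI := Module.FaithfullyFlat.of_flat_of_isLocalHom (A := Y.presheaf.stalk (f x)) (B := X.presheaf.stalk x)
  exact FaithfulSMul.algebraMap_injective _ _

variable {S X : Scheme.{u}}

/-- The completion of the local ring of `S` at `s`, as a scheme over `S`. -/
noncomputable abbrev cplMap (s : S) :
    Spec (CommRingCat.of (AdicCompletion (maximalIdeal ↑(S.presheaf.stalk s)) ↑(S.presheaf.stalk s))) ⟶ S :=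
  Spec.map (CommRingCat.ofHom (algebraMap ↑(S.presheaf.stalk s) _)) ≫ S.fromSpecStalk s

theorem comp_stalkMap_eq (p : X ⟶ S) (x : X) {Z : Scheme.{u}} (g : Z ⟶ X) (z : Z) (hz : g z = x) :
    Spec.map (p.stalkMap x ≫ (X.presheaf.stalkCongr (Inseparable.of_eq hz.symm)).hom ≫ g.stalkMap z) ≫
      S.fromSpecStalk (p x) = Z.fromSpecStalk z ≫ g ≫ p := by
  subst hz
  rw [show (X.presheaf.stalkCongr (Inseparable.of_eq (rfl : g z = g z).symm)).hom = 𝟙 _ from
    X.presheaf.stalkSpecializes_refl (g z)]
  simp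

/-- Over the closed point of the completion, the completed local ring does not change. -/
theorem exists_point [IsLocallyNoetherian S] (p : X ⟶ S) [LocallyOfFiniteType p] (x : X) :
    ∃ (Xh : Scheme.{u}) (gX : Xh ⟶ X)
      (hX : Xh ⟶ Spec (CommRingCat.of (AdicCompletion (maximalIdeal ↑(S.presheaf.stalk (p x)))
        ↑(S.presheaf.stalk (p x))))) (xh : Xh) (hx : gX xh = x),
      IsPullback gX hX p (cplMap (p x)) ∧ hX xh = closedPoint _ ∧
      Function.Bijective (gX.residueFieldMap xh) ∧
      ∃ μ : AdicCompletion (maximalIdeal ↑(X.presheaf.stalk x)) ↑(X.presheaf.stalk x) ≃+*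
          AdicCompletion (maximalIdeal ↑(Xh.presheaf.stalk xh)) ↑(Xh.presheaf.stalk xh),
        ∀ b, μ (algebraMap _ _ b) = algebraMap _ _
          ((gX.stalkMap xh).hom ((X.presheaf.stalkCongr (Inseparable.of_eq hx.symm)).hom.hom b)) := by
  let A : Type u := S.presheaf.stalk (p x)
  let X' := pullback p (S.fromSpecStalk (p x))
  let f' : X' ⟶ Spec (CommRingCat.of A) := pullback.snd p (S.fromSpecStalk (p x))
  let g1 : X' ⟶ X := pullback.fst p (S.fromSpecStalk (p x))
  let Ah : Type u := AdicCompletion (maximalIdeal A) A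
  let alg : Spec (CommRingCat.of Ah) ⟶ Spec (CommRingCat.of A) := Spec.map (CommRingCat.ofHom (algebraMap A Ah))
  have hm : (maximalIdeal A).FG := IsNoetherian.noetherian _
  obtain ⟨x', hx'1, hx'2⟩ := Scheme.Pullback.exists_preimage_pullback (f := p) (g := S.fromSpecStalk (p x)) x
    (closedPoint A) Scheme.fromSpecStalk_closedPoint.symm
  haveI : IsLocalHom (algebraMap A Ah) :=
    inferInstanceAs (IsLocalHom (algebraMap A (AdicCompletion (maximalIdeal A) A)))
  have halg : alg (closedPoint Ah) = closedPoint A :=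
    PrimeSpectrum.ext (((IsLocalRing.local_hom_TFAE (algebraMap A Ah)).out 0 4 rfl rfl).mp inferInstance)
  obtain ⟨xh, hxh1, hxh2⟩ := Scheme.Pullback.exists_preimage_pullback (f := f') (g := alg) x'
    (closedPoint Ah) (hx'2.trans halg.symm)
  let fst : Curv2.bcCpl A f' ⟶ X' := Curv2.bcCplFst A f'
  have hx : (fst ≫ g1) xh = x := by
    show g1 (fst xh) = x
    rw [show fst xh = x' from hxh1]
    exact hx'1
  have hpb : IsPullback (fst ≫ g1) (pullback.snd f' alg) p (cplMap (p x)) :=
    (IsPullback.of_hasPullback f' alg).paste_horiz (IsPullback.of_hasPullback p (S.fromSpecStalk (p x)))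
  let ι : ↑(X.presheaf.stalk x) →+* ↑((Curv2.bcCpl A f').presheaf.stalk xh) :=
    ((X.presheaf.stalkCongr (Inseparable.of_eq hx.symm)).hom ≫ (fst ≫ g1).stalkMap xh).hom
  have hle : ∀ n, maximalIdeal ↑(X.presheaf.stalk x) ^ n ≤
      (maximalIdeal ↑((Curv2.bcCpl A f').presheaf.stalk xh) ^ n).comap ι := fun n => by
    rw [← Ideal.map_le_iff_le_comap, Ideal.map_pow]
    refine Ideal.pow_right_mono (((IsLocalRing.local_hom_TFAE ι).out 0 2 rfl rfl).mp ?_) n
    show IsLocalHom (((X.presheaf.stalkCongr (Inseparable.of_eq hx.symm)).hom ≫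
      (fst ≫ g1).stalkMap xh).hom)
    rw [CommRingCat.hom_comp]
    exact RingHom.isLocalHom_comp _ _
  haveI : Flat g1 := by
    haveI := FDesc.BaseChangeStalk.flat_fromSpecStalk (X := S) (p x)
    exact MorphismProperty.pullback_fst _ _ inferInstance
  have hg1 : Function.Bijective ((X.presheaf.stalkCongr (Inseparable.of_eq hx.symm)).hom ≫
      g1.stalkMap (fst xh)).hom := by
    rw [CommRingCat.hom_comp]
    exact (bijective_stalkMap_of_flat_preimmersion g1 (fst xh)).comp (ConcreteCategory.bijective_of_isIso _)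
  have hι : ∀ b, ι b = (fst.stalkMap xh).hom
      (((X.presheaf.stalkCongr (Inseparable.of_eq hx.symm)).hom ≫ g1.stalkMap (fst xh)).hom b) := fun b => by
    simp only [ι, Scheme.Hom.stalkMap_comp, CommRingCat.hom_comp, RingHom.comp_apply]
  let e1 := RingEquiv.ofBijective _ hg1
  have hbij : ∀ n, Function.Bijective (Ideal.quotientMap (maximalIdeal _ ^ n) ι (hle n)) := fun n => by
    have hle' : maximalIdeal (X'.presheaf.stalk (fst xh)) ^ n ≤
        (maximalIdeal ((Curv2.bcCpl A f').presheaf.stalk xh) ^ n).comap (fst.stalkMap xh).hom := by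
      rw [← Ideal.map_le_iff_le_comap, Ideal.map_pow]
      exact Ideal.pow_right_mono (((IsLocalRing.local_hom_TFAE (fst.stalkMap xh).hom).out 0 2 rfl rfl).mp
        inferInstance) n
    have hb := CplBC.bijective_quotientMap hm f' xh (by rw [show fst xh = x' from hxh1]; exact hx'2) n hle'
    have hmap : (maximalIdeal ↑(X.presheaf.stalk x) ^ n).map e1.toRingHom =
        maximalIdeal (X'.presheaf.stalk (fst xh)) ^ n := by
      rw [Ideal.map_pow]
      exact congrArg (· ^ n) (IsLocalRing.map_ringEquiv_maximalIdeal e1)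
    refine ⟨?_, fun y => ?_⟩
    · rw [injective_iff_map_eq_zero]
      intro a ha
      obtain ⟨b, rfl⟩ := Ideal.Quotient.mk_surjective a
      rw [Ideal.quotientMap_mk, hι] at ha
      have h1 : Ideal.Quotient.mk (maximalIdeal (X'.presheaf.stalk (fst xh)) ^ n) (e1 b) = 0 :=
        hb.1 (by rw [map_zero, Ideal.quotientMap_mk]; exact ha)
      rw [Ideal.Quotient.eq_zero_iff_mem, ← hmap] at h1
      exact Ideal.Quotient.eq_zero_iff_mem.2 ((Ideal.mem_map_of_equiv e1 (e1 b)).1 h1 |>.elim
        fun c hc => e1.injective hc.2 ▸ hc.1)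
    · obtain ⟨a, rfl⟩ := hb.2 y
      obtain ⟨b', rfl⟩ := Ideal.Quotient.mk_surjective a
      obtain ⟨b, rfl⟩ := hg1.2 b'
      exact ⟨Ideal.Quotient.mk _ b, by rw [Ideal.quotientMap_mk, Ideal.quotientMap_mk, hι]⟩
  obtain ⟨μ, hμ⟩ := exists_completion_equiv _ _ ι hle hbij
  refine ⟨_, fst ≫ g1, pullback.snd f' alg, xh, hx, hpb, hxh2, ⟨RingHom.injective _, fun a => ?_⟩, μ, hμ⟩
  obtain ⟨b, rfl⟩ := IsLocalRing.residue_surjective a
  obtain ⟨a', ha'⟩ := (hbij 1).2 (Ideal.Quotient.mk _ b)
  obtain ⟨c, rfl⟩ := Ideal.Quotient.mk_surjective a'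
  rw [Ideal.quotientMap_mk, Ideal.Quotient.eq, pow_one] at ha'
  refine ⟨IsLocalRing.residue _ ((X.presheaf.stalkCongr (Inseparable.of_eq hx.symm)).hom.hom c), ?_⟩
  exact Ideal.Quotient.eq.2 ha'

end Groth.Agent.SmoothingLib.MatchCpl
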