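import Groth.Agent.SmoothingLib.MatchModel
import Groth.Agent.SmoothingLib.ApproxNbhd
import Groth.Agent.Hens.BranchPreimmersion
import Groth.Agent.Hensel.ExcellentHens

/-!
# Spreading out an étale correspondence over a completion to an étale neighbourhood of the base
-/

set_option autoImplicit false
set_option linter.style.haveILetI false
set_option backward.isDefEq.respectTransparency false
set_option backward.isDefEq.respectTransparency.types false
set_option maxHeartbeats 1000000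

universe u

open CategoryTheory Limits AlgebraicGeometry IsLocalRing

namespace Groth.Agent.SmoothingLib.MatchNbhd

open Groth.Agent.LimLib Groth.Agent.Hens

/-- `Spec` of the residue map of a local ring is at the closed point. -/
theorem spec_residue_apply (L : Type u) [CommRing L] [IsLocalRing L]
    (z : Spec (CommRingCat.of (ResidueField L))) :
    Spec.map (CommRingCat.ofHom (IsLocalRing.residue L)) z = closedPoint L := by
  refine PrimeSpectrum.ext ?_
  show Ideal.comap (IsLocalRing.residue L) z.asIdeal = maximalIdeal L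
  rw [(Ideal.eq_bot_or_top z.asIdeal).resolve_right z.2.ne_top]
  exact Ideal.mk_ker

/-- An étale neighbourhood of the base over which the two models match. -/
theorem exists_matching {X Y S T : Scheme.{u}} [IsLocallyNoetherian S]
    (p : X ⟶ S) (q : Y ⟶ T) [LocallyOfFiniteType p] [LocallyOfFiniteType q]
    [LocallyOfFiniteType (specULiftZIsTerminal.from T)]
    (s : S) (hG : CAlg.IsGRing ↑(S.presheaf.stalk s)) (t : T)
    (σ : ↑(T.presheaf.stalk t) →+* AdicCompletion (maximalIdeal ↑(S.presheaf.stalk s)) ↑(S.presheaf.stalk s))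
    [IsLocalHom σ]
    {Xh : Scheme.{u}} {gX : Xh ⟶ X}
    {hX : Xh ⟶ Spec (CommRingCat.of (AdicCompletion (maximalIdeal ↑(S.presheaf.stalk s)) ↑(S.presheaf.stalk s)))}
    (hpb : IsPullback gX hX p
      (Spec.map (CommRingCat.ofHom (algebraMap ↑(S.presheaf.stalk s) _)) ≫ S.fromSpecStalk s))
    {W : Scheme.{u}} [IsAffine W] (eX : W ⟶ Xh) (fY : W ⟶ pullback q (Spec.map (CommRingCat.ofHom σ) ≫ T.fromSpecStalk t))
    [Etale eX] [Etale fY]
    (hcomm : fY ≫ pullback.snd q (Spec.map (CommRingCat.ofHom σ) ≫ T.fromSpecStalk t) = eX ≫ hX)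
    {U : X.Opens} (hU : IsAffineOpen U) {V0 : S.Opens} (hV0 : IsAffineOpen V0) (hs : s ∈ V0) (hUV : U ≤ p ⁻¹ᵁ V0)
    (hWU : Set.range (eX ≫ gX) ⊆ U)
    {U' : Y.Opens} (hU' : IsAffineOpen U') {T0 : T.Opens} (hT0 : IsAffineOpen T0) (ht : t ∈ T0) (hU'T : U' ≤ q ⁻¹ᵁ T0)
    (hWU' : Set.range (fY ≫ pullback.fst q (Spec.map (CommRingCat.ofHom σ) ≫ T.fromSpecStalk t)) ⊆ U')
    (w : W) (hw : (eX ≫ hX) w = closedPoint (AdicCompletion (maximalIdeal ↑(S.presheaf.stalk s)) ↑(S.presheaf.stalk s)))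
    (hresX : Function.Bijective ((eX ≫ gX).residueFieldMap w))
    (hresY : Function.Bijective (fY.residueFieldMap w)) :
    ∃ (V : Scheme.{u}) (v : V) (e : V ⟶ S) (τ : V ⟶ T) (W' : Scheme.{u}) (w' : W') (a : W' ⟶ X)
      (b : W' ⟶ pullback q τ),
      Etale e ∧ e v = s ∧ Function.Bijective (e.residueFieldMap v) ∧ τ v = t ∧
      Etale a ∧ a w' = (eX ≫ gX) w ∧ Function.Bijective (a.residueFieldMap w') ∧
      a ≫ p = b ≫ pullback.snd q τ ≫ e ∧
      Etale b ∧ (pullback.fst q τ) (b w') =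
        (fY ≫ pullback.fst q (Spec.map (CommRingCat.ofHom σ) ≫ T.fromSpecStalk t)) w ∧
      (pullback.snd q τ) (b w') = v ∧
      Function.Bijective (b.residueFieldMap w') := by
  classical
  let L : Type u := S.presheaf.stalk s
  let Lh : Type u := AdicCompletion (maximalIdeal L) L
  let R : Type u := Γ(S, V0)
  haveI : IsNoetherianRing R := IsLocallyNoetherian.component_noetherian ⟨V0, hV0⟩
  letI algRL : Algebra R L := (S.presheaf.germ V0 s hs).hom.toAlgebra
  haveI : IsLocalization.AtPrime L (hV0.primeIdealOf ⟨s, hs⟩).asIdeal := hV0.isLocalization_stalk ⟨s, hs⟩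
  haveI : IsNoetherianRing L := hG.1
  haveI : IsNoetherianRing Lh := Groth.Agent.RegLoc.Completion.isNoetherianRing_adicCompletion' _
  let cS : Spec (CommRingCat.of Lh) ⟶ S :=
    Spec.map (CommRingCat.ofHom (algebraMap L Lh)) ≫ S.fromSpecStalk s
  let tT : Spec (CommRingCat.of Lh) ⟶ T := Spec.map (CommRingCat.ofHom σ) ≫ T.fromSpecStalk t
  let πW : W ⟶ Spec (CommRingCat.of Lh) := eX ≫ hX
  let gx : W ⟶ X := eX ≫ gX
  let gy : W ⟶ Y := fY ≫ pullback.fst q tT
  let BS := Spec (CommRingCat.of R)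
  let BT := Spec Γ(T, T0)
  let rX : Spec Γ(X, U) ⟶ BS := Spec.map (p.appLE V0 U hUV)
  let rY : Spec Γ(Y, U') ⟶ BT := Spec.map (q.appLE T0 U' hU'T)
  have hrX : rX ≫ hV0.fromSpec = hU.fromSpec ≫ p := IsAffineOpen.SpecMap_appLE_fromSpec p hV0 hU hUV
  have hrY : rY ≫ hT0.fromSpec = hU'.fromSpec ≫ q := IsAffineOpen.SpecMap_appLE_fromSpec q hT0 hU' hU'T
  let sR : Spec (CommRingCat.of Lh) ⟶ BS := Spec.map (CommRingCat.ofHom (algebraMap R Lh))
  have hsR : sR ≫ hV0.fromSpec = cS := by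
    simp only [cS, sR, ← hV0.fromSpecStalk_eq_fromSpecStalk hs, IsAffineOpen.fromSpecStalk]
    rw [← Spec.map_comp_assoc]
    rfl
  let sT : Spec (CommRingCat.of Lh) ⟶ BT := Spec.map (CommRingCat.ofHom σ) ≫ Spec.map (T.presheaf.germ T0 t ht)
  have hsT : sT ≫ hT0.fromSpec = tT := by
    simp only [tT, sT, ← hT0.fromSpecStalk_eq_fromSpecStalk ht, IsAffineOpen.fromSpecStalk, Category.assoc]
  let gxU : W ⟶ Spec Γ(X, U) := IsOpenImmersion.lift hU.fromSpec gx (by rw [hU.range_fromSpec]; exact hWU)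
  have hgxU : gxU ≫ hU.fromSpec = gx := IsOpenImmersion.lift_fac _ _ _
  let gyU : W ⟶ Spec Γ(Y, U') := IsOpenImmersion.lift hU'.fromSpec gy (by rw [hU'.range_fromSpec]; exact hWU')
  have hgyU : gyU ≫ hU'.fromSpec = gy := IsOpenImmersion.lift_fac _ _ _
  have hgxw : gxU ≫ rX = πW ≫ sR := by
    rw [← cancel_mono hV0.fromSpec, Category.assoc, Category.assoc, hrX, reassoc_of% hgxU, hsR]
    simp only [gx, πW, Category.assoc, hpb.w]
    rfl
  have hgyw : gyU ≫ rY = πW ≫ sT := by
    rw [← cancel_mono hT0.fromSpec, Category.assoc, Category.assoc, hrY, reassoc_of% hgyU, hsT]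
    simp only [gy, πW, Category.assoc, pullback.condition, ← hcomm]
    rfl
  haveI : LocallyOfFiniteType hX := MorphismProperty.of_isPullback hpb inferInstance
  haveI : LocallyOfFinitePresentation πW := LocallyOfFinitePresentation.iff_locallyOfFiniteType.2 inferInstance
  haveI : LocallyOfFinitePresentation rX := by
    rw [LocallyOfFinitePresentation.SpecMap_iff]
    exact RingHom.FinitePresentation.of_finiteType.1 (LocallyOfFiniteType.finiteType_appLE p hV0 hU hUV)
  haveI : LocallyOfFiniteType (specULiftZIsTerminal.from BT) := by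
    rw [show specULiftZIsTerminal.from BT = hT0.fromSpec ≫ specULiftZIsTerminal.from T from
      specULiftZIsTerminal.hom_ext _ _]
    infer_instance
  haveI : IsNoetherianRing (ULift.{u} ℤ) := isNoetherianRing_of_ringEquiv ℤ ULift.ringEquiv.symm
  haveI : LocallyOfFinitePresentation (specULiftZIsTerminal.from BT) :=
    LocallyOfFinitePresentation.iff_locallyOfFiniteType.2 inferInstance
  haveI : IsLocallyNoetherian T := LocallyOfFiniteType.isLocallyNoetherian (specULiftZIsTerminal.from T)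
  haveI : LocallyOfFinitePresentation rY := by
    haveI : IsNoetherianRing Γ(T, T0) := IsLocallyNoetherian.component_noetherian ⟨T0, hT0⟩
    rw [LocallyOfFinitePresentation.SpecMap_iff]
    exact RingHom.FinitePresentation.of_finiteType.1 (LocallyOfFiniteType.finiteType_appLE q hT0 hU' hU'T)
  -- the system of finitely generated subalgebras
  let D := fgDiagram R Lh
  let c := fgCone R Lh
  let tS : ∀ i, D.obj i ⟶ BS := fun i =>
    Spec.map (CommRingCat.ofHom (algebraMap R (Algebra.adjoin R (i.unop : Set Lh))))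
  have htS : ∀ i, c.π.app i ≫ tS i = sR := fun i => (Spec.map_comp _ _).symm
  have htSn : ∀ {i j} (a : i ⟶ j), D.map a ≫ tS j = tS i := fun a => by
    refine (Spec.map_comp _ _).symm.trans (congrArg Spec.map ?_)
    exact CommRingCat.hom_ext (RingHom.ext fun r => (fgIncl R Lh a.unop.le).commutes r)
  let tterm : D ⟶ (Functor.const _).obj (Spec (.of (ULift.{u} ℤ))) :=
    { app := fun i => specULiftZIsTerminal.from _
      naturality := fun _ _ _ => specULiftZIsTerminal.hom_ext _ _ }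
  obtain ⟨i₀, τ₀, hτ₀, -⟩ := Scheme.exists_π_app_comp_eq_of_locallyOfFinitePresentation D tterm
    (specULiftZIsTerminal.from BT) c (isLimitFgCone R Lh) sT (by ext; exact specULiftZIsTerminal.hom_ext _ _)
  obtain ⟨i₁, W₁, f₁, g₁, hf₁, hc₁, hq₁, hsq₁⟩ := hasModel (isLimitFgCone R Lh) (X := W) (c := c) πW
  obtain ⟨i₂, a₁, a₀, -⟩ : ∃ (k : _) (a : k ⟶ i₁) (b : k ⟶ i₀), True :=
    ⟨IsCofiltered.min i₁ i₀, IsCofiltered.minToLeft _ _, IsCofiltered.minToRight _ _, trivial⟩
  obtain ⟨hf₂, hc₂, hq₂, hsq₂⟩ := HasModel.at_finer (c := c) (f := πW) hf₁ hc₁ hq₁ hsq₁ a₁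
  -- etaleness over the completion
  have hetX : Etale (pullback.lift (f := rX) (g := c.π.app i₂ ≫ tS i₂) gxU πW (by rw [htS]; exact hgxw)) := by
    let μ : pullback rX (c.π.app i₂ ≫ tS i₂) ⟶ pullback p cS :=
      pullback.map _ _ _ _ hU.fromSpec (𝟙 _) hV0.fromSpec hrX (by rw [htS, Category.id_comp]; exact hsR)
    have : Etale (μ ≫ hpb.isoPullback.inv) := inferInstance
    refine MorphismProperty.of_postcomp (W := @Etale) (W' := @Etale) _ (μ ≫ hpb.isoPullback.inv) this ?_
    convert (inferInstance : Etale eX) using 1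
    rw [← Category.assoc, Iso.comp_inv_eq]
    apply pullback.hom_ext
    · simp [μ, hgxU, gx]
      exact congrArg (eX ≫ ·) hpb.isoPullback_hom_fst.symm
    · simp [μ, πW]
      exact congrArg (eX ≫ ·) hpb.isoPullback_hom_snd.symm
  obtain ⟨i₃, φ₃, W₃, f₃, g₃, q₃, h₃x, hh₃x, hf₃, hc₃, hq₃, hsq₃, hq₃sq, -, hg₃x, het₃⟩ :=
    MatchModel.exists_etale_stage (isLimitFgCone R Lh) rX (pullback.snd f₁ (D.map a₁)) hsq₂ (tS i₂) gxU _ hetX
  let τ₃ : D.obj i₃ ⟶ BT := D.map (φ₃ ≫ a₀) ≫ τ₀
  have hτ₃ : c.π.app i₃ ≫ τ₃ = sT := by rw [c.w_assoc]; exact hτ₀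
  have hetY : Etale (pullback.lift (f := rY) (g := c.π.app i₃ ≫ τ₃) gyU πW (by rw [hτ₃]; exact hgyw)) := by
    let μ : pullback rY (c.π.app i₃ ≫ τ₃) ⟶ pullback q tT :=
      pullback.map _ _ _ _ hU'.fromSpec (𝟙 _) hT0.fromSpec hrY (by rw [hτ₃, Category.id_comp]; exact hsT)
    have : Etale μ := inferInstance
    refine MorphismProperty.of_postcomp (W := @Etale) (W' := @Etale) _ μ this ?_
    convert (inferInstance : Etale fY) using 1
    apply pullback.hom_ext
    · simp [μ, hgyU, gy]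
    · simp [μ, πW, hcomm]
      exact hcomm.symm
  obtain ⟨i₄, φ₄, W₄, f₄, g₄, q₄, h₄y, hh₄y, hf₄, hc₄, hq₄, hsq₄, hq₄sq, hg₄q, hg₄y, het₄⟩ :=
    MatchModel.exists_etale_stage (isLimitFgCone R Lh) rY f₃ hsq₃ τ₃ gyU _ hetY
  -- the etale neighbourhood of the base
  let A₀ := Algebra.adjoin R (i₄.unop : Set Lh)
  haveI : Algebra.FinitePresentation R A₀ :=
    Algebra.FinitePresentation.of_finiteType.1 ((Subalgebra.fg_iff_finiteType A₀).1 ⟨i₄.unop, rfl⟩)
  obtain ⟨E, _, _, hE, ψ, ρ, hρ⟩ := ApproxEtale.exists_etale_nbhd (R := R) (L := L)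
    (ApproxEtale.indSmooth_of_localization (hV0.primeIdealOf ⟨s, hs⟩).asIdeal.primeCompl
      (Popescu.indSmooth ((Groth.Agent.Hensel.isGRing_iff_isRegularHom_cpl _).1 hG)))
    (fun z => by
      obtain ⟨⟨r, d⟩, h⟩ := IsLocalization.surj (hV0.primeIdealOf ⟨s, hs⟩).asIdeal.primeCompl z
      exact ⟨r, d, IsLocalization.map_units _ d, by rw [mul_comm]; exact h⟩) A₀.val 1 one_ne_zero
  haveI := hE
  let κ := ResidueField Lh
  let V := Spec (CommRingCat.of E)
  let gκ : Spec (CommRingCat.of κ) ⟶ V :=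
    Spec.map (CommRingCat.ofHom ((IsLocalRing.residue Lh).comp ψ.toRingHom))
  let kc : Spec (CommRingCat.of κ) ⟶ Spec (CommRingCat.of Lh) :=
    Spec.map (CommRingCat.ofHom (IsLocalRing.residue Lh))
  let rρ : V ⟶ D.obj i₄ := Spec.map (CommRingCat.ofHom ρ.toRingHom)
  let sV : V ⟶ BS := Spec.map (CommRingCat.ofHom (algebraMap R E))
  let e : V ⟶ S := sV ≫ hV0.fromSpec
  let τ : V ⟶ T := (rρ ≫ D.map φ₄ ≫ τ₃) ≫ hT0.fromSpec
  haveI : Etale sV := (HasRingHomProperty.Spec_iff (P := @Etale)).2 (RingHom.etale_algebraMap.2 hE)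
  have hsV : rρ ≫ tS i₄ = sV :=
    (Spec.map_comp _ _).symm.trans (congrArg Spec.map (CommRingCat.hom_ext (RingHom.ext fun r => ρ.commutes r)))
  haveI : IsLocalHom (algebraMap L Lh) :=
    inferInstanceAs (IsLocalHom (algebraMap L (AdicCompletion (maximalIdeal L) L)))
  have hres : ∀ a : A₀, IsLocalRing.residue Lh (ψ (ρ a)) = IsLocalRing.residue Lh a := fun a => by
    rw [← sub_eq_zero, ← map_sub, IsLocalRing.residue_eq_zero_iff]
    have h1 := (Groth.Agent.Adic.Rig.mem_pow_map_iff (IsNoetherian.noetherian (maximalIdeal L)) 1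
      (ψ (ρ a) - (a : Lh))).2 (by rw [map_sub, hρ a, sub_eq_zero]; rfl)
    rw [pow_one] at h1
    exact ((IsLocalRing.local_hom_TFAE (algebraMap L Lh)).out 0 2 rfl rfl).mp inferInstance h1
  have hgρ : gκ ≫ rρ = kc ≫ c.π.app i₄ := by
    refine (Spec.map_comp _ _).symm.trans (Eq.trans (congrArg Spec.map ?_) (Spec.map_comp _ _))
    exact CommRingCat.hom_ext (RingHom.ext hres)
  have hge : gκ ≫ e = kc ≫ cS := by
    rw [← Category.assoc gκ sV, ← hsV, ← Category.assoc gκ rρ, hgρ, Category.assoc kc, htS,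
      Category.assoc, hsR]
  have hgτ : gκ ≫ τ = kc ≫ tT := by
    simp only [τ, Category.assoc]
    rw [reassoc_of% hgρ, c.w_assoc φ₄, reassoc_of% hτ₃, hsT]
  let pt : Spec (CommRingCat.of κ) := closedPoint κ
  have hkc : ∀ z, kc z = closedPoint Lh := spec_residue_apply Lh
  have hcS : cS (closedPoint Lh) = s := by
    show S.fromSpecStalk s (Spec.map (CommRingCat.ofHom (algebraMap L Lh)) (closedPoint Lh)) = s
    rw [show Spec.map (CommRingCat.ofHom (algebraMap L Lh)) (closedPoint Lh) = closedPoint L from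
      PrimeSpectrum.ext (((IsLocalRing.local_hom_TFAE (algebraMap L Lh)).out 0 4 rfl rfl).mp inferInstance)]
    exact Scheme.fromSpecStalk_closedPoint
  have htT : tT (closedPoint Lh) = t := by
    show T.fromSpecStalk t (Spec.map (CommRingCat.ofHom σ) (closedPoint Lh)) = t
    rw [show Spec.map (CommRingCat.ofHom σ) (closedPoint Lh) = closedPoint (T.presheaf.stalk t) from
      PrimeSpectrum.ext (((IsLocalRing.local_hom_TFAE σ).out 0 4 rfl rfl).mp inferInstance)]
    exact Scheme.fromSpecStalk_closedPoint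
  haveI : IsClosedImmersion kc := IsClosedImmersion.spec_of_surjective _ IsLocalRing.residue_surjective
  have hresκ : Function.Bijective (gκ.residueFieldMap pt) ∧ Function.Bijective (e.residueFieldMap (gκ pt)) := by
    refine bijective_residueFieldMap_cancel gκ e _ hge pt rfl ?_
    haveI : IsClosedImmersion (kc ≫ Spec.map (CommRingCat.ofHom (algebraMap L Lh))) := by
      rw [← Spec.map_comp]
      refine IsClosedImmersion.spec_of_surjective _ fun z => ?_
      obtain ⟨z, rfl⟩ := IsLocalRing.residue_surjective z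
      obtain ⟨l, hl⟩ := Groth.Agent.Adic.Rig.exists_sub_mem_pow_map (IsNoetherian.noetherian (maximalIdeal L)) z 1
      rw [pow_one] at hl
      refine ⟨l, Eq.symm ?_⟩
      show IsLocalRing.residue Lh z = IsLocalRing.residue Lh (algebraMap L Lh l)
      rw [← sub_eq_zero, ← map_sub, IsLocalRing.residue_eq_zero_iff]
      exact ((IsLocalRing.local_hom_TFAE (algebraMap L Lh)).out 0 2 rfl rfl).mp inferInstance hl
    rw [show kc ≫ cS = (kc ≫ Spec.map (CommRingCat.ofHom (algebraMap L Lh))) ≫ S.fromSpecStalk s from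
      (Category.assoc _ _ _).symm]
    exact bijective_residueFieldMap_of_preimmersion _ pt
  -- the models over the neighbourhood
  let WV := pullback f₄ rρ
  let aU : WV ⟶ Spec Γ(X, U) := (pullback.fst f₄ rρ ≫ q₄) ≫ h₃x
  let bU : WV ⟶ Spec Γ(Y, U') := pullback.fst f₄ rρ ≫ h₄y
  have hsqV : IsPullback (pullback.fst f₄ rρ ≫ q₄) (pullback.snd f₄ rρ) f₃ (rρ ≫ D.map φ₄) :=
    (IsPullback.of_hasPullback f₄ rρ).paste_horiz hq₄sq
  have hsV' : (rρ ≫ D.map φ₄) ≫ D.map φ₃ ≫ tS i₂ = sV := by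
    rw [htSn, Category.assoc, htSn, hsV]
  have haU : aU ≫ rX = pullback.snd f₄ rρ ≫ sV := by
    simp only [aU, Category.assoc]
    rw [hh₃x, ← Category.assoc (pullback.fst f₄ rρ), ← Category.assoc _ f₃, hsqV.w, ← hsV']
    simp only [Category.assoc]
    rfl
  have hbU : bU ≫ rY = pullback.snd f₄ rρ ≫ rρ ≫ D.map φ₄ ≫ τ₃ := by
    simp only [bU, Category.assoc]
    rw [hh₄y, pullback.condition_assoc]
  have hetaU := MatchModel.etale_lift_of_isPullback rX _ h₃x hh₃x het₃ hsqV hsV' haU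
  have hetbU := MatchModel.etale_lift_of_isPullback rY _ h₄y hh₄y het₄ (IsPullback.of_hasPullback f₄ rρ)
    (tV := rρ ≫ D.map φ₄ ≫ τ₃) rfl hbU
  let a : WV ⟶ X := aU ≫ hU.fromSpec
  haveI : Etale a := by
    have h : pullback.lift (f := rX) (g := sV) aU (pullback.snd f₄ rρ) haU ≫ pullback.fst rX sV ≫ hU.fromSpec =
        a := by rw [pullback.lift_fst_assoc]
    rw [← h]
    haveI := hetaU
    infer_instance
  let μV : pullback rY (rρ ≫ D.map φ₄ ≫ τ₃) ⟶ pullback q τ :=
    pullback.map _ _ _ _ hU'.fromSpec (𝟙 _) hT0.fromSpec hrY (Category.id_comp _).symm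
  let b : WV ⟶ pullback q τ := pullback.lift (f := rY) bU (pullback.snd f₄ rρ) hbU ≫ μV
  haveI : Etale b := by
    haveI := hetbU
    infer_instance
  have hbfst : b ≫ pullback.fst q τ = bU ≫ hU'.fromSpec := by simp [b, μV]
  have hbsnd : b ≫ pullback.snd q τ = pullback.snd f₄ rρ := by simp [b, μV]
  -- the point
  obtain ⟨p₀, hp₀, -⟩ := Scheme.Pullback.exists_preimage_pullback (f := πW) (g := kc) w pt (hw.trans (hkc pt).symm)
  let ι : pullback πW kc ⟶ WV := pullback.lift (pullback.fst _ _ ≫ g₄) (pullback.snd _ _ ≫ gκ) (by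
    rw [Category.assoc, hsq₄.w, pullback.condition_assoc, Category.assoc, hgρ])
  have hιa : ι ≫ a = pullback.fst πW kc ≫ gx := by
    simp only [ι, a, aU, Category.assoc, pullback.lift_fst_assoc]
    rw [reassoc_of% hg₄q, reassoc_of% hg₃x, hgxU]
  have hιbfst : ι ≫ b ≫ pullback.fst q τ = pullback.fst πW kc ≫ gy := by
    simp only [hbfst, ι, bU, Category.assoc, pullback.lift_fst_assoc]
    rw [reassoc_of% hg₄y, hgyU]
  have hιbsnd : ι ≫ b ≫ pullback.snd q τ = pullback.snd πW kc ≫ gκ := by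
    simp only [hbsnd, ι, pullback.lift_snd]
  haveI : IsPreimmersion (pullback.fst πW kc) := MorphismProperty.pullback_fst _ _ inferInstance
  have hfstres := bijective_residueFieldMap_of_preimmersion (pullback.fst πW kc) p₀
  have ha := bijective_residueFieldMap_cancel ι a _ hιa p₀ rfl
    (Wt.EtNbhd.residueFieldMap_bijective_comp _ _ p₀ hfstres (by rw [hp₀]; exact hresX))
  -- the point on the `Y`-side
  let Yκ := pullback (pullback.snd q τ) gκ
  let ν : pullback πW kc ⟶ Yκ := pullback.lift (ι ≫ b) (pullback.snd πW kc) (by rw [Category.assoc, hιbsnd])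
  let ω : Yκ ⟶ pullback q tT :=
    pullback.lift (pullback.fst _ _ ≫ pullback.fst q τ) (pullback.snd _ _ ≫ kc) (by
      rw [Category.assoc, Category.assoc, ← hgτ, pullback.condition, pullback.condition_assoc])
  have hνω : ν ≫ ω = pullback.fst πW kc ≫ fY := by
    apply pullback.hom_ext
    · simp only [ν, ω, Category.assoc, pullback.lift_fst, pullback.lift_fst_assoc, hιbfst]
      rfl
    · simp only [ν, ω, Category.assoc, pullback.lift_snd, pullback.lift_snd_assoc, ← pullback.condition]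
      exact congrArg (pullback.fst πW kc ≫ ·) hcomm.symm
  have hν := (bijective_residueFieldMap_cancel ν ω _ hνω p₀ rfl
    (Wt.EtNbhd.residueFieldMap_bijective_comp _ _ p₀ hfstres (by rw [hp₀]; exact hresY))).1
  have hb : Function.Bijective (b.residueFieldMap (ι p₀)) := by
    have hu : Function.Bijective (gκ.residueFieldMap ((pullback.snd (pullback.snd q τ) gκ) (ν p₀))) := by
      rw [show (pullback.snd (pullback.snd q τ) gκ) (ν p₀) = pt from Subsingleton.elim (α := PrimeSpectrum κ) _ _]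
      exact hresκ.1
    obtain ⟨z, ⟨-, -, hz⟩, huniq⟩ := Wt.EtNbhd.existsUnique_lift (pullback.snd q τ) gκ
      (pullback.fst (pullback.snd q τ) gκ (ν p₀)) _
      (by rw [← Scheme.Hom.comp_apply, pullback.condition, Scheme.Hom.comp_apply]) hu
    rw [← huniq (ν p₀) rfl rfl] at hz
    exact (bijective_residueFieldMap_cancel ι b _ (pullback.lift_fst _ _ _).symm p₀ rfl
      (Wt.EtNbhd.residueFieldMap_bijective_comp ν _ p₀ hν hz)).2
  refine ⟨V, gκ pt, e, τ, WV, ι p₀, a, b, inferInstance, ?_, hresκ.2, ?_, inferInstance, ?_, ha.2, ?_,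
    inferInstance, ?_, ?_, hb⟩
  · rw [← Scheme.Hom.comp_apply, hge, Scheme.Hom.comp_apply, hkc, hcS]
  · rw [← Scheme.Hom.comp_apply, hgτ, Scheme.Hom.comp_apply, hkc, htT]
  · rw [← Scheme.Hom.comp_apply, hιa, Scheme.Hom.comp_apply, hp₀]
  · simp only [a, e, Category.assoc]
    rw [← hrX, reassoc_of% haU, reassoc_of% hbsnd]
  · rw [← Scheme.Hom.comp_apply, ← Scheme.Hom.comp_apply, hιbfst, Scheme.Hom.comp_apply, hp₀]
  · rw [← Scheme.Hom.comp_apply, ← Scheme.Hom.comp_apply, hιbsnd, Scheme.Hom.comp_apply]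
    exact congrArg gκ (Subsingleton.elim (α := PrimeSpectrum κ) _ _)

end Groth.Agent.SmoothingLib.MatchNbhd
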