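import Groth.Agent.SmoothingLib.Approx
import Groth.Agent.AlgSpCov.SmoothSlice

/-!
Artin approximation in etale algebras that do not change the closed part.
-/

namespace Groth.Agent.SmoothingLib.ApproxAdic

universe u

variable {A : Type u} [CommRing A]

/-- An etale algebra with the same reduction modulo `I` into which a point of the completion lifts,
congruent up to order `n`. -/
theorem exists_etale_congr [IsNoetherianRing A] (I : Ideal A)
    (hreg : CAlg.IsRegularHom A (AdicCompletion I A)) {T : Type u} [CommRing T] [Algebra A T]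
    [Algebra.FinitePresentation A T] (f : T →ₐ[A] AdicCompletion I A) (n : ℕ) (hn : n ≠ 0) :
    ∃ (D : Type u) (_ : CommRing D) (_ : Algebra A D), Algebra.Etale A D ∧
      (∀ d : D, ∃ a : A, algebraMap A D a - d ∈ I.map (algebraMap A D)) ∧
      (∀ a : A, algebraMap A D a ∈ I.map (algebraMap A D) → a ∈ I) ∧
      ∃ (ρ : T →ₐ[A] D), ∀ (t : T) (a : A),
        AdicCompletion.evalₐ I n (f t) = Ideal.Quotient.mk (I ^ n) a →
          ρ t - algebraMap A D a ∈ I.map (algebraMap A D) ^ n := by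
  haveI : IsNoetherianRing (AdicCompletion I A) := RegLoc.Completion.isNoetherianRing_adicCompletion' I
  obtain ⟨B, _, _, hB, g₀, h, hgh⟩ := Popescu.indSmooth hreg T inferInstance f
  haveI := hB
  obtain ⟨B₂, _, _, _, _, -, ⟨r⟩, hstd⟩ := exists_smooth_retract (R := A) (A := B)
  let φ : B₂ →ₐ[A] A ⧸ I ^ n := (AdicCompletion.evalₐ I n).comp (h.comp (r.restrictScalars A))
  obtain ⟨D, _, ψ, ρ, hψ, hρ, hbij, hcompat⟩ := AlgSpCov.exists_etale_lift_of_standardSmooth
    (algebraMap A B₂) (RingHom.isStandardSmooth_algebraMap.2 hstd) (RingHom.id A) (I ^ n) φ.toRingHom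
    (RingHom.ext fun c => φ.commutes c)
  letI : Algebra A D := ψ.toAlgebra
  let qm := RingEquiv.ofBijective (Ideal.quotientMap ((I ^ n).map ψ) ψ Ideal.le_comap_map) hbij
  let ρ' : B₂ →ₐ[A] D := { ρ with commutes' := fun c => DFunLike.congr_fun hρ c }
  have hle : (I ^ n).map ψ ≤ I.map ψ := Ideal.map_mono (Ideal.pow_le_self hn)
  refine ⟨D, inferInstance, inferInstance, RingHom.etale_algebraMap.1 hψ, fun d => ?_, fun a ha => ?_,
    ρ'.comp ((IsScalarTower.toAlgHom A B B₂).comp g₀), fun t a ha => ?_⟩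
  · obtain ⟨a, ha⟩ := Ideal.Quotient.mk_surjective (qm.symm (Ideal.Quotient.mk _ d))
    refine ⟨a, hle (Ideal.Quotient.eq.1 ?_)⟩
    rw [show Ideal.Quotient.mk ((I ^ n).map ψ) (algebraMap A D a) = qm (Ideal.Quotient.mk _ a) from rfl, ha,
      qm.apply_symm_apply]
  · have h1 := Ideal.mem_map_of_mem
      (qm.symm.toRingHom.comp (Ideal.Quotient.mk ((I ^ n).map ψ))) ha
    rw [Ideal.map_map] at h1
    have e : (qm.symm.toRingHom.comp (Ideal.Quotient.mk ((I ^ n).map ψ))).comp (algebraMap A D) =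
        Ideal.Quotient.mk (I ^ n) := RingHom.ext fun c => by
      show qm.symm (qm (Ideal.Quotient.mk _ c)) = _
      rw [qm.symm_apply_apply]
    rw [e, show (qm.symm.toRingHom.comp (Ideal.Quotient.mk ((I ^ n).map ψ))) (algebraMap A D a) =
      Ideal.Quotient.mk (I ^ n) a from DFunLike.congr_fun e a] at h1
    obtain ⟨x, hx, hxa⟩ := (Ideal.mem_map_iff_of_surjective _ Ideal.Quotient.mk_surjective).1 h1
    have h2 := I.sub_mem hx (Ideal.pow_le_self hn (Ideal.Quotient.eq.1 hxa))
    rwa [sub_sub_cancel] at h2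
  · rw [← Ideal.map_pow]
    refine Ideal.Quotient.eq.1 ?_
    show Ideal.Quotient.mk ((I ^ n).map ψ) (ρ (algebraMap B B₂ (g₀ t))) = Ideal.Quotient.mk _ (ψ a)
    rw [show Ideal.Quotient.mk ((I ^ n).map ψ) (ρ (algebraMap B B₂ (g₀ t))) =
      qm (φ (algebraMap B B₂ (g₀ t))) from DFunLike.congr_fun hcompat _]
    show qm (AdicCompletion.evalₐ I n (h (r (algebraMap B B₂ (g₀ t))))) = qm (Ideal.Quotient.mk _ a)
    rw [r.commutes, Algebra.algebraMap_self, RingHom.id_apply, show h (g₀ t) = f t from DFunLike.congr_fun hgh t,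
      ha]

end Groth.Agent.SmoothingLib.ApproxAdic
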