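import Groth.Prelude.Def_CAlgX
import Groth.Agent.FieldSep.Cartier
import Mathlib

/-!
# Derivations out of adically formally smooth local algebras
-/

set_option autoImplicit false
universe u

open IsLocalRing KaehlerDifferential TensorProduct

namespace Groth.Agent.SmoothingLib.AdicDual

variable {k A : Type u} [Field k] [CommRing A] [IsLocalRing A] [Algebra k A]

/-- Absolute derivations of `k` into the residue field extend to `A`. -/
theorem exists_derivation_extend (h : CAlgX.IsAdicFormallySmooth k A (maximalIdeal A))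
    (D : Derivation ℤ k (ResidueField A)) :
    ∃ D' : Derivation ℤ A (ResidueField A), ∀ c : k, D' (algebraMap k A c) = D c := by
  set κ := ResidueField A
  letI : Module κᵐᵒᵖ κ := Module.compHom _ ((RingHom.id κ).fromOpposite mul_comm)
  haveI : IsCentralScalar κ κ := ⟨fun _ _ => rfl⟩
  let ι : k →+* TrivSqZeroExt κ κ :=
  { toFun := fun c => (algebraMap k κ c, D c)
    map_one' := TrivSqZeroExt.ext (map_one _) D.map_one_eq_zero
    map_mul' := fun a b => TrivSqZeroExt.ext (map_mul _ _ _) (by
      show D (a * b) = algebraMap k κ a • D b + MulOpposite.op (algebraMap k κ b) • D a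
      rw [Derivation.leibniz, op_smul_eq_smul]
      simp [Algebra.smul_def, add_comm]
      rfl)
    map_zero' := TrivSqZeroExt.ext (map_zero _) (map_zero D)
    map_add' := fun a b => TrivSqZeroExt.ext (map_add _ _ _) (map_add D a b) }
  letI : Algebra k (TrivSqZeroExt κ κ) := ι.toAlgebra
  let f : TrivSqZeroExt κ κ →ₐ[k] κ :=
    { (TrivSqZeroExt.fstHom κ κ κ).toRingHom with commutes' := fun c => rfl }
  have hfs : Function.Surjective f := fun x => ⟨TrivSqZeroExt.inl x, rfl⟩
  let e := Ideal.quotientKerAlgEquivOfSurjective hfs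
  have hsq : (RingHom.ker f : Ideal (TrivSqZeroExt κ κ)) ^ 2 = ⊥ := by
    rw [pow_two, eq_bot_iff, Ideal.mul_le]
    intro x hx y hy
    have hx0 : TrivSqZeroExt.fst x = 0 := hx
    have hy0 : TrivSqZeroExt.fst y = 0 := hy
    rw [Submodule.mem_bot]
    exact TrivSqZeroExt.ext (by simp [hx0]) (by simp [hx0, hy0])
  obtain ⟨χ, hχ⟩ := h _ _ hsq (e.symm.toAlgHom.comp (IsScalarTower.toAlgHom k A κ))
    ⟨1, fun x hx => by
      rw [pow_one] at hx
      show e.symm (residue A x) = 0
      rw [(residue_eq_zero_iff x).mpr hx, map_zero]⟩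
  have hfst : ∀ a, TrivSqZeroExt.fst (χ a) = residue A a := fun a =>
    (e.apply_symm_apply (residue A a)) ▸ congrArg e (DFunLike.congr_fun hχ a)
  refine ⟨Derivation.mk' (AddMonoidHom.mk' (fun a => TrivSqZeroExt.snd (χ a)) fun a b => by
    simp).toIntLinearMap fun a b => ?_, fun c => ?_⟩
  · show TrivSqZeroExt.snd (χ (a * b)) = a • TrivSqZeroExt.snd (χ b) + b • TrivSqZeroExt.snd (χ a)
    rw [map_mul, TrivSqZeroExt.snd_mul, hfst, hfst, op_smul_eq_smul]
    rfl
  · show TrivSqZeroExt.snd (χ (algebraMap k A c)) = D c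
    rw [AlgHom.commutes]
    rfl

/-- Derivations kill the square of the maximal ideal. -/
theorem derivation_sq {R : Type*} [CommRing R] [Algebra R A] [Module R (ResidueField A)]
    (D : Derivation R A (ResidueField A)) {x : A} (hx : x ∈ maximalIdeal A ^ 2) : D x = 0 := by
  rw [pow_two] at hx
  refine Submodule.mul_induction_on hx (fun a ha b hb => ?_) fun a b ha hb => by
    rw [map_add, ha, hb, add_zero]
  rw [Derivation.leibniz, Algebra.smul_def, Algebra.smul_def, IsLocalRing.ResidueField.algebraMap_eq,
    (residue_eq_zero_iff a).mpr ha, (residue_eq_zero_iff b).mpr hb, zero_mul, zero_mul, add_zero]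

set_option maxHeartbeats 400000 in
/-- The residue field has finite imperfection. -/
theorem finite_H1 [IsNoetherianRing A] (h : CAlgX.IsAdicFormallySmooth k A (maximalIdeal A)) :
    Module.Finite (ResidueField A) (Algebra.H1Cotangent k (ResidueField A)) := by
  classical
  set κ := ResidueField A
  haveI : IsScalarTower (⊥ : Subfield k) k A := inferInstance
  haveI : IsScalarTower (⊥ : Subfield k) A κ := inferInstance
  haveI : IsScalarTower (⊥ : Subfield k) k κ := IsScalarTower.of_algebraMap_eq fun c => by
    rw [IsScalarTower.algebraMap_apply (⊥ : Subfield k) A κ,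
      IsScalarTower.algebraMap_apply (⊥ : Subfield k) k A, ← IsScalarTower.algebraMap_apply k A κ]
  haveI : PerfectField (⊥ : Subfield k) := FieldSep.Cartier.perfectField_bot k
  haveI : Algebra.FormallySmooth (⊥ : Subfield k) κ :=
    FieldSep.Cartier.formallySmooth_of_perfectField _ _
  let δ := Algebra.H1Cotangent.δ (⊥ : Subfield k) k κ
  have hδ : Function.Injective δ := by
    refine (injective_iff_map_eq_zero δ).mpr fun x hx => ?_
    obtain ⟨y, rfl⟩ := ((Algebra.H1Cotangent.exact_map_δ (⊥ : Subfield k) k κ) x).mp hx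
    rw [Subsingleton.elim y 0, map_zero]
  let f : κ ⊗[k] Ω[k⁄(⊥ : Subfield k)] →ₗ[κ] κ ⊗[A] Ω[A⁄(⊥ : Subfield k)] :=
    LinearMap.liftBaseChange κ
      ((((TensorProduct.mk A κ Ω[A⁄(⊥ : Subfield k)]) 1).restrictScalars k).comp
        (KaehlerDifferential.map (⊥ : Subfield k) (⊥ : Subfield k) k A))
  have hfinj : Function.Injective f := by
    refine (injective_iff_map_eq_zero f).mpr fun w hw => ?_
    by_contra hne
    obtain ⟨l, hl⟩ := Module.Projective.exists_dual_ne_zero κ hne
    let g : Ω[k⁄(⊥ : Subfield k)] →ₗ[k] κ :=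
      (l.restrictScalars k).comp ((TensorProduct.mk k κ Ω[k⁄(⊥ : Subfield k)]) 1)
    obtain ⟨D', hD'⟩ := exists_derivation_extend h
      ((g.compDer (D (⊥ : Subfield k) k)).restrictScalars ℤ)
    let D'' : Derivation (⊥ : Subfield k) A κ := Derivation.mk'
      { toFun := D'
        map_add' := map_add D'
        map_smul' := fun c a => by
          rw [RingHom.id_apply, Algebra.smul_def, Derivation.leibniz,
            IsScalarTower.algebraMap_apply (⊥ : Subfield k) k A, hD']
          simp [Algebra.smul_def, ← IsScalarTower.algebraMap_apply]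
          rw [← ResidueField.algebraMap_eq, ← IsScalarTower.algebraMap_apply]
          exact (Algebra.smul_def _ _).symm }
      fun a b => D'.leibniz a b
    have hcomp : (LinearMap.liftBaseChange κ D''.liftKaehlerDifferential).comp f = l := by
      apply TensorProduct.AlgebraTensorModule.ext
      intro c ω
      have key : (LinearMap.liftBaseChange κ D''.liftKaehlerDifferential)
          ((1 : κ) ⊗ₜ[A] KaehlerDifferential.map (⊥ : Subfield k) (⊥ : Subfield k) k A ω) = g ω := by
        rw [LinearMap.liftBaseChange_tmul, one_smul]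
        have hω : ω ∈ Submodule.span k (Set.range (D (⊥ : Subfield k) k)) := by
          rw [span_range_derivation]; trivial
        induction hω using Submodule.span_induction with
        | mem y hy =>
          obtain ⟨a, rfl⟩ := hy
          rw [map_D, Derivation.liftKaehlerDifferential_comp_D]
          exact hD' a
        | zero => simp
        | add a b _ _ ha hb => simp only [map_add, ha, hb]
        | smul r a _ ha => simp only [map_smul, LinearMap.map_smul_of_tower, ha]
      rw [LinearMap.comp_apply, LinearMap.liftBaseChange_tmul, map_smul]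
      refine (congrArg (c • ·) key).trans ?_
      show c • l ((1 : κ) ⊗ₜ[k] ω) = l (c ⊗ₜ[k] ω)
      rw [← map_smul, smul_tmul', smul_eq_mul, mul_one]
    exact hl (by rw [← hcomp, LinearMap.comp_apply, hw, map_zero])
  have hcompat : ∀ w, mapBaseChange (⊥ : Subfield k) A κ (f w) =
      mapBaseChange (⊥ : Subfield k) k κ w := by
    have : (mapBaseChange (⊥ : Subfield k) A κ).comp f = mapBaseChange (⊥ : Subfield k) k κ := by
      apply TensorProduct.AlgebraTensorModule.ext
      intro c ω
      rw [LinearMap.comp_apply, LinearMap.liftBaseChange_tmul, map_smul, mapBaseChange_tmul]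
      refine congrArg (c • ·) ?_
      show mapBaseChange (⊥ : Subfield k) A κ ((1 : κ) ⊗ₜ[A] _) = _
      rw [mapBaseChange_tmul, one_smul]
      have hω : ω ∈ Submodule.span k (Set.range (D (⊥ : Subfield k) k)) := by
        rw [span_range_derivation]; trivial
      induction hω using Submodule.span_induction with
      | mem y hy =>
        obtain ⟨a, rfl⟩ := hy
        rw [map_D, map_D, map_D, ← IsScalarTower.algebraMap_apply]
      | zero => simp
      | add a b _ _ ha hb => simp only [map_add, ha, hb]
      | smul r a _ ha => simp only [map_smul, LinearMap.map_smul_of_tower, ha]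
    exact DFunLike.congr_fun this
  let N : Submodule A (κ ⊗[A] Ω[A⁄(⊥ : Subfield k)]) :=
    LinearMap.range (kerCotangentToTensor (⊥ : Subfield k) A κ)
  have hN : LinearMap.range (kerCotangentToTensor (⊥ : Subfield k) A κ) =
      (LinearMap.ker (mapBaseChange (⊥ : Subfield k) A κ)).restrictScalars A :=
    range_kerCotangentToTensor (⊥ : Subfield k) A κ residue_surjective
  haveI hfinK : Module.Finite κ (LinearMap.ker (mapBaseChange (⊥ : Subfield k) A κ)) := by
    haveI : Module.Finite A (RingHom.ker (algebraMap A κ)).Cotangent :=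
      Module.Finite.of_surjective _ (Ideal.toCotangent_surjective _)
    haveI h1 : Module.Finite A ((LinearMap.ker (mapBaseChange (⊥ : Subfield k) A κ)).restrictScalars A) := by
      rw [← hN]
      exact Module.Finite.range _
    haveI h2 : Module.Finite A (LinearMap.ker (mapBaseChange (⊥ : Subfield k) A κ)) := h1
    exact Module.Finite.of_restrictScalars_finite A κ _
  let j : Algebra.H1Cotangent k κ →ₗ[κ] LinearMap.ker (mapBaseChange (⊥ : Subfield k) A κ) :=
    (f.comp δ).codRestrict _ fun x => by
      rw [LinearMap.mem_ker, LinearMap.comp_apply, hcompat]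
      exact (Algebra.H1Cotangent.exact_δ_mapBaseChange (⊥ : Subfield k) k κ).apply_apply_eq_zero x
  haveI : IsNoetherian κ (LinearMap.ker (mapBaseChange (⊥ : Subfield k) A κ)) := by
    exact @isNoetherian_of_isNoetherianRing_of_finite κ _ _ (Submodule.addCommGroup _) _ _ hfinK
  exact Module.Finite.of_injective j fun x y hxy =>
    hδ (hfinj (congrArg Subtype.val hxy))

/-- A relation whose differential vanishes at a point and whose value lies in the square of the
maximal ideal is of order two at that point. -/
theorem mem_sq_of_pderiv_mem {σ : Type*} [Fintype σ]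
    (h : CAlgX.IsAdicFormallySmooth k A (maximalIdeal A)) (v : MvPolynomial σ k →ₐ[k] A)
    {T : Type u} [CommRing T] [IsLocalRing T] [Algebra (MvPolynomial σ k) T] (w : T →+* A)
    [IsLocalHom w] (hw : ∀ p, w (algebraMap (MvPolynomial σ k) T p) = v p)
    (u : MvPolynomial σ k) (hu : algebraMap (MvPolynomial σ k) T u ∈ maximalIdeal T)
    (hder : ∀ i, v (MvPolynomial.pderiv i u) ∈ maximalIdeal A) (hsq : v u ∈ maximalIdeal A ^ 2) :
    algebraMap (MvPolynomial σ k) T u ∈ maximalIdeal T ^ 2 := by
  classical
  set κ := ResidueField A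
  set K₀ := ResidueField T
  letI : Algebra k T := ((algebraMap (MvPolynomial σ k) T).comp MvPolynomial.C).toAlgebra
  haveI : IsScalarTower (⊥ : Subfield k) k T := inferInstance
  haveI : PerfectField (⊥ : Subfield k) := FieldSep.Cartier.perfectField_bot k
  haveI : Algebra.FormallySmooth (⊥ : Subfield k) K₀ :=
    FieldSep.Cartier.formallySmooth_of_perfectField _ _
  by_contra hne
  let m := maximalIdeal T
  let π₂ : T →+* T ⧸ m ^ 2 := Ideal.Quotient.mk (m ^ 2)
  let π₁ : (T ⧸ m ^ 2) →ₐ[(⊥ : Subfield k)] K₀ :=
    Ideal.Quotient.liftₐ (m ^ 2) (IsScalarTower.toAlgHom (⊥ : Subfield k) T K₀) fun a ha =>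
      (residue_eq_zero_iff a).mpr (Ideal.pow_le_self two_ne_zero ha)
  have hπ₁ : Function.Surjective π₁ := fun x => by
    obtain ⟨a, rfl⟩ := residue_surjective x
    exact ⟨π₂ a, rfl⟩
  let s : K₀ →ₐ[(⊥ : Subfield k)] T ⧸ m ^ 2 :=
    Algebra.FormallySmooth.liftOfSurjective (AlgHom.id _ K₀) π₁ hπ₁ ⟨2, by
      rw [Ideal.zero_eq_bot, eq_bot_iff]
      refine le_of_eq_of_le (pow_two _) (Ideal.mul_le.mpr ?_)
      intro a ha b hb
      obtain ⟨a, rfl⟩ := Ideal.Quotient.mk_surjective a
      obtain ⟨b, rfl⟩ := Ideal.Quotient.mk_surjective b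
      rw [Submodule.mem_bot, ← map_mul, Ideal.Quotient.eq_zero_iff_mem, pow_two]
      exact Ideal.mul_mem_mul ((residue_eq_zero_iff a).mp ha) ((residue_eq_zero_iff b).mp hb)⟩
  have hs : ∀ x, π₁ (s x) = x := fun x =>
    DFunLike.congr_fun (Algebra.FormallySmooth.comp_liftOfSurjective (AlgHom.id _ K₀) π₁ hπ₁ _) x
  have hmem : ∀ t, π₂ t - s (residue T t) ∈ m.cotangentIdeal := fun t => by
    obtain ⟨c, hc⟩ := Ideal.Quotient.mk_surjective (π₂ t - s (residue T t))
    rw [← hc]
    refine ⟨c, ?_, rfl⟩
    show c ∈ maximalIdeal T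
    rw [← residue_eq_zero_iff, show residue T c = π₁ (Ideal.Quotient.mk (m ^ 2) c) from rfl, hc,
      map_sub, hs]
    exact sub_self _
  let N : T → CotangentSpace T := fun t => m.cotangentEquivIdeal.symm ⟨_, hmem t⟩
  have hval : ∀ t, (m.cotangentEquivIdeal (N t) : T ⧸ m ^ 2) = π₂ t - s (residue T t) := fun t => by
    simp [N]
  have hinj : ∀ x y : CotangentSpace T,
      (m.cotangentEquivIdeal x : T ⧸ m ^ 2) = m.cotangentEquivIdeal y → x = y := fun x y hxy =>
    m.cotangentEquivIdeal.injective (Subtype.ext hxy)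
  have hNadd : ∀ a b, N (a + b) = N a + N b := fun a b => hinj _ _ (by
    rw [map_add, Submodule.coe_add, hval, hval, hval, map_add, map_add, map_add]; ring)
  have hNmul : ∀ a b, N (a * b) = a • N b + b • N a := fun a b => hinj _ _ (by
    rw [map_add, map_smul, map_smul, Submodule.coe_add, Submodule.coe_smul_of_tower,
      Submodule.coe_smul_of_tower, hval, hval, hval, Algebra.smul_def, Algebra.smul_def, map_mul,
      map_mul, map_mul, Ideal.Quotient.algebraMap_eq]
    have h0 : (π₂ a - s (residue T a)) * (π₂ b - s (residue T b)) = 0 := by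
      have hab := Ideal.mul_mem_mul (hmem a) (hmem b)
      rwa [← pow_two, m.cotangentIdeal_square, Submodule.mem_bot] at hab
    linear_combination -h0)
  have hNu : N (algebraMap _ T u) = m.toCotangent ⟨_, hu⟩ := hinj _ _ (by
    rw [hval, (residue_eq_zero_iff _).mpr hu, map_zero, sub_zero]
    rfl)
  have hNu0 : N (algebraMap _ T u) ≠ 0 := by
    rw [hNu]
    exact fun h0 => hne ((m.toCotangent_eq_zero _).mp h0)
  obtain ⟨l, hl⟩ := Module.Projective.exists_dual_ne_zero K₀ hNu0
  let ιK : K₀ →+* κ := ResidueField.map w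
  have hwk : ∀ c : k, w (algebraMap k T c) = algebraMap k A c := fun c => by
    rw [show algebraMap k T c = algebraMap (MvPolynomial σ k) T (MvPolynomial.C c) from rfl, hw]
    exact v.commutes c
  letI : Module (MvPolynomial σ k) κ := Module.compHom κ ((algebraMap A κ).comp v.toRingHom)
  have hsmul : ∀ (p : MvPolynomial σ k) (x : κ), p • x = residue A (v p) * x := fun p x => rfl
  let d₀ : MvPolynomial σ k → κ := fun p => ιK (l (N (algebraMap _ T p)))
  have hd₀mul : ∀ p q, d₀ (p * q) = p • d₀ q + q • d₀ p := fun p q => by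
    simp only [d₀, hsmul, map_mul, hNmul, map_add]
    rw [← algebraMap_smul K₀ (algebraMap _ T p), ← algebraMap_smul K₀ (algebraMap _ T q), l.map_smul,
      l.map_smul, smul_eq_mul, smul_eq_mul, map_mul, map_mul, ResidueField.algebraMap_eq,
      ResidueField.map_residue, ResidueField.map_residue, hw, hw]
  have hd₀add : ∀ p q, d₀ (p + q) = d₀ p + d₀ q := fun p q => by
    simp only [d₀, map_add, hNadd]
  let D₀ : Derivation ℤ k κ := Derivation.mk'
    (AddMonoidHom.mk' (fun c => d₀ (MvPolynomial.C c)) fun a b => by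
      simp only [map_add, hd₀add]).toIntLinearMap
    fun a b => by
      show d₀ (MvPolynomial.C (a * b)) = a • d₀ (MvPolynomial.C b) + b • d₀ (MvPolynomial.C a)
      rw [map_mul, hd₀mul, hsmul, hsmul, Algebra.smul_def, Algebra.smul_def,
        IsScalarTower.algebraMap_apply k A κ, IsScalarTower.algebraMap_apply k A κ,
        ← v.commutes a, ← v.commutes b]
      rfl
  obtain ⟨D', hD'⟩ := exists_derivation_extend h D₀
  let Δ : MvPolynomial σ k → κ := fun p => d₀ p - D' (v p)
  have hΔadd : ∀ p q, Δ (p + q) = Δ p + Δ q := fun p q => by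
    simp only [Δ, hd₀add, map_add]; ring
  have hΔmul : ∀ p q, Δ (p * q) = p • Δ q + q • Δ p := fun p q => by
    simp only [Δ, hd₀mul, map_mul, Derivation.leibniz, hsmul]
    simp only [Algebra.smul_def, ResidueField.algebraMap_eq]
    ring
  have hΔC : ∀ c, Δ (MvPolynomial.C c) = 0 := fun c => by
    show d₀ (MvPolynomial.C c) - D' (v (MvPolynomial.C c)) = 0
    rw [show v (MvPolynomial.C c) = algebraMap k A c from v.commutes c, hD']
    exact sub_self _
  have hΔ : ∀ p, Δ p = ∑ i, residue A (v (MvPolynomial.pderiv i p)) * Δ (MvPolynomial.X i) := by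
    intro p
    induction p using MvPolynomial.induction_on with
    | C c => simp [hΔC, MvPolynomial.pderiv_C]
    | add p q hp hq => simp only [hΔadd, hp, hq, map_add, add_mul, Finset.sum_add_distrib]
    | mul_X p j hp =>
      rw [hΔmul, hsmul, hsmul, hp, Finset.mul_sum]
      simp only [MvPolynomial.pderiv_mul, map_add, map_mul, add_mul, Finset.sum_add_distrib]
      rw [add_comm]
      refine congrArg₂ (· + ·) (Finset.sum_congr rfl fun i _ => by ring) ?_
      rw [Finset.sum_eq_single j (fun i _ hi => by
          rw [MvPolynomial.pderiv_X_of_ne hi.symm, map_zero, map_zero, mul_zero, zero_mul])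
        (fun hj => absurd (Finset.mem_univ j) hj)]
      simp
  have h0 : Δ u = 0 := by
    rw [hΔ]
    exact Finset.sum_eq_zero fun i _ => by rw [(residue_eq_zero_iff _).mpr (hder i), zero_mul]
  simp only [Δ, derivation_sq D' hsq, sub_zero] at h0
  exact hl (ιK.injective (h0.trans (map_zero ιK).symm))

end Groth.Agent.SmoothingLib.AdicDual
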