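import Groth.Agent.AdicGrLib.Ring

/-!
Two quotients of a ring with the same leading forms have the same associated graded ring.
-/

namespace Groth.Agent.SmoothingLib.GrCompare

open AssocGr

universe u v w

variable {P : Type u} {R : Type v} {S : Type w} [CommRing P] [CommRing R] [CommRing S] {I : Ideal P}
  {J : Ideal R} {α : P →+* R}

/-- A map surjective modulo the powers of an extended ideal is surjective on leading forms. -/
theorem exists_step (hJ : I.map α = J) (h1 : ∀ r : R, ∃ p, r - α p ∈ J) (n : ℕ) {r : R}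
    (hr : r ∈ J ^ n) : ∃ a ∈ I ^ n, r - α a ∈ J ^ (n + 1) := by
  rw [← hJ, ← Ideal.map_pow] at hr
  induction hr using Submodule.span_induction with
  | mem x hx =>
    obtain ⟨a, ha, rfl⟩ := hx
    exact ⟨a, ha, by simp⟩
  | zero => exact ⟨0, zero_mem _, by simp⟩
  | add x y _ _ hx hy =>
    obtain ⟨a, ha, hxa⟩ := hx
    obtain ⟨b, hb, hyb⟩ := hy
    exact ⟨a + b, add_mem ha hb, by rw [map_add, add_sub_add_comm]; exact add_mem hxa hyb⟩
  | smul s x hx ih =>
    obtain ⟨a, ha, hxa⟩ := ih
    obtain ⟨p, hp⟩ := h1 s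
    refine ⟨p * a, Ideal.mul_mem_left _ _ ha, ?_⟩
    rw [smul_eq_mul, map_mul, show s * x - α p * α a = (s - α p) * x + α p * (x - α a) by ring]
    refine add_mem ?_ (Ideal.mul_mem_left _ _ hxa)
    rw [pow_succ']
    refine Ideal.mul_mem_mul hp ?_
    rw [← hJ, ← Ideal.map_pow]
    exact hx

/-- Such a map is surjective modulo every power. -/
theorem exists_mod_pow (hJ : I.map α = J) (h1 : ∀ r : R, ∃ p, r - α p ∈ J) (r : R) (n : ℕ) :
    ∃ p, r - α p ∈ J ^ n := by
  induction n with
  | zero => exact ⟨0, by simp⟩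
  | succ n ih =>
    obtain ⟨p, hp⟩ := ih
    obtain ⟨a, -, ha⟩ := exists_step hJ h1 n hp
    exact ⟨p + a, by rwa [map_add, ← sub_sub]⟩

variable {K : Ideal S} {β : P →+* S}

/-- The same leading forms give isomorphic graded rings. -/
theorem exists_grEquiv (hJ : I.map α = J) (hK : I.map β = K) (hsJ : ∀ r : R, ∃ p, r - α p ∈ J)
    (hsK : ∀ s : S, ∃ p, s - β p ∈ K)
    (hk : ∀ n, ∀ a ∈ I ^ n, (α a ∈ J ^ (n + 1) ↔ β a ∈ K ^ (n + 1))) :
    ∃ e : GrRing (FiltBl.IdealFiltration.adic J) ≃+* GrRing (FiltBl.IdealFiltration.adic K),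
      (∀ (n : ℕ) (x : GrRing (FiltBl.IdealFiltration.adic J)),
        x ∈ gr (FiltBl.IdealFiltration.adic J) n → e x ∈ gr (FiltBl.IdealFiltration.adic K) n) ∧
      ∀ p, e (algebraMap R _ (α p)) = algebraMap S _ (β p) := by
  have hα : IsFiltHom α (FiltBl.IdealFiltration.adic I) (FiltBl.IdealFiltration.adic J) :=
    IsFiltHom.adic hJ.le
  have hβ : IsFiltHom β (FiltBl.IdealFiltration.adic I) (FiltBl.IdealFiltration.adic K) :=
    IsFiltHom.adic hK.le
  have hαs : Function.Surjective (map hα) := (AdicGrLib.map_surjective_iff hα).2 fun n b hb =>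
    exists_step hJ hsJ n hb
  have hβs : Function.Surjective (map hβ) := (AdicGrLib.map_surjective_iff hβ).2 fun n b hb =>
    exists_step hK hsK n hb
  have hker : RingHom.ker (map hα) = RingHom.ker (map hβ) := by
    ext x
    obtain ⟨f, rfl⟩ := mkG_surjective _ x
    simp only [RingHom.mem_ker, map_mkG, mkG_eq_zero_iff, mem_succIdeal_iff, coe_reesMap,
      Polynomial.coeff_map]
    exact forall_congr' fun n => hk n _ (f.2 n)
  let e := (RingHom.quotientKerEquivOfSurjective hαs).symm.trans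
    ((Ideal.quotEquivOfEq hker).trans (RingHom.quotientKerEquivOfSurjective hβs))
  have he : ∀ g, e (map hα g) = map hβ g := fun g => by
    show (RingHom.quotientKerEquivOfSurjective hβs) (Ideal.quotEquivOfEq hker
      ((RingHom.quotientKerEquivOfSurjective hαs).symm (map hα g))) = _
    rw [show (RingHom.quotientKerEquivOfSurjective hαs).symm (map hα g) = Ideal.Quotient.mk _ g from
      (RingEquiv.symm_apply_eq _).2 rfl]
    rfl
  refine ⟨e, fun n x hx => ?_, fun p => ?_⟩
  · obtain ⟨⟨y, hy⟩, hyx⟩ := inDeg_surjective (FiltBl.IdealFiltration.adic J) n ⟨x, hx⟩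
    obtain ⟨a, ha, hya⟩ := exists_step hJ hsJ n hy
    have h1 : map hα (inDeg (FiltBl.IdealFiltration.adic I) n ⟨a, ha⟩ : GrRing _) = x := by
      have hx' : x = (inDeg (FiltBl.IdealFiltration.adic J) n ⟨y, hy⟩ : GrRing _) :=
        (congrArg Subtype.val hyx).symm
      rw [map_inDeg, hx', eq_comm, ← sub_eq_zero, ← Submodule.coe_sub,
        ← map_sub, Submodule.coe_eq_zero, inDeg_eq_zero_iff]
      exact hya
    rw [← h1, he, map_inDeg]
    exact Submodule.coe_mem _
  · rw [← map_algebraMap hα p, he, map_algebraMap]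

end Groth.Agent.SmoothingLib.GrCompare
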