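import Mathlib.RingTheory.Filtration
import Mathlib.RingTheory.Finiteness.Basic

/-!
Perturbing the generators of an ideal together with their relations does not change the initial ideal.
-/

namespace Groth.Agent.SmoothingLib.Perturb

universe u

variable {A : Type u} [CommRing A] (J : Ideal A)

theorem exists_coeffs {M : Type u} [AddCommGroup M] [Module A M] (K : Ideal A) {ι : Type*} [Fintype ι]
    (v : ι → M) {x : M} (hx : x ∈ K • Submodule.span A (Set.range v)) :
    ∃ g : ι → A, (∀ i, g i ∈ K) ∧ ∑ i, g i • v i = x := by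
  refine Submodule.smul_induction_on hx ?_ ?_
  · intro r hr y hy
    obtain ⟨h, rfl⟩ := (Submodule.mem_span_range_iff_exists_fun A).1 hy
    exact ⟨fun i => r * h i, fun i => K.mul_mem_right _ hr, by simp [Finset.smul_sum, mul_smul]⟩
  · rintro a b ⟨g, hg, rfl⟩ ⟨g', hg', rfl⟩
    exact ⟨g + g', fun i => K.add_mem (hg i) (hg' i), by simp [add_smul, Finset.sum_add_distrib]⟩

theorem mem_smul_top_pi {ι : Type*} [Fintype ι] (K : Ideal A) {e : ι → A} (he : ∀ i, e i ∈ K) :
    e ∈ K • (⊤ : Submodule A (ι → A)) := by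
  classical
  rw [pi_eq_sum_univ e]
  exact sum_mem fun i _ => Submodule.smul_mem_smul (he i) Submodule.mem_top

theorem exists_artinRees [IsNoetherianRing A] {M : Type u} [AddCommGroup M] [Module A M] [Module.Finite A M]
    (N : Submodule A M) : ∃ c, ∀ n, J ^ n • (⊤ : Submodule A M) ⊓ N ≤ J ^ (n - c) • N := by
  obtain ⟨c, hc⟩ := J.exists_pow_inf_eq_pow_smul N
  refine ⟨c, fun n => ?_⟩
  rcases le_or_gt c n with h | h
  · rw [hc n h]
    exact Submodule.smul_mono le_rfl inf_le_right
  · rw [Nat.sub_eq_zero_of_le h.le, pow_zero, Ideal.one_eq_top, Submodule.top_smul]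
    exact inf_le_right

variable {ι κ : Type} [Fintype ι] [Fintype κ]

theorem sum_sub_mem {M j : ℕ} {f f' : ι → A} (hff : ∀ i, f i - f' i ∈ J ^ M) {e : ι → A}
    (he : ∀ i, e i ∈ J ^ j) : ∑ i, e i * f i - ∑ i, e i * f' i ∈ J ^ (j + M) := by
  rw [← Finset.sum_sub_distrib, pow_add]
  refine sum_mem fun i _ => ?_
  rw [← mul_sub]
  exact Ideal.mul_mem_mul (he i) (hff i)

/-- Same leading forms after a perturbation of high order keeping the relations. -/
theorem exists_perturb [IsNoetherianRing A] (f : ι → A) (a : κ → ι → A)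
    (hgen : ∀ e : ι → A, ∑ i, e i * f i = 0 → e ∈ Submodule.span A (Set.range a)) :
    ∃ c, ∀ M, c < M → ∀ (f' : ι → A) (a' : κ → ι → A), (∀ i, f i - f' i ∈ J ^ M) →
      (∀ l i, a l i - a' l i ∈ J ^ M) → (∀ l, ∑ i, a' l i * f' i = 0) →
      ∀ n, ∀ v ∈ J ^ n,
        (v ∈ Ideal.span (Set.range f) ⊔ J ^ (n + 1) ↔ v ∈ Ideal.span (Set.range f') ⊔ J ^ (n + 1)) := by
  obtain ⟨c₁, hc₁⟩ := exists_artinRees J (Ideal.span (Set.range f))
  obtain ⟨c₂, hc₂⟩ := exists_artinRees J (Submodule.span A (Set.range a))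
  refine ⟨c₁ + c₂, fun M hM f' a' hff haa hrel n v hv => ?_⟩
  have hf1 : ∀ m w, w ∈ J ^ m → w ∈ Ideal.span (Set.range f) →
      ∃ e : ι → A, (∀ i, e i ∈ J ^ (m - c₁)) ∧ ∑ i, e i * f i = w := fun m w hw hwf => by
    have h := hc₁ m ⟨by rw [smul_eq_mul, Ideal.mul_top]; exact hw, hwf⟩
    obtain ⟨e, he, hew⟩ := exists_coeffs _ f h
    exact ⟨e, he, by simpa using hew⟩
  constructor
  · intro h
    obtain ⟨u, hu, w, hw, rfl⟩ := Submodule.mem_sup.1 h
    have hun : u ∈ J ^ n := by
      simpa using sub_mem hv (Ideal.pow_le_pow_right n.le_succ hw)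
    obtain ⟨e, he, rfl⟩ := hf1 n u hun hu
    have h1 : ∑ i, e i * f i - ∑ i, e i * f' i ∈ J ^ (n + 1) :=
      Ideal.pow_le_pow_right (by omega) (sum_sub_mem J hff he)
    refine Submodule.mem_sup.2 ⟨∑ i, e i * f' i, ?_, (∑ i, e i * f i - ∑ i, e i * f' i) + w,
      add_mem h1 hw, by ring⟩
    exact sum_mem fun i _ => Ideal.mul_mem_left _ _ (Ideal.subset_span ⟨i, rfl⟩)
  · intro h
    obtain ⟨u, hu, w, hw, rfl⟩ := Submodule.mem_sup.1 h
    have hun : u ∈ J ^ n := by
      simpa using sub_mem hv (Ideal.pow_le_pow_right n.le_succ hw)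
    suffices key : ∀ k j, n + 1 ≤ j + k → ∀ e : ι → A, (∀ i, e i ∈ J ^ j) →
        ∑ i, e i * f' i ∈ J ^ n →
        ∑ i, e i * f' i ∈ Ideal.span (Set.range f) ⊔ J ^ (n + 1) by
      obtain ⟨e, he⟩ := (Submodule.mem_span_range_iff_exists_fun A).1 hu
      simp only [smul_eq_mul] at he
      subst he
      exact add_mem (key (n + 1) 0 (by omega) e (fun i => by simp) hun) (Ideal.mem_sup_right hw)
    intro k
    induction k with
    | zero =>
      intro j hj e he _
      exact Ideal.mem_sup_right (Ideal.pow_le_pow_right (by omega)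
        (sum_mem fun i _ => Ideal.mul_mem_right _ _ (he i)))
    | succ k ih =>
      intro j hj e he hen
      have h1 := sum_sub_mem J hff he
      by_cases hjM : n + 1 ≤ j + M
      · rw [show ∑ i, e i * f' i = ∑ i, e i * f i - (∑ i, e i * f i - ∑ i, e i * f' i) by ring]
        exact sub_mem (Ideal.mem_sup_left (sum_mem fun i _ =>
          Ideal.mul_mem_left _ _ (Ideal.subset_span ⟨i, rfl⟩)))
          (Ideal.mem_sup_right (Ideal.pow_le_pow_right hjM h1))
      have h2 : ∑ i, e i * f i ∈ J ^ (j + M) := by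
        rw [show ∑ i, e i * f i =
          (∑ i, e i * f i - ∑ i, e i * f' i) + ∑ i, e i * f' i by ring]
        exact add_mem h1 (Ideal.pow_le_pow_right (by omega) hen)
      obtain ⟨e₀, he₀, hee⟩ := hf1 _ _ h2
        (sum_mem fun i _ => Ideal.mul_mem_left _ _ (Ideal.subset_span ⟨i, rfl⟩))
      have hsyz : e - e₀ ∈ Submodule.span A (Set.range a) :=
        hgen _ (by simp [sub_mul, Finset.sum_sub_distrib, hee])
      have hj' : e - e₀ ∈ J ^ j • (⊤ : Submodule A (ι → A)) :=
        mem_smul_top_pi _ fun i => sub_mem (he i) (Ideal.pow_le_pow_right (by omega) (he₀ i))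
      obtain ⟨g, hg, hge⟩ := exists_coeffs _ a (hc₂ j ⟨hj', hsyz⟩)
      let e' : ι → A := fun i => e i - ∑ l, g l * a' l i
      have he' : ∀ i, e' i ∈ J ^ (j + 1) := fun i => by
        have : e' i = e₀ i + ∑ l, g l * (a l i - a' l i) := by
          have := congr_fun hge i
          simp only [Finset.sum_apply, Pi.smul_apply, smul_eq_mul, Pi.sub_apply] at this
          simp only [e', mul_sub, Finset.sum_sub_distrib, this]
          ring
        rw [this]
        refine add_mem (Ideal.pow_le_pow_right (by omega) (he₀ i)) (sum_mem fun l _ => ?_)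
        refine Ideal.pow_le_pow_right (show j + 1 ≤ (j - c₂) + M by omega) ?_
        rw [pow_add]
        exact Ideal.mul_mem_mul (hg l) (haa l i)
      have heq : ∑ i, e' i * f' i = ∑ i, e i * f' i := by
        simp only [e', sub_mul, Finset.sum_sub_distrib, Finset.sum_mul, sub_eq_self]
        rw [Finset.sum_comm]
        simp only [mul_assoc, ← Finset.mul_sum, hrel, mul_zero, Finset.sum_const_zero]
      rw [← heq] at hen ⊢
      exact ih (j + 1) (by omega) e' he' hen

end Groth.Agent.SmoothingLib.Perturb
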