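import Groth.Agent.SmoothingLib.ApproxFunctor
import Groth.Agent.SmoothingLib.ApproxAdic
import Groth.Agent.SmoothingLib.Perturb
import Groth.Agent.SmoothingLib.GrCompare
import Groth.Agent.EGA4Lib.GRingPoly
import Groth.Agent.S0598
import Groth.Agent.S0600
import Mathlib.RingTheory.Smooth.AdicCompletion

/-!
Finite type models of formal elements of functors preserving filtered colimits.
-/

namespace Groth.Agent.SmoothingLib.Algebraize

open CategoryTheory Limits MvPolynomial

universe u

section Tau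

variable {P : Type u} [CommRing P] [IsNoetherianRing P] {I : Ideal P} {D : Type u} [CommRing D]
  [Algebra P D]

/-- An etale algebra with the same reduction maps to the completion. -/
theorem exists_toCompletion [Algebra.Etale P D]
    (hD : ∀ d : D, ∃ a : P, algebraMap P D a - d ∈ I.map (algebraMap P D))
    (hI : ∀ a : P, algebraMap P D a ∈ I.map (algebraMap P D) → a ∈ I) :
    Nonempty (D →ₐ[P] AdicCompletion I P) := by
  let q : P ⧸ I →ₐ[P] D ⧸ I.map (algebraMap P D) :=
    { Ideal.quotientMap (I.map (algebraMap P D)) (algebraMap P D) Ideal.le_comap_map with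
      commutes' := fun _ => rfl }
  have hq : Function.Bijective q := by
    refine ⟨(injective_iff_map_eq_zero _).2 fun w hw => ?_, fun w => ?_⟩
    · obtain ⟨a, rfl⟩ := Ideal.Quotient.mk_surjective w
      exact Ideal.Quotient.eq_zero_iff_mem.2 (hI a (Ideal.Quotient.eq_zero_iff_mem.1 hw))
    · obtain ⟨d, rfl⟩ := Ideal.Quotient.mk_surjective w
      obtain ⟨a, ha⟩ := hD d
      exact ⟨Ideal.Quotient.mk _ a, Ideal.Quotient.eq.2 ha⟩
  obtain ⟨τ, -⟩ := Algebra.FormallySmooth.exists_adicCompletionEvalOneₐ_comp_eq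
    ((AlgEquiv.ofBijective q hq).symm.toAlgHom.comp (Ideal.Quotient.mkₐ P (I.map (algebraMap P D))))
  exact ⟨τ⟩

variable (τ : D →ₐ[P] AdicCompletion I P)

theorem mem_of_algebraMap_mem {n : ℕ} {p : P}
    (h : algebraMap P (AdicCompletion I P) p ∈ (I ^ n).map (algebraMap P (AdicCompletion I P))) :
    p ∈ I ^ n := by
  rw [Adic.Rig.mem_pow_map_iff (IsNoetherian.noetherian I), AlgHom.commutes, Ideal.Quotient.algebraMap_eq,
    Ideal.Quotient.eq_zero_iff_mem] at h
  exact h

theorem toCompletion_mem {n : ℕ} {x : D} (hx : x ∈ I.map (algebraMap P D) ^ n) :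
    τ x ∈ (I ^ n).map (algebraMap P (AdicCompletion I P)) := by
  rw [← Ideal.map_pow] at hx
  have h := Ideal.mem_map_of_mem τ.toRingHom hx
  rw [Ideal.map_map] at h
  rw [show τ.toRingHom.comp (algebraMap P D) = algebraMap P (AdicCompletion I P) from
    RingHom.ext τ.commutes] at h
  exact h

variable (hD : ∀ d : D, ∃ a : P, algebraMap P D a - d ∈ I.map (algebraMap P D))
include hD

theorem exists_sub_mem (x : D) (n : ℕ) : ∃ p : P, x - algebraMap P D p ∈ I.map (algebraMap P D) ^ n :=
  GrCompare.exists_mod_pow rfl (fun d => (hD d).imp fun a ha => by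
    rw [← neg_sub]; exact neg_mem ha) x n

theorem mem_pow_of_toCompletion_mem {n : ℕ} {x : D}
    (hx : τ x ∈ (I ^ n).map (algebraMap P (AdicCompletion I P))) : x ∈ I.map (algebraMap P D) ^ n := by
  obtain ⟨p, hp⟩ := exists_sub_mem hD x n
  have h := sub_mem hx (toCompletion_mem τ hp)
  rw [map_sub, sub_sub_cancel, τ.commutes] at h
  have h1 : algebraMap P D p ∈ I.map (algebraMap P D) ^ n := by
    rw [← Ideal.map_pow]; exact Ideal.mem_map_of_mem _ (mem_of_algebraMap_mem h)
  simpa using add_mem hp h1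

theorem mem_span_sup_iff {ι : Type} [Fintype ι] (f : ι → D) (n : ℕ) (p : P) :
    algebraMap P D p ∈ Ideal.span (Set.range f) ⊔ I.map (algebraMap P D) ^ n ↔
      algebraMap P (AdicCompletion I P) p ∈ Ideal.span (Set.range fun i => τ (f i)) ⊔
        (I ^ n).map (algebraMap P (AdicCompletion I P)) := by
  constructor
  · intro h
    obtain ⟨u, hu, w, hw, huw⟩ := Submodule.mem_sup.1 h
    refine Submodule.mem_sup.2 ⟨τ u, ?_, τ w, toCompletion_mem τ hw, ?_⟩
    · obtain ⟨e, rfl⟩ := (Submodule.mem_span_range_iff_exists_fun D).1 hu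
      rw [map_sum]
      exact sum_mem fun i _ => by
        rw [smul_eq_mul, map_mul]
        exact Ideal.mul_mem_left _ _ (Ideal.subset_span ⟨i, rfl⟩)
    · rw [← map_add, huw, τ.commutes]
  · intro h
    obtain ⟨u, hu, w, hw, huw⟩ := Submodule.mem_sup.1 h
    obtain ⟨e, rfl⟩ := (Submodule.mem_span_range_iff_exists_fun _).1 hu
    choose c hc using fun i => Adic.Rig.exists_sub_mem_pow_map (IsNoetherian.noetherian I) (e i) n
    refine Submodule.mem_sup.2 ⟨∑ i, algebraMap P D (c i) * f i,
      sum_mem fun i _ => Ideal.mul_mem_left _ _ (Ideal.subset_span ⟨i, rfl⟩),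
      algebraMap P D p - ∑ i, algebraMap P D (c i) * f i, mem_pow_of_toCompletion_mem τ hD ?_, by ring⟩
    rw [map_sub, τ.commutes, map_sum, ← huw]
    simp only [map_mul, τ.commutes, smul_eq_mul]
    rw [add_sub_right_comm, ← Finset.sum_sub_distrib]
    refine add_mem (sum_mem fun i _ => ?_) hw
    rw [← sub_mul]
    exact Ideal.mul_mem_right _ _ (hc i)

end Tau

variable {k : Type u} [Field k]

theorem sub_constantCoeff_mem {σ : Type} (p : MvPolynomial σ k) :
    p - algebraMap k (MvPolynomial σ k) (constantCoeff p) ∈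
      Ideal.span (Set.range (X : σ → MvPolynomial σ k)) := by
  induction p using MvPolynomial.induction_on with
  | C a => simp [MvPolynomial.algebraMap_eq]
  | add p q hp hq => rw [map_add, map_add, add_sub_add_comm]; exact add_mem hp hq
  | mul_X p i _ => simpa using Ideal.mul_mem_left _ p (Ideal.subset_span (Set.mem_range_self i))

theorem isGRing_field : CAlg.IsGRing k := by
  haveI : IsAdicComplete (IsLocalRing.maximalIdeal k) k := by
    rw [IsLocalRing.maximalIdeal_eq_bot]; infer_instance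
  exact Groth.Agent.S0598.result k

/-- A finite type model of a formal element, with the same leading forms. -/
theorem exists_model (F : CommAlgCat.{u} k ⥤ Type u) [PreservesFilteredColimits F]
    (R : Type u) [CommRing R] [Algebra k R] [IsLocalRing R] [IsNoetherianRing R]
    [IsAdicComplete (IsLocalRing.maximalIdeal R) R]
    (hres : Function.Surjective (fun c : k => IsLocalRing.residue R (algebraMap k R c)))
    (ξ : F.obj (CommAlgCat.of k R)) (N : ℕ) :
    ∃ (A : Type u) (_ : CommRing A) (_ : Algebra k A) (_ : Algebra.FiniteType k A)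
      (m : Ideal A) (_ : m.IsMaximal)
      (_ : Function.Surjective (fun c : k => Ideal.Quotient.mk m (algebraMap k A c)))
      (η : F.obj (CommAlgCat.of k A)) (P : Type u) (_ : CommRing P) (_ : Algebra k P)
      (_ : IsNoetherianRing P) (I : Ideal P)
      (α : P →ₐ[k] R) (β : P →ₐ[k] A),
      I.map α.toRingHom = IsLocalRing.maximalIdeal R ∧ I.map β.toRingHom = m ∧
      (∀ p : P, ∃ c : k, p - algebraMap k P c ∈ I) ∧
      (∀ r : R, ∃ p : P, r - α p ∈ IsLocalRing.maximalIdeal R) ∧
      (∀ x : A, ∃ p : P, x - β p ∈ m) ∧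
      (∀ n, ∀ a ∈ I ^ n, α a ∈ IsLocalRing.maximalIdeal R ^ (n + 1) ↔ β a ∈ m ^ (n + 1)) ∧
      (∀ p, α p ∈ IsLocalRing.maximalIdeal R ^ (N + 1) ↔ β p ∈ m ^ (N + 1)) ∧
      ∀ φ : R →ₐ[k] A ⧸ m ^ (N + 1), (∀ p, φ (α p) = Ideal.Quotient.mk (m ^ (N + 1)) (β p)) →
        (∀ r ∈ IsLocalRing.maximalIdeal R ^ (N + 1), φ r = 0) →
        F.map (CommAlgCat.ofHom φ) ξ = F.map (CommAlgCat.ofHom (Ideal.Quotient.mkₐ k (m ^ (N + 1)))) η := by
  classical
  let mR := IsLocalRing.maximalIdeal R
  -- the polynomial ring and its completion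
  obtain ⟨d, g, hg⟩ := Submodule.fg_iff_exists_fin_generating_family.1 (IsNoetherian.noetherian mR)
  let P := MvPolynomial (Fin d) k
  let I : Ideal P := Ideal.span (Set.range X)
  let α : P →ₐ[k] R := aeval g
  have hαI : I.map α.toRingHom = mR := by
    rw [Ideal.map_span, ← Set.range_comp]
    refine (congrArg Ideal.span (congrArg Set.range (funext fun i => ?_))).trans hg
    exact aeval_X g i
  have hresR : ∀ r : R, ∃ c : k, r - algebraMap k R c ∈ mR := fun r => by
    obtain ⟨c, hc⟩ := hres (IsLocalRing.residue R r)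
    exact ⟨c, Ideal.Quotient.eq.1 hc.symm⟩
  have hsR : ∀ r : R, ∃ p : P, r - α p ∈ mR := fun r => by
    obtain ⟨c, hc⟩ := hresR r
    exact ⟨algebraMap k P c, by rwa [α.commutes]⟩
  have hIfg : I.FG := IsNoetherian.noetherian I
  haveI : IsNoetherianRing (AdicCompletion I P) := RegLoc.Completion.isNoetherianRing_adicCompletion' I
  haveI : IsAdicComplete (I.map (algebraMap P (AdicCompletion I P))) (AdicCompletion I P) :=
    Adic.Rig.isAdicComplete_map hIfg
  obtain ⟨π, hπ⟩ := Adic.Rig.exists_lift (J := I) α.toRingHom mR hαI.le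
  have hπI : (I.map (algebraMap P (AdicCompletion I P))).map π = mR := by
    rw [Ideal.map_map, hπ, hαI]
  have hπs : Function.Surjective π := by
    haveI : IsHausdorff ((I.map (algebraMap P (AdicCompletion I P))).map π) R := by
      rw [hπI]; infer_instance
    refine surjective_of_mk_map_comp_surjective (I := I.map (algebraMap P (AdicCompletion I P))) π
      fun w => ?_
    obtain ⟨r, rfl⟩ := Ideal.Quotient.mk_surjective w
    obtain ⟨p, hp⟩ := hsR r
    refine ⟨algebraMap P _ p, ?_⟩
    rw [RingHom.comp_apply, Ideal.Quotient.eq, hπI, ← neg_mem_iff, neg_sub,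
      show π (algebraMap P _ p) = α p from DFunLike.congr_fun hπ p]
    exact hp
  have hπpow : ∀ n, ((I ^ n).map (algebraMap P (AdicCompletion I P))).map π = mR ^ n := fun n => by
    rw [Ideal.map_pow, Ideal.map_pow, hπI]
  -- generators and relations
  obtain ⟨r, f, hf⟩ := Submodule.fg_iff_exists_fin_generating_family.1
    (IsNoetherian.noetherian (RingHom.ker π))
  have hαmem : ∀ n p, α p ∈ mR ^ n ↔ algebraMap P (AdicCompletion I P) p ∈
      Ideal.span (Set.range f) ⊔ (I ^ n).map (algebraMap P (AdicCompletion I P)) := fun n p => by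
    rw [show Ideal.span (Set.range f) = RingHom.ker π from hf, sup_comm, RingHom.ker_eq_comap_bot,
      ← Ideal.comap_map_of_surjective π hπs, Ideal.mem_comap, hπpow,
      show π (algebraMap P _ p) = α p from DFunLike.congr_fun hπ p]
  obtain ⟨s, a, ha⟩ := Submodule.fg_iff_exists_fin_generating_family.1
    (IsNoetherian.noetherian (LinearMap.ker (Fintype.linearCombination (AdicCompletion I P) f)))
  have harel : ∀ l, ∑ i, a l i * f i = 0 := fun l => by
    have : a l ∈ LinearMap.ker (Fintype.linearCombination (AdicCompletion I P) f) :=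
      ha ▸ Submodule.subset_span ⟨l, rfl⟩
    simpa [Fintype.linearCombination_apply] using this
  obtain ⟨c, hc⟩ := Perturb.exists_perturb (I.map (algebraMap P (AdicCompletion I P))) f a fun e he => by
    rw [ha, LinearMap.mem_ker, Fintype.linearCombination_apply]
    simpa using he
  -- the element comes from a finitely presented algebra
  obtain ⟨T, _, _, hT, g₀, η₀, hη₀⟩ := ApproxFunctor.exists_fp_preimage F ξ
  obtain ⟨ny, e, he, hker⟩ := hT.out
  obtain ⟨q, G, hG⟩ := Submodule.fg_iff_exists_fin_generating_family.1 hker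
  choose y hy using fun i : Fin ny => hπs (g₀ (e (X i)))
  let πk : AdicCompletion I P →ₐ[k] R :=
    { π with
      commutes' := fun c => by
        show π (algebraMap k _ c) = _
        rw [IsScalarTower.algebraMap_apply k P (AdicCompletion I P),
          show π (algebraMap P _ (algebraMap k P c)) = α (algebraMap k P c) from DFunLike.congr_fun hπ _,
          α.commutes] }
  have hcoef : ∀ l, ∃ cl : Fin r → AdicCompletion I P, ∑ i, cl i * f i = aeval y (G l) := fun l => by
    have h1 : aeval y (G l) ∈ RingHom.ker π := by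
      rw [RingHom.mem_ker]
      show πk (aeval y (G l)) = 0
      have h2 : e (G l) = 0 := by
        have : G l ∈ RingHom.ker e := hG ▸ Submodule.subset_span ⟨l, rfl⟩
        exact this
      have h3 : πk.comp (aeval y) = g₀.comp e := algHom_ext fun i => by
        simp only [AlgHom.comp_apply, aeval_X]; exact hy i
      rw [← AlgHom.comp_apply, h3, AlgHom.comp_apply, h2, map_zero]
    rw [← hf] at h1
    obtain ⟨cl, hcl⟩ := (Submodule.mem_span_range_iff_exists_fun _).1 h1
    exact ⟨cl, by simpa using hcl⟩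
  choose cf hcf using hcoef
  -- the system
  let σ := Fin ny ⊕ Fin r ⊕ (Fin s × Fin r) ⊕ (Fin q × Fin r)
  let v : σ → AdicCompletion I P :=
    Sum.elim y (Sum.elim f (Sum.elim (fun li => a li.1 li.2) fun li => cf li.1 li.2))
  let eqs : Fin q ⊕ Fin s → MvPolynomial σ P :=
    Sum.elim (fun l => rename (Sum.inl : Fin ny → σ) (map (algebraMap k P) (G l)) -
        ∑ i, X (Sum.inr (Sum.inr (Sum.inr (l, i)))) * X (Sum.inr (Sum.inl i)))
      fun l => ∑ i, X (Sum.inr (Sum.inr (Sum.inl (l, i)))) * X (Sum.inr (Sum.inl i))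
  let Q := MvPolynomial σ P ⧸ Ideal.span (Set.range eqs)
  haveI : Algebra.FinitePresentation P Q :=
    Algebra.FinitePresentation.quotient (Submodule.fg_span (Set.finite_range _))
  have hv : Ideal.span (Set.range eqs) ≤ RingHom.ker (aeval (R := P) v).toRingHom := by
    rw [Ideal.span_le]
    rintro _ ⟨l | l, rfl⟩
    · show aeval v (eqs (Sum.inl l)) = 0
      simp only [eqs, Sum.elim_inl, map_sub, map_sum, map_mul, aeval_X, aeval_rename, sub_eq_zero]
      rw [aeval_map_algebraMap]
      simp only [v, Sum.elim_inr, Sum.elim_inl]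
      exact (hcf l).symm
    · show aeval v (eqs (Sum.inr l)) = 0
      simp only [eqs, Sum.elim_inr, map_sum, map_mul, aeval_X]
      simp only [v, Sum.elim_inr, Sum.elim_inl]
      exact harel l
  let h : Q →ₐ[P] AdicCompletion I P :=
    Ideal.Quotient.liftₐ (R₁ := P) (Ideal.span (Set.range eqs)) (aeval v) hv
  let M := max c N + 2
  have hreg : CAlg.IsRegularHom P (AdicCompletion I P) :=
    Groth.Agent.S0600.result P (EGA4Lib.Jac.isGRing_of_finiteType (isGRing_field (k := k)) P) I
  obtain ⟨D, _, _, hDe, hD, hDI, ρ, hρ⟩ := ApproxAdic.exists_etale_congr (T := Q) I hreg h M (by omega)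
  obtain ⟨τ⟩ := exists_toCompletion hD hDI
  let w : σ → D := fun i => ρ (Ideal.Quotient.mk _ (X i))
  have hτw : ∀ i, τ (w i) - v i ∈ (I ^ M).map (algebraMap P (AdicCompletion I P)) := fun i => by
    obtain ⟨p, hp⟩ := Adic.Rig.exists_sub_mem_pow_map hIfg (v i) M
    have hhv : h (Ideal.Quotient.mk _ (X i)) = v i := aeval_X v i
    have h1 : AdicCompletion.evalₐ I M (h (Ideal.Quotient.mk _ (X i))) = Ideal.Quotient.mk (I ^ M) p := by
      rw [Adic.Rig.mem_pow_map_iff hIfg, map_sub, sub_eq_zero, AlgHom.commutes,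
        Ideal.Quotient.algebraMap_eq] at hp
      rw [hhv]; exact hp
    have h2 := toCompletion_mem τ (hρ _ p h1)
    rw [map_sub, τ.commutes] at h2
    rw [show τ (w i) - v i = (τ (w i) - algebraMap P _ p) - (v i - algebraMap P _ p) by ring]
    exact sub_mem h2 hp
  have hw : ∀ l, aeval w (eqs l) = 0 := fun l => by
    have : (aeval w : MvPolynomial σ P →ₐ[P] D) = ρ.comp (Ideal.Quotient.mkₐ P _) :=
      algHom_ext fun i => by simp only [aeval_X]; rfl
    rw [this, AlgHom.comp_apply, Ideal.Quotient.mkₐ_eq_mk,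
      Ideal.Quotient.eq_zero_iff_mem.2 (Ideal.subset_span (Set.mem_range_self l)), map_zero]
  -- the model
  let f' : Fin r → D := fun i => w (Sum.inr (Sum.inl i))
  letI : Algebra k D := ((algebraMap P D).comp (algebraMap k P)).toAlgebra
  haveI : IsScalarTower k P D := IsScalarTower.of_algebraMap_eq fun _ => rfl
  haveI : Algebra.FiniteType k D := Algebra.FiniteType.trans (S := P) inferInstance inferInstance
  let K : Ideal D := Ideal.span (Set.range f')
  haveI : Algebra.FiniteType k (D ⧸ K) :=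
    Algebra.FiniteType.of_surjective (Ideal.Quotient.mkₐ k K) Ideal.Quotient.mk_surjective
  let β : P →ₐ[k] D ⧸ K := (Ideal.Quotient.mkₐ k K).comp (IsScalarTower.toAlgHom k P D)
  let m : Ideal (D ⧸ K) := (I.map (algebraMap P D)).map (Ideal.Quotient.mk K)
  have hm : I.map β.toRingHom = m := by
    show I.map _ = (I.map (algebraMap P D)).map (Ideal.Quotient.mk K)
    rw [Ideal.map_map]; rfl
  have hβmem : ∀ n p, β p ∈ m ^ n ↔ algebraMap P (AdicCompletion I P) p ∈
      Ideal.span (Set.range fun i => τ (f' i)) ⊔ (I ^ n).map (algebraMap P (AdicCompletion I P)) :=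
    fun n p => by
    rw [← mem_span_sup_iff τ hD, show m ^ n = (I.map (algebraMap P D) ^ n).map (Ideal.Quotient.mk K) from
      (Ideal.map_pow _ _ n).symm]
    show Ideal.Quotient.mk K (algebraMap P D p) ∈ _ ↔ _
    rw [Ideal.mem_quotient_iff_mem_sup, sup_comm]
  have hk : ∀ n, ∀ p ∈ I ^ n, α p ∈ mR ^ (n + 1) ↔ β p ∈ m ^ (n + 1) := fun n p hp => by
    rw [hαmem, hβmem, Ideal.map_pow]
    refine hc M (by omega) (fun i => τ (f' i)) (fun l i => τ (w (Sum.inr (Sum.inr (Sum.inl (l, i))))))
      (fun i => ?_) (fun l i => ?_) (fun l => ?_) n _ ?_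
    · rw [← Ideal.map_pow, ← neg_mem_iff, neg_sub]; exact hτw _
    · rw [← Ideal.map_pow, ← neg_mem_iff, neg_sub]; exact hτw _
    · have := congrArg τ (hw (Sum.inr l))
      simpa [eqs] using this
    · rw [← Ideal.map_pow]; exact Ideal.mem_map_of_mem _ hp
  have hN : ∀ p, α p ∈ mR ^ (N + 1) ↔ β p ∈ m ^ (N + 1) := fun p => by
    rw [hαmem, hβmem]
    have key : ∀ i, τ (f' i) - f i ∈ (I ^ (N + 1)).map (algebraMap P (AdicCompletion I P)) := fun i =>
      Ideal.map_mono (Ideal.pow_le_pow_right (by omega)) (hτw _)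
    have : Ideal.span (Set.range f) ⊔ (I ^ (N + 1)).map (algebraMap P (AdicCompletion I P)) =
        Ideal.span (Set.range fun i => τ (f' i)) ⊔ (I ^ (N + 1)).map (algebraMap P (AdicCompletion I P)) := by
      refine le_antisymm (sup_le (Ideal.span_le.2 ?_) le_sup_right) (sup_le (Ideal.span_le.2 ?_) le_sup_right)
      · rintro _ ⟨i, rfl⟩
        show f i ∈ _
        rw [show f i = τ (f' i) - (τ (f' i) - f i) by ring]
        exact sub_mem (Ideal.mem_sup_left (Ideal.subset_span ⟨i, rfl⟩)) (Ideal.mem_sup_right (key i))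
      · rintro _ ⟨i, rfl⟩
        show τ (f' i) ∈ _
        rw [show τ (f' i) = f i + (τ (f' i) - f i) by ring]
        exact add_mem (Ideal.mem_sup_left (Ideal.subset_span ⟨i, rfl⟩)) (Ideal.mem_sup_right (key i))
    rw [this]
  have hsA : ∀ x : D ⧸ K, ∃ p : P, x - β p ∈ m := fun x => by
    obtain ⟨d, rfl⟩ := Ideal.Quotient.mk_surjective x
    obtain ⟨p, hp⟩ := hD d
    refine ⟨p, ?_⟩
    show Ideal.Quotient.mk K d - Ideal.Quotient.mk K (algebraMap P D p) ∈ m
    rw [← map_sub, ← neg_mem_iff, ← map_neg, neg_sub]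
    exact Ideal.mem_map_of_mem _ hp
  have hP : ∀ p : P, ∃ c : k, p - algebraMap k P c ∈ I := fun p => ⟨_, sub_constantCoeff_mem p⟩
  have hne : m ≠ ⊤ := fun htop => by
    have h1 : α 1 ∈ mR ^ (0 + 1) :=
      (hk 0 1 (by simp)).2 (by rw [zero_add, pow_one, htop]; exact Submodule.mem_top)
    rw [map_one, zero_add, pow_one] at h1
    exact (IsLocalRing.maximalIdeal.isMaximal R).ne_top ((Ideal.eq_top_iff_one _).2 h1)
  have hresA : Function.Surjective (fun c : k => Ideal.Quotient.mk m (algebraMap k (D ⧸ K) c)) := fun x => by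
    obtain ⟨x, rfl⟩ := Ideal.Quotient.mk_surjective x
    obtain ⟨p, hp⟩ := hsA x
    obtain ⟨c, hc⟩ := hP p
    refine ⟨c, ?_⟩
    have h1 : β (p - algebraMap k P c) ∈ m := hm ▸ Ideal.mem_map_of_mem β.toRingHom hc
    rw [map_sub, β.commutes] at h1
    refine (Ideal.Quotient.eq.2 ?_).symm
    simpa using add_mem hp h1
  haveI : Nontrivial ((D ⧸ K) ⧸ m) := Ideal.Quotient.nontrivial_iff.2 hne
  have hmax : m.IsMaximal := Ideal.Quotient.maximal_of_isField m (MulEquiv.isField (Field.toIsField k)
    (RingEquiv.ofBijective ((Ideal.Quotient.mk m).comp (algebraMap k (D ⧸ K)))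
      ⟨RingHom.injective _, hresA⟩).symm.toMulEquiv)
  -- the element
  let ly : MvPolynomial (Fin ny) k →ₐ[k] D ⧸ K :=
    (Ideal.Quotient.mkₐ k K).comp (aeval fun i => w (Sum.inl i))
  have hly : RingHom.ker e ≤ RingHom.ker ly := by
    refine hG.ge.trans (Submodule.span_le.2 ?_)
    rintro _ ⟨l, rfl⟩
    show Ideal.Quotient.mk K (aeval (fun i => w (Sum.inl i)) (G l)) = 0
    have := hw (Sum.inl l)
    simp only [eqs, Sum.elim_inl, map_sub, map_sum, map_mul, aeval_X, aeval_rename, sub_eq_zero] at this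
    rw [aeval_map_algebraMap] at this
    rw [show (fun i => w (Sum.inl i)) = w ∘ (Sum.inl : Fin ny → σ) from rfl, this,
      Ideal.Quotient.eq_zero_iff_mem]
    exact sum_mem fun i _ => Ideal.mul_mem_left _ _ (Ideal.subset_span ⟨i, rfl⟩)
  let hA : T →ₐ[k] D ⧸ K := AlgHom.liftOfSurjective e he ly hly
  have hAe : hA.comp e = ly := AlgHom.ext fun x => AlgHom.liftOfSurjective_apply e he ly hly x
  refine ⟨D ⧸ K, inferInstance, inferInstance, inferInstance, m, hmax, hresA,
    F.map (CommAlgCat.ofHom hA) η₀, P, inferInstance, inferInstance, inferInstance, I, α, β, hαI, hm,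
    hP, hsR, hsA, hk, hN, fun φ hφ hφ0 => ?_⟩
  rw [← hη₀, ← FunctorToTypes.map_comp_apply, ← FunctorToTypes.map_comp_apply, ← CommAlgCat.ofHom_comp,
    ← CommAlgCat.ofHom_comp]
  refine congrArg (fun z : T →ₐ[k] (D ⧸ K) ⧸ m ^ (N + 1) => F.map (CommAlgCat.ofHom z) η₀)
    (a₁ := φ.comp g₀) (a₂ := (Ideal.Quotient.mkₐ k (m ^ (N + 1))).comp hA)
    ((AlgHom.cancel_right he).1 (algHom_ext fun i => ?_))
  obtain ⟨p, hp⟩ := exists_sub_mem hD (w (Sum.inl i)) (N + 1)
  show φ (g₀ (e (X i))) = Ideal.Quotient.mk (m ^ (N + 1)) (hA.comp e (X i))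
  rw [hAe, ← hy i]
  show _ = Ideal.Quotient.mk (m ^ (N + 1)) (Ideal.Quotient.mk K (aeval (fun i => w (Sum.inl i)) (X i)))
  rw [aeval_X]
  have hA1 : Ideal.Quotient.mk (m ^ (N + 1)) (Ideal.Quotient.mk K (w (Sum.inl i))) =
      Ideal.Quotient.mk (m ^ (N + 1)) (β p) := by
    refine Ideal.Quotient.eq.2 ?_
    show Ideal.Quotient.mk K (w (Sum.inl i)) - Ideal.Quotient.mk K (algebraMap P D p) ∈ _
    rw [← map_sub, ← Ideal.map_pow]
    exact Ideal.mem_map_of_mem _ hp
  rw [hA1, ← hφ p, ← sub_eq_zero, ← map_sub]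
  refine hφ0 _ ?_
  have h1 : y i - algebraMap P _ p ∈ (I ^ (N + 1)).map (algebraMap P (AdicCompletion I P)) := by
    have h2 := toCompletion_mem τ hp
    rw [map_sub, τ.commutes] at h2
    rw [show y i - algebraMap P _ p =
      (τ (w (Sum.inl i)) - algebraMap P _ p) - (τ (w (Sum.inl i)) - y i) by ring]
    exact sub_mem h2 (Ideal.map_mono (Ideal.pow_le_pow_right (by omega)) (hτw (Sum.inl i)))
  have h3 := Ideal.mem_map_of_mem π h1
  rw [hπpow, map_sub, show π (algebraMap P _ p) = α p from DFunLike.congr_fun hπ p] at h3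
  exact h3

end Groth.Agent.SmoothingLib.Algebraize
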