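import Groth.Agent.SmoothingLib.Params
import Groth.Agent.SmoothingLib.DesingStd
import Groth.Agent.Omega.GeomRegular
import Mathlib

/-!
# Tools for resolving over fields of positive characteristic
-/

set_option autoImplicit false
universe u

open IsLocalRing

namespace Groth.Agent.SmoothingLib.CharPTools

/-- Multiples of strictly standard elements are strictly standard. -/
theorem isStrictlyStandard_mul {R A : Type u} [CommRing R] [CommRing A] [Algebra R A] {a : A}
    (h : Smoothing.IsStrictlyStandard R A a) (b : A) : Smoothing.IsStrictlyStandard R A (b * a) := by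
  obtain ⟨P, ha, hk⟩ := h
  refine ⟨P, Ideal.mul_mem_left _ _ ha, fun t' ht' j hj => ?_⟩
  obtain ⟨tb, htb⟩ := P.surj b
  obtain ⟨ta, hta⟩ := P.surj a
  have hdiff : t' - tb * ta ∈ Ideal.span (Set.range P.rel) := by
    rw [← P.ker_eq]
    show P.hom (t' - tb * ta) = 0
    rw [map_sub, map_mul, ht', htb, hta, sub_self]
  rw [show t' * P.rel j = tb * (ta * P.rel j) + (t' - tb * ta) * P.rel j by ring]
  refine Ideal.add_mem _ (Ideal.mul_mem_left _ _ (hk ta hta j hj)) (Ideal.mem_sup_right ?_)
  rw [pow_two]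
  exact Ideal.mul_mem_mul hdiff (Ideal.subset_span ⟨j, rfl⟩)

/-- Annihilator conditions pass to powers. -/
theorem pow_cond {A : Type u} [CommRing A] {d : ℕ} (π : Fin d → A) {M : ℕ} (hM : 0 < M)
    (h : ∀ (i : Fin d) (x : A),
      π i ^ 2 * x ∈ Ideal.span (Set.range fun j : {j : Fin d // (j : ℕ) < (i : ℕ)} => π j ^ (M * 8)) →
      π i * x ∈ Ideal.span (Set.range fun j : {j : Fin d // (j : ℕ) < (i : ℕ)} => π j ^ (M * 8)))
    (i : Fin d) (x : A ⧸ Ideal.span (Set.range fun j : {j : Fin d // (j : ℕ) < (i : ℕ)} => (π j ^ M) ^ 8))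
    (hx : Ideal.Quotient.mk _ (π i ^ M) ^ 2 * x = 0) : Ideal.Quotient.mk _ (π i ^ M) * x = 0 := by
  have e : Ideal.span (Set.range fun j : {j : Fin d // (j : ℕ) < (i : ℕ)} => (π j ^ M) ^ 8) =
      Ideal.span (Set.range fun j : {j : Fin d // (j : ℕ) < (i : ℕ)} => π j ^ (M * 8)) := by
    simp only [pow_mul]
  obtain ⟨x, rfl⟩ := Ideal.Quotient.mk_surjective x
  obtain ⟨M', rfl⟩ := Nat.exists_eq_add_one.2 hM
  rw [← map_pow, ← map_mul, Ideal.Quotient.eq_zero_iff_mem, e, ← pow_mul] at hx
  rw [← map_mul, Ideal.Quotient.eq_zero_iff_mem, e]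
  have h1 : Ideal.Quotient.mk (Ideal.span (Set.range fun j : {j : Fin d // (j : ℕ) < (i : ℕ)} =>
      π j ^ ((M' + 1) * 8))) (π i) * Ideal.Quotient.mk _ x = 0 :=
    Params.mk_pow_mul_eq_zero (fun y hy => by
      obtain ⟨y, rfl⟩ := Ideal.Quotient.mk_surjective y
      rw [← map_pow, ← map_mul, Ideal.Quotient.eq_zero_iff_mem] at hy
      rw [← map_mul, Ideal.Quotient.eq_zero_iff_mem]
      exact h i y hy) (M := 2 * M' + 1) _ (by
      rw [← map_pow, ← map_mul, Ideal.Quotient.eq_zero_iff_mem]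
      rw [show (M' + 1) * 2 = 2 * M' + 1 + 1 by ring] at hx
      exact hx)
  rw [← map_mul, Ideal.Quotient.eq_zero_iff_mem] at h1
  rw [pow_succ, mul_assoc]
  exact Ideal.mul_mem_left _ _ h1

/-- If `h` kills the defect of the coordinates, scaling them by powers of `h` gives the annihilator
conditions, uniformly for two rings. -/
theorem exists_stabilize {A B : Type u} [CommRing A] [CommRing B] [IsNoetherianRing A]
    [IsNoetherianRing B] {d : ℕ} (x : Fin d → A) (hA : A) (y : Fin d → B) (hB : B) (e : ℕ)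
    (HA : ∀ (i : Fin d) (r : A),
      x i * r ∈ Ideal.span (Set.range fun j : {j : Fin d // (j : ℕ) < (i : ℕ)} => x j ^ e) →
      hA * r ∈ Ideal.span (Set.range fun j : {j : Fin d // (j : ℕ) < (i : ℕ)} => x j ^ e))
    (HB : ∀ (i : Fin d) (r : B),
      y i * r ∈ Ideal.span (Set.range fun j : {j : Fin d // (j : ℕ) < (i : ℕ)} => y j ^ e) →
      hB * r ∈ Ideal.span (Set.range fun j : {j : Fin d // (j : ℕ) < (i : ℕ)} => y j ^ e)) :
    ∃ c : Fin d → ℕ,
      (∀ (i : Fin d) (r : A), (hA ^ c i * x i) ^ 2 * r ∈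
          Ideal.span (Set.range fun j : {j : Fin d // (j : ℕ) < (i : ℕ)} => (hA ^ c j * x j) ^ e) →
        (hA ^ c i * x i) * r ∈
          Ideal.span (Set.range fun j : {j : Fin d // (j : ℕ) < (i : ℕ)} => (hA ^ c j * x j) ^ e)) ∧
      ∀ (i : Fin d) (r : B), (hB ^ c i * y i) ^ 2 * r ∈
          Ideal.span (Set.range fun j : {j : Fin d // (j : ℕ) < (i : ℕ)} => (hB ^ c j * y j) ^ e) →
        (hB ^ c i * y i) * r ∈
          Ideal.span (Set.range fun j : {j : Fin d // (j : ℕ) < (i : ℕ)} => (hB ^ c j * y j) ^ e) := by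
  classical
  have one : ∀ (C : Type u) [CommRing C] [IsNoetherianRing C] (z : Fin d → C) (h : C),
      (∀ (i : Fin d) (r : C),
        z i * r ∈ Ideal.span (Set.range fun j : {j : Fin d // (j : ℕ) < (i : ℕ)} => z j ^ e) →
        h * r ∈ Ideal.span (Set.range fun j : {j : Fin d // (j : ℕ) < (i : ℕ)} => z j ^ e)) →
      ∀ (c : Fin d → ℕ) (i : Fin d), ∃ c₀, ∀ n, c₀ ≤ n → ∀ r : C, (h ^ n * z i) ^ 2 * r ∈
          Ideal.span (Set.range fun j : {j : Fin d // (j : ℕ) < (i : ℕ)} => (h ^ c j * z j) ^ e) →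
        (h ^ n * z i) * r ∈
          Ideal.span (Set.range fun j : {j : Fin d // (j : ℕ) < (i : ℕ)} => (h ^ c j * z j) ^ e) := by
    intro C _ _ z h H c i
    set J' := Ideal.span (Set.range fun j : {j : Fin d // (j : ℕ) < (i : ℕ)} => (h ^ c j * z j) ^ e)
    set J := Ideal.span (Set.range fun j : {j : Fin d // (j : ℕ) < (i : ℕ)} => z j ^ e)
    obtain ⟨c₀, hc₀⟩ := S2109.exists_stable J' h
    refine ⟨c₀, fun n hn r hr => ?_⟩
    have hle : J' ≤ J := Ideal.span_le.2 (by
      rintro _ ⟨j, rfl⟩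
      show (h ^ c j * z j) ^ e ∈ J
      rw [mul_pow]
      exact Ideal.mul_mem_left _ _ (Ideal.subset_span ⟨j, rfl⟩))
    let N := (∑ j, c j) * e
    have hge : ∀ s ∈ J, h ^ N * s ∈ J' := by
      have : J ≤ Submodule.comap (LinearMap.mulLeft C (h ^ N)) J' := Ideal.span_le.2 (by
        rintro _ ⟨j, rfl⟩
        show h ^ N * z j ^ e ∈ J'
        obtain ⟨q, hq⟩ := Nat.exists_eq_add_of_le
          (Nat.mul_le_mul_right e (Finset.single_le_sum (fun j _ => Nat.zero_le (c j)) (Finset.mem_univ (j : Fin d))))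
        rw [show N = c j * e + q from hq, pow_add, pow_mul, mul_comm _ (h ^ q), mul_assoc, ← mul_pow]
        exact Ideal.mul_mem_left _ _ (Ideal.subset_span ⟨j, rfl⟩))
      exact fun s hs => this hs
    have h1 : z i * (z i * (h ^ (2 * n) * r)) ∈ J := hle (by
      rw [show z i * (z i * (h ^ (2 * n) * r)) = (h ^ n * z i) ^ 2 * r by ring]; exact hr)
    have h2 : z i * (h * (h ^ (2 * n) * r)) ∈ J := by
      have := H i _ h1
      rwa [mul_left_comm] at this
    have h3 : h * (h * (h ^ (2 * n) * r)) ∈ J := H i _ h2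
    have h4 : h ^ c₀ * r ∈ J' := hc₀ (N + 2 * n + 2) r (by
      rw [show h ^ (N + 2 * n + 2) * r = h ^ N * (h * (h * (h ^ (2 * n) * r))) by ring]
      exact hge _ h3)
    obtain ⟨q, rfl⟩ := Nat.exists_eq_add_of_le hn
    rw [show h ^ (c₀ + q) * z i * r = h ^ q * z i * (h ^ c₀ * r) by ring]
    exact Ideal.mul_mem_left _ _ h4
  have main : ∀ l, l ≤ d → ∃ c : Fin d → ℕ, ∀ i : Fin d, (i : ℕ) < l →
      (∀ r : A, (hA ^ c i * x i) ^ 2 * r ∈
          Ideal.span (Set.range fun j : {j : Fin d // (j : ℕ) < (i : ℕ)} => (hA ^ c j * x j) ^ e) →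
        (hA ^ c i * x i) * r ∈
          Ideal.span (Set.range fun j : {j : Fin d // (j : ℕ) < (i : ℕ)} => (hA ^ c j * x j) ^ e)) ∧
      ∀ r : B, (hB ^ c i * y i) ^ 2 * r ∈
          Ideal.span (Set.range fun j : {j : Fin d // (j : ℕ) < (i : ℕ)} => (hB ^ c j * y j) ^ e) →
        (hB ^ c i * y i) * r ∈
          Ideal.span (Set.range fun j : {j : Fin d // (j : ℕ) < (i : ℕ)} => (hB ^ c j * y j) ^ e) := by
    intro l
    induction l with
    | zero => exact fun _ => ⟨fun _ => 0, fun i hi => absurd hi (Nat.not_lt_zero _)⟩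
    | succ l ih =>
      intro hl
      obtain ⟨c, hc⟩ := ih (Nat.le_of_succ_le hl)
      let i₀ : Fin d := ⟨l, hl⟩
      obtain ⟨a, ha⟩ := one A x hA HA c i₀
      obtain ⟨b, hb⟩ := one B y hB HB c i₀
      refine ⟨Function.update c i₀ (max a b), fun i hi => ?_⟩
      have e1 : ∀ j : {j : Fin d // (j : ℕ) < (i : ℕ)}, Function.update c i₀ (max a b) j = c j := by
        intro j
        refine Function.update_of_ne (fun h => ?_) _ _
        have := j.2
        rw [h] at this
        simp only [i₀] at this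
        omega
      simp only [e1]
      by_cases hii : i = i₀
      · subst hii
        rw [Function.update_self]
        exact ⟨ha _ (le_max_left _ _), hb _ (le_max_right _ _)⟩
      · rw [Function.update_of_ne hii]
        refine hc i ?_
        have : (i : ℕ) ≠ l := fun h => hii (Fin.ext h)
        omega
  obtain ⟨c, hc⟩ := main d le_rfl
  exact ⟨c, fun i => (hc i i.2).1, fun i => (hc i i.2).2⟩

/-- A regular local ring in which given elements have independent classes of differentials has a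
system of parameters starting with them. -/
theorem exists_extend {R : Type u} [CommRing R] [IsRegularLocalRing R] {d : ℕ} (x : Fin d → R)
    (hx : ∀ i, x i ∈ maximalIdeal R)
    (hind : ∀ c : Fin d → R, ∑ i, c i * x i ∈ maximalIdeal R ^ 2 → ∀ i, c i ∈ maximalIdeal R) :
    ∃ (n : ℕ) (r : Fin (d + n) → R), ringKrullDim R = (d + n : ℕ) ∧
      Ideal.span (Set.range r) = maximalIdeal R ∧ ∀ i, r (Fin.castAdd n i) = x i := by
  classical
  let K := ResidueField R
  let v : Fin d → CotangentSpace R := fun i => (maximalIdeal R).toCotangent ⟨x i, hx i⟩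
  have hv : LinearIndependent K v := by
    rw [Fintype.linearIndependent_iff]
    intro g hg i
    choose c hc using fun i => residue_surjective (g i)
    have h1 : (maximalIdeal R).toCotangent (∑ i, c i • ⟨x i, hx i⟩) = 0 := by
      rw [map_sum, ← hg]
      refine Finset.sum_congr rfl fun i _ => ?_
      rw [map_smul, ← hc i, ← ResidueField.algebraMap_eq, algebraMap_smul]
    rw [Ideal.toCotangent_eq_zero, AddSubmonoidClass.coe_finsetSum] at h1
    rw [← hc i]
    exact (residue_eq_zero_iff _).mpr (hind c h1 i)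
  let b := Module.Basis.sumExtend hv
  let s := Module.Basis.sumExtendIndex hv
  haveI : Finite (Fin d ⊕ s) := Module.Finite.finite_basis b
  haveI : Finite s := Finite.sum_right (Fin d)
  cases nonempty_fintype s
  let n := Fintype.card s
  let σ : Fin (d + n) ≃ Fin d ⊕ s :=
    finSumFinEquiv.symm.trans (Equiv.sumCongr (Equiv.refl _) (Fintype.equivFin s).symm)
  have hb : ∀ i, b (Sum.inl i) = v i := fun i => by
    simp [b, Module.Basis.sumExtend, v]
    rfl
  choose lift hlift using Ideal.toCotangent_surjective (maximalIdeal R)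
  let r : Fin (d + n) → maximalIdeal R :=
    fun j => Sum.elim (fun i => ⟨x i, hx i⟩) (fun i => lift (b (Sum.inr i))) (σ j)
  have hr : ∀ j, (maximalIdeal R).toCotangent (r j) = b (σ j) := fun j => by
    simp only [r]
    rcases σ j with i | i
    · exact (hb i).symm
    · exact hlift _
  refine ⟨n, fun j => (r j : R), ?_, ?_, fun i => ?_⟩
  · obtain ⟨D, hD, -⟩ := RegLoc.exists_natCast_eq_ringKrullDim R
    have h1 := (IsRegularLocalRing.iff_finrank_cotangentSpace R).mp ‹_›
    rw [Module.finrank_eq_card_basis (b.reindex σ.symm), Fintype.card_fin, hD] at h1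
    rw [hD]
    exact_mod_cast h1.symm
  · refine le_antisymm (Ideal.span_le.2 (by rintro _ ⟨j, rfl⟩; exact (r j).2)) ?_
    refine Submodule.le_of_le_smul_of_le_jacobson_bot (IsNoetherian.noetherian _)
      (maximalIdeal_le_jacobson _) ?_
    intro z hz
    rw [smul_eq_mul, ← pow_two]
    let w := (b.reindex σ.symm).repr ((maximalIdeal R).toCotangent ⟨z, hz⟩)
    choose c hc using fun j => residue_surjective (w j)
    have h1 : (maximalIdeal R).toCotangent (⟨z, hz⟩ - ∑ j, c j • r j) = 0 := by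
      rw [map_sub, map_sum, sub_eq_zero]
      conv_lhs => rw [← (b.reindex σ.symm).sum_repr ((maximalIdeal R).toCotangent ⟨z, hz⟩)]
      refine Finset.sum_congr rfl fun j _ => ?_
      rw [map_smul, hr, Module.Basis.reindex_apply, Equiv.symm_symm, show w j = residue R (c j) from (hc j).symm,
        ← ResidueField.algebraMap_eq, algebraMap_smul]
    rw [Ideal.toCotangent_eq_zero, AddSubgroupClass.coe_sub, AddSubmonoidClass.coe_finsetSum] at h1
    rw [← sub_add_cancel z (∑ j, ((c j • r j : maximalIdeal R) : R))]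
    refine Ideal.add_mem _ (Ideal.mem_sup_right h1) (Ideal.mem_sup_left (Ideal.sum_mem _ fun j _ => ?_))
    exact Ideal.mul_mem_left _ _ (Ideal.subset_span ⟨j, rfl⟩)
  · simp [r, σ]

/-- An element off a prime at which the coordinates are part of a system of parameters kills the
defect of the coordinates. -/
theorem exists_defect_kill {A : Type u} [CommRing A] [IsNoetherianRing A] (P : Ideal A) [P.IsPrime]
    [IsRegularLocalRing (Localization.AtPrime P)] {d : ℕ} (x : Fin d → A) (hxP : ∀ i, x i ∈ P)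
    (hind : ∀ c : Fin d → Localization.AtPrime P,
      ∑ i, c i * algebraMap A _ (x i) ∈ maximalIdeal (Localization.AtPrime P) ^ 2 →
        ∀ i, c i ∈ maximalIdeal (Localization.AtPrime P)) (e : ℕ) (he : 0 < e) :
    ∃ h, h ∉ P ∧ ∀ (i : Fin d) (r : A),
      x i * r ∈ Ideal.span (Set.range fun j : {j : Fin d // (j : ℕ) < (i : ℕ)} => x j ^ e) →
      h * r ∈ Ideal.span (Set.range fun j : {j : Fin d // (j : ℕ) < (i : ℕ)} => x j ^ e) := by
  classical
  set f := algebraMap A (Localization.AtPrime P)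
  obtain ⟨n, R, hdim, hspan, hR⟩ := exists_extend (fun i => f (x i))
    (fun i => (IsLocalization.AtPrime.to_map_mem_maximal_iff _ P _).mpr (hxP i)) hind
  let J : Fin d → Ideal A := fun i =>
    Ideal.span (Set.range fun j : {j : Fin d // (j : ℕ) < (i : ℕ)} => x j ^ e)
  let K : Fin d → Ideal A := fun i => Submodule.comap (LinearMap.mulLeft A (x i)) (J i)
  have hK : ∀ i, ∀ r ∈ K i, ∃ s, s ∉ P ∧ s * r ∈ J i := by
    intro i r hr
    have hmap : (J i).map f = Ideal.span (Set.range
        fun j : {j : Fin (d + n) // (j : ℕ) < (Fin.castAdd n i : ℕ)} => R j ^ e) := by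
      rw [Ideal.map_span, ← Set.range_comp]
      congr 1
      ext z
      constructor
      · rintro ⟨j, rfl⟩
        exact ⟨⟨Fin.castAdd n j, j.2⟩, by simp [hR, map_pow, f]⟩
      · rintro ⟨⟨j, hj⟩, rfl⟩
        have hjd : (j : ℕ) < d := by
          have h1 : (j : ℕ) < (i : ℕ) := hj
          exact h1.trans i.2
        refine ⟨⟨⟨j, hjd⟩, hj⟩, ?_⟩
        show f (x ⟨j, hjd⟩ ^ e) = R j ^ e
        rw [map_pow]
        exact congrArg (· ^ e) (hR ⟨j, hjd⟩).symm
    have h1 : f r ∈ (J i).map f := by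
      rw [hmap]
      refine S2109.mul_mem_of_reg hdim R hspan e he _ _ ?_
      rw [← hmap, hR, ← map_mul]
      exact Ideal.mem_map_of_mem _ hr
    obtain ⟨s, hs, h2⟩ :=
      (IsLocalization.algebraMap_mem_map_algebraMap_iff P.primeCompl _ (J i) r).mp h1
    exact ⟨s, hs, h2⟩
  choose G hG using fun i => IsNoetherian.noetherian (K i)
  choose s hs hsr using fun (i : Fin d) (r : (G i : Set A)) => hK i r (hG i ▸ Submodule.subset_span r.2)
  let h : A := ∏ i, ∏ r ∈ (G i).attach, s i ⟨r.1, r.2⟩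
  refine ⟨h, fun hmem => ?_, fun i r hr => ?_⟩
  · obtain ⟨i, -, hi⟩ := (Ideal.IsPrime.prod_mem_iff).mp hmem
    obtain ⟨r, -, hr⟩ := (Ideal.IsPrime.prod_mem_iff).mp hi
    exact hs i _ hr
  · have : K i ≤ Submodule.comap (LinearMap.mulLeft A h) (J i) := by
      rw [← hG i, Submodule.span_le]
      intro r hr
      obtain ⟨q, hq⟩ : s i ⟨r, hr⟩ ∣ h :=
        (Finset.dvd_prod_of_mem (fun r => s i ⟨r.1, r.2⟩) (Finset.mem_attach _ ⟨r, hr⟩)).trans
          (Finset.dvd_prod_of_mem (fun i => ∏ r ∈ (G i).attach, s i ⟨r.1, r.2⟩) (Finset.mem_univ i))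
      show h * r ∈ J i
      rw [hq, mul_comm _ q, mul_assoc]
      exact Ideal.mul_mem_left _ _ (hsr i ⟨r, hr⟩)
    exact this hr

/-- Finiteness of `H₁` of the cotangent complex transfers along isomorphisms. -/
theorem finite_H1_of_equiv {k S S' : Type u} [CommRing k] [CommRing S] [CommRing S'] [Algebra k S]
    [Algebra k S'] (e : S ≃ₐ[k] S') [Module.Finite S (Algebra.H1Cotangent k S)] :
    Module.Finite S' (Algebra.H1Cotangent k S') := by
  letI := e.toRingHom.toAlgebra
  haveI : IsScalarTower k S S' := .of_algebraMap_eq' e.toAlgHom.comp_algebraMap.symm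
  obtain ⟨g, hg⟩ := ‹Module.Finite S (Algebra.H1Cotangent k S)›.fg_top
  let f : Algebra.H1Cotangent k S →ₗ[S] Algebra.H1Cotangent k S' := Algebra.H1Cotangent.map k k S S'
  classical
  refine ⟨⟨g.image f, eq_top_iff.mpr fun y _ => ?_⟩⟩
  obtain ⟨x, rfl⟩ := (Algebra.H1Cotangent.mapEquiv k S S' e).surjective y
  show f x ∈ _
  rename_i hy
  clear hy
  have hx : x ∈ Submodule.span S (g : Set (Algebra.H1Cotangent k S)) := hg ▸ Submodule.mem_top
  induction hx using Submodule.span_induction with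
  | mem z hz => exact Submodule.subset_span (Finset.mem_image_of_mem f hz)
  | zero => rw [map_zero]; exact zero_mem _
  | add a b _ _ ha hb => rw [map_add]; exact add_mem ha hb
  | smul r a _ ha => rw [map_smul, ← algebraMap_smul S' r]; exact Submodule.smul_mem _ _ ha

/-- Taylor's formula to first order. -/
theorem snd_aeval_trivSqZero {σ : Type*} [Fintype σ] {k κ : Type u} [CommRing k] [CommRing κ]
    [Algebra k κ] [Module κᵐᵒᵖ κ] [IsCentralScalar κ κ] (a b : σ → κ) (f : MvPolynomial σ k) :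
    TrivSqZeroExt.fst (MvPolynomial.aeval
        (fun i => TrivSqZeroExt.inl (a i) + TrivSqZeroExt.inr (b i) : σ → TrivSqZeroExt κ κ) f) =
      MvPolynomial.aeval a f ∧
    TrivSqZeroExt.snd (MvPolynomial.aeval
        (fun i => TrivSqZeroExt.inl (a i) + TrivSqZeroExt.inr (b i) : σ → TrivSqZeroExt κ κ) f) =
      ∑ i, b i * MvPolynomial.aeval a (MvPolynomial.pderiv i f) := by
  classical
  induction f using MvPolynomial.induction_on with
  | C c =>
    rw [MvPolynomial.aeval_C, MvPolynomial.aeval_C]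
    refine ⟨rfl, ?_⟩
    simp only [MvPolynomial.pderiv_C, map_zero, mul_zero, Finset.sum_const_zero]
    rfl
  | add p q hp hq =>
    constructor
    · simp only [map_add, TrivSqZeroExt.fst_add, hp.1, hq.1]
    · simp only [map_add, TrivSqZeroExt.snd_add, hp.2, hq.2, mul_add, Finset.sum_add_distrib]
  | mul_X p j hp =>
    constructor
    · simp only [map_mul, MvPolynomial.aeval_X, TrivSqZeroExt.fst_mul, TrivSqZeroExt.fst_add,
        TrivSqZeroExt.fst_inl, TrivSqZeroExt.fst_inr, add_zero, hp.1]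
    · rw [map_mul, MvPolynomial.aeval_X, TrivSqZeroExt.snd_mul, hp.1, hp.2]
      simp only [TrivSqZeroExt.fst_add, TrivSqZeroExt.fst_inl, TrivSqZeroExt.fst_inr, add_zero,
        TrivSqZeroExt.snd_add, TrivSqZeroExt.snd_inl, TrivSqZeroExt.snd_inr, zero_add,
        op_smul_eq_smul, smul_eq_mul, MvPolynomial.pderiv_mul, map_add, map_mul, MvPolynomial.aeval_X,
        mul_add, Finset.sum_add_distrib, Finset.mul_sum]
      rw [add_comm]
      refine congrArg₂ (· + ·) (Finset.sum_congr rfl fun i _ => by ring) ?_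
      rw [Finset.sum_eq_single j (fun i _ hi => by
          rw [MvPolynomial.pderiv_X_of_ne hi.symm, map_zero, mul_zero, mul_zero])
        (fun hj => absurd (Finset.mem_univ j) hj)]
      simp [mul_comm]

end Groth.Agent.SmoothingLib.CharPTools
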