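import Groth.Agent.SmoothingLib.DesingStd
import Groth.Agent.SmoothingLib.Strict
import Groth.Agent.SmoothingLib.CharPTools
import Mathlib

/-!
# Homogenisation and Jacobian minors
-/

set_option autoImplicit false
universe u

open MvPolynomial

namespace Groth.Agent.SmoothingLib.CharPHomog

variable {k : Type u} [CommRing k]

/-- Substitution dividing the scaled variables by the last one. -/
def theta {U Y : Type} {B : Type*} [Mul B] (u : (U ⊕ Y) ⊕ Unit → B) (i : B) : U ⊕ Y → B :=
  Sum.elim (fun a => u (Sum.inl (Sum.inl a))) fun y => u (Sum.inl (Sum.inr y)) * i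

/-- Scaling of the scaled variables. -/
def scale {U Y : Type} {B : Type*} [Mul B] (l : B) (u : (U ⊕ Y) ⊕ Unit → B) : (U ⊕ Y) ⊕ Unit → B :=
  Sum.elim (Sum.elim (fun a => u (Sum.inl (Sum.inl a))) fun y => l * u (Sum.inl (Sum.inr y)))
    fun _ => l * u (Sum.inr ())

/-- Homogenisation in some of the variables. -/
theorem exists_homog {U Y : Type} (f : MvPolynomial (U ⊕ Y) k) :
    ∃ N₀, ∀ N, N₀ ≤ N → ∃ G : MvPolynomial ((U ⊕ Y) ⊕ Unit) k,
      (∀ (B : Type u) [CommRing B] [Algebra k B] (u : (U ⊕ Y) ⊕ Unit → B) (i : B),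
        u (Sum.inr ()) * i = 1 → aeval u G = u (Sum.inr ()) ^ N * aeval (theta u i) f) ∧
      ∀ (B : Type u) [CommRing B] [Algebra k B] (u : (U ⊕ Y) ⊕ Unit → B) (l : B),
        aeval (scale l u) G = l ^ N * aeval u G := by
  induction f using MvPolynomial.induction_on with
  | C c =>
    refine ⟨0, fun N _ => ⟨C c * X (Sum.inr ()) ^ N, fun B _ _ u i _ => ?_, fun B _ _ u l => ?_⟩⟩
    · simp [mul_comm]
    · simp [scale, mul_pow]; ring
  | add p q hp hq =>
    obtain ⟨Np, hp⟩ := hp
    obtain ⟨Nq, hq⟩ := hq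
    refine ⟨max Np Nq, fun N hN => ?_⟩
    obtain ⟨Gp, hp1, hp2⟩ := hp N (le_of_max_le_left hN)
    obtain ⟨Gq, hq1, hq2⟩ := hq N (le_of_max_le_right hN)
    refine ⟨Gp + Gq, fun B _ _ u i h => ?_, fun B _ _ u l => ?_⟩
    · rw [map_add, map_add, hp1 B u i h, hq1 B u i h, mul_add]
    · rw [map_add, map_add, hp2, hq2, mul_add]
  | mul_X p j hp =>
    obtain ⟨Np, hp⟩ := hp
    rcases j with a | y
    · refine ⟨Np, fun N hN => ?_⟩
      obtain ⟨Gp, hp1, hp2⟩ := hp N hN
      refine ⟨Gp * X (Sum.inl (Sum.inl a)), fun B _ _ u i h => ?_, fun B _ _ u l => ?_⟩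
      · simp only [map_mul, aeval_X, hp1 B u i h]
        simp only [theta, Sum.elim_inl]; ring
      · simp only [map_mul, aeval_X, hp2]
        simp only [scale, Sum.elim_inl]; ring
    · refine ⟨Np + 1, fun N hN => ?_⟩
      obtain ⟨M, rfl⟩ := Nat.exists_eq_add_of_le hN
      obtain ⟨Gp, hp1, hp2⟩ := hp (Np + M) (Nat.le_add_right _ _)
      refine ⟨Gp * X (Sum.inl (Sum.inr y)), fun B _ _ u i h => ?_, fun B _ _ u l => ?_⟩
      · simp only [map_mul, aeval_X, hp1 B u i h]
        rw [show theta u i (Sum.inr y) = u (Sum.inl (Sum.inr y)) * i from rfl]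
        linear_combination (-(u (Sum.inr ()) ^ (Np + M) * u (Sum.inl (Sum.inr y)) *
          aeval (theta u i) p)) * h
      · simp only [map_mul, aeval_X, hp2]
        simp only [scale, Sum.elim_inl, Sum.elim_inr]; ring

/-- The derivatives of a homogenisation at a point where the last variable is invertible. -/
theorem pderiv_homog {U Y : Type} [Fintype U] [Fintype Y] [DecidableEq U] [DecidableEq Y]
    {G : MvPolynomial ((U ⊕ Y) ⊕ Unit) k} {f : MvPolynomial (U ⊕ Y) k} {N : ℕ}
    (hG : ∀ (B : Type u) [CommRing B] [Algebra k B] (u : (U ⊕ Y) ⊕ Unit → B) (i : B),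
      u (Sum.inr ()) * i = 1 → aeval u G = u (Sum.inr ()) ^ N * aeval (theta u i) f)
    {κ : Type u} [CommRing κ] [Algebra k κ] (a : (U ⊕ Y) ⊕ Unit → κ) (i : κ)
    (hi : a (Sum.inr ()) * i = 1) (w : U ⊕ Y) :
    aeval a (pderiv (Sum.inl w) G) =
      a (Sum.inr ()) ^ N * (Sum.elim (fun _ => (1 : κ)) (fun _ => i) w *
        aeval (theta a i) (pderiv w f)) := by
  letI : Module κᵐᵒᵖ κ := Module.compHom _ ((RingHom.id κ).fromOpposite mul_comm)
  haveI : IsCentralScalar κ κ := ⟨fun _ _ => rfl⟩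
  let δ : (U ⊕ Y) ⊕ Unit → κ := fun x => if x = Sum.inl w then 1 else 0
  let u : (U ⊕ Y) ⊕ Unit → TrivSqZeroExt κ κ := fun x => TrivSqZeroExt.inl (a x) + TrivSqZeroExt.inr (δ x)
  have hu : u (Sum.inr ()) = TrivSqZeroExt.inl (a (Sum.inr ())) := by simp [u, δ]
  let δ' : U ⊕ Y → κ := fun x => if x = w then Sum.elim (fun _ => (1 : κ)) (fun _ => i) w else 0
  have hθ : theta u (TrivSqZeroExt.inl i) =
      fun x => TrivSqZeroExt.inl (theta a i x) + TrivSqZeroExt.inr (δ' x) := by
    funext x
    rcases x with x | x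
    · simp only [theta, Sum.elim_inl, u, δ, δ']
      by_cases hx : Sum.inl x = w
      · subst hx; simp
      · rw [if_neg (fun h => hx (Sum.inl_injective h)), if_neg hx]
    · simp only [theta, Sum.elim_inr, u, δ, δ']
      refine TrivSqZeroExt.ext ?_ ?_
      · simp only [TrivSqZeroExt.fst_mul, TrivSqZeroExt.fst_add, TrivSqZeroExt.fst_inl, TrivSqZeroExt.fst_inr, add_zero]
      · simp only [TrivSqZeroExt.snd_mul, TrivSqZeroExt.snd_add, TrivSqZeroExt.fst_add, TrivSqZeroExt.fst_inl,
          TrivSqZeroExt.snd_inl, TrivSqZeroExt.fst_inr, TrivSqZeroExt.snd_inr, op_smul_eq_smul, smul_eq_mul]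
        by_cases hx : Sum.inr x = w
        · subst hx; simp
        · rw [if_neg (fun h => hx (Sum.inl_injective h)), if_neg hx]; simp
  have h1 := congrArg TrivSqZeroExt.snd
    (hG (TrivSqZeroExt κ κ) u (TrivSqZeroExt.inl i) (by rw [hu, ← TrivSqZeroExt.inl_mul, hi, TrivSqZeroExt.inl_one]))
  rw [(CharPTools.snd_aeval_trivSqZero a δ G).2, hu, hθ, TrivSqZeroExt.inl_pow, TrivSqZeroExt.snd_mul,
    TrivSqZeroExt.fst_inl, TrivSqZeroExt.snd_inl, (CharPTools.snd_aeval_trivSqZero _ δ' f).2] at h1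
  simp only [δ, δ', smul_eq_mul, ite_mul, one_mul, zero_mul, Finset.sum_ite_eq', Finset.mem_univ,
    if_true, smul_zero, add_zero] at h1
  exact h1

/-- Jacobian minors of a quotient of a polynomial ring by `c` relations lie in the singular ideal. -/
theorem minor_mem_singularIdeal {σ : Type} [Fintype σ] [DecidableEq σ] {c : ℕ}
    (f : Fin c → MvPolynomial σ k) (cols : Fin c → σ) :
    Ideal.Quotient.mk (Ideal.span (Set.range f))
        (Matrix.det (Matrix.of fun j l : Fin c => pderiv (cols l) (f j))) ∈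
      Smoothing.singularIdeal k (MvPolynomial σ k ⧸ Ideal.span (Set.range f)) := by
  classical
  set A := MvPolynomial σ k ⧸ Ideal.span (Set.range f)
  by_cases hinj : Function.Injective cols
  swap
  · rw [Function.not_injective_iff] at hinj
    obtain ⟨i, j, hij, hne⟩ := hinj
    rw [Matrix.det_zero_of_column_eq hne (fun l => by simp [hij]), map_zero]
    exact zero_mem _
  let eσ : σ ≃ Fin (Fintype.card σ) := Fintype.equivFin σ
  let hom : MvPolynomial (Fin (Fintype.card σ)) k →ₐ[k] A :=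
    (Ideal.Quotient.mkₐ k _).comp (renameEquiv k eσ).symm.toAlgHom
  let P : Smoothing.MarkedPresentation k A :=
  { n := Fintype.card σ
    m := c
    c := c
    hcn := by simpa using Fintype.card_le_of_injective cols hinj
    hcm := le_rfl
    rel := fun j => rename eσ (f j)
    hom := hom
    surj := Ideal.Quotient.mk_surjective.comp (renameEquiv k eσ).symm.surjective
    ker_eq := by
      refine le_antisymm (fun x hx => ?_) (Ideal.span_le.2 ?_)
      · have h1 : (renameEquiv k eσ).symm x ∈ Ideal.span (Set.range f) := Ideal.Quotient.eq_zero_iff_mem.1 hx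
        have h2 := Ideal.mem_map_of_mem (renameEquiv k eσ).toAlgHom.toRingHom h1
        rw [Ideal.map_span, ← Set.range_comp] at h2
        have h3 : (renameEquiv k eσ).toAlgHom.toRingHom ((renameEquiv k eσ).symm x) = x :=
          (renameEquiv k eσ).apply_symm_apply x
        rw [h3] at h2
        exact h2
      · rintro _ ⟨j, rfl⟩
        show Ideal.Quotient.mk _ ((renameEquiv k eσ).symm (renameEquiv k eσ (f j))) = 0
        rw [AlgEquiv.symm_apply_apply]
        exact Ideal.Quotient.eq_zero_iff_mem.2 (Ideal.subset_span ⟨j, rfl⟩) }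
  have hstd : Smoothing.IsStrictlyStandard k A (Ideal.Quotient.mk (Ideal.span (Set.range f))
      (Matrix.det (Matrix.of fun j l : Fin c => pderiv (cols l) (f j)))) := by
    refine ⟨P, Ideal.subset_span ⟨fun l => eσ (cols l), ?_⟩, fun t' _ j hj => absurd j.2 (Nat.not_lt.2 hj)⟩
    show P.hom (Smoothing.jacobianMinor P.rel (Fin.castLE P.hcm) fun l => eσ (cols l)) = _
    have e : Smoothing.jacobianMinor P.rel (Fin.castLE P.hcm) (fun l => eσ (cols l)) =
        rename eσ (Matrix.det (Matrix.of fun j l : Fin c => pderiv (cols l) (f j))) := by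
      rw [AlgHom.map_det]
      unfold Smoothing.jacobianMinor
      congr 1
      ext j l : 1
      exact pderiv_rename eσ.injective (cols l) (f j)
    rw [e]
    show Ideal.Quotient.mk _ ((renameEquiv k eσ).symm (renameEquiv k eσ _)) = _
    rw [AlgEquiv.symm_apply_apply]
  exact DesingStd.mem_singularIdeal fun Q _ hQ => isSmoothAt_of_isStrictlyStandard hstd ⟨Q, inferInstance⟩ hQ

end Groth.Agent.SmoothingLib.CharPHomog
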