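import Groth.Agent.SmoothingLib.CharPLocal
import Groth.Agent.SmoothingLib.CharPHomog
import Groth.Agent.Omega.RankDim
import Mathlib

/-!
# The auxiliary base ring
-/

set_option autoImplicit false
universe u

open IsLocalRing MvPolynomial

namespace Groth.Agent.SmoothingLib.CharPBase

open CharPHomog

/-- Variables of the auxiliary ring. -/
abbrev V (d r m t : ℕ) : Type :=
  ((((Fin d ⊕ Fin r) ⊕ Fin m) ⊕ Unit) ⊕ (Fin t × Fin d)) ⊕ (Fin t × Fin r)

variable {k : Type u} [Field k] {d r m t : ℕ}

/-- The variable standing for the coordinate `xᵢ`. -/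
noncomputable def xv (i : Fin d) : MvPolynomial (V d r m t) k :=
  X (Sum.inl (Sum.inl (Sum.inl (Sum.inl (Sum.inl i)))))

/-- The variable standing for `a_l`. -/
noncomputable def av (l : Fin r) : MvPolynomial (V d r m t) k :=
  X (Sum.inl (Sum.inl (Sum.inl (Sum.inl (Sum.inr l)))))

/-- Variable `z`. -/
noncomputable def zv (q : Fin t × Fin d) : MvPolynomial (V d r m t) k := X (Sum.inl (Sum.inr q))

/-- Variable `w`. -/
noncomputable def wv (q : Fin t × Fin r) : MvPolynomial (V d r m t) k := X (Sum.inr q)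

/-- The relations. -/
noncomputable def rel (G : Fin t → MvPolynomial (((Fin d ⊕ Fin r) ⊕ Fin m) ⊕ Unit) k) (e E : ℕ)
    (j : Fin t) : MvPolynomial (V d r m t) k :=
  rename (fun y => Sum.inl (Sum.inl y)) (G j) - ∑ i, xv i ^ e * zv (j, i) - ∑ l, av l ^ E * wv (j, l)

theorem det_diag_eq (G : Fin t → MvPolynomial (((Fin d ⊕ Fin r) ⊕ Fin m) ⊕ Unit) k) (e E : ℕ) :
    (∀ i, Matrix.det (Matrix.of fun j l : Fin t => pderiv (Sum.inl (Sum.inr (l, i))) (rel G e E j)) =
        (-(xv i ^ e : MvPolynomial (V d r m t) k)) ^ t) ∧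
    ∀ i, Matrix.det (Matrix.of fun j l : Fin t => pderiv (Sum.inr (l, i)) (rel G e E j)) =
        (-(av i ^ E : MvPolynomial (V d r m t) k)) ^ t := by
  classical
  have hr : ∀ (v : V d r m t) (j : Fin t), (∀ y, v ≠ Sum.inl (Sum.inl y)) →
      pderiv v (rename (fun y => Sum.inl (Sum.inl y)) (G j) : MvPolynomial (V d r m t) k) = 0 := by
    intro v j hv
    refine pderiv_eq_zero_of_notMem_vars fun h => ?_
    obtain ⟨y, -, hy⟩ := Finset.mem_image.mp (vars_rename _ _ h)
    exact hv y hy.symm
  constructor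
  · intro i
    have e1 : Matrix.of (fun j l : Fin t => pderiv (Sum.inl (Sum.inr (l, i))) (rel G e E j)) =
        Matrix.diagonal fun _ => -(xv i ^ e : MvPolynomial (V d r m t) k) := by
      ext j l : 1
      rw [Matrix.of_apply, Matrix.diagonal_apply]
      simp only [rel, map_sub, map_sum, pderiv_mul, pderiv_pow, xv, av, zv, wv, pderiv_X, Pi.single_apply]
      rw [hr _ j (fun y h => by simp at h)]
      simp [Prod.ext_iff, ite_and, eq_comm]
      split_ifs <;> simp
    rw [e1, Matrix.det_diagonal, Finset.prod_const, Finset.card_univ, Fintype.card_fin]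
  · intro i
    have e1 : Matrix.of (fun j l : Fin t => pderiv (Sum.inr (l, i)) (rel G e E j)) =
        Matrix.diagonal fun _ => -(av i ^ E : MvPolynomial (V d r m t) k) := by
      ext j l : 1
      rw [Matrix.of_apply, Matrix.diagonal_apply]
      simp only [rel, map_sub, map_sum, pderiv_mul, pderiv_pow, xv, av, zv, wv, pderiv_X, Pi.single_apply]
      rw [hr _ j (fun y h => by simp at h)]
      simp [Prod.ext_iff, ite_and, eq_comm]
      split_ifs <;> simp
    rw [e1, Matrix.det_diagonal, Finset.prod_const, Finset.card_univ, Fintype.card_fin]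

set_option maxHeartbeats 1000000 in
/-- The base ring. -/
theorem exists_base_ring (p : ℕ) [Fact p.Prime] [CharP k p] {Λ : Type u} [CommRing Λ]
    [IsNoetherianRing Λ] [Algebra k Λ] (q : Ideal Λ) [q.IsPrime]
    [IsRegularLocalRing (Localization.AtPrime q)]
    (hFS : CAlgX.IsAdicFormallySmooth k (Localization.AtPrime q) (maximalIdeal (Localization.AtPrime q)))
    {d : ℕ} (hd : ringKrullDim (Localization.AtPrime q) = d) (π : Fin d → Λ)
    (hπgen : Ideal.span (Set.range fun i => algebraMap Λ (Localization.AtPrime q) (π i)) =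
      q.map (algebraMap Λ (Localization.AtPrime q)))
    (hπq : ∀ i, π i ∈ q) {r : ℕ} (a : Fin r → Λ) (haq : ∀ l, a l ∈ q) (e : ℕ) (he : 2 ≤ e)
    (Eset : Finset Λ) :
    ∃ (R' : Type u) (_ : CommRing R') (_ : Algebra k R'), Algebra.FinitePresentation k R' ∧
      ∃ (ψ : R' →ₐ[k] Λ) (x : Fin d → R') (h : R') (c : Fin d → ℕ),
        (∀ i, ψ (x i) = π i) ∧ ψ h ∉ q ∧
        (∀ (i : Fin d) (y : R'), (h ^ c i * x i) ^ 2 * y ∈
            Ideal.span (Set.range fun j : {j : Fin d // (j : ℕ) < (i : ℕ)} => (h ^ c j * x j) ^ e) →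
          (h ^ c i * x i) * y ∈
            Ideal.span (Set.range fun j : {j : Fin d // (j : ℕ) < (i : ℕ)} => (h ^ c j * x j) ^ e)) ∧
        (∀ (i : Fin d) (y : Λ), (ψ h ^ c i * π i) ^ 2 * y ∈
            Ideal.span (Set.range fun j : {j : Fin d // (j : ℕ) < (i : ℕ)} => (ψ h ^ c j * π j) ^ e) →
          (ψ h ^ c i * π i) * y ∈
            Ideal.span (Set.range fun j : {j : Fin d // (j : ℕ) < (i : ℕ)} => (ψ h ^ c j * π j) ^ e)) ∧
        ¬ (Smoothing.singularIdeal k R').map ψ ≤ q ∧
        (∀ l, a l ∈ ((Smoothing.singularIdeal k R').map ψ).radical) ∧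
        ∃ T : Subring (Localization.AtPrime (q.comap ψ.toRingHom)),
          (∀ i, algebraMap R' _ (x i) ∈ T) ∧
          (∀ z : k, algebraMap R' _ (algebraMap k R' z) ∈ T) ∧
          (∀ y ∈ T, Localization.localRingHom (q.comap ψ.toRingHom) q ψ.toRingHom rfl y ∈
              Ideal.span (Set.range fun i => algebraMap Λ (Localization.AtPrime q) (π i) ^ e) →
            y ∈ Ideal.span (Set.range fun i => algebraMap R' (Localization.AtPrime (q.comap ψ.toRingHom))
              ((h ^ c i * x i) ^ e))) ∧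
          ∀ w ∈ Eset, ∃ y ∈ T, Localization.localRingHom (q.comap ψ.toRingHom) q ψ.toRingHom rfl y -
            algebraMap Λ (Localization.AtPrime q) w ∈
              Ideal.span (Set.range fun i => algebraMap Λ (Localization.AtPrime q) (π i) ^ e) := by
  classical
  set fΛ := algebraMap Λ (Localization.AtPrime q)
  set mq := maximalIdeal (Localization.AtPrime q)
  have hmq : q.map fΛ = mq := Localization.AtPrime.map_eq_maximalIdeal
  obtain ⟨m, v, t, g, cols, E, hvx, hva, hgI, hdet, hE2, hnil, hker, hEset⟩ :=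
    CharPLocal.exists_local_model p hFS hd (fun i => fΛ (π i)) (hπgen.trans hmq) e he
      (fun l => fΛ (a l)) (fun l => (IsLocalization.AtPrime.to_map_mem_maximal_iff _ q _).mpr (haq l))
      (Eset.image fΛ)
  set Ie := Ideal.span (Set.range fun i => fΛ (π i) ^ e) with hIe
  -- homogenisation
  choose N₀ hN₀ using fun j => exists_homog (U := Fin d ⊕ Fin r) (Y := Fin m) (g j)
  let N : ℕ := (∑ j, N₀ j) + 1
  choose G hG hGscale using fun j =>
    hN₀ j N (le_trans (Finset.single_le_sum (fun j _ => Nat.zero_le (N₀ j)) (Finset.mem_univ j)) (Nat.le_succ _))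
  -- values in `Λ`
  obtain ⟨b, hb⟩ := IsLocalization.exist_integer_multiples_of_finite q.primeCompl
    (fun y : Fin m => v (X (Sum.inr y)))
  choose num hnum using hb
  let vals₀ : ((Fin d ⊕ Fin r) ⊕ Fin m) ⊕ Unit → Λ :=
    Sum.elim (Sum.elim (Sum.elim π a) num) fun _ => b
  obtain ⟨binv, hbinv⟩ := (IsLocalization.map_units (Localization.AtPrime q) b).exists_right_inv
  have hθ₀ : theta (fun y => fΛ (vals₀ y)) binv = fun y => v (X y) := by
    funext y
    rcases y with (i | l) | y
    · exact (hvx i).symm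
    · exact (hva l).symm
    · show fΛ (num y) * binv = v (X (Sum.inr y))
      rw [show fΛ (num y) = fΛ b * v (X (Sum.inr y)) from (hnum y).trans (Algebra.smul_def _ _)]
      rw [mul_comm (fΛ b), mul_assoc, hbinv, mul_one]
  have hv_eq : ∀ f, v f = aeval (fun y => v (X y)) f := DFunLike.congr_fun
    (show v = aeval (fun y => v (X y)) from MvPolynomial.algHom_ext fun y => (aeval_X (fun y => v (X y)) y).symm)
  have hG0 : ∀ j, fΛ (aeval vals₀ (G j)) ∈ Ie := fun j => by
    rw [show fΛ (aeval vals₀ (G j)) = aeval (fun y => fΛ (vals₀ y)) (G j) from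
      (MvPolynomial.comp_aeval_apply vals₀ (IsScalarTower.toAlgHom k Λ (Localization.AtPrime q)) (G j)),
      hG j _ (fun y => fΛ (vals₀ y)) binv hbinv, hθ₀, ← hv_eq]
    exact Ideal.mul_mem_left _ _ (hgI j)
  have hIeΛ : Ie = (Ideal.span (Set.range fun i => π i ^ e)).map fΛ := by
    rw [Ideal.map_span, ← Set.range_comp]
    simp [hIe, Function.comp_def]
  choose wj hwjq hwj using fun j =>
    (IsLocalization.algebraMap_mem_map_algebraMap_iff q.primeCompl (Localization.AtPrime q) _ _).mp
      (hIeΛ ▸ hG0 j)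
  -- the defect on `Λ`
  obtain ⟨H, hHq, hH⟩ := CharPTools.exists_defect_kill q π hπq
    (CharPLocal.coeff_mem_of_sum_mem_sq hd _ (hπgen.trans hmq)) e (by omega)
  let u : Λ := (∏ j, wj j) * H
  have huq : u ∉ q := fun hmem => ((Ideal.IsPrime.mem_or_mem ‹_› hmem).elim
    (fun h1 => by
      obtain ⟨j, -, hj⟩ := (Ideal.IsPrime.prod_mem_iff).mp h1
      exact hwjq j hj) hHq)
  let vals : ((Fin d ⊕ Fin r) ⊕ Fin m) ⊕ Unit → Λ := scale u vals₀
  let s : Λ := vals (Sum.inr ())
  have hsq : s ∉ q := fun hmem => ((Ideal.IsPrime.mem_or_mem ‹_› hmem).elim huq b.2)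
  have hGΛ : ∀ j, aeval vals (G j) ∈ Ideal.span (Set.range fun i => π i ^ e) := fun j => by
    rw [hGscale j Λ vals₀ u, show N = (∑ j, N₀ j) + 1 from rfl, pow_succ, mul_assoc]
    refine Ideal.mul_mem_left _ _ ?_
    obtain ⟨c, hc⟩ := Finset.dvd_prod_of_mem wj (Finset.mem_univ j)
    rw [show u = c * H * wj j by simp only [u, hc]; ring, mul_assoc]
    exact Ideal.mul_mem_left _ _ (hwj j)
  choose lam hlam using fun j => Ideal.mem_span_range_iff_exists_fun.mp (hGΛ j)
  -- the ring
  let rels : Fin t → MvPolynomial (V d r m t) k := rel G e E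
  let R' := MvPolynomial (V d r m t) k ⧸ Ideal.span (Set.range rels)
  haveI hfp : Algebra.FinitePresentation k R' :=
    Algebra.FinitePresentation.quotient (Submodule.fg_def.2 ⟨_, Set.finite_range _, rfl⟩)
  haveI : IsNoetherianRing R' := inferInstanceAs (IsNoetherianRing (_ ⧸ _))
  let valV : V d r m t → Λ := Sum.elim (Sum.elim vals fun q => lam q.1 q.2) fun _ => 0
  let ev : MvPolynomial (V d r m t) k →ₐ[k] Λ := aeval valV
  have hevG : ∀ j, ev (rename (fun y => Sum.inl (Sum.inl y)) (G j)) = aeval vals (G j) := fun j => by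
    simp only [ev, aeval_rename]; rfl
  have hevx : ∀ i, ev (xv i) = π i := fun i => aeval_X _ _
  have heva : ∀ l, ev (av l) = a l := fun l => aeval_X _ _
  have hevz : ∀ q, ev (zv q) = lam q.1 q.2 := fun q => aeval_X _ _
  have hevw : ∀ q, ev (wv q) = 0 := fun q => aeval_X _ _
  have hevrel : ∀ j, ev (rels j) = 0 := fun j => by
    simp only [rels, rel, map_sub, map_sum, map_mul, map_pow, hevG, hevx, heva, hevz, hevw, mul_zero,
      Finset.sum_const_zero, sub_zero]
    rw [← hlam j, sub_eq_zero]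
    exact Finset.sum_congr rfl fun i _ => mul_comm _ _
  let ψ : R' →ₐ[k] Λ := Ideal.Quotient.liftₐ _ ev (by
    have hle : Ideal.span (Set.range rels) ≤ RingHom.ker ev.toRingHom := Ideal.span_le.2 (by
      rintro _ ⟨j, rfl⟩; exact hevrel j)
    exact fun a ha => hle ha)
  let mk : MvPolynomial (V d r m t) k →ₐ[k] R' := Ideal.Quotient.mkₐ k _
  have hψmk : ∀ y, ψ (mk y) = ev y := fun y => rfl
  let P' : Ideal R' := q.comap ψ.toRingHom
  haveI : P'.IsPrime := Ideal.comap_isPrime ψ.toRingHom q
  -- the minor at the prime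
  obtain ⟨sinv, hsinv⟩ := (IsLocalization.map_units (Localization.AtPrime q) (⟨s, hsq⟩ : q.primeCompl)).exists_right_inv
  let valsq : ((Fin d ⊕ Fin r) ⊕ Fin m) ⊕ Unit → Localization.AtPrime q := fun y => fΛ (vals y)
  have hθ : theta valsq sinv = fun y => v (X y) := by
    funext y
    rcases y with (i | l) | y
    · exact (hvx i).symm
    · exact (hva l).symm
    · show fΛ (u * num y) * sinv = v (X (Sum.inr y))
      have hsinv' : fΛ u * fΛ b * sinv = 1 := by rw [← map_mul]; exact hsinv
      rw [map_mul, show fΛ (num y) = fΛ b * v (X (Sum.inr y)) from (hnum y).trans (Algebra.smul_def _ _)]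
      calc fΛ u * (fΛ b * v (X (Sum.inr y))) * sinv = fΛ u * fΛ b * sinv * v (X (Sum.inr y)) := by ring
        _ = v (X (Sum.inr y)) := by rw [hsinv', one_mul]
  let minor : R' := mk (Matrix.det (Matrix.of fun j l : Fin t =>
    pderiv (Sum.inl (Sum.inl (Sum.inl (cols l)))) (rels j)))
  have hminor : minor ∈ Smoothing.singularIdeal k R' := minor_mem_singularIdeal rels _
  have hminorq : ψ minor ∉ q := by
    intro hmem
    have h1 : residue _ (fΛ (ψ minor)) = 0 :=
      (residue_eq_zero_iff _).mpr ((IsLocalization.AtPrime.to_map_mem_maximal_iff _ q _).mpr hmem)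
    set res := residue (Localization.AtPrime q)
    let cv : (Fin d ⊕ Fin r) ⊕ Fin m → Localization.AtPrime q := Sum.elim (fun _ => 1) fun _ => sinv
    have hentry : ∀ j l, res (fΛ (ev (pderiv (Sum.inl (Sum.inl (Sum.inl (cols l)))) (rels j)))) =
        res (fΛ s) ^ N * (res (cv (cols l)) * res (v (pderiv (cols l) (g j)))) := by
      intro j l
      have hz : ∀ (n : ℕ), 2 ≤ n → ∀ (y : Λ), y ∈ q → res (fΛ (y ^ n)) = 0 := fun n hn y hy =>
        (residue_eq_zero_iff _).mpr ((IsLocalization.AtPrime.to_map_mem_maximal_iff _ q _).mpr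
          (Ideal.pow_mem_of_mem q hy n (by omega)))
      have hder : ∀ (n : ℕ), 2 ≤ n → ∀ (w : MvPolynomial (V d r m t) k) (x : V d r m t), ev w ∈ q →
          res (fΛ (ev (pderiv x (w ^ n)))) = 0 := fun n hn w x hw => by
        refine (residue_eq_zero_iff _).mpr ((IsLocalization.AtPrime.to_map_mem_maximal_iff _ q _).mpr ?_)
        rw [pderiv_pow, map_mul, map_mul, map_pow]
        exact Ideal.mul_mem_right _ _ (Ideal.mul_mem_left _ _ (Ideal.pow_mem_of_mem q hw (n - 1) (by omega)))
      simp only [rels, rel]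
      simp only [map_sub, map_sum, pderiv_mul, map_add, map_mul, Finset.sum_add_distrib]
      have hdx : ∀ (i : Fin d) (x : V d r m t), res (fΛ (ev (pderiv x ((xv i : MvPolynomial (V d r m t) k) ^ e)))) = 0 :=
        fun i x => hder e he _ x (by rw [hevx]; exact hπq i)
      have hda : ∀ (i : Fin r) (x : V d r m t), res (fΛ (ev (pderiv x ((av i : MvPolynomial (V d r m t) k) ^ E)))) = 0 :=
        fun i x => hder E hE2 _ x (by rw [heva]; exact haq i)
      simp only [hdx, hda, hevx, heva, map_pow]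
      simp only [zero_mul, Finset.sum_const_zero, zero_add]
      have hπ0 : ∀ i, res (fΛ (π i)) ^ e = 0 := fun i => by
        rw [← map_pow, ← map_pow]; exact hz e he _ (hπq i)
      have ha0 : ∀ i, res (fΛ (a i)) ^ E = 0 := fun i => by
        rw [← map_pow, ← map_pow]; exact hz E hE2 _ (haq i)
      simp only [hπ0, ha0, zero_mul, Finset.sum_const_zero, sub_zero]
      rw [pderiv_rename (f := fun y => (Sum.inl (Sum.inl y) : V d r m t))
        (Sum.inl_injective.comp Sum.inl_injective) (Sum.inl (cols l)) (G j)]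
      have h2 := pderiv_homog (hG j) (κ := Localization.AtPrime q) valsq sinv hsinv (cols l)
      rw [hθ, ← hv_eq] at h2
      have h3 : fΛ (ev (rename (fun y => (Sum.inl (Sum.inl y) : V d r m t)) (pderiv (Sum.inl (cols l)) (G j)))) =
          aeval valsq (pderiv (Sum.inl (cols l)) (G j)) := by
        simp only [ev, aeval_rename]
        exact MvPolynomial.comp_aeval_apply vals (IsScalarTower.toAlgHom k Λ (Localization.AtPrime q)) _
      rw [h3, h2, map_mul, map_mul, map_pow]
    have h2 : res (fΛ (ψ minor)) = res (fΛ s) ^ (N * t) * (∏ l, res (cv (cols l))) *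
        res (Matrix.det (Matrix.of fun j l : Fin t => v (pderiv (cols l) (g j)))) := by
      rw [hψmk, AlgHom.map_det, RingHom.map_det, RingHom.map_det, RingHom.map_det]
      have e1 : res.mapMatrix (fΛ.mapMatrix (ev.mapMatrix (Matrix.of fun j l : Fin t =>
          pderiv (Sum.inl (Sum.inl (Sum.inl (cols l)))) (rels j)))) =
          Matrix.of fun j l => res (fΛ s) ^ N * (Matrix.of fun j l => res (cv (cols l)) *
            (res.mapMatrix (Matrix.of fun j l : Fin t => v (pderiv (cols l) (g j)))) j l) j l := by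
        ext j l : 1
        exact hentry j l
      rw [e1, Matrix.det_mul_column (fun _ => res (fΛ s) ^ N),
        Matrix.det_mul_row (fun l => res (cv (cols l))), Finset.prod_const, Finset.card_univ, Fintype.card_fin,
        ← pow_mul, mul_assoc]
    rw [h2] at h1
    have hsu : IsUnit (fΛ s) := IsLocalization.map_units (Localization.AtPrime q) (⟨s, hsq⟩ : q.primeCompl)
    refine hdet ((residue_eq_zero_iff _).mp ?_)
    refine (mul_eq_zero.mp h1).resolve_left (mul_ne_zero (pow_ne_zero _ (hsu.map res).ne_zero) ?_)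
    refine Finset.prod_ne_zero_iff.mpr fun l _ => ?_
    rcases cols l with y | y
    · simp [cv]
    · exact ((IsUnit.of_mul_eq_one_right _ hsinv).map res).ne_zero
  haveI : Algebra.IsSmoothAt k P' := DesingStd.isSmoothAt_of_notMem hminor P' hminorq
  haveI : IsRegularLocalRing (Localization.AtPrime P') :=
    Omega.RankDim.isRegularLocalRing_of_isSmoothAt k R' P' inferInstance
  let φloc := Localization.localRingHom P' q ψ.toRingHom rfl
  have hφloc : ∀ y, φloc (algebraMap R' _ y) = fΛ (ψ y) := fun y => Localization.localRingHom_to_map _ _ _ rfl y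
  haveI : IsLocalHom φloc := Localization.isLocalHom_localRingHom P' q ψ.toRingHom rfl
  let x : Fin d → R' := fun i => mk (xv i)
  have hψx : ∀ i, ψ (x i) = π i := hevx
  -- the defect on `R'`
  obtain ⟨hR, hRq, hRdef⟩ := CharPTools.exists_defect_kill P' x
    (fun i => show ψ (x i) ∈ q by rw [hψx]; exact hπq i)
    (fun c hc i => by
      have hle : (maximalIdeal (Localization.AtPrime P') ^ 2).map φloc ≤ mq ^ 2 := by
        rw [Ideal.map_pow]
        exact Ideal.pow_right_mono (show (maximalIdeal (Localization.AtPrime P')).map φloc ≤ mq from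
          Ideal.map_le_iff_le_comap.mpr fun z hz hu => hz (IsUnit.of_map φloc _ hu)) 2
      have h1 := hle (Ideal.mem_map_of_mem _ hc)
      simp only [map_sum, map_mul, hφloc, hψx] at h1
      exact fun hu => CharPLocal.coeff_mem_of_sum_mem_sq hd _ (hπgen.trans hmq) (fun i => φloc (c i)) h1 i
        (hu.map φloc)) e (by omega)
  let Sv : R' := mk (X (Sum.inl (Sum.inl (Sum.inr ()))))
  have hψS : ψ Sv = s := aeval_X valV _
  let h : R' := hR * Sv
  have hψh : ψ h ∉ q := by
    rw [map_mul, hψS]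
    exact fun hmem => (Ideal.IsPrime.mem_or_mem ‹q.IsPrime› hmem).elim hRq hsq
  obtain ⟨c, hc1, hc2⟩ := CharPTools.exists_stabilize x h π (ψ h) e
    (fun i y hy => by rw [show h * y = Sv * (hR * y) by ring]; exact Ideal.mul_mem_left _ _ (hRdef i y hy))
    (fun i y hy => by
      rw [map_mul, hψS, show ψ hR * s * y = ψ hR * (∏ j, wj j) * b * (H * y) by
        simp only [s, vals, scale, vals₀, u, Sum.elim_inr]; ring]
      exact Ideal.mul_mem_left _ _ (hH i y hy))
  refine ⟨R', inferInstance, inferInstance, hfp, ψ, x, h, c, hψx, hψh, hc1, hc2,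
    fun hall => hminorq (hall (Ideal.mem_map_of_mem ψ hminor)), fun l => ?_, ?_⟩
  · have h1 : mk (Matrix.det (Matrix.of fun j l' : Fin t => pderiv (Sum.inr (l', l)) (rels j))) ∈
        Smoothing.singularIdeal k R' := minor_mem_singularIdeal rels _
    have h2 := Ideal.mem_map_of_mem ψ h1
    rw [hψmk, (det_diag_eq G e E).2 l, map_pow, map_neg, map_pow, heva, neg_pow, ← pow_mul] at h2
    refine ⟨E * t, ?_⟩
    have h3 := Ideal.mul_mem_left ((Smoothing.singularIdeal k R').map ψ) ((-1 : Λ) ^ t) h2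
    rwa [← mul_assoc, ← mul_pow, neg_mul_neg, one_mul, one_pow, one_mul] at h3
  -- the section
  let fR := algebraMap R' (Localization.AtPrime P')
  have hSunit : IsUnit (fR Sv) := IsLocalization.map_units (Localization.AtPrime P')
    (⟨Sv, fun hmem => hsq (hψS ▸ hmem)⟩ : P'.primeCompl)
  let vals' : ((Fin d ⊕ Fin r) ⊕ Fin m) ⊕ Unit → (Localization.AtPrime P') := fun y => fR (mk (X (Sum.inl (Sum.inl y))))
  obtain ⟨Sinv, hSinv⟩ := hSunit.exists_right_inv
  let v'' : MvPolynomial ((Fin d ⊕ Fin r) ⊕ Fin m) k →ₐ[k] (Localization.AtPrime P') := aeval (theta vals' Sinv)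
  have hv''x : ∀ i, v'' (X (Sum.inl (Sum.inl i))) = fR (x i) := fun i => aeval_X _ _
  have hcomp : ∀ f, φloc (v'' f) = v f := by
    let φk : (Localization.AtPrime P') →ₐ[k] Localization.AtPrime q :=
      { φloc with
        commutes' := fun z => by
          show φloc (algebraMap k (Localization.AtPrime P') z) = _
          rw [IsScalarTower.algebraMap_apply k R' (Localization.AtPrime P'), hφloc, AlgHom.commutes, ← IsScalarTower.algebraMap_apply] }
    intro f
    rw [show φloc (v'' f) = φk (v'' f) from rfl, MvPolynomial.comp_aeval_apply, hv_eq f, ← hθ]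
    congr 1
    congr 1
    funext y
    have hvals' : ∀ y, φk (vals' y) = valsq y := fun y => by
      show φloc (fR _) = _
      rw [hφloc, hψmk]; exact congrArg fΛ (aeval_X valV _)
    rcases y with y | y
    · exact hvals' _
    · show φk (vals' _ * Sinv) = valsq _ * sinv
      rw [map_mul, hvals']
      congr 1
      have h1 : φk (fR Sv) * φk Sinv = 1 := by rw [← map_mul, hSinv, map_one]
      have h2 : φk (fR Sv) = fΛ s := by show φloc (fR Sv) = _; rw [hφloc, hψS]
      rw [h2] at h1
      calc φk Sinv = (fΛ s * sinv) * φk Sinv := by rw [show fΛ s * sinv = 1 from hsinv, one_mul]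
        _ = sinv * (fΛ s * φk Sinv) := by ring
        _ = sinv := by rw [h1, mul_one]
  have hvunit : ∀ f, v f ∉ mq → IsUnit (v'' f) := fun f hf =>
    IsUnit.of_map φloc _ (by rw [hcomp]; exact notMem_maximalIdeal.mp hf)
  let K' : Ideal (Localization.AtPrime P') := Ideal.span (Set.range fun i => fR ((h ^ c i * x i) ^ e))
  have hxK : ∀ i, fR (x i) ^ e ∈ K' := fun i => by
    have hu : IsUnit (fR (h ^ c i) ^ e) :=
      (IsLocalization.map_units (Localization.AtPrime P') (⟨h ^ c i, fun hmem => hψh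
        (Ideal.IsPrime.mem_of_pow_mem ‹q.IsPrime› (c i) ((map_pow ψ h (c i)) ▸ (show ψ (h ^ c i) ∈ q from hmem)))⟩ :
        P'.primeCompl)).pow e
    refine (Ideal.unit_mul_mem_iff_mem K' hu).mp ?_
    rw [← mul_pow, ← map_mul, ← map_pow]
    exact Ideal.subset_span ⟨i, rfl⟩
  let Gid : Ideal (Localization.AtPrime P') := Ideal.span (Set.range fun j => v'' (g j))
  have hW : ∀ y, y ∈ Ideal.span (Set.range g) ⊔ Ideal.span (Set.range fun i => X (Sum.inl (Sum.inl i)) ^ e) →
      v'' y ∈ Gid ⊔ K' := by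
    have hle : Ideal.span (Set.range g) ⊔ Ideal.span (Set.range fun i => X (Sum.inl (Sum.inl i)) ^ e) ≤
        (Gid ⊔ K').comap v'' := sup_le
      (Ideal.span_le.2 (by
        rintro _ ⟨j, rfl⟩
        show v'' (g j) ∈ Gid ⊔ K'
        exact Ideal.mem_sup_left (Ideal.subset_span ⟨j, rfl⟩)))
      (Ideal.span_le.2 (by
        rintro _ ⟨i, rfl⟩
        show v'' (X (Sum.inl (Sum.inl i)) ^ e) ∈ Gid ⊔ K'
        rw [map_pow, hv''x]
        exact Ideal.mem_sup_right (hxK i)))
    exact fun y hy => hle hy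
  have hGid : Gid ≤ K' := by
    refine Submodule.le_of_le_smul_of_le_jacobson_bot (R := (Localization.AtPrime P')) (M := (Localization.AtPrime P')) (I := maximalIdeal (Localization.AtPrime P'))
      (Submodule.fg_span (Set.finite_range _))
      (maximalIdeal_le_jacobson (R := Localization.AtPrime P') _) (Submodule.span_le.2 ?_)
    rintro _ ⟨j, rfl⟩
    show v'' (g j) ∈ K' ⊔ maximalIdeal (Localization.AtPrime P') • Gid
    refine (Ideal.unit_mul_mem_iff_mem _ (hSunit.pow N)).mp ?_
    rw [show fR Sv ^ N * v'' (g j) = aeval vals' (G j) from (hG j (Localization.AtPrime P') vals' Sinv hSinv).symm]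
    have h0 : mk (rels j) = 0 := Ideal.Quotient.eq_zero_iff_mem.2 (Ideal.subset_span ⟨j, rfl⟩)
    have h1 : aeval vals' (G j) = fR (mk (rename (fun y => Sum.inl (Sum.inl y)) (G j))) := by
      have e1 : (aeval vals' : MvPolynomial (((Fin d ⊕ Fin r) ⊕ Fin m) ⊕ Unit) k →ₐ[k] (Localization.AtPrime P')) =
          ((IsScalarTower.toAlgHom k R' (Localization.AtPrime P')).comp mk).comp (rename fun y => Sum.inl (Sum.inl y)) :=
        MvPolynomial.algHom_ext fun y => by simp [vals', fR]
      rw [e1]; rfl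
    simp only [rels, rel, map_sub, map_sum, map_mul, map_pow, sub_sub, sub_eq_zero] at h0
    rw [h1, h0]
    simp only [map_add, map_sum]
    refine add_mem (Ideal.sum_mem _ fun i _ => ?_) (Ideal.sum_mem _ fun l _ => ?_)
    · rw [map_mul mk, map_pow mk, map_mul fR, map_pow fR]
      exact Ideal.mem_sup_left (Ideal.mul_mem_right _ _ (hxK i))
    · rw [map_mul mk, map_pow mk, map_mul fR, map_pow fR]
      have hα : fR (mk (av l)) ^ E ∈ Gid ⊔ K' := by
        obtain ⟨s', hs', hs'W⟩ := hnil l
        have h2 := hW _ hs'W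
        rw [map_mul, map_pow, Ideal.unit_mul_mem_iff_mem _ (hvunit s' hs')] at h2
        rwa [show v'' (X (Sum.inl (Sum.inr l))) = fR (mk (av l)) from aeval_X _ _] at h2
      have hw : fR (mk (wv (j, l))) ∈ maximalIdeal (Localization.AtPrime P') :=
        (IsLocalization.AtPrime.to_map_mem_maximal_iff (Localization.AtPrime P') P' _).mpr
          (show ψ (mk (wv (j, l))) ∈ q by rw [hψmk, hevw]; exact q.zero_mem)
      obtain ⟨y, hy, z, hz, hyz⟩ := Submodule.mem_sup.mp hα
      rw [← hyz, add_mul, mul_comm y]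
      exact add_mem (Ideal.mem_sup_right (Submodule.smul_mem_smul hw hy))
        (Ideal.mem_sup_left (Ideal.mul_mem_right _ _ hz))
  let T : Subring (Localization.AtPrime P') :=
  { carrier := {y | ∃ nu de, v de ∉ mq ∧ y * v'' de = v'' nu}
    one_mem' := ⟨1, 1, by rw [map_one]; exact notMem_maximalIdeal.mpr isUnit_one, by simp⟩
    zero_mem' := ⟨0, 1, by rw [map_one]; exact notMem_maximalIdeal.mpr isUnit_one, by simp⟩
    neg_mem' := fun ⟨nu, de, hde, hy⟩ => ⟨-nu, de, hde, by rw [map_neg, ← hy]; ring⟩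
    add_mem' := fun {y z} ⟨nu, de, hde, hy⟩ ⟨nu', de', hde', hz⟩ => ⟨nu * de' + nu' * de, de * de', by
      rw [map_mul]; exact notMem_maximalIdeal.mpr ((notMem_maximalIdeal.mp hde).mul (notMem_maximalIdeal.mp hde')), by
      rw [map_add, map_mul, map_mul, map_mul, ← hy, ← hz]; ring⟩
    mul_mem' := fun {y z} ⟨nu, de, hde, hy⟩ ⟨nu', de', hde', hz⟩ => ⟨nu * nu', de * de', by
      rw [map_mul]; exact notMem_maximalIdeal.mpr ((notMem_maximalIdeal.mp hde).mul (notMem_maximalIdeal.mp hde')), by
      rw [map_mul, map_mul, ← hy, ← hz]; ring⟩ }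
  have hone : v 1 ∉ mq := by rw [map_one]; exact notMem_maximalIdeal.mpr isUnit_one
  refine ⟨T, fun i => ⟨X (Sum.inl (Sum.inl i)), 1, hone, by rw [map_one, mul_one, hv''x]⟩,
    fun z => ⟨C z, 1, hone, ?_⟩, ?_, fun w hw => ?_⟩
  · rw [map_one, mul_one, show v'' (C z) = algebraMap k (Localization.AtPrime P') z from aeval_C _ z]
    exact (IsScalarTower.algebraMap_apply k R' (Localization.AtPrime P') z).symm
  · rintro y ⟨nu, de, hde, hy⟩ hyI
    refine (Ideal.mul_unit_mem_iff_mem _ (hvunit de hde)).mp ?_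
    rw [hy]
    have hnuI : v nu ∈ Ie := by
      rw [← hcomp, ← hy, map_mul, hcomp]
      exact Ideal.mul_mem_right _ _ hyI
    obtain ⟨s', hs', hsW⟩ := hker nu hnuI
    have h2 := hW _ hsW
    rw [map_mul, Ideal.unit_mul_mem_iff_mem _ (hvunit s' hs'), sup_eq_right.mpr hGid] at h2
    exact h2
  · obtain ⟨nu, de, hde, hwI⟩ := hEset (fΛ w) (Finset.mem_image_of_mem _ hw)
    obtain ⟨di, hdi⟩ := (hvunit de hde).exists_right_inv
    refine ⟨v'' nu * di, ⟨nu, de, hde, by rw [mul_assoc, mul_comm di, hdi, mul_one]⟩, ?_⟩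
    refine (Ideal.mul_unit_mem_iff_mem _ (notMem_maximalIdeal.mp hde)).mp ?_
    have h1 : φloc (v'' nu * di) * v de = v nu := by
      rw [← hcomp de, ← map_mul, mul_assoc, mul_comm di, hdi, mul_one, hcomp]
    rw [sub_mul, h1, ← neg_sub]
    exact (Ideal.neg_mem_iff _).mpr hwI

end Groth.Agent.SmoothingLib.CharPBase
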