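import Groth.Agent.SmoothingLib.AdicDual
import Groth.Agent.SmoothingLib.CharPTools
import Groth.Agent.SmoothingLib.ArtinSub
import Groth.Agent.EGA4Lib.MiracleModule
import Groth.Agent.SmoothingLib.DvrIndSmooth
import Mathlib

/-!
# A regular local model of an Artinian quotient of a geometrically regular local ring
-/

set_option autoImplicit false
universe u

open IsLocalRing MvPolynomial

namespace Groth.Agent.SmoothingLib.CharPLocal

/-- A minor of full size of a matrix with independent rows does not vanish. -/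
theorem exists_det_ne_zero {K : Type*} [Field K] {σ : Type*} [Fintype σ] {t : ℕ} (w : Fin t → σ → K)
    (h : LinearIndependent K w) :
    ∃ cols : Fin t → σ, Matrix.det (Matrix.of fun j l : Fin t => w j (cols l)) ≠ 0 := by
  classical
  let W : Matrix (Fin t) σ K := Matrix.of w
  have hW : LinearIndependent K W.row := h
  have hrank : W.rank = t := by
    rw [W.rank_eq_finrank_span_row, finrank_span_eq_card hW, Fintype.card_fin]
  have hcolspan : Submodule.span K (Set.range W.col) = ⊤ := by
    apply Submodule.eq_top_of_finrank_eq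
    rw [← W.rank_eq_finrank_span_cols, hrank, Module.finrank_fintype_fun_eq_card, Fintype.card_fin]
  obtain ⟨κ', b, hb, hbspan, hbli⟩ := exists_linearIndependent' K W.col
  have : Fintype κ' := Fintype.ofInjective b hb
  have hcard : Fintype.card κ' = t := by
    have h1 := finrank_span_eq_card hbli
    rw [hbspan, hcolspan, finrank_top, Module.finrank_fintype_fun_eq_card, Fintype.card_fin] at h1
    exact h1.symm
  let e : Fin t ≃ κ' := (Fintype.equivFinOfCardEq hcard).symm
  refine ⟨b ∘ e, ?_⟩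
  exact ((Matrix.isUnit_iff_isUnit_det _).1 ((Matrix.linearIndependent_cols_iff_isUnit
    (A := Matrix.of fun j l : Fin t => w j (b (e l)))).1 (hbli.comp e e.injective))).ne_zero

/-- Minimal generators of the maximal ideal have independent classes in the cotangent space. -/
theorem coeff_mem_of_sum_mem_sq {R : Type u} [CommRing R] [IsRegularLocalRing R] {d : ℕ}
    (hd : ringKrullDim R = d) (x : Fin d → R) (hx : Ideal.span (Set.range x) = maximalIdeal R)
    (c : Fin d → R) (hc : ∑ i, c i * x i ∈ maximalIdeal R ^ 2) (i : Fin d) : c i ∈ maximalIdeal R := by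
  classical
  have hmem : ∀ i, x i ∈ maximalIdeal R := fun i => hx ▸ Ideal.subset_span ⟨i, rfl⟩
  let v : Fin d → CotangentSpace R := fun i => (maximalIdeal R).toCotangent ⟨x i, hmem i⟩
  have hcard : Fintype.card (Fin d) = Module.finrank (ResidueField R) (CotangentSpace R) := by
    have h1 := (IsRegularLocalRing.iff_finrank_cotangentSpace R).mp ‹_›
    rw [hd] at h1
    rw [Fintype.card_fin]
    exact_mod_cast h1.symm
  have hspan : ⊤ ≤ Submodule.span (ResidueField R) (Set.range v) := by
    intro z _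
    obtain ⟨⟨z, hz⟩, rfl⟩ := Ideal.toCotangent_surjective _ z
    obtain ⟨a, ha⟩ := Ideal.mem_span_range_iff_exists_fun.mp (hx.symm ▸ hz)
    have e : (⟨z, hz⟩ : maximalIdeal R) = ∑ i, a i • ⟨x i, hmem i⟩ := Subtype.ext (by
      rw [AddSubmonoidClass.coe_finsetSum]; exact ha.symm)
    rw [e, map_sum]
    refine Submodule.sum_mem _ fun i _ => ?_
    rw [map_smul, ← algebraMap_smul (ResidueField R) (a i)]
    exact Submodule.smul_mem _ _ (Submodule.subset_span ⟨i, rfl⟩)
  have hli := linearIndependent_of_top_le_span_of_card_eq_finrank hspan hcard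
  rw [Fintype.linearIndependent_iff] at hli
  refine (residue_eq_zero_iff _).mp (hli (fun i => residue R (c i)) ?_ i)
  have h1 : (maximalIdeal R).toCotangent (∑ i, c i • ⟨x i, hmem i⟩) = 0 := by
    rw [Ideal.toCotangent_eq_zero, AddSubmonoidClass.coe_finsetSum]
    exact hc
  rw [map_sum] at h1
  rw [← h1]
  refine Finset.sum_congr rfl fun i _ => ?_
  rw [map_smul, ← ResidueField.algebraMap_eq, algebraMap_smul]

/-- A map which is injective modulo a nilpotent maximal ideal into a flat module is injective. -/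
theorem injective_of_flat {S N L : Type u} [CommRing S] [IsLocalRing S]
    (hnil : IsNilpotent (maximalIdeal S)) [AddCommGroup N] [Module S N] [AddCommGroup L] [Module S L]
    [Module.Flat S L] (f : N →ₗ[S] L)
    (h : ∀ n, f n ∈ maximalIdeal S • (⊤ : Submodule S L) → n ∈ maximalIdeal S • (⊤ : Submodule S N)) :
    Function.Injective f := by
  classical
  let k := ResidueField S
  obtain ⟨ι, b⟩ := Module.Free.exists_basis k (TensorProduct S k N)
  choose n hn using fun i => TensorProduct.mk_surjective S N k residue_surjective (b i)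
  have hspan : Submodule.span S (Set.range n) = ⊤ := by
    set P := Submodule.span S (Set.range n)
    have h1 : ∀ x : N, x ∈ P ⊔ maximalIdeal S • (⊤ : Submodule S N) := by
      intro x
      have hmem : TensorProduct.mk S k N 1 x ∈ (P.map (TensorProduct.mk S k N 1)) := by
        have h2 : TensorProduct.mk S k N 1 x ∈ Submodule.span k (Set.range b) := by
          rw [b.span_eq]; trivial
        generalize TensorProduct.mk S k N 1 x = z₀ at h2 ⊢
        induction h2 using Submodule.span_induction with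
        | mem z hz =>
          obtain ⟨i, rfl⟩ := hz
          exact ⟨n i, Submodule.subset_span ⟨i, rfl⟩, hn i⟩
        | zero => exact zero_mem _
        | add y z _ _ hy hz => exact add_mem hy hz
        | smul r z _ hz =>
          obtain ⟨r, rfl⟩ := residue_surjective r
          rw [← ResidueField.algebraMap_eq, algebraMap_smul]
          exact Submodule.smul_mem _ _ hz
      obtain ⟨y, hy, hxy⟩ := hmem
      rw [← sub_add_cancel x y, add_comm]
      refine Submodule.add_mem_sup hy ?_
      rw [← LinearMap.ker_tensorProductMk, LinearMap.mem_ker, map_sub]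
      exact sub_eq_zero.mpr hxy.symm
    obtain ⟨c, hc⟩ := hnil
    have h2 : ∀ j, (⊤ : Submodule S N) ≤ P ⊔ (maximalIdeal S) ^ j • (⊤ : Submodule S N) := by
      intro j
      induction j with
      | zero => rw [pow_zero, Ideal.one_eq_top, Submodule.top_smul]; exact le_sup_right
      | succ j ih =>
        refine ih.trans (sup_le le_sup_left ?_)
        calc (maximalIdeal S) ^ j • (⊤ : Submodule S N)
            ≤ (maximalIdeal S) ^ j • (P ⊔ maximalIdeal S • ⊤) :=
              Submodule.smul_mono le_rfl fun x _ => h1 x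
          _ ≤ P ⊔ (maximalIdeal S) ^ (j + 1) • ⊤ := by
              rw [Submodule.smul_sup, pow_succ, Submodule.mul_smul]
              exact sup_le_sup_right Submodule.smul_le_right _
    have := h2 c
    rw [hc] at this
    simpa using this
  have hli : LinearIndependent S fun i => f (n i) := by
    refine Module.IsLocalRing.linearIndependent_of_flat _ ?_
    have hinj : Function.Injective (f.baseChange k) := by
      refine (injective_iff_map_eq_zero _).mpr fun z hz => ?_
      obtain ⟨x, rfl⟩ := TensorProduct.mk_surjective S N k residue_surjective z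
      have h1 : TensorProduct.mk S k L 1 (f x) = 0 := hz
      have h2 := h x ((LinearMap.ker_tensorProductMk (I := maximalIdeal S) (Q := L)).le h1)
      exact ((LinearMap.ker_tensorProductMk (I := maximalIdeal S) (Q := N)).ge h2 : _)
    have e : (TensorProduct.mk S k L 1 ∘ fun i => f (n i)) = (f.baseChange k) ∘ b := by
      funext i
      rw [Function.comp_apply, Function.comp_apply, ← hn]
      rfl
    rw [e]
    exact b.linearIndependent.map' _ (LinearMap.ker_eq_bot.mpr hinj)
  refine (injective_iff_map_eq_zero f).mpr fun x hx => ?_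
  have hxs : x ∈ Submodule.span S (Set.range n) := hspan ▸ Submodule.mem_top
  rw [Finsupp.mem_span_range_iff_exists_finsupp] at hxs
  obtain ⟨l, rfl⟩ := hxs
  have hl : l = 0 := linearIndependent_iff.mp hli l (by
    rw [Finsupp.linearCombination_apply, ← hx, map_finsuppSum]
    simp only [map_smul])
  simp [hl]

variable {k Λq : Type u} [Field k] [CommRing Λq] [IsRegularLocalRing Λq] [Algebra k Λq]

set_option maxHeartbeats 1000000 in
/-- The local model. -/
theorem exists_local_model (p : ℕ) [Fact p.Prime] [CharP k p]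
    (h : CAlgX.IsAdicFormallySmooth k Λq (maximalIdeal Λq)) {d : ℕ} (hd : ringKrullDim Λq = d)
    (π : Fin d → Λq) (hπ : Ideal.span (Set.range π) = maximalIdeal Λq) (e : ℕ) (he : 2 ≤ e)
    {r : ℕ} (a : Fin r → Λq) (ha : ∀ l, a l ∈ maximalIdeal Λq) (Eset : Finset Λq) :
    ∃ (m : ℕ) (v : MvPolynomial ((Fin d ⊕ Fin r) ⊕ Fin m) k →ₐ[k] Λq) (t : ℕ)
      (g : Fin t → MvPolynomial ((Fin d ⊕ Fin r) ⊕ Fin m) k)
      (cols : Fin t → (Fin d ⊕ Fin r) ⊕ Fin m) (E : ℕ),
      (∀ i, v (X (Sum.inl (Sum.inl i))) = π i) ∧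
      (∀ l, v (X (Sum.inl (Sum.inr l))) = a l) ∧
      (∀ j, v (g j) ∈ Ideal.span (Set.range fun i => π i ^ e)) ∧
      Matrix.det (Matrix.of fun j l : Fin t => v (pderiv (cols l) (g j))) ∉ maximalIdeal Λq ∧
      2 ≤ E ∧
      (∀ l, ∃ s, v s ∉ maximalIdeal Λq ∧ s * X (Sum.inl (Sum.inr l)) ^ E ∈
        Ideal.span (Set.range g) ⊔ Ideal.span (Set.range fun i => X (Sum.inl (Sum.inl i)) ^ e)) ∧
      (∀ f, v f ∈ Ideal.span (Set.range fun i => π i ^ e) → ∃ s, v s ∉ maximalIdeal Λq ∧
        s * f ∈ Ideal.span (Set.range g) ⊔ Ideal.span (Set.range fun i => X (Sum.inl (Sum.inl i)) ^ e)) ∧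
      ∀ w ∈ Eset, ∃ num den, v den ∉ maximalIdeal Λq ∧
        w * v den - v num ∈ Ideal.span (Set.range fun i => π i ^ e) := by
  classical
  set mq := maximalIdeal Λq
  set Ie : Ideal Λq := Ideal.span (Set.range fun i => π i ^ e) with hIe
  have hπm : ∀ i, π i ∈ mq := fun i => hπ ▸ Ideal.subset_span ⟨i, rfl⟩
  have hIem : Ie ≤ mq ^ 2 := Ideal.span_le.2 (by
    rintro _ ⟨i, rfl⟩
    exact Ideal.pow_le_pow_right he (Ideal.pow_mem_pow (hπm i) e))
  have hIem1 : Ie ≤ mq := hIem.trans (Ideal.pow_le_self two_ne_zero)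
  haveI : IsLocalRing (Λq ⧸ Ie) :=
    RegLoc.isLocalRing_quotient hIem1
  have hmL : maximalIdeal (Λq ⧸ Ie) = mq.map (Ideal.Quotient.mk Ie) :=
    (IsLocalRing.map_maximalIdeal_of_surjective _ (Ideal.Quotient.mk_surjective (I := Ie))).symm
  have hnilL : IsNilpotent (maximalIdeal (Λq ⧸ Ie)) := by
    refine (Ideal.FG.isNilpotent_iff_le_nilradical (IsNoetherian.noetherian _)).2 ?_
    rw [hmL, ← hπ, Ideal.map_le_iff_le_comap, Ideal.span_le]
    rintro _ ⟨i, rfl⟩
    refine mem_nilradical.2 ⟨e, ?_⟩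
    rw [← map_pow]
    exact Ideal.Quotient.eq_zero_iff_mem.2 (Ideal.subset_span ⟨i, rfl⟩)
  haveI : IsArtinianRing (Λq ⧸ Ie) := by
    rw [isArtinianRing_iff_isNoetherianRing_krullDimLE_zero]
    refine ⟨inferInstance, Ring.krullDimLE_zero_iff.2 fun P hP => ?_⟩
    have h1 : maximalIdeal (Λq ⧸ Ie) ≤ P := by
      obtain ⟨n, hn⟩ := hnilL
      refine (Ideal.IsPrime.pow_le_iff (I := maximalIdeal (Λq ⧸ Ie)) (P := P) (n := n + 1) (Nat.succ_ne_zero n)).1 ?_
      rw [pow_succ, hn]
      simp
    rw [← (IsLocalRing.maximalIdeal.isMaximal _).eq_of_le hP.ne_top h1]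
    exact IsLocalRing.maximalIdeal.isMaximal _
  -- the residue fields
  haveI := AdicDual.finite_H1 h
  haveI : IsLocalHom (Ideal.Quotient.mk Ie) := ⟨fun x hx => by
    by_contra hnu
    exact (hmL.ge (Ideal.mem_map_of_mem _ (show x ∈ mq from hnu))) hx⟩
  let eκ₀ : ResidueField Λq →+* ResidueField (Λq ⧸ Ie) := ResidueField.map (Ideal.Quotient.mk Ie)
  let eκ : ResidueField Λq ≃ₐ[k] ResidueField (Λq ⧸ Ie) := AlgEquiv.ofBijective
    ({ eκ₀ with commutes' := fun c => rfl } : ResidueField Λq →ₐ[k] ResidueField (Λq ⧸ Ie))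
    ⟨RingHom.injective eκ₀, fun y => by
      obtain ⟨y, rfl⟩ := residue_surjective y
      obtain ⟨y, rfl⟩ := Ideal.Quotient.mk_surjective y
      exact ⟨residue Λq y, rfl⟩⟩
  have hH := CharPTools.finite_H1_of_equiv eκ
  let EL : Finset (Λq ⧸ Ie) := (Finset.univ.image fun i => Ideal.Quotient.mk Ie (π i)) ∪
    (Finset.univ.image fun l => Ideal.Quotient.mk Ie (a l)) ∪ Eset.image (Ideal.Quotient.mk Ie)
  obtain ⟨A₀, hloc, hEA, hArt, hflat, hess, hmA⟩ := ArtinSub.exists_subalgebra p hH EL
  haveI := hflat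
  haveI := hess
  obtain ⟨gen, hgen⟩ := (Algebra.essFiniteType_iff k A₀).mp hess
  let m := gen.card
  let enum : Fin m → A₀ := fun j => gen.equivFin.symm j
  choose lift hlift using fun w : Λq ⧸ Ie => Ideal.Quotient.mk_surjective w
  let val : (Fin d ⊕ Fin r) ⊕ Fin m → Λq := Sum.elim (Sum.elim π a) fun j => lift (enum j : Λq ⧸ Ie)
  let v : MvPolynomial ((Fin d ⊕ Fin r) ⊕ Fin m) k →ₐ[k] Λq := aeval val
  let P : Ideal (MvPolynomial ((Fin d ⊕ Fin r) ⊕ Fin m) k) := mq.comap v
  haveI : P.IsPrime := Ideal.comap_isPrime v mq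
  have hxP : ∀ i, X (Sum.inl (Sum.inl i)) ∈ P := fun i => by
    show v _ ∈ mq
    rw [show v (X (Sum.inl (Sum.inl i))) = π i from aeval_X _ _]; exact hπm i
  let vL : MvPolynomial ((Fin d ⊕ Fin r) ⊕ Fin m) k →ₐ[k] Λq ⧸ Ie :=
    (Ideal.Quotient.mkₐ k Ie).comp v
  have hvLA : ∀ f, vL f ∈ A₀ := by
    intro f
    induction f using MvPolynomial.induction_on with
    | C c => rw [← algebraMap_eq, AlgHom.commutes]; exact A₀.algebraMap_mem c
    | add f g hf hg => rw [map_add]; exact add_mem hf hg
    | mul_X f i hf =>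
      rw [map_mul]
      refine mul_mem hf ?_
      show Ideal.Quotient.mk Ie (v (X i)) ∈ A₀
      rw [show v (X i) = val i from aeval_X _ _]
      rcases i with (i | l) | j
      · exact hEA (by simp [EL, val])
      · exact hEA (by simp [EL, val])
      · show Ideal.Quotient.mk Ie (lift _) ∈ A₀
        rw [hlift]; exact (enum j).2
  let vA : MvPolynomial ((Fin d ⊕ Fin r) ⊕ Fin m) k →ₐ[k] A₀ := vL.codRestrict A₀ hvLA
  have hgenR : ∀ w ∈ Algebra.adjoin k (gen : Set A₀), ∃ f, vA f = w := by
    intro w hw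
    have hle : Algebra.adjoin k (gen : Set A₀) ≤ vA.range := Algebra.adjoin_le fun z hz =>
      ⟨X (Sum.inr (gen.equivFin ⟨z, hz⟩)), Subtype.ext (by
        show Ideal.Quotient.mk Ie (v (X (Sum.inr (gen.equivFin ⟨z, hz⟩)))) = (z : Λq ⧸ Ie)
        rw [show v (X (Sum.inr (gen.equivFin ⟨z, hz⟩))) = lift (enum (gen.equivFin ⟨z, hz⟩) : Λq ⧸ Ie) from
          aeval_X _ _, hlift]
        simp [enum])⟩
    exact hle hw
  have hunitP : ∀ f, IsUnit (vA f) → f ∉ P := fun f hf hfP => by
    have h1 : IsUnit (vL f) := hf.map A₀.val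
    have h2 : vL f ∈ maximalIdeal (Λq ⧸ Ie) := hmL ▸ Ideal.mem_map_of_mem _ hfP
    exact h2 h1
  have hfrac : ∀ w : A₀, ∃ num den, den ∉ P ∧ w * vA den = vA num := by
    intro w
    obtain ⟨t, ht, htu, hwt⟩ := hgen w
    obtain ⟨den, rfl⟩ := hgenR t ht
    obtain ⟨num, hnum⟩ := hgenR _ hwt
    exact ⟨num, den, hunitP _ htu, hnum.symm⟩
  -- the local ring of the affine space at `P`
  let f := algebraMap (MvPolynomial ((Fin d ⊕ Fin r) ⊕ Fin m) k) (Localization.AtPrime P)
  let vT : Localization.AtPrime P →+* Λq := IsLocalization.lift (M := P.primeCompl) (g := v.toRingHom)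
    fun s => notMem_maximalIdeal.mp s.2
  have hvT : ∀ x, vT (f x) = v x := fun x => IsLocalization.lift_eq _ x
  haveI : IsLocalHom vT := ⟨fun x hx => by
    obtain ⟨⟨n, s⟩, hxs⟩ := IsLocalization.surj P.primeCompl x
    have h1 : IsUnit (vT (f n)) := hxs ▸ (by rw [map_mul]; exact hx.mul ((IsLocalization.map_units _ s).map vT))
    rw [hvT] at h1
    have h2 : IsUnit (f n) := IsLocalization.map_units (Localization.AtPrime P)
      (⟨n, notMem_maximalIdeal.mpr h1⟩ : P.primeCompl)
    rw [← hxs] at h2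
    exact isUnit_of_mul_isUnit_left h2⟩
  have hmTq : ∀ z ∈ maximalIdeal (Localization.AtPrime P), vT z ∈ mq := fun z hz hu =>
    hz (IsUnit.of_map vT _ hu)
  have hfP : ∀ x, f x ∈ maximalIdeal (Localization.AtPrime P) ↔ x ∈ P := fun x =>
    IsLocalization.AtPrime.to_map_mem_maximal_iff _ P x
  -- `P` is generated by the coordinates and the relations
  have hP2 : ∀ q ∈ P, ∃ (t : MvPolynomial ((Fin d ⊕ Fin r) ⊕ Fin m) k)
      (c : Fin d → MvPolynomial ((Fin d ⊕ Fin r) ⊕ Fin m) k),
      t ∉ P ∧ v (t * q - ∑ i, c i * X (Sum.inl (Sum.inl i))) ∈ Ie := by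
    intro q hq
    have h1 : vA q ∈ maximalIdeal A₀ := fun hu => hunitP q hu hq
    -- by faithful flatness the coordinates generate the maximal ideal of `A₀`
    have hπA : ∀ i, Ideal.Quotient.mk Ie (π i) ∈ A₀ := fun i => hEA (by simp [EL])
    have hgenA : maximalIdeal A₀ ≤ Ideal.span (Set.range fun i => (⟨_, hπA i⟩ : A₀)) := by
      haveI : IsLocalHom (algebraMap A₀ (Λq ⧸ Ie)) := ⟨fun x hx => by
        by_contra hnu
        exact (hmA.le (Ideal.mem_map_of_mem _ (show x ∈ maximalIdeal A₀ from hnu))) hx⟩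
      haveI : Module.FaithfullyFlat A₀ (Λq ⧸ Ie) :=
        Module.FaithfullyFlat.of_flat_of_isLocalHom
      intro z hz
      rw [← Ideal.comap_map_eq_self_of_faithfullyFlat (B := Λq ⧸ Ie)
        (Ideal.span (Set.range fun i => (⟨_, hπA i⟩ : A₀))), Ideal.mem_comap]
      have h2 : algebraMap A₀ (Λq ⧸ Ie) z ∈ maximalIdeal (Λq ⧸ Ie) :=
        hmA ▸ Ideal.mem_map_of_mem _ hz
      rw [hmL, ← hπ, Ideal.map_span, ← Set.range_comp] at h2
      rw [Ideal.map_span, ← Set.range_comp]
      exact h2
    obtain ⟨b, hb⟩ := Ideal.mem_span_range_iff_exists_fun.mp (hgenA h1)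
    choose num den hden hbden using fun i => hfrac (b i)
    refine ⟨∏ i, den i, fun i => num i * ∏ l ∈ Finset.univ.erase i, den l,
      fun hmem => ?_, ?_⟩
    · obtain ⟨i, -, hi⟩ := (Ideal.IsPrime.prod_mem_iff).mp hmem
      exact hden i hi
    rw [← Ideal.Quotient.eq_zero_iff_mem]
    show vL _ = 0
    have h3 : vA ((∏ i, den i) * q - ∑ i, num i * (∏ l ∈ Finset.univ.erase i, den l) *
        X (Sum.inl (Sum.inl i))) = 0 := by
      rw [map_sub, map_mul, ← hb, Finset.mul_sum, map_sum, sub_eq_zero]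
      refine Finset.sum_congr rfl fun i _ => ?_
      rw [map_mul, map_mul, ← hbden i, show (⟨_, hπA i⟩ : A₀) = vA (X (Sum.inl (Sum.inl i))) from
          Subtype.ext (congrArg (Ideal.Quotient.mk Ie) (aeval_X val (Sum.inl (Sum.inl i))).symm),
        ← Finset.mul_prod_erase _ _ (Finset.mem_univ i), map_mul]
      ring
    exact congrArg Subtype.val h3
  -- completing the coordinates inside the cotangent space
  let K₀ := ResidueField (Localization.AtPrime P)
  let cl : P → CotangentSpace (Localization.AtPrime P) := fun x =>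
    (maximalIdeal (Localization.AtPrime P)).toCotangent ⟨f x, (hfP x).mpr x.2⟩
  let J : Set P := {x | v (x : MvPolynomial ((Fin d ⊕ Fin r) ⊕ Fin m) k) ∈ Ie}
  let xs : Fin d → P := fun i => ⟨X (Sum.inl (Sum.inl i)), hxP i⟩
  have hxind : LinearIndependent K₀ fun i => cl (xs i) := by
    rw [Fintype.linearIndependent_iff]
    intro c hc i
    choose c' hc' using fun i => residue_surjective (c i)
    have h1 : (maximalIdeal (Localization.AtPrime P)).toCotangent
        (∑ i, c' i • ⟨f (X (Sum.inl (Sum.inl i))), (hfP _).mpr (hxP i)⟩) = 0 := by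
      rw [map_sum, ← hc]
      refine Finset.sum_congr rfl fun i _ => ?_
      rw [map_smul, ← hc' i, ← ResidueField.algebraMap_eq, algebraMap_smul]
    rw [Ideal.toCotangent_eq_zero, AddSubmonoidClass.coe_finsetSum] at h1
    have h2 : vT (∑ i, c' i * f (X (Sum.inl (Sum.inl i)))) ∈ mq ^ 2 := by
      have hle : (maximalIdeal (Localization.AtPrime P) ^ 2).map vT ≤ mq ^ 2 := by
        rw [Ideal.map_pow]
        exact Ideal.pow_right_mono (Ideal.map_le_iff_le_comap.mpr hmTq) 2
      exact hle (Ideal.mem_map_of_mem _ h1)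
    simp only [map_sum, map_mul, hvT, show ∀ i, v (X (Sum.inl (Sum.inl i))) = π i from fun i => aeval_X _ _] at h2
    have h3 := coeff_mem_of_sum_mem_sq hd π hπ (fun i => vT (c' i)) h2 i
    rw [← hc' i]
    refine (residue_eq_zero_iff _).mpr fun hu => h3 (hu.map vT)
  have hxinj : Function.Injective fun i => cl (xs i) := hxind.injective
  have hxindOn : LinearIndepOn K₀ id (Set.range fun i => cl (xs i)) := hxind.linearIndepOn_id
  obtain ⟨B, hBsub, hxB, hBspan, hBind⟩ := exists_linearIndepOn_id_extension hxindOn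
    (Set.subset_union_left (s := Set.range fun i => cl (xs i)) (t := cl '' J))
  let rest : Set (CotangentSpace (Localization.AtPrime P)) := B \ Set.range fun i => cl (xs i)
  haveI : Finite B := (LinearIndependent.finite hBind : _)
  haveI : Finite rest := Finite.Set.subset B Set.sdiff_subset
  cases nonempty_fintype rest
  let t := Fintype.card rest
  let er : Fin t ≃ rest := (Fintype.equivFin rest).symm
  have hrestJ : ∀ z : rest, ∃ x : P, x ∈ J ∧ cl x = z := by
    rintro ⟨z, hzB, hzx⟩
    rcases hBsub hzB with hz | ⟨x, hx, hxz⟩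
    · exact absurd hz hzx
    · exact ⟨x, hx, hxz⟩
  choose gP hgJ hgcl using hrestJ
  let g : Fin t → MvPolynomial ((Fin d ⊕ Fin r) ⊕ Fin m) k := fun j => (gP (er j)).1
  have hgind : LinearIndependent K₀ fun j => cl (gP (er j)) := by
    have h1 := (hBind.mono (Set.sdiff_subset : rest ⊆ B))
    have h2 := h1.comp er er.injective
    simpa [Function.comp_def, hgcl] using h2
  -- generation in the local ring
  let G : Ideal (Localization.AtPrime P) :=
    Ideal.span (Set.range fun i => f (X (Sum.inl (Sum.inl i)))) ⊔ Ideal.span (Set.range fun j => f (g j))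
  have hmax : maximalIdeal (Localization.AtPrime P) ≤ G := by
    refine Submodule.le_of_le_smul_of_le_jacobson_bot (IsNoetherian.noetherian _)
      (maximalIdeal_le_jacobson _) ?_
    rw [smul_eq_mul, ← pow_two]
    intro z hz
    -- classes of `P` span the cotangent space
    let S := Submodule.span K₀ B
    have hclS : ∀ x : P, cl x ∈ S := by
      intro x
      obtain ⟨t, c, ht, hmem⟩ := hP2 x.1 x.2
      set y := t * (x : MvPolynomial ((Fin d ⊕ Fin r) ⊕ Fin m) k) - ∑ i, c i * X (Sum.inl (Sum.inl i))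
      have hyP : y ∈ P := P.sub_mem (P.mul_mem_left _ x.2) (Ideal.sum_mem _ fun i _ => P.mul_mem_left _ (hxP i))
      have h1 : cl ⟨y, hyP⟩ ∈ S := hBspan (Or.inr ⟨⟨y, hyP⟩, hmem, rfl⟩)
      have h2 : (residue _ (f t)) • cl x = cl ⟨y, hyP⟩ + ∑ i, residue _ (f (c i)) • cl (xs i) := by
        simp only [cl, ← ResidueField.algebraMap_eq, algebraMap_smul, ← map_smul, ← map_sum, ← map_add]
        congr 1
        refine Subtype.ext ?_
        simp only [Submodule.coe_add, AddSubmonoidClass.coe_finsetSum, Submodule.coe_smul_of_tower,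
          smul_eq_mul, y, map_sub, map_sum, map_mul, xs, sub_add_cancel]
      have h3 : (residue _ (f t)) • cl x ∈ S := by
        rw [h2]
        exact add_mem h1 (Submodule.sum_mem _ fun i _ =>
          Submodule.smul_mem _ _ (Submodule.subset_span (hxB ⟨i, rfl⟩)))
      exact (Submodule.smul_mem_iff S (fun h0 => ht ((hfP t).mp ((residue_eq_zero_iff _).mp h0)))).mp h3
    obtain ⟨⟨n, s⟩, hns⟩ := IsLocalization.surj P.primeCompl z
    have hn : n ∈ P := (hfP n).mp (hns ▸ Ideal.mul_mem_right _ _ hz)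
    have hsu : IsUnit (f s) := IsLocalization.map_units _ s
    have hzS : (maximalIdeal (Localization.AtPrime P)).toCotangent ⟨z, hz⟩ ∈ S := by
      have h1 : residue _ (f s) • (maximalIdeal (Localization.AtPrime P)).toCotangent ⟨z, hz⟩ = cl ⟨n, hn⟩ := by
        rw [← ResidueField.algebraMap_eq, algebraMap_smul, ← map_smul]
        refine congrArg _ (Subtype.ext ?_)
        show f s * z = f n
        rw [mul_comm]; exact hns
      exact (Submodule.smul_mem_iff S ((hsu.map (residue _)).ne_zero)).mp (h1 ▸ hclS ⟨n, hn⟩)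
    -- elements of `G` realise the span of `B`
    have hSG : ∀ w ∈ S, ∃ y, ∃ hy : y ∈ maximalIdeal (Localization.AtPrime P), y ∈ G ∧
        (maximalIdeal (Localization.AtPrime P)).toCotangent ⟨y, hy⟩ = w := by
      intro w hw
      induction hw using Submodule.span_induction with
      | mem w hw =>
        by_cases hwx : w ∈ Set.range fun i => cl (xs i)
        · obtain ⟨i, rfl⟩ := hwx
          exact ⟨_, (hfP _).mpr (hxP i), Ideal.mem_sup_left (Ideal.subset_span ⟨i, rfl⟩), rfl⟩
        · refine ⟨_, (hfP _).mpr (gP ⟨w, hw, hwx⟩).2,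
            Ideal.mem_sup_right (Ideal.subset_span ⟨er.symm ⟨w, hw, hwx⟩, ?_⟩), hgcl ⟨w, hw, hwx⟩⟩
          simp [g]
      | zero => exact ⟨0, zero_mem _, zero_mem _, map_zero _⟩
      | add w w' _ _ hw hw' =>
        obtain ⟨y, hy, hyG, hyw⟩ := hw
        obtain ⟨y', hy', hyG', hyw'⟩ := hw'
        exact ⟨y + y', add_mem hy hy', add_mem hyG hyG', by rw [← hyw, ← hyw', ← map_add]; rfl⟩
      | smul c w _ hw =>
        obtain ⟨y, hy, hyG, hyw⟩ := hw
        obtain ⟨c, rfl⟩ := residue_surjective c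
        exact ⟨c * y, Ideal.mul_mem_left _ _ hy, Ideal.mul_mem_left _ _ hyG, by
          rw [← hyw, ← ResidueField.algebraMap_eq, algebraMap_smul, ← map_smul]; rfl⟩
    obtain ⟨y, hy, hyG, hyz⟩ := hSG _ hzS
    have h4 : z - y ∈ maximalIdeal (Localization.AtPrime P) ^ 2 := by
      rw [← Ideal.toCotangent_eq (I := maximalIdeal (Localization.AtPrime P)) (x := ⟨z, hz⟩) (y := ⟨y, hy⟩)]
      exact hyz.symm
    rw [← add_sub_cancel y z]
    exact Submodule.add_mem_sup hyG h4
  -- the Jacobian criterion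
  have hjac : ∃ cols : Fin t → (Fin d ⊕ Fin r) ⊕ Fin m,
      Matrix.det (Matrix.of fun j l : Fin t => v (pderiv (cols l) (g j))) ∉ mq := by
    let w : Fin t → ((Fin d ⊕ Fin r) ⊕ Fin m) → K₀ := fun j i => residue _ (f (pderiv i (g j)))
    have hw : LinearIndependent K₀ w := by
      rw [Fintype.linearIndependent_iff]
      intro c hc j
      choose nd hnd using fun j =>
        IsLocalization.surj P.primeCompl (residue_surjective (c j)).choose
      let num := fun j => (nd j).1
      let den := fun j => (nd j).2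
      let D : MvPolynomial ((Fin d ⊕ Fin r) ⊕ Fin m) k := ∏ j, (den j : MvPolynomial ((Fin d ⊕ Fin r) ⊕ Fin m) k)
      let C' : Fin t → MvPolynomial ((Fin d ⊕ Fin r) ⊕ Fin m) k := fun j =>
        num j * ∏ l ∈ Finset.univ.erase j, (den l : MvPolynomial ((Fin d ⊕ Fin r) ⊕ Fin m) k)
      have hC' : ∀ j, residue _ (f (C' j)) = residue _ (f D) * c j := fun j => by
        conv_rhs => rw [← (residue_surjective (c j)).choose_spec, ← map_mul]
        congr 1
        simp only [C', D, map_mul, ← Finset.mul_prod_erase _ _ (Finset.mem_univ j), map_prod, f]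
        rw [← hnd j]; ring
      let u := ∑ j, C' j * g j
      have hgP : ∀ j, g j ∈ P := fun j => (gP (er j)).2
      have huP : u ∈ P := Ideal.sum_mem _ fun j _ => P.mul_mem_left _ (hgP j)
      have hsq : v u ∈ mq ^ 2 := by
        simp only [u, map_sum, map_mul]
        exact Ideal.sum_mem _ fun j _ => Ideal.mul_mem_left _ _ (hIem (hgJ (er j)))
      have hder : ∀ i, v (pderiv i u) ∈ mq := by
        intro i
        have h1 : residue _ (f (pderiv i u)) = 0 := by
          simp only [u, map_sum, pderiv_mul, map_add, map_mul]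
          simp only [(residue_eq_zero_iff _).mpr ((hfP _).mpr (hgP _)), mul_zero, zero_add, hC', mul_assoc,
            ← Finset.mul_sum]
          have h2 := congrFun hc i
          simp only [Finset.sum_apply, Pi.smul_apply, smul_eq_mul, Pi.zero_apply, w] at h2
          rw [h2, mul_zero]
        rw [← hvT]
        exact hmTq _ ((residue_eq_zero_iff _).mp h1)
      have h3 := AdicDual.mem_sq_of_pderiv_mem h v vT hvT u ((hfP u).mpr huP) hder hsq
      have h4 : ∑ j, residue _ (f (C' j)) • cl (gP (er j)) = 0 := by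
        simp only [cl, ← ResidueField.algebraMap_eq, algebraMap_smul, ← map_smul, ← map_sum]
        rw [Ideal.toCotangent_eq_zero, AddSubmonoidClass.coe_finsetSum]
        simpa [u, g, map_sum, map_mul] using h3
      have h5 := (Fintype.linearIndependent_iff.mp hgind) _ h4 j
      rw [hC'] at h5
      refine (mul_eq_zero.mp h5).resolve_left fun hD => ?_
      have hD' : D ∈ P := (hfP D).mp ((residue_eq_zero_iff _).mp hD)
      obtain ⟨l, -, hl⟩ := (Ideal.IsPrime.prod_mem_iff).mp hD'
      exact (den l).2 hl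
    obtain ⟨cols, hcols⟩ := exists_det_ne_zero w hw
    refine ⟨cols, fun hmem => hcols ?_⟩
    have h1 : residue _ (f (Matrix.det (Matrix.of fun j l : Fin t => pderiv (cols l) (g j)))) =
        Matrix.det (Matrix.of fun j l : Fin t => w j (cols l)) := by
      rw [RingHom.map_det, RingHom.map_det]; rfl
    rw [← h1]
    refine (residue_eq_zero_iff _).mpr ((hfP _).mpr ?_)
    show v _ ∈ mq
    rw [AlgHom.map_det]
    exact hmem
  obtain ⟨cols, hcols⟩ := hjac
  -- the kernel
  let W : Ideal (MvPolynomial ((Fin d ⊕ Fin r) ⊕ Fin m) k) :=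
    Ideal.span (Set.range g) ⊔ Ideal.span (Set.range fun i => X (Sum.inl (Sum.inl i)) ^ e)
  have hWIe : ∀ y ∈ W, v y ∈ Ie := by
    have hle : W ≤ Ie.comap v := sup_le
      (Ideal.span_le.2 (by rintro _ ⟨j, rfl⟩; exact hgJ (er j)))
      (Ideal.span_le.2 (by
        rintro _ ⟨i, rfl⟩
        show v (X (Sum.inl (Sum.inl i)) ^ e) ∈ Ie
        rw [map_pow, show v (X (Sum.inl (Sum.inl i))) = π i from aeval_X _ _]
        exact Ideal.subset_span ⟨i, rfl⟩))
    exact fun y hy => hle hy
  let Q := Localization.AtPrime P ⧸ W.map f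
  have hQzero : ∀ y, Ideal.Quotient.mk (W.map f) (f y) = 0 → ∃ s, s ∉ P ∧ s * y ∈ W := fun y hy => by
    obtain ⟨s, hs, hsy⟩ :=
      (IsLocalization.algebraMap_mem_map_algebraMap_iff P.primeCompl _ W y).mp (Ideal.Quotient.eq_zero_iff_mem.mp hy)
    exact ⟨s, hs, hsy⟩
  let ρ : Q →+* Λq ⧸ Ie := Ideal.Quotient.lift _ ((Ideal.Quotient.mk Ie).comp vT) (by
    have hle : W.map f ≤ RingHom.ker ((Ideal.Quotient.mk Ie).comp vT) :=
      Ideal.map_le_iff_le_comap.2 fun y hy => Ideal.Quotient.eq_zero_iff_mem.2 (by rw [hvT]; exact hWIe y hy)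
    exact fun a ha => hle ha)
  -- flatness over the coordinates
  let πP : MvPolynomial (Fin d) k →ₐ[k] Λq := aeval π
  letI : Algebra (MvPolynomial (Fin d) k) Λq := πP.toRingHom.toAlgebra
  let P₀ : Ideal (MvPolynomial (Fin d) k) := Ideal.span (Set.range X)
  have hP₀q : ∀ q ∈ P₀, πP q ∈ mq := by
    have hle : P₀ ≤ mq.comap πP := Ideal.span_le.2 (by
      rintro _ ⟨i, rfl⟩; show πP (X i) ∈ mq; rw [show πP (X i) = π i from aeval_X π i]; exact hπm i)
    exact fun q hq => hle hq
  have hε : ∀ q : MvPolynomial (Fin d) k, q - C (constantCoeff q) ∈ P₀ := fun q => by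
    induction q using MvPolynomial.induction_on with
    | C c => simp
    | add a b ha hb => rw [map_add, map_add, add_sub_add_comm]; exact Ideal.add_mem _ ha hb
    | mul_X a i _ =>
      rw [map_mul, constantCoeff_X, mul_zero, map_zero, sub_zero]
      exact Ideal.mul_mem_left _ _ (Ideal.subset_span ⟨i, rfl⟩)
  have hP₀eq : mq.comap πP = P₀ := le_antisymm (fun q hq => by
      by_cases hc : constantCoeff q = 0
      · have := hε q; rwa [hc, map_zero, sub_zero] at this
      · exfalso
        have h2 : πP (C (constantCoeff q)) ∈ mq := by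
          have h3 := mq.sub_mem hq (hP₀q _ (hε q))
          rwa [← map_sub, sub_sub_cancel] at h3
        exact h2 (((IsUnit.mk0 _ hc).map C).map πP)) (fun q hq => hP₀q q hq)
  haveI : P₀.IsPrime := hP₀eq ▸ Ideal.comap_isPrime πP mq
  haveI hflatΛ : Module.Flat (MvPolynomial (Fin d) k) Λq := by
    let ω : Localization.AtPrime P₀ →+* Λq := IsLocalization.lift (M := P₀.primeCompl) (g := πP.toRingHom)
      fun s => notMem_maximalIdeal.mp fun hmem => s.2 (hP₀eq.le hmem)
    letI := ω.toAlgebra
    haveI : IsScalarTower (MvPolynomial (Fin d) k) (Localization.AtPrime P₀) Λq :=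
      IsScalarTower.of_algebraMap_eq fun q => (IsLocalization.lift_eq _ q).symm
    let rs := List.ofFn fun i => algebraMap (MvPolynomial (Fin d) k) (Localization.AtPrime P₀) (X i)
    have hrs : Ideal.ofList rs = maximalIdeal (Localization.AtPrime P₀) := by
      rw [← Localization.AtPrime.map_eq_maximalIdeal]
      show Ideal.span {x | x ∈ rs} = P₀.map _
      rw [Ideal.map_span, ← Set.range_comp]
      congr 1
      ext x
      simp [rs, List.mem_ofFn]
    haveI : IsLocalHom (algebraMap (Localization.AtPrime P₀) Λq) := by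
      refine ⟨fun z hz => ?_⟩
      obtain ⟨⟨n, s⟩, hns⟩ := IsLocalization.surj P₀.primeCompl z
      have h1 : IsUnit (ω (algebraMap _ _ n)) := by
        rw [← hns, map_mul]; exact hz.mul ((IsLocalization.map_units _ s).map ω)
      rw [IsLocalization.lift_eq] at h1
      have h2 : IsUnit (algebraMap _ (Localization.AtPrime P₀) n) := IsLocalization.map_units _
        (⟨n, fun hn => hP₀q n hn h1⟩ : P₀.primeCompl)
      rw [← hns] at h2
      exact isUnit_of_mul_isUnit_left h2
    haveI : Module.Flat (Localization.AtPrime P₀) Λq := by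
      refine EGA4Lib.MiracleModule.flat_of_isWeaklyRegular rs.length (Localization.AtPrime P₀) rs rfl hrs
        Λq Λq ?_
      rw [← RingTheory.Sequence.isWeaklyRegular_map_algebraMap_iff Λq]
      have e2 : rs.map (algebraMap (Localization.AtPrime P₀) Λq) = List.ofFn π := by
        simp only [rs, List.map_ofFn, Function.comp_def]
        congr 1
        funext i
        rw [← IsScalarTower.algebraMap_apply]
        exact aeval_X π i
      rw [e2]
      exact (RegLoc.isRegular_ofFn hd π hπ).toIsWeaklyRegular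
    exact Module.Flat.trans (MvPolynomial (Fin d) k) (Localization.AtPrime P₀) _
  let Ke : Ideal (MvPolynomial (Fin d) k) := Ideal.span (Set.range fun i => X i ^ e)
  have hKeΛ : Ke.map (algebraMap (MvPolynomial (Fin d) k) Λq) = Ie := by
    rw [Ideal.map_span, ← Set.range_comp]
    congr 1
    ext z
    simp [RingHom.algebraMap_toAlgebra, πP, eq_comm]
  haveI := DvrIndSmooth.flat_quot (Λ := Λq) Ke
  letI : Algebra (MvPolynomial (Fin d) k ⧸ Ke) (Λq ⧸ Ie) :=
    (Ideal.Quotient.lift Ke ((Ideal.Quotient.mk Ie).comp πP.toRingHom) fun q hq =>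
      Ideal.Quotient.eq_zero_iff_mem.2 (hKeΛ ▸ Ideal.mem_map_of_mem _ hq)).toAlgebra
  haveI : Module.Flat (MvPolynomial (Fin d) k ⧸ Ke) (Λq ⧸ Ie) :=
    Module.Flat.of_linearEquiv
      ({ Ideal.quotEquivOfEq hKeΛ.symm with
        map_smul' := fun c x => by
          obtain ⟨c, rfl⟩ := Ideal.Quotient.mk_surjective c
          obtain ⟨x, rfl⟩ := Ideal.Quotient.mk_surjective x
          rfl } : (Λq ⧸ Ie) ≃ₗ[MvPolynomial (Fin d) k ⧸ Ke]
        (Λq ⧸ Ke.map (algebraMap (MvPolynomial (Fin d) k) Λq)))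
  let xF : MvPolynomial (Fin d) k →ₐ[k] MvPolynomial ((Fin d ⊕ Fin r) ⊕ Fin m) k :=
    aeval fun i => X (Sum.inl (Sum.inl i))
  let ξ : (MvPolynomial (Fin d) k ⧸ Ke) →+* Q :=
    (Ideal.Quotient.lift Ke ((Ideal.Quotient.mk (W.map f)).comp (f.comp xF.toRingHom)) (by
      have hle : Ke ≤ RingHom.ker ((Ideal.Quotient.mk (W.map f)).comp (f.comp xF.toRingHom)) :=
        Ideal.span_le.2 (by
          rintro _ ⟨i, rfl⟩
          refine Ideal.Quotient.eq_zero_iff_mem.2 (Ideal.mem_map_of_mem f ?_)
          show xF (X i ^ e) ∈ W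
          rw [map_pow, show xF (X i) = X (Sum.inl (Sum.inl i)) from aeval_X _ _]
          exact Ideal.mem_sup_right (Ideal.subset_span ⟨i, rfl⟩))
      exact fun q hq => hle hq))
  letI : Algebra (MvPolynomial (Fin d) k ⧸ Ke) Q :=
    @RingHom.toAlgebra _ _ _ (Ideal.Quotient.commSemiring _) ξ
  have hvx : ∀ q, v (xF q) = πP q := DFunLike.congr_fun
    (show v.comp xF = πP from MvPolynomial.algHom_ext fun i => by simp [v, xF, πP, val])
  let ρl : Q →ₗ[MvPolynomial (Fin d) k ⧸ Ke] Λq ⧸ Ie :=
    { toFun := ρ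
      map_add' := map_add ρ
      map_smul' := fun c x => by
        obtain ⟨c, rfl⟩ := Ideal.Quotient.mk_surjective c
        obtain ⟨x, rfl⟩ := Ideal.Quotient.mk_surjective x
        show Ideal.Quotient.mk Ie (vT (f (xF c) * x)) = Ideal.Quotient.mk Ie (πP c * vT x)
        rw [map_mul, hvT, hvx] }
  haveI : Nontrivial (MvPolynomial (Fin d) k ⧸ Ke) := Ideal.Quotient.nontrivial_iff.2 fun htop => by
    have hKP : Ke ≤ P₀ := Ideal.span_le.2 (by
      rintro _ ⟨i, rfl⟩
      exact Ideal.pow_mem_of_mem P₀ (show (X i : MvPolynomial (Fin d) k) ∈ P₀ from Ideal.subset_span ⟨i, rfl⟩) e (by omega))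
    have h0 : (1 : MvPolynomial (Fin d) k) ∈ P₀ := hKP ((Ideal.eq_top_iff_one _).mp htop)
    exact ‹P₀.IsPrime›.ne_top ((Ideal.eq_top_iff_one _).mpr h0)
  have hnilS : IsNilpotent (P₀.map (Ideal.Quotient.mk Ke)) := by
    refine (Ideal.FG.isNilpotent_iff_le_nilradical (IsNoetherian.noetherian _)).2 ?_
    rw [Ideal.map_le_iff_le_comap, Ideal.span_le]
    rintro _ ⟨i, rfl⟩
    refine mem_nilradical.2 ⟨e, ?_⟩
    rw [← map_pow]
    exact Ideal.Quotient.eq_zero_iff_mem.2 (Ideal.subset_span ⟨i, rfl⟩)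
  haveI hlocS : IsLocalRing (MvPolynomial (Fin d) k ⧸ Ke) := IsLocalRing.of_nonunits_add fun x y hx hy => by
    have key : ∀ z : MvPolynomial (Fin d) k ⧸ Ke, z ∈ nonunits _ ↔ z ∈ P₀.map (Ideal.Quotient.mk Ke) := by
      intro z
      constructor
      · intro hz
        obtain ⟨q, rfl⟩ := Ideal.Quotient.mk_surjective z
        by_contra hne
        refine hz ?_
        have hc : constantCoeff q ≠ 0 := fun hc => hne (Ideal.mem_map_of_mem _ (by
          have := hε q; rwa [hc, map_zero, sub_zero] at this))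
        have hn : IsNilpotent (Ideal.Quotient.mk Ke (q - C (constantCoeff q))) := by
          obtain ⟨n, hn⟩ := hnilS
          refine ⟨n, ?_⟩
          have := Ideal.pow_mem_pow (Ideal.mem_map_of_mem (Ideal.Quotient.mk Ke) (hε q)) n
          rw [hn] at this
          exact this
        have := hn.isUnit_add_left_of_commute (((IsUnit.mk0 _ hc).map C).map (Ideal.Quotient.mk Ke))
          (Commute.all _ _)
        rwa [← map_add, add_comm, sub_add_cancel] at this
      · intro hz hu
        obtain ⟨n, hn⟩ := hnilS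
        have := Ideal.pow_mem_pow hz n
        rw [hn] at this
        exact not_isUnit_zero (this ▸ hu.pow n)
    rw [key] at hx hy ⊢
    exact Ideal.add_mem _ hx hy
  have hmS : maximalIdeal (MvPolynomial (Fin d) k ⧸ Ke) = P₀.map (Ideal.Quotient.mk Ke) := by
    refine le_antisymm ?_ (IsLocalRing.le_maximalIdeal fun htop => ?_)
    · intro z hz
      obtain ⟨q, rfl⟩ := Ideal.Quotient.mk_surjective z
      by_cases hc : constantCoeff q = 0
      · have := hε q; rw [hc, map_zero, sub_zero] at this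
        exact Ideal.mem_map_of_mem _ this
      · exfalso
        refine hz ?_
        have hn : IsNilpotent (Ideal.Quotient.mk Ke (q - C (constantCoeff q))) := by
          obtain ⟨n, hn⟩ := hnilS
          refine ⟨n, ?_⟩
          have := Ideal.pow_mem_pow (Ideal.mem_map_of_mem (Ideal.Quotient.mk Ke) (hε q)) n
          rw [hn] at this
          exact this
        have := hn.isUnit_add_left_of_commute (((IsUnit.mk0 _ hc).map C).map (Ideal.Quotient.mk Ke))
          (Commute.all _ _)
        rwa [← map_add, add_comm, sub_add_cancel] at this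
    · obtain ⟨n, hn⟩ := hnilS
      rw [htop, Ideal.top_pow] at hn
      exact bot_ne_top hn.symm
  have hmax' : maximalIdeal (Localization.AtPrime P) ≤
      Ideal.span (Set.range fun i => f (X (Sum.inl (Sum.inl i)))) ⊔ W.map f := by
    refine hmax.trans (sup_le_sup_left (Ideal.span_le.2 ?_) _)
    rintro _ ⟨j, rfl⟩
    exact Ideal.mem_map_of_mem f (Ideal.mem_sup_left (Ideal.subset_span ⟨j, rfl⟩))
  have hmodm : ∀ n : Q, ρl n ∈ maximalIdeal (MvPolynomial (Fin d) k ⧸ Ke) • (⊤ : Submodule (MvPolynomial (Fin d) k ⧸ Ke) (Λq ⧸ Ie)) →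
      n ∈ maximalIdeal (MvPolynomial (Fin d) k ⧸ Ke) • (⊤ : Submodule (MvPolynomial (Fin d) k ⧸ Ke) Q) := by
    intro n hn
    have h1 : ρ n ∈ maximalIdeal (Λq ⧸ Ie) := by
      refine Submodule.smul_induction_on hn (fun c hc y _ => ?_) fun y z hy hz => add_mem hy hz
      rw [hmS] at hc
      obtain ⟨q, hq, rfl⟩ := (Ideal.mem_map_iff_of_surjective _ Ideal.Quotient.mk_surjective).mp hc
      rw [hmL]
      exact Ideal.mul_mem_right _ _ (Ideal.mem_map_of_mem _ (hP₀q q hq))
    obtain ⟨n, rfl⟩ := Ideal.Quotient.mk_surjective n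
    have h2 : n ∈ maximalIdeal (Localization.AtPrime P) := fun hu => h1 ((hu.map (Ideal.Quotient.mk _)).map ρ)
    obtain ⟨y, hy, z, hz, rfl⟩ := Submodule.mem_sup.mp (hmax' h2)
    rw [map_add, Ideal.Quotient.eq_zero_iff_mem.mpr hz, add_zero]
    obtain ⟨c, rfl⟩ := Ideal.mem_span_range_iff_exists_fun.mp hy
    rw [map_sum]
    refine Submodule.sum_mem _ fun i _ => ?_
    have e1 : Ideal.Quotient.mk (W.map f) (c i * f (X (Sum.inl (Sum.inl i)))) =
        Ideal.Quotient.mk Ke (X i) • (Ideal.Quotient.mk (W.map f) (c i) : Q) := by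
      refine (map_mul _ _ _).trans (Eq.trans ?_ (Algebra.smul_def _ _).symm)
      refine Eq.trans (mul_comm (Ideal.Quotient.mk (W.map f) (c i))
        (Ideal.Quotient.mk (W.map f) (f (X (Sum.inl (Sum.inl i)))))) (congrArg (· * _) ?_)
      show Ideal.Quotient.mk (W.map f) (f _) = Ideal.Quotient.mk (W.map f) (f (xF (X i)))
      rw [show xF (X i) = X (Sum.inl (Sum.inl i)) from aeval_X _ _]
    rw [e1]
    exact Submodule.smul_mem_smul (hmS ▸ Ideal.mem_map_of_mem _ (Ideal.subset_span ⟨i, rfl⟩)) trivial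
  have hinj : Function.Injective ρl :=
    injective_of_flat (hmS ▸ hnilS) ρl hmodm
  have hker : ∀ y, v y ∈ Ie → ∃ s, v s ∉ mq ∧ s * y ∈ W := fun y hy =>
    hQzero y (hinj ((show ρ (Ideal.Quotient.mk _ (f y)) = 0 from
      Ideal.Quotient.eq_zero_iff_mem.2 (by rw [hvT]; exact hy)).trans (map_zero ρl).symm))
  -- conclusion
  have hnilv : ∃ E, 2 ≤ E ∧ ∀ l, v (X (Sum.inl (Sum.inr l)) ^ E) ∈ Ie := by
    obtain ⟨n, hn⟩ := hnilL
    refine ⟨n + 2, by omega, fun l => Ideal.Quotient.eq_zero_iff_mem.1 ?_⟩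
    rw [map_pow, show v (X (Sum.inl (Sum.inr l))) = a l from aeval_X _ _, map_pow, pow_add]
    have : Ideal.Quotient.mk Ie (a l) ^ n ∈ maximalIdeal (Λq ⧸ Ie) ^ n :=
      Ideal.pow_mem_pow (hmL ▸ Ideal.mem_map_of_mem _ (ha l)) n
    rw [hn] at this
    rw [(Submodule.mem_bot _).mp this, zero_mul]
  obtain ⟨E, hE2, hE⟩ := hnilv
  refine ⟨m, v, t, g, cols, E, fun i => aeval_X _ _, fun l => aeval_X _ _, fun j => hgJ (er j), hcols,
    hE2, fun l => hker _ (hE l), hker, fun w hw => ?_⟩
  obtain ⟨num, den, hden, hnd⟩ := hfrac ⟨Ideal.Quotient.mk Ie w, hEA (by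
    simp only [EL, Finset.coe_union, Finset.coe_image]
    exact Or.inr ⟨w, hw, rfl⟩)⟩
  refine ⟨num, den, hden, ?_⟩
  rw [← Ideal.Quotient.eq_zero_iff_mem, map_sub, map_mul, sub_eq_zero]
  exact congrArg Subtype.val hnd

end Groth.Agent.SmoothingLib.CharPLocal
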