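import Groth.Agent.SmoothingLib.Elementary
import Mathlib.RingTheory.Smooth.Locus
import Mathlib.LinearAlgebra.Matrix.Rank
import Mathlib.LinearAlgebra.Matrix.NonsingularInverse
import Mathlib.RingTheory.LocalRing.ResidueField.Ideal

/-!
At a smooth point some square Jacobian minor is invertible and the corresponding relations generate
the relation ideal locally.
-/

namespace Groth.Agent.SmoothingLib

open MvPolynomial

universe u

variable {R : Type u} [CommRing R]

/-- If `t • I ⊆ J + K·I` with `I` finitely generated then some `g ≡ t ^ m (mod K)` moves `I` into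
`J`. -/
theorem exists_mul_mem_of_le_sup {P : Type u} [CommRing P] {m : ℕ} (f : Fin m → P)
    (J K : Ideal P) (t : P) (h : ∀ j, t * f j ∈ J ⊔ K * Ideal.span (Set.range f)) :
    ∃ g : P, (∀ j, g * f j ∈ J) ∧ g - t ^ m ∈ K := by
  have hM : ∀ j, ∃ M : Fin m → P, (∀ k, M k ∈ K) ∧ t * f j - ∑ k, M k * f k ∈ J := by
    intro j
    obtain ⟨y, hy, z, hz, hyz⟩ := Submodule.mem_sup.1 (h j)
    have hz' : z ∈ K • Submodule.span P (Set.range f) := hz
    obtain ⟨a, ha, hsum⟩ := (Submodule.mem_ideal_smul_span_iff_exists_sum _ _ _).1 hz'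
    refine ⟨fun k => a k, ha, ?_⟩
    have e : (∑ k, a k * f k) = z := by
      rw [← hsum, Finsupp.sum_fintype]
      · rfl
      · intro; simp
    rw [e, ← hyz, add_sub_cancel_right]
    exact hy
  choose M hMI hMJ using hM
  let X : Matrix (Fin m) (Fin m) P := t • (1 : Matrix (Fin m) (Fin m) P) - Matrix.of M
  have hXf : ∀ j, X.mulVec f j ∈ J := fun j => by
    have : X.mulVec f j = t * f j - ∑ k, M j k * f k := by
      simp [X, Matrix.sub_mulVec, Matrix.smul_mulVec, Matrix.mulVec, dotProduct, sub_mul,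
        Finset.sum_sub_distrib, Matrix.one_apply]
    rw [this]; exact hMJ j
  refine ⟨X.det, fun j => ?_, ?_⟩
  · have : X.det * f j = (X.adjugate.mulVec (X.mulVec f)) j := by
      rw [Matrix.mulVec_mulVec, Matrix.adjugate_mul, Matrix.smul_mulVec, Matrix.one_mulVec]
      rfl
    rw [this]
    show ∑ k, X.adjugate j k * X.mulVec f k ∈ J
    exact Ideal.sum_mem _ fun k _ => J.mul_mem_left _ (hXf k)
  · rw [← Ideal.Quotient.eq]
    have e : (Ideal.Quotient.mk K).mapMatrix X =
        Ideal.Quotient.mk K t • (1 : Matrix (Fin m) (Fin m) (P ⧸ K)) := by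
      ext i j
      have : Ideal.Quotient.mk K (M i j) = 0 := Ideal.Quotient.eq_zero_iff_mem.2 (hMI i j)
      simp [X, Matrix.one_apply, this, apply_ite (Ideal.Quotient.mk K)]
    rw [RingHom.map_det, e, Matrix.det_smul, Matrix.det_one, Fintype.card_fin, map_pow, mul_one]

variable {n : ℕ} {A : Type u} [CommRing A] [Algebra R A]

/-- The kernel of a localized surjection. -/
theorem exists_away_lift_kernel {Q : Type u} [CommRing Q] [Algebra R Q] {A' : Type u} [CommRing A']
    [Algebra R A'] (π₀ : Q →ₐ[R] A') (g : Q) (z : Localization.Away g)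
    (hz : IsLocalization.Away.mapₐ (Localization.Away g) (Localization.Away (π₀ g)) π₀ g z = 0) :
    ∃ (e : ℕ) (x : Q), π₀ x = 0 ∧
      z * algebraMap Q (Localization.Away g) g ^ e = algebraMap Q (Localization.Away g) x := by
  obtain ⟨k, x, hx⟩ := IsLocalization.Away.surj g z
  have h1 : algebraMap A' (Localization.Away (π₀ g)) (π₀ x) = 0 := by
    have := congrArg (IsLocalization.Away.mapₐ (Localization.Away g)
      (Localization.Away (π₀ g)) π₀ g) hx
    rw [map_mul, hz, zero_mul] at this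
    rw [this, IsLocalization.Away.mapₐ_apply, IsLocalization.Away.map, IsLocalization.map_eq]
    rfl
  obtain ⟨⟨_, l, rfl⟩, hl⟩ :=
    (IsLocalization.map_eq_zero_iff (Submonoid.powers (π₀ g)) _ _).1 h1
  refine ⟨l + k, g ^ l * x, by rw [map_mul, map_pow]; exact hl, ?_⟩
  rw [map_mul, map_pow, pow_add, mul_left_comm, hx]

theorem away_mapₐ_algebraMap {Q : Type u} [CommRing Q] [Algebra R Q] {A' : Type u} [CommRing A']
    [Algebra R A'] (π₀ : Q →ₐ[R] A') (g : Q) (x : Q) :
    IsLocalization.Away.mapₐ (Localization.Away g) (Localization.Away (π₀ g)) π₀ g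
      (algebraMap Q (Localization.Away g) x) = algebraMap A' (Localization.Away (π₀ g)) (π₀ x) := by
  rw [IsLocalization.Away.mapₐ_apply, IsLocalization.Away.map, IsLocalization.map_eq]
  rfl

theorem pderiv_expansion {n : ℕ} {B : Type u} [CommRing B] [Algebra R B]
    (ι ψ : MvPolynomial (Fin n) R →ₐ[R] B) (K : Ideal B)
    (hK : ∀ a ∈ K, ∀ b ∈ K, a * b = 0) (hX : ∀ k, ι (X k) - ψ (X k) ∈ K)
    (p : MvPolynomial (Fin n) R) :
    ι p - ψ p ∈ K ∧ ι p - ψ p = ∑ k, ι (pderiv k p) * (ι (X k) - ψ (X k)) := by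
  induction p using MvPolynomial.induction_on with
  | C r =>
    have e : ι (C r) = ψ (C r) := by rw [← algebraMap_eq, AlgHom.commutes, AlgHom.commutes]
    simp [e]
  | add p q hp hq =>
    have e : ι (p + q) - ψ (p + q) = (ι p - ψ p) + (ι q - ψ q) := by
      rw [map_add, map_add]; ring
    refine ⟨e ▸ K.add_mem hp.1 hq.1, ?_⟩
    rw [e, hp.2, hq.2, ← Finset.sum_add_distrib]
    refine Finset.sum_congr rfl fun k _ => ?_
    rw [map_add, map_add]; ring
  | mul_X p j hp =>
    have e : ι (p * X j) - ψ (p * X j) =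
        (ι p - ψ p) * ι (X j) + ι p * (ι (X j) - ψ (X j)) := by
      have := hK _ hp.1 _ (hX j)
      rw [map_mul, map_mul]
      linear_combination -this
    refine ⟨e ▸ K.add_mem (K.mul_mem_right _ hp.1) (K.mul_mem_left _ (hX j)), ?_⟩
    rw [e, hp.2, Finset.sum_mul]
    have : ι p * (ι (X j) - ψ (X j)) =
        ∑ k, (if j = k then ι p else 0) * (ι (X k) - ψ (X k)) := by simp
    rw [this, ← Finset.sum_add_distrib]
    refine Finset.sum_congr rfl fun k _ => ?_
    rw [Derivation.leibniz, pderiv_X, smul_eq_mul, smul_eq_mul, map_add, map_mul, map_mul,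
      Pi.single_apply]
    split_ifs with h1 h2 <;> first | (simp; ring) | simp_all

/-- Taylor expansion to first order, through a lift along a square-zero thickening: if `A_g` is
formally smooth, a relation with all partial derivatives in `p` lies in `p · I` up to powers of a
lift of `g`. -/
theorem exists_pow_mul_mem (φ : MvPolynomial (Fin n) R →ₐ[R] A) (hφ : Function.Surjective φ)
    {g₀ : MvPolynomial (Fin n) R}
    [Algebra.FormallySmooth R (Localization.Away (φ g₀))]
    (p : Ideal (MvPolynomial (Fin n) R)) (hIp : RingHom.ker φ.toRingHom ≤ p)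
    {y : MvPolynomial (Fin n) R} (hy : φ y = 0) (hd : ∀ k, pderiv k y ∈ p) :
    ∃ e : ℕ, g₀ ^ e * y ∈ p * RingHom.ker φ.toRingHom := by
  classical
  set I := RingHom.ker φ.toRingHom with hI
  let π₀ : MvPolynomial (Fin n) R ⧸ I ^ 2 →ₐ[R] A :=
    Ideal.Quotient.liftₐ _ φ (fun x hx => Ideal.pow_le_self (two_ne_zero' ℕ) hx)
  have hπ₀ : Function.Surjective π₀ := fun a => by
    obtain ⟨x, rfl⟩ := hφ a; exact ⟨Ideal.Quotient.mk _ x, rfl⟩
  set G := Ideal.Quotient.mk (I ^ 2) g₀ with hG
  let π := IsLocalization.Away.mapₐ (Localization.Away G) (Localization.Away (π₀ G)) π₀ G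
  have hπs : Function.Surjective π := IsLocalization.Away.mapₐ_surjective_of_surjective G hπ₀
  have hker2 : ∀ z ∈ RingHom.ker π.toRingHom, ∀ w ∈ RingHom.ker π.toRingHom, z * w = 0 := by
    intro z hz w hw
    obtain ⟨e, x, hx, hzx⟩ := exists_away_lift_kernel π₀ G z hz
    obtain ⟨e', x', hx', hwx⟩ := exists_away_lift_kernel π₀ G w hw
    obtain ⟨x, rfl⟩ := Ideal.Quotient.mk_surjective x
    obtain ⟨x', rfl⟩ := Ideal.Quotient.mk_surjective x'
    have hu : IsUnit (algebraMap _ (Localization.Away G) G ^ (e + e')) :=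
      (IsLocalization.Away.algebraMap_isUnit G).pow _
    refine hu.mul_left_eq_zero.1 ?_
    rw [pow_add, mul_mul_mul_comm, hzx, hwx, ← map_mul, ← map_mul,
      Ideal.Quotient.eq_zero_iff_mem.2 (by rw [sq]; exact Ideal.mul_mem_mul hx hx'), map_zero]
  have hnil : IsNilpotent (RingHom.ker (π : Localization.Away G →+* Localization.Away (π₀ G))) := by
    refine ⟨2, (pow_two (RingHom.ker _)).trans (eq_bot_iff.2 (Ideal.mul_le.2 ?_))⟩
    intro z hz w hw
    exact hker2 z hz w hw
  have : Algebra.FormallySmooth R (Localization.Away (π₀ G)) := ‹_›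
  let σ := Algebra.FormallySmooth.liftOfSurjective (AlgHom.id R (Localization.Away (π₀ G))) π hπs hnil
  have hσ : ∀ v, π (σ v) = v := fun v =>
    Algebra.FormallySmooth.liftOfSurjective_apply (AlgHom.id R _) π hπs hnil v
  let ι : MvPolynomial (Fin n) R →ₐ[R] Localization.Away G :=
    (IsScalarTower.toAlgHom R _ (Localization.Away G)).comp (Ideal.Quotient.mkₐ R (I ^ 2))
  let ψ : MvPolynomial (Fin n) R →ₐ[R] Localization.Away G :=
    σ.comp ((IsScalarTower.toAlgHom R A (Localization.Away (π₀ G))).comp φ)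
  have hπι : ∀ x, π (ι x) = algebraMap A (Localization.Away (π₀ G)) (φ x) := fun x =>
    away_mapₐ_algebraMap π₀ G (Ideal.Quotient.mk (I ^ 2) x)
  have hX : ∀ k, ι (X k) - ψ (X k) ∈ RingHom.ker π.toRingHom := fun k => by
    show π (ι (X k) - ψ (X k)) = 0
    rw [map_sub, hπι, sub_eq_zero]
    exact (hσ _).symm
  obtain ⟨-, hexp⟩ := pderiv_expansion ι ψ (RingHom.ker π.toRingHom) hker2 hX y
  have hψy : ψ y = 0 := by
    show σ (algebraMap A _ (φ y)) = 0
    rw [hy, map_zero, map_zero]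
  rw [hψy, sub_zero] at hexp
  have hd' : ∀ k, ∃ (e : ℕ) (z : MvPolynomial (Fin n) R), z ∈ I ∧
      (ι (X k) - ψ (X k)) * ι g₀ ^ e = ι z := fun k => by
    obtain ⟨e, x, hx, hxe⟩ := exists_away_lift_kernel π₀ G _ (hX k)
    obtain ⟨x, rfl⟩ := Ideal.Quotient.mk_surjective x
    exact ⟨e, x, hx, hxe⟩
  choose e z hzI hze using hd'
  let N := ∑ k, e k
  have h2 : ι (g₀ ^ N * y - ∑ k, pderiv k y * (g₀ ^ (N - e k) * z k)) = 0 := by
    rw [map_sub, map_mul, map_pow, map_sum, hexp, Finset.mul_sum, ← Finset.sum_sub_distrib,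
      Finset.sum_eq_zero]
    intro k _
    have hek : e k ≤ N := Finset.single_le_sum (fun i _ => Nat.zero_le _) (Finset.mem_univ k)
    rw [map_mul, map_mul, map_pow, ← hze k,
      show ι g₀ ^ N = ι g₀ ^ (N - e k) * ι g₀ ^ e k by rw [← pow_add, Nat.sub_add_cancel hek]]
    ring
  obtain ⟨⟨_, l, rfl⟩, hl⟩ :=
    (IsLocalization.map_eq_zero_iff (Submonoid.powers G) _ _).1 h2
  refine ⟨l + N, ?_⟩
  have h3 : g₀ ^ l * (g₀ ^ N * y - ∑ k, pderiv k y * (g₀ ^ (N - e k) * z k)) ∈ I ^ 2 := by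
    rw [← Ideal.Quotient.eq_zero_iff_mem, map_mul, map_pow]
    exact hl
  have h4 : g₀ ^ l * ∑ k, pderiv k y * (g₀ ^ (N - e k) * z k) ∈ p * I :=
    Ideal.mul_mem_left _ _ (Ideal.sum_mem _ fun k _ =>
      Ideal.mul_mem_mul (hd k) (Ideal.mul_mem_left _ _ (hzI k)))
  have h5 : g₀ ^ l * (g₀ ^ N * y - ∑ k, pderiv k y * (g₀ ^ (N - e k) * z k)) ∈ p * I :=
    (show I ^ 2 ≤ p * I by rw [sq]; exact Ideal.mul_mono_left hIp) h3
  rw [pow_add, mul_assoc]
  have := Ideal.add_mem _ h5 h4
  rwa [mul_sub, sub_add_cancel] at this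

end Groth.Agent.SmoothingLib
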