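import Groth.Agent.LimLib.FGSub

/-!
# Models of a scheme over a limit with étale maps to finitely presented schemes
-/

set_option autoImplicit false
set_option backward.isDefEq.respectTransparency false
set_option backward.defeqAttrib.useBackward true

universe u

open CategoryTheory Limits AlgebraicGeometry

namespace Groth.Agent.SmoothingLib.MatchModel

open Groth.Agent.LimLib

variable {I : Type u} [SmallCategory I] [IsCofiltered I] {D : I ⥤ Scheme.{u}} {c : Cone D}

/-- If `W ⟶ Z ×_B c.pt` is étale, then so is `W_j ⟶ Z ×_B D_j` at some stage. -/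
theorem exists_etale_stage (hc : IsLimit c) [∀ i, IsAffine (D.obj i)]
    {B Z : Scheme.{u}} [IsAffine B] [IsAffine Z] (rZ : Z ⟶ B) [LocallyOfFinitePresentation rZ]
    {W : Scheme.{u}} {πW : W ⟶ c.pt} {i : I} {Wi : Scheme.{u}} (fi : Wi ⟶ D.obj i) {g : W ⟶ Wi}
    [LocallyOfFinitePresentation fi] [CompactSpace Wi] [QuasiSeparatedSpace Wi]
    (h : IsPullback g πW fi (c.π.app i)) (ti : D.obj i ⟶ B) (gW : W ⟶ Z)
    (hw : gW ≫ rZ = πW ≫ c.π.app i ≫ ti)
    (het : Etale (pullback.lift (f := rZ) (g := c.π.app i ≫ ti) gW πW hw)) :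
    ∃ (j : I) (φ : j ⟶ i) (Wj : Scheme.{u}) (fj : Wj ⟶ D.obj j) (gj : W ⟶ Wj) (q : Wj ⟶ Wi)
      (hj : Wj ⟶ Z) (hh : hj ≫ rZ = fj ≫ D.map φ ≫ ti),
      LocallyOfFinitePresentation fj ∧ CompactSpace Wj ∧ QuasiSeparatedSpace Wj ∧
      IsPullback gj πW fj (c.π.app j) ∧ IsPullback q fj fi (D.map φ) ∧ gj ≫ q = g ∧ gj ≫ hj = gW ∧
      Etale (pullback.lift (f := rZ) (g := D.map φ ≫ ti) hj fj hh) := by
  let t' : bcDiag D i fi ⟶ (Functor.const (Over i)).obj B :=
    { app := fun j => pullback.fst fi (D.map j.hom) ≫ fi ≫ ti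
      naturality := fun j k a => by simp }
  obtain ⟨k, s, hs₁, hs₂⟩ := Scheme.exists_π_app_comp_eq_of_locallyOfFinitePresentation
    (bcDiag D i fi) t' rZ _ (isLimitBcCone hc h) gW (by
      ext j
      simp [t', hw, reassoc_of% h.w])
  change pullback.lift g (πW ≫ c.π.app k.left) _ ≫ s = gW at hs₁
  change s ≫ rZ = pullback.fst fi (D.map k.hom) ≫ fi ≫ ti at hs₂
  rw [pullback.condition_assoc] at hs₂
  obtain ⟨h₁, h₂, h₃, h₄⟩ := HasModel.at_finer (c := c) (f := πW) inferInstance inferInstance inferInstance h k.hom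
  let f₁ : pullback fi (D.map k.hom) ⟶ D.obj k.left := pullback.snd _ _
  let g₁ : W ⟶ pullback fi (D.map k.hom) := pullback.lift g (πW ≫ c.π.app k.left) (by simp [h.w])
  let P₁ := pullback rZ (D.map k.hom ≫ ti)
  let ε : pullback fi (D.map k.hom) ⟶ P₁ := pullback.lift s f₁ hs₂
  let qP : pullback rZ (c.π.app i ≫ ti) ⟶ P₁ :=
    pullback.lift (pullback.fst _ _) (pullback.snd _ _ ≫ c.π.app k.left) (by
      rw [pullback.condition, Category.assoc, c.w_assoc k.hom])
  have hY : IsPullback qP (pullback.snd _ _) (pullback.snd rZ (D.map k.hom ≫ ti)) (c.π.app k.left) := by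
    refine IsPullback.of_right (h₁₂ := pullback.fst _ _) (v₁₃ := rZ) (h₂₂ := D.map k.hom ≫ ti) ?_
      (by simp [qP]) (IsPullback.of_hasPullback _ _)
    rw [c.w_assoc k.hom]
    simpa [qP] using IsPullback.of_hasPullback rZ (c.π.app i ≫ ti)
  have hX : IsPullback g₁ (pullback.lift (f := rZ) (g := c.π.app i ≫ ti) gW πW hw) ε qP := by
    refine IsPullback.of_bot (v₂₁ := pullback.snd _ _) (v₂₂ := pullback.snd rZ (D.map k.hom ≫ ti)) ?_ ?_ hY
    · simpa [ε, f₁] using h₄
    · apply pullback.hom_ext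
      · simpa [ε, qP, g₁] using hs₁
      · simp [ε, qP, g₁, f₁]
  have : LocallyOfFinitePresentation ε :=
    MorphismProperty.of_postcomp (W' := @LocallyOfFiniteType) @LocallyOfFinitePresentation ε
      (pullback.snd rZ (D.map k.hom ≫ ti))
      (inferInstance : LocallyOfFiniteType (pullback.snd rZ (D.map k.hom ≫ ti)))
      (by rw [show ε ≫ pullback.snd rZ (D.map k.hom ≫ ti) = f₁ from pullback.lift_snd _ _ _]; exact h₁)
  obtain ⟨j, φ, Xj, Yj, ej, gY, pY, pX, hYj, hXj, hej⟩ :=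
    Descends.exists_stage (P := @Etale) (Q := @LocallyOfFinitePresentation) hc ε hY hX descends_etale
      inferInstance het
  have hfull : IsPullback pX (ej ≫ gY) f₁ (D.map φ) := by
    have := hXj.paste_vert hYj
    rwa [show ε ≫ pullback.snd rZ (D.map k.hom ≫ ti) = f₁ from pullback.lift_snd _ _ _] at this
  have hbig : IsPullback (pX ≫ pullback.fst fi (D.map k.hom)) (ej ≫ gY) fi (D.map (φ ≫ k.hom)) := by
    rw [D.map_comp]
    exact hfull.paste_horiz (IsPullback.of_hasPullback fi (D.map k.hom))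
  let gj : W ⟶ Xj := hfull.lift g₁ (πW ≫ c.π.app j) (by simp [g₁, f₁])
  have hh : (pX ≫ s) ≫ rZ = (ej ≫ gY) ≫ D.map (φ ≫ k.hom) ≫ ti := by
    rw [Category.assoc, hs₂, ← Category.assoc pX, hfull.w]
    simp
  have hgj : IsPullback gj πW (ej ≫ gY) (c.π.app j) := by
    refine IsPullback.of_right (h₁₂ := pX) (v₁₃ := f₁) (h₂₂ := D.map φ) ?_ (by simp [gj]) hfull
    simpa [gj] using h₄
  have : LocallyOfFinitePresentation (ej ≫ gY) := MorphismProperty.of_isPullback hbig inferInstance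
  have : CompactSpace Xj := by
    have : QuasiCompact (ej ≫ gY) := MorphismProperty.of_isPullback hbig inferInstance
    exact QuasiCompact.compactSpace_of_compactSpace (ej ≫ gY)
  have : QuasiSeparatedSpace Xj := by
    have : QuasiSeparated (ej ≫ gY) := MorphismProperty.of_isPullback hbig inferInstance
    exact quasiSeparatedSpace_of_quasiSeparated (ej ≫ gY)
  refine ⟨j, φ ≫ k.hom, Xj, ej ≫ gY, gj, pX ≫ pullback.fst _ _, pX ≫ s, hh, inferInstance, inferInstance,
    inferInstance, hgj, hbig, ?_, ?_, ?_⟩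
  · simp [gj, g₁]
  · simpa [gj] using hs₁
  · have hYbig : IsPullback (pY ≫ pullback.fst rZ (D.map k.hom ≫ ti)) gY rZ (D.map (φ ≫ k.hom) ≫ ti) := by
      rw [D.map_comp, Category.assoc]
      exact hYj.paste_horiz (IsPullback.of_hasPullback rZ (D.map k.hom ≫ ti))
    have heq : pullback.lift (f := rZ) (g := D.map (φ ≫ k.hom) ≫ ti) (pX ≫ s) (ej ≫ gY) hh =
        ej ≫ hYbig.isoPullback.hom := by
      apply pullback.hom_ext
      · rw [pullback.lift_fst, Category.assoc, IsPullback.isoPullback_hom_fst, reassoc_of% hXj.w.symm]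
        simp [ε]
      · simp
    rw [heq]
    infer_instance

/-- Base change of an étale map to a product along a map to the stage. -/
theorem etale_lift_of_isPullback {B Z Wi Di W' V : Scheme.{u}} (rZ : Z ⟶ B) (ti : Di ⟶ B) {fi : Wi ⟶ Di}
    (hi : Wi ⟶ Z) (hh : hi ≫ rZ = fi ≫ ti) (het : Etale (pullback.lift (f := rZ) (g := ti) hi fi hh))
    {q : W' ⟶ Wi} {f' : W' ⟶ V} {ρ : V ⟶ Di} (h : IsPullback q f' fi ρ)
    {tV : V ⟶ B} (htV : ρ ≫ ti = tV) (hh' : (q ≫ hi) ≫ rZ = f' ≫ tV) :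
    Etale (pullback.lift (f := rZ) (g := tV) (q ≫ hi) f' hh') := by
  subst htV
  let r : pullback rZ (ρ ≫ ti) ⟶ pullback rZ ti :=
    pullback.lift (pullback.fst _ _) (pullback.snd _ _ ≫ ρ) (by rw [pullback.condition, Category.assoc])
  have hr : IsPullback r (pullback.snd _ _) (pullback.snd rZ ti) ρ := by
    refine IsPullback.of_right (h₁₂ := pullback.fst _ _) (v₁₃ := rZ) (h₂₂ := ti) ?_
      (by simp [r]) (IsPullback.of_hasPullback _ _)
    simpa [r] using IsPullback.of_hasPullback rZ (ρ ≫ ti)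
  have hsq : IsPullback q (pullback.lift (f := rZ) (g := ρ ≫ ti) (q ≫ hi) f' hh')
      (pullback.lift (f := rZ) (g := ti) hi fi hh) r := by
    refine IsPullback.of_bot (v₂₁ := pullback.snd _ _) (v₂₂ := pullback.snd rZ ti) ?_ ?_ hr
    · simpa using h
    · apply pullback.hom_ext
      · simp [r]
      · simp [r, h.w]
  exact MorphismProperty.of_isPullback hsq het

end Groth.Agent.SmoothingLib.MatchModel
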