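import Mathlib

/-!
# Lifting a field along a nilpotent thickening with prescribed values on a basis of differentials
-/

set_option autoImplicit false
universe u

open TensorProduct KaehlerDifferential

namespace Groth.Agent.SmoothingLib.PBasisLift

variable {k₀ κ : Type u} [CommRing k₀] [CommRing κ] [Algebra k₀ κ] [Algebra.FormallySmooth k₀ κ]
  {ι : Type u} (x : ι → κ) (b : Module.Basis ι κ (Ω[κ⁄k₀]))

/-- Lifts along a nilpotent ideal, with prescribed values on elements whose differentials form a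
basis. -/
theorem exists_lift (hb : ∀ i, b i = D k₀ κ (x i)) {S : Type u} [CommRing S] [Algebra k₀ S]
    (I : Ideal S) (hI : IsNilpotent I) (u : κ →ₐ[k₀] S ⧸ I) (g : ι → S)
    (hg : ∀ i, Ideal.Quotient.mk I (g i) = u (x i)) :
    ∃ v : κ →ₐ[k₀] S, (∀ i, v (x i) = g i) ∧ (Ideal.Quotient.mkₐ k₀ I).comp v = u := by
  revert g u
  revert ‹Algebra k₀ S›
  apply Ideal.IsNilpotent.induction_on (S := S) I hI
  · intro S _ I hI _ u g hg
    let v₀ : κ →ₐ[k₀] S := Algebra.FormallySmooth.lift I ⟨2, hI⟩ u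
    have hv₀ : (Ideal.Quotient.mkₐ k₀ I).comp v₀ = u := Algebra.FormallySmooth.comp_lift I _ u
    letI : Algebra κ S := v₀.toRingHom.toAlgebra
    haveI : IsScalarTower k₀ κ S := IsScalarTower.of_algebraMap_eq fun r => (v₀.commutes r).symm
    have hmem : ∀ i, g i - v₀ (x i) ∈ I := fun i => by
      rw [← Ideal.Quotient.eq, hg i, ← hv₀]
      rfl
    let w : ι → I := fun i => ⟨g i - v₀ (x i), hmem i⟩
    let d : Derivation k₀ κ I := (b.constr ℕ w).compDer (D k₀ κ)
    refine ⟨liftOfDerivationToSquareZero I hI d, fun i => ?_, ?_⟩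
    · have h : d (x i) = w i := by
        show b.constr ℕ w (D k₀ κ (x i)) = w i
        rw [← hb i, Module.Basis.constr_basis]
      rw [liftOfDerivationToSquareZero_apply, h]
      show (g i - v₀ (x i)) + v₀ (x i) = g i
      ring
    · rw [← hv₀]
      ext y
      exact (liftOfDerivationToSquareZero_mk_apply I hI d y).trans rfl
  · intro S _ I J hIJ hI' hJ' _ u g hg
    let e : ((S ⧸ I) ⧸ J.map (Ideal.Quotient.mk I)) ≃ₐ[k₀] S ⧸ J :=
      (DoubleQuot.quotQuotEquivQuotSupₐ k₀ I J).trans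
        (Ideal.quotientEquivAlgOfEq k₀ (sup_eq_right.mpr hIJ))
    have he : ∀ s : S, e (Ideal.Quotient.mk _ (Ideal.Quotient.mk I s)) = Ideal.Quotient.mk J s :=
      fun s => rfl
    obtain ⟨v₁, hv₁, hv₁'⟩ := hJ' (e.symm.toAlgHom.comp u) (fun i => Ideal.Quotient.mk I (g i))
      (fun i => e.injective (by rw [he, hg]; exact (e.apply_symm_apply _).symm))
    obtain ⟨v, hv, hv'⟩ := hI' v₁ g (fun i => (hv₁ i).symm)
    refine ⟨v, hv, AlgHom.ext fun y => ?_⟩
    show Ideal.Quotient.mk J (v y) = u y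
    rw [← he, show Ideal.Quotient.mk I (v y) = v₁ y from DFunLike.congr_fun hv' y,
      show Ideal.Quotient.mk (J.map (Ideal.Quotient.mk I)) (v₁ y) = e.symm (u y) from
        DFunLike.congr_fun hv₁' y]
    exact e.apply_symm_apply _

end Groth.Agent.SmoothingLib.PBasisLift
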