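import Groth.Agent.SmoothingLib.PopescuField
import Groth.Agent.GeomFieldLib.HomBC
import Groth.Agent.RedNorm.Basic
import Mathlib.RingTheory.Smooth.Pi

/-!
Smooth factorizations over a finite product of rings, and residue fields.
-/

namespace Groth.Agent.SmoothingLib.PopescuPi

open TensorProduct

universe u

variable {R Λ : Type u} [CommRing R] [CommRing Λ] [Algebra R Λ]

theorem smooth_eval {ι : Type u} [Finite ι] [DecidableEq ι] (K : ι → Type u) [∀ i, CommRing (K i)] (i : ι) :
    letI : Algebra (∀ j, K j) (K i) := (Pi.evalRingHom K i).toAlgebra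
    Algebra.Smooth (∀ j, K j) (K i) := by
  letI : Algebra (∀ j, K j) (K i) := (Pi.evalRingHom K i).toAlgebra
  haveI : IsLocalization.Away (Pi.single i 1 : ∀ j, K j) (K i) := by
    refine IsLocalization.away_of_isIdempotentElem ?_ (RingHom.ker_evalRingHom _ _)
      ((Pi.evalRingHom K i).surjective)
    simp [IsIdempotentElem, ← Pi.single_mul_left]
  haveI : Algebra.FormallyEtale (∀ j, K j) (K i) :=
    Algebra.FormallyEtale.of_isLocalization (Submonoid.powers (Pi.single i 1 : ∀ j, K j))
  exact ⟨inferInstance, IsLocalization.Away.finitePresentation (Pi.single i 1 : ∀ j, K j)⟩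

/-- The tensor product with a finite product maps bijectively to the product. -/
theorem bijective_pi_map {ι : Type u} [Finite ι] (K : ι → Type u) [∀ i, CommRing (K i)]
    [∀ i, Algebra R (K i)] :
    Function.Bijective (fun (z : (∀ j, K j) ⊗[R] Λ) (i : ι) =>
      Algebra.TensorProduct.map (Pi.evalAlgHom R K i) (AlgHom.id R Λ) z) := by
  classical
  haveI : Fintype ι := Fintype.ofFinite ι
  let inc : ∀ i, K i ⊗[R] Λ →ₗ[R] (∀ j, K j) ⊗[R] Λ := fun i =>
    LinearMap.rTensor Λ (LinearMap.single R K i)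
  have h1 : ∀ z : (∀ j, K j) ⊗[R] Λ,
      ∑ i, inc i (Algebra.TensorProduct.map (Pi.evalAlgHom R K i) (AlgHom.id R Λ) z) = z := by
    intro z
    induction z using TensorProduct.induction_on with
    | zero => simp
    | tmul s l =>
      simp only [Algebra.TensorProduct.map_tmul, inc, LinearMap.rTensor_tmul, AlgHom.id_apply,
        LinearMap.coe_single]
      rw [← TensorProduct.sum_tmul]
      congr 1
      exact Finset.univ_sum_single s
    | add x y hx hy => simp only [map_add, Finset.sum_add_distrib, hx, hy]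
  have h2 : ∀ (i j : ι) (y : K i ⊗[R] Λ),
      Algebra.TensorProduct.map (Pi.evalAlgHom R K j) (AlgHom.id R Λ) (inc i y) =
        (Pi.single i y : ∀ j, K j ⊗[R] Λ) j := by
    intro i j y
    induction y using TensorProduct.induction_on with
    | zero => simp
    | tmul s l =>
      simp only [Algebra.TensorProduct.map_tmul, inc, LinearMap.rTensor_tmul, AlgHom.id_apply,
        LinearMap.coe_single, Pi.evalAlgHom_apply]
      by_cases hij : j = i
      · subst hij; simp
      · simp [Pi.single_eq_of_ne hij]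
    | add x y hx hy => simp only [map_add, hx, hy, Pi.single_add, Pi.add_apply]
  refine ⟨fun x y hxy => ?_, fun w => ⟨∑ i, inc i (w i), funext fun j => ?_⟩⟩
  · rw [← h1 x, ← h1 y]
    exact Finset.sum_congr rfl fun i _ => congrArg (inc i) (congrFun hxy i)
  · show Algebra.TensorProduct.map (Pi.evalAlgHom R K j) (AlgHom.id R Λ) (∑ i, inc i (w i)) = w j
    rw [map_sum]
    simp only [h2]
    rw [← Finset.sum_apply, Finset.univ_sum_single]

set_option maxHeartbeats 800000 in
/-- Smooth factorizations componentwise give one over the product. -/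
theorem exists_smooth_pi {ι : Type u} [Finite ι] (K : ι → Type u) [∀ i, CommRing (K i)]
    [∀ i, Algebra R (K i)] (H : ∀ i, Smoothing.IndSmooth (K i) (K i ⊗[R] Λ))
    {A : Type u} [CommRing A] [Algebra R A] [Algebra.FinitePresentation R A] (φ : A →ₐ[R] Λ) :
    ∃ (B : Type u) (_ : CommRing B) (_ : Algebra (∀ j, K j) B), Algebra.Smooth (∀ j, K j) B ∧
      ∃ (g : (∀ j, K j) ⊗[R] A →ₐ[∀ j, K j] B) (h : B →ₐ[∀ j, K j] (∀ j, K j) ⊗[R] Λ),
        h.comp g = Algebra.TensorProduct.map (AlgHom.id (∀ j, K j) (∀ j, K j)) φ := by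
  classical
  choose C _ _ hC g k hgk using fun i => H i (K i ⊗[R] A) inferInstance
    (Algebra.TensorProduct.map (AlgHom.id (K i) (K i)) φ)
  letI : ∀ i, Algebra (∀ j, K j) (C i) := fun i =>
    ((algebraMap (K i) (C i)).comp (Pi.evalRingHom K i)).toAlgebra
  haveI : ∀ i, Algebra.Smooth (∀ j, K j) (C i) := fun i => by
    letI : Algebra (∀ j, K j) (K i) := (Pi.evalRingHom K i).toAlgebra
    haveI : IsScalarTower (∀ j, K j) (K i) (C i) := IsScalarTower.of_algebraMap_eq fun _ => rfl
    haveI := smooth_eval K i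
    haveI := hC i
    exact Algebra.Smooth.comp (∀ j, K j) (K i) (C i)
  letI : Algebra (∀ j, K j) (∀ i, C i) := Pi.algebra ι C
  haveI : Algebra.Smooth (∀ j, K j) (∀ i, C i) :=
    ⟨(Algebra.FormallySmooth.pi_iff C).2 fun i => (inferInstance : Algebra.Smooth (∀ j, K j) (C i)).formallySmooth,
      Algebra.FinitePresentation.pi C⟩
  letI : ∀ i, Algebra R (C i) := fun i => ((algebraMap (K i) (C i)).comp (algebraMap R (K i))).toAlgebra
  haveI : ∀ i, IsScalarTower R (K i) (C i) := fun i => IsScalarTower.of_algebraMap_eq fun _ => rfl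
  haveI : @IsScalarTower R (∀ j, K j) (∀ i, C i) Algebra.toSMul Algebra.toSMul Algebra.toSMul :=
    IsScalarTower.of_algebraMap_eq fun _ => rfl
  let gA : A →ₐ[R] (∀ i, C i) := Pi.algHom R C fun i =>
    ((g i).restrictScalars R).comp Algebra.TensorProduct.includeRight
  let G : (∀ j, K j) ⊗[R] A →ₐ[∀ j, K j] (∀ i, C i) :=
    Algebra.TensorProduct.lift (Algebra.ofId (∀ j, K j) (∀ i, C i)) gA fun _ _ => Commute.all _ _
  let Φ : (∀ j, K j) ⊗[R] Λ ≃+* (∀ i, K i ⊗[R] Λ) := RingEquiv.ofBijective
    (Pi.ringHom fun i => (Algebra.TensorProduct.map (Pi.evalAlgHom R K i) (AlgHom.id R Λ)).toRingHom)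
    (bijective_pi_map K)
  let km : (∀ i, C i) →+* (∀ i, K i ⊗[R] Λ) :=
    Pi.ringHom fun i => (k i).toRingHom.comp (Pi.evalRingHom C i)
  refine ⟨∀ i, C i, inferInstance, inferInstance, inferInstance, G,
    { Φ.symm.toRingHom.comp km with
      commutes' := fun s => by
        show Φ.symm (km _) = _
        rw [RingEquiv.symm_apply_eq]
        funext i
        show k i (algebraMap (K i) (C i) (s i)) = _
        rw [(k i).commutes]
        show _ = Algebra.TensorProduct.map (Pi.evalAlgHom R K i) (AlgHom.id R Λ) (s ⊗ₜ[R] (1 : Λ))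
        rw [Algebra.TensorProduct.map_tmul, map_one]
        rfl },
    Algebra.TensorProduct.ext' fun s a => ?_⟩
  show Φ.symm (km (G (s ⊗ₜ[R] a))) = _
  rw [RingEquiv.symm_apply_eq]
  funext i
  show k i (algebraMap (K i) (C i) (s i) * g i ((1 : K i) ⊗ₜ[R] a)) =
    Algebra.TensorProduct.map (Pi.evalAlgHom R K i) (AlgHom.id R Λ)
      (Algebra.TensorProduct.map (AlgHom.id (∀ j, K j) (∀ j, K j)) φ (s ⊗ₜ[R] a))
  rw [map_mul, (k i).commutes, show k i (g i ((1 : K i) ⊗ₜ[R] a)) = _ from DFunLike.congr_fun (hgk i) _,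
    Algebra.TensorProduct.map_tmul, Algebra.TensorProduct.map_tmul, Algebra.TensorProduct.map_tmul,
    Algebra.TensorProduct.algebraMap_apply, Algebra.TensorProduct.tmul_mul_tmul]
  simp

/-- The base change to a field with the residue field of a prime is geometrically regular. -/
theorem geomRegular_tensor_frac [IsNoetherianRing Λ] (hreg : CAlg.IsRegularHom R Λ) (p : Ideal R) [p.IsPrime] :
    IsNoetherianRing (FractionRing (R ⧸ p) ⊗[R] Λ) ∧
      CAlg.IsGeometricallyRegular (FractionRing (R ⧸ p)) (FractionRing (R ⧸ p) ⊗[R] Λ) := by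
  obtain ⟨hN, hG⟩ := hreg.2 p
  haveI := hN
  let e : p.ResidueField ≃ₐ[R] FractionRing (R ⧸ p) :=
    (IsLocalization.algEquiv (nonZeroDivisors (R ⧸ p)) p.ResidueField
      (FractionRing (R ⧸ p))).restrictScalars R
  haveI hN' : IsNoetherianRing (FractionRing (R ⧸ p) ⊗[R] Λ) :=
    isNoetherianRing_of_ringEquiv (p.Fiber Λ)
      (Algebra.TensorProduct.congr e (AlgEquiv.refl (R := R) (A₁ := Λ))).toRingEquiv
  letI : Algebra p.ResidueField (FractionRing (R ⧸ p)) := e.toAlgHom.toRingHom.toAlgebra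
  haveI : IsScalarTower R p.ResidueField (FractionRing (R ⧸ p)) :=
    IsScalarTower.of_algebraMap_eq fun r => (e.commutes r).symm
  let f := Algebra.TensorProduct.cancelBaseChange R p.ResidueField (FractionRing (R ⧸ p))
    (FractionRing (R ⧸ p)) Λ
  haveI : IsNoetherianRing (FractionRing (R ⧸ p) ⊗[p.ResidueField] (p.Fiber Λ)) :=
    isNoetherianRing_of_ringEquiv (FractionRing (R ⧸ p) ⊗[R] Λ) f.symm.toRingEquiv
  exact ⟨hN', EGA4Lib.isGeometricallyRegular_congr _ _ f
    (GeomFieldLib.isGeometricallyRegular_extend p.ResidueField (FractionRing (R ⧸ p)) (p.Fiber Λ) hG)⟩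

end Groth.Agent.SmoothingLib.PopescuPi
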