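import Groth.Agent.SmoothingLib.FreeKaehler
import Mathlib.LinearAlgebra.FreeModule.StrongRankCondition

/-!
A power of an element is strictly standard if the open it cuts out is smooth with stably free
differentials.
-/

namespace Groth.Agent.SmoothingLib.StrictPow

open MvPolynomial FreeKaehler

universe u

variable {R : Type u} [CommRing R] {A : Type u} [CommRing A] [Algebra R A] {n m : ℕ}
  {f : Fin m → MvPolynomial (Fin n) R} {φ : MvPolynomial (Fin n) R →ₐ[R] A}

theorem rel_lift_mem (hker : RingHom.ker φ.toRingHom = Ideal.span (Set.range f)) {v : Fin m → A}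
    (hv : Rel f φ v) (p : Fin m → MvPolynomial (Fin n) R) (hp : ∀ j, φ (p j) = v j) :
    ∑ j, p j * f j ∈ Ideal.span (Set.range f) ^ 2 := by
  obtain ⟨q, hq, hmem⟩ := hv
  have h : ∑ j, (p j - q j) * f j ∈ Ideal.span (Set.range f) ^ 2 := by
    refine Ideal.sum_mem _ fun j _ => ?_
    rw [pow_two]
    refine Ideal.mul_mem_mul ?_ (Ideal.subset_span ⟨j, rfl⟩)
    rw [← hker]
    show φ (p j - q j) = 0
    rw [map_sub, hp, hq, sub_self]
  have := Ideal.add_mem _ h hmem
  simpa [sub_mul, Finset.sum_sub_distrib] using this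

theorem rel_combination {ι : Type*} (s : Finset ι) (hφ : Function.Surjective φ) (c : ι → A)
    (v : ι → Fin m → A) (hv : ∀ i, Rel f φ (v i)) :
    Rel f φ fun j => ∑ i ∈ s, c i * v i j := by
  choose p hp hmem using hv
  choose q hq using fun i => hφ (c i)
  refine ⟨fun j => ∑ i ∈ s, q i * p i j, fun j => by simp [map_sum, hq, hp], ?_⟩
  simp only [Finset.sum_mul, mul_assoc]
  rw [Finset.sum_comm]
  exact Ideal.sum_mem _ fun i _ => by rw [← Finset.mul_sum]; exact Ideal.mul_mem_left _ _ (hmem i)

/-- over the smooth open, the Jacobian is injective on the conormal module -/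
theorem exists_pow_rel (hφ : Function.Surjective φ)
    (hker : RingHom.ker φ.toRingHom = Ideal.span (Set.range f)) (a : A)
    [Algebra.Smooth R (Localization.Away a)] :
    ∃ M : ℕ, ∀ v : Fin m → A, (∀ k, ∑ j, φ (pderiv k (f j)) * v j = 0) →
      Rel f φ fun j => a ^ M * v j := by
  classical
  obtain ⟨N, P, hP⟩ := exists_splitting f φ hφ hker a
  choose l hl using hP
  refine ⟨N + ∑ j, l j, fun v hv => ?_⟩
  have h := rel_combination Finset.univ hφ (fun j => v j * a ^ ((∑ j, l j) - l j)) _ hl
  convert h using 1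
  funext i
  have hL : ∀ j, l j ≤ ∑ j, l j := fun j =>
    Finset.single_le_sum (fun i _ => Nat.zero_le _) (Finset.mem_univ j)
  simp only [mul_sub, Finset.sum_sub_distrib, mul_ite, mul_zero, Finset.sum_ite_eq, Finset.mem_univ,
    if_true, Finset.mul_sum]
  have h0 : ∑ j, ∑ k, v j * a ^ ((∑ j, l j) - l j) * (a ^ l j * (φ (pderiv k (f j)) * P i k)) = 0 := by
    rw [Finset.sum_comm]
    refine Finset.sum_eq_zero fun k _ => ?_
    refine Eq.trans (Finset.sum_congr rfl fun j _ => ?_) (by rw [← Finset.mul_sum, hv k, mul_zero] :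
      ∑ j, a ^ (∑ j, l j) * P i k * (φ (pderiv k (f j)) * v j) = 0)
    rw [← Nat.sub_add_cancel (hL j), pow_add]
    simp only [Nat.sub_add_cancel (hL j)]
    ring
  rw [h0, sub_zero, mul_assoc, ← pow_add, mul_comm]
  congr 2
  have := hL i
  omega

theorem det_mem_span {S : Type u} [CommRing S] {c k : ℕ} (W : Matrix (Fin c) (Fin k) S)
    (J : Matrix (Fin c) (Fin k) S) :
    Matrix.det (J * W.transpose) ∈ Ideal.span (Set.range fun cols : Fin c → Fin k =>
      Matrix.det (Matrix.of fun i l : Fin c => J i (cols l))) := by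
  classical
  rw [← Matrix.det_transpose, Matrix.transpose_mul, Matrix.transpose_transpose]
  have h : (W * J.transpose) = Matrix.of fun l => ∑ x, W l x • J.transpose x := by
    ext l i; simp [Matrix.mul_apply, Finset.sum_apply]
  rw [h]
  change Matrix.detRowAlternating (fun l => ∑ x, W l x • J.transpose x) ∈ _
  rw [← AlternatingMap.coe_multilinearMap, MultilinearMap.map_sum]
  refine Ideal.sum_mem _ fun cols _ => ?_
  rw [MultilinearMap.map_smul_univ, smul_eq_mul]
  refine Ideal.mul_mem_left _ _ (Ideal.subset_span ⟨cols, ?_⟩)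
  show Matrix.det (Matrix.of fun i l : Fin c => J i (cols l)) = _
  rw [← Matrix.det_transpose]
  rfl

set_option maxHeartbeats 400000 in
theorem isStrictlyStandard_of_frame (hφ : Function.Surjective φ)
    (hker : RingHom.ker φ.toRingHom = Ideal.span (Set.range f)) (a : A)
    [Algebra.Smooth R (Localization.Away a)] {c : ℕ} (hcn : c ≤ n)
    (V : Matrix (Fin m) (Fin c) (Localization.Away a)) (W : Matrix (Fin c) (Fin n) (Localization.Away a))
    (G : Matrix (Fin n) (Fin m) (Localization.Away a))
    (hG : ∀ k j, G k j = algebraMap A _ (φ (pderiv k (f j))))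
    (hWU : W * (G * V) = 1) (hUW : G * V * (W * G) = G) :
    ∃ e₀ : ℕ, ∀ e : ℕ, e₀ ≤ e → Smoothing.IsStrictlyStandard R A (a ^ e) := by
  classical
  let S := Localization.Away a
  let al : A →+* S := algebraMap A S
  let Gt : Matrix (Fin n) (Fin m) A := Matrix.of fun k j => φ (pderiv k (f j))
  have hGt : Gt.map al = G := by ext k j; exact (hG k j).symm
  obtain ⟨⟨_, s₁, rfl⟩, h₁⟩ := IsLocalization.exist_integer_multiples (Submonoid.powers a)
    Finset.univ fun x : Fin m × Fin c => V x.1 x.2
  obtain ⟨⟨_, s₂, rfl⟩, h₂⟩ := IsLocalization.exist_integer_multiples (Submonoid.powers a)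
    Finset.univ fun x : Fin c × Fin n => W x.1 x.2
  choose V' hV' using fun x => h₁ x (Finset.mem_univ x)
  choose W' hW' using fun x => h₂ x (Finset.mem_univ x)
  let Vt : Matrix (Fin m) (Fin c) A := Matrix.of fun i j => V' (i, j)
  let Wt : Matrix (Fin c) (Fin n) A := Matrix.of fun i j => W' (i, j)
  have hVt : Vt.map al = al (a ^ s₁) • V := by
    ext i j; exact (hV' (i, j)).trans (Algebra.smul_def _ _)
  have hWt : Wt.map al = al (a ^ s₂) • W := by
    ext i j; exact (hW' (i, j)).trans (Algebra.smul_def _ _)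
  choose vp hv using fun x : Fin m × Fin c => hφ (Vt x.1 x.2)
  let g : Fin c → MvPolynomial (Fin n) R := fun t => ∑ j, vp (j, t) * f j
  have hfI : ∀ j, φ (f j) = 0 := fun j => by
    have h1 : f j ∈ Ideal.span (Set.range f) := Ideal.subset_span ⟨j, rfl⟩
    rw [← hker] at h1; exact h1
  have hjac : ∀ k t, φ (pderiv k (g t)) = (Gt * Vt) k t := by
    intro k t
    simp only [g, map_sum, Derivation.leibniz, smul_eq_mul, map_add, map_mul, hfI, zero_mul,
      add_zero, hv, Matrix.mul_apply]
    exact Finset.sum_congr rfl fun j _ => mul_comm _ _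
  -- tail
  let v : Fin m → Fin m → A := fun j i =>
    (if i = j then a ^ (s₁ + s₂) else 0) - (Vt * (Wt * Gt)) i j
  have hGv : ∀ j k, al (∑ i, φ (pderiv k (f i)) * v j i) = 0 := by
    intro j k
    have h : (Gt * (Vt * (Wt * Gt))).map al = al (a ^ (s₁ + s₂)) • G := by
      rw [Matrix.map_mul, Matrix.map_mul, Matrix.map_mul, hGt, hVt, hWt, Matrix.smul_mul,
        Matrix.smul_mul, Matrix.mul_smul, Matrix.mul_smul, Matrix.mul_smul, smul_smul, ← map_mul,
        ← pow_add, ← Matrix.mul_assoc, hUW]
    have h' := congrFun (congrFun h k) j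
    simp only [Matrix.map_apply, Matrix.mul_apply (M := Gt), map_sum, Matrix.smul_apply, smul_eq_mul,
      Gt, Matrix.of_apply] at h'
    simp only [v, mul_sub, Finset.sum_sub_distrib, mul_ite, mul_zero, Finset.sum_ite_eq',
      Finset.mem_univ, if_true, map_sub, map_sum, map_mul]
    rw [sub_eq_zero, hG] at *
    rw [mul_comm (al (φ _)) (al (a ^ _)), ← h']
    exact Finset.sum_congr rfl fun i _ => map_mul al _ _
  choose e₁ he₁ using fun x : Fin m × Fin n =>
    (IsLocalization.map_eq_zero_iff (Submonoid.powers a) S _).1 (hGv x.1 x.2)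
  choose d hd using fun x => (e₁ x).2
  obtain ⟨M, hM⟩ := exists_pow_rel hφ hker a
  let D := ∑ x, d x
  have hrel : ∀ j, Rel f φ fun i => a ^ M * (a ^ D * v j i) := fun j => hM _ fun k => by
    have h0 := he₁ (j, k)
    rw [← hd (j, k)] at h0
    obtain ⟨r, hr⟩ := Nat.exists_eq_add_of_le
      (Finset.single_le_sum (fun i _ => Nat.zero_le _) (Finset.mem_univ (j, k)) : d (j, k) ≤ D)
    have e : ∀ i, φ (pderiv k (f i)) * (a ^ D * v j i) =
        a ^ r * (a ^ d (j, k) * (φ (pderiv k (f i)) * v j i)) := fun i => by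
      rw [show a ^ D = a ^ d (j, k) * a ^ r by rw [← pow_add]; exact congrArg (a ^ ·) hr]; ring
    simp only [e, ← Finset.mul_sum, h0, mul_zero]
  -- minors
  have hmin : ∃ e₂ : ℕ, a ^ e₂ ∈ Ideal.span (Set.range fun cols : Fin c → Fin n =>
      Matrix.det (Matrix.of fun t l : Fin c => (Gt * Vt) (cols l) t)) := by
    set Im := Ideal.span (Set.range fun cols : Fin c → Fin n =>
      Matrix.det (Matrix.of fun t l : Fin c => (Gt * Vt) (cols l) t))
    have h := det_mem_span W ((Gt * Vt).map al).transpose
    rw [← Matrix.transpose_mul, Matrix.det_transpose, Matrix.map_mul, hGt, hVt, Matrix.mul_smul,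
      Matrix.mul_smul, hWU, Matrix.det_smul, Matrix.det_one, mul_one] at h
    have h' : al ((a ^ s₁) ^ Fintype.card (Fin c)) ∈ Im.map al := by
      rw [map_pow]
      refine Ideal.span_le.2 ?_ h
      rintro _ ⟨cols, rfl⟩
      have hm : al (Matrix.det (Matrix.of fun t l : Fin c => (Gt * Vt) (cols l) t)) ∈ Im.map al :=
        Ideal.mem_map_of_mem _ (Ideal.subset_span ⟨cols, rfl⟩)
      rw [RingHom.map_det] at hm
      convert hm using 1
      rw [← Matrix.mul_smul, ← hVt, ← hGt, ← Matrix.map_mul]
      rfl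
    obtain ⟨t, ⟨r, rfl⟩, ht⟩ :=
      (IsLocalization.algebraMap_mem_map_algebraMap_iff (Submonoid.powers a) S Im _).1 h'
    exact ⟨r + s₁ * Fintype.card (Fin c), by rw [pow_add, pow_mul]; exact ht⟩
  obtain ⟨e₂, he₂⟩ := hmin
  obtain ⟨a', ha'⟩ := hφ a
  choose wp hw using fun x : Fin c × Fin m => hφ ((Wt * Gt) x.1 x.2)
  have hspan : Ideal.span (Set.range f) = Ideal.span (Set.range (Fin.append g f)) := by
    refine le_antisymm (Ideal.span_mono ?_) (Ideal.span_le.2 ?_)
    · rintro _ ⟨j, rfl⟩
      exact ⟨Fin.natAdd c j, Fin.append_right g f j⟩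
    · rintro _ ⟨i, rfl⟩
      refine Fin.addCases (fun t => ?_) (fun j => ?_) i
      · rw [Fin.append_left]
        exact Ideal.sum_mem _ fun j _ => Ideal.mul_mem_left _ _ (Ideal.subset_span ⟨j, rfl⟩)
      · rw [Fin.append_right]
        exact Ideal.subset_span ⟨j, rfl⟩
  let Pr : Smoothing.MarkedPresentation R A :=
    { n := n, m := c + m, c := c, hcn := hcn, hcm := Nat.le_add_right c m, rel := Fin.append g f,
      hom := φ, surj := hφ, ker_eq := hker.trans hspan }
  have hcast : ∀ t : Fin c, Fin.append g f (Fin.castLE (Nat.le_add_right c m) t) = g t := fun t =>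
    Fin.append_left g f t
  refine ⟨e₂ + (M + D + (s₁ + s₂)), fun e he => ⟨Pr, ?_, ?_⟩⟩
  · obtain ⟨r, rfl⟩ := Nat.exists_eq_add_of_le (le_trans (Nat.le_add_right _ _) he)
    rw [pow_add]
    refine Ideal.mul_mem_right _ _ ?_
    convert he₂ using 5 with cols
    show φ (Smoothing.jacobianMinor (Fin.append g f) (Fin.castLE _) cols) = _
    rw [Smoothing.jacobianMinor, AlgHom.map_det]
    congr 1
    ext t l
    simp only [AlgHom.mapMatrix_apply, Matrix.map_apply, Matrix.of_apply, hcast, hjac]
  · intro a₁ ha₁ j hj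
    obtain ⟨r, rfl⟩ := Nat.exists_eq_add_of_le (le_trans (Nat.le_add_left _ _) he)
    obtain ⟨i₀, rfl⟩ : ∃ i₀, j = Fin.natAdd c i₀ := by
      refine ⟨⟨(j : ℕ) - c, by have := j.2; change (j : ℕ) < c + m at this; change c ≤ (j : ℕ) at hj; omega⟩, ?_⟩
      ext; change (j : ℕ) = c + ((j : ℕ) - c); change c ≤ (j : ℕ) at hj; omega
    change a₁ * Fin.append g f (Fin.natAdd c i₀) ∈ _ ⊔ Ideal.span (Set.range (Fin.append g f)) ^ 2
    rw [← hspan, Fin.append_right]
    set I := Ideal.span (Set.range f)
    let p : Fin m → MvPolynomial (Fin n) R := fun i => (if i = i₀ then a₁ else 0) -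
      a' ^ (M + D + r) * ∑ t, vp (i, t) * wp (t, i₀)
    have hp : ∀ i, φ (p i) = a ^ r * (a ^ M * (a ^ D * v i₀ i)) := by
      intro i
      simp only [p, v, map_sub, map_mul, map_pow, map_sum, hv, hw, ha', apply_ite φ, map_zero,
        ← Matrix.mul_apply, mul_sub, mul_ite, mul_zero]
      congr 1
      · rw [ha₁]
        congr 1
        simp only [← mul_assoc, ← pow_add]
        congr 1
        omega
      · simp only [← mul_assoc, ← pow_add]
        congr 2
        omega
    have hmem := rel_lift_mem hker (rel_combination {()} hφ (fun _ => a ^ r) _ fun _ => hrel i₀) p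
      (fun i => by simpa using hp i)
    have hdec : ∑ i, p i * f i = a₁ * f i₀ - ∑ t, a' ^ (M + D + r) * wp (t, i₀) * g t := by
      simp only [p, sub_mul, Finset.sum_sub_distrib, ite_mul, zero_mul, Finset.sum_ite_eq',
        Finset.mem_univ, if_true, g, Finset.mul_sum, Finset.sum_mul]
      rw [Finset.sum_comm]
      congr 1
      exact Finset.sum_congr rfl fun t _ => Finset.sum_congr rfl fun i _ => by ring
    rw [eq_add_of_sub_eq hdec.symm, add_comm]
    refine Submodule.add_mem_sup (Ideal.sum_mem _ fun t _ => Ideal.mul_mem_left _ _ ?_) hmem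
    exact Ideal.subset_span ⟨Fin.castLE (Nat.le_add_right c m) t, t.2, hcast t⟩

theorem isStrictlyStandard_zero [Algebra.FinitePresentation R A] :
    Smoothing.IsStrictlyStandard R A (0 : A) := by
  obtain ⟨n, φ, hφ, hfg⟩ := ‹Algebra.FinitePresentation R A›.out
  obtain ⟨m, f, hf⟩ := Submodule.fg_iff_exists_fin_generating_family.1 hfg
  refine ⟨⟨n, m, 0, Nat.zero_le _, Nat.zero_le _, f, φ, hφ, hf.symm⟩, Submodule.zero_mem _,
    fun a' ha' j _ => Submodule.mem_sup_right ?_⟩
  rw [pow_two]
  refine Ideal.mul_mem_mul ?_ (Ideal.subset_span ⟨j, rfl⟩)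
  change a' ∈ Ideal.span (Set.range f)
  rw [show Ideal.span (Set.range f) = RingHom.ker φ.toRingHom from hf]
  exact ha'

/-- the section of the differentials over the smooth open -/
theorem exists_section (hφ : Function.Surjective φ)
    (hker : RingHom.ker φ.toRingHom = Ideal.span (Set.range f)) (a : A)
    (E : Matrix (Fin n) (Fin n) (Localization.Away a))
    (hEG : ∀ p j, ∑ k, E p k * algebraMap A _ (φ (pderiv k (f j))) = algebraMap A _ (φ (pderiv p (f j)))) :
    ∃ D : Derivation R (Localization.Away a) (Fin n → Localization.Away a),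
      ∀ k i, D (algebraMap A _ (φ (X k))) i = (Pi.single k 1 : Fin n → Localization.Away a) i - E i k := by
  classical
  let S := Localization.Away a
  let al : A →+* S := algebraMap A S
  let grad : MvPolynomial (Fin n) R → (Fin n → S) := fun p i =>
    al (φ (pderiv i p)) - ∑ k, E i k * al (φ (pderiv k p))
  have hgrad_mul : ∀ p q, grad (p * q) = al (φ p) • grad q + al (φ q) • grad p := fun p q => by
    funext i
    simp only [grad, Derivation.leibniz, smul_eq_mul, map_add, map_mul, mul_add,
      Finset.sum_add_distrib, Pi.add_apply, Pi.smul_apply, mul_sub, Finset.mul_sum]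
    rw [Finset.sum_congr rfl fun k _ => mul_left_comm (E i k) (al (φ p)) (al (φ (pderiv k q))),
      Finset.sum_congr rfl fun k _ => mul_left_comm (E i k) (al (φ q)) (al (φ (pderiv k p)))]
    ring
  have hgrad_add : ∀ p q, grad (p + q) = grad p + grad q := fun p q => by
    funext i
    simp only [grad, map_add, mul_add, Finset.sum_add_distrib, Pi.add_apply]
    ring
  let ψ : MvPolynomial (Fin n) R →+* TrivSqZeroExt S (Fin n → S) :=
    { toFun := fun p => TrivSqZeroExt.inl (al (φ p)) + TrivSqZeroExt.inr (grad p)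
      map_one' := by
        refine TrivSqZeroExt.ext (by simp) ?_
        funext i
        simp [grad]
      map_zero' := by
        refine TrivSqZeroExt.ext (by simp) ?_
        funext i
        simp [grad]
      map_add' := fun p q => by
        refine TrivSqZeroExt.ext (by simp) ?_
        simp [hgrad_add]
      map_mul' := fun p q => by
        refine TrivSqZeroExt.ext (by simp) ?_
        simp [hgrad_mul, TrivSqZeroExt.snd_mul, add_comm] }
  have hψI : RingHom.ker φ.toRingHom ≤ RingHom.ker ψ := by
    rw [hker, Ideal.span_le]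
    rintro _ ⟨j, rfl⟩
    have h1 : φ (f j) = 0 := by
      have h2 : f j ∈ Ideal.span (Set.range f) := Ideal.subset_span ⟨j, rfl⟩
      rw [← hker] at h2; exact h2
    show ψ (f j) = 0
    refine TrivSqZeroExt.ext (by simp [ψ, h1]) ?_
    funext i
    simp only [ψ, RingHom.coe_mk, MonoidHom.coe_mk, OneHom.coe_mk, TrivSqZeroExt.snd_add,
      TrivSqZeroExt.snd_inl, TrivSqZeroExt.snd_inr, zero_add, TrivSqZeroExt.snd_zero, Pi.zero_apply]
    exact sub_eq_zero.2 (hEG i j).symm
  let ρ : A →+* TrivSqZeroExt S (Fin n → S) := φ.toRingHom.liftOfSurjective hφ ⟨ψ, hψI⟩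
  have hρ : ∀ p, ρ (φ p) = ψ p := fun p => RingHom.liftOfRightInverse_comp_apply _ _ _ _ p
  have hρfst : ∀ c, (ρ c).fst = al c := fun c => by
    obtain ⟨p, rfl⟩ := hφ c
    rw [hρ]; simp [ψ]
  have hu : IsUnit (ρ a) := by
    rw [TrivSqZeroExt.isUnit_iff_isUnit_fst, hρfst]
    exact IsLocalization.Away.algebraMap_isUnit a
  let F : S →+* TrivSqZeroExt S (Fin n → S) := IsLocalization.Away.lift a hu
  have hF : ∀ c, F (al c) = ρ c := fun c => IsLocalization.Away.lift_eq a hu c
  have hFfst : ∀ t, (F t).fst = t := fun t => by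
    have h : (TrivSqZeroExt.fstHom S S (Fin n → S)).toRingHom.comp F = RingHom.id S :=
      IsLocalization.ringHom_ext (Submonoid.powers a) (RingHom.ext fun c => by
        have h := hρfst c
        rw [← hF c] at h
        exact h)
    exact RingHom.congr_fun h t
  have hscal : ∀ c : R, algebraMap R S c = al (φ (C c)) := fun c => by
    rw [← MvPolynomial.algebraMap_eq, AlgHom.commutes, ← IsScalarTower.algebraMap_apply]
  let DL : S →ₗ[R] (Fin n → S) :=
    { toFun := fun t => (F t).snd
      map_add' := fun s t => by simp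
      map_smul' := fun c t => by
        have h0 : (F (algebraMap R S c)).snd = 0 := by
          rw [hscal, hF, hρ]
          funext i; simp [ψ, grad]
        rw [RingHom.id_apply, Algebra.smul_def c t, map_mul, TrivSqZeroExt.snd_mul, h0, hFfst,
          hFfst]
        funext i
        simp [Algebra.smul_def] }
  refine ⟨Derivation.mk' DL fun s t => ?_, fun k i => ?_⟩
  · show (F (s * t)).snd = s • (F t).snd + t • (F s).snd
    rw [map_mul, TrivSqZeroExt.snd_mul, hFfst, hFfst]
    simp
  · show (F (al (φ (X k)))).snd i = _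
    rw [hF, hρ]
    simp [ψ, grad, pderiv_X, Pi.single_apply, apply_ite φ, apply_ite al, mul_ite, eq_comm]

end Groth.Agent.SmoothingLib.StrictPow
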