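import Groth.Agent.SmoothingLib.FreeKaehler
import Groth.Agent.SmoothingLib.StrictExt
import Groth.Agent.SmoothingLib.DimZero
import Groth.Agent.SmoothingLib.DesingStd

/-!
The symmetric algebra of the conormal module is smooth over the smooth locus, so that a power of
every element of the singular ideal becomes strictly standard after a retraction.
-/

namespace Groth.Agent.SmoothingLib.SymSmooth

open MvPolynomial FreeKaehler

universe u

variable {R : Type u} [CommRing R] [IsNoetherianRing R] {A : Type u} [CommRing A] [Algebra R A]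
variable {n m : ℕ} {f : Fin m → MvPolynomial (Fin n) R} {φ : MvPolynomial (Fin n) R →ₐ[R] A}

theorem finitePresentation_symAlg [Algebra.FinitePresentation R A] :
    Algebra.FinitePresentation R (SymAlg f φ) := by
  haveI : IsNoetherianRing A := Algebra.FiniteType.isNoetherianRing R A
  haveI : Algebra.FinitePresentation R (MvPolynomial (Fin m) A) := Algebra.FinitePresentation.trans R A _
  exact Algebra.FinitePresentation.quotient (IsNoetherian.noetherian _)

set_option maxHeartbeats 800000 in
theorem smooth_away (hφ : Function.Surjective φ)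
    (hker : RingHom.ker φ.toRingHom = Ideal.span (Set.range f)) (a : A)
    [Algebra.Smooth R (Localization.Away a)] [Algebra.FinitePresentation R A] :
    Algebra.Smooth R (Localization.Away (algebraMap A (SymAlg f φ) a)) := by
  classical
  haveI := finitePresentation_symAlg (f := f) (φ := φ)
  obtain ⟨N, P, hP⟩ := exists_splitting f φ hφ hker a
  choose l hl using hP
  refine ⟨DimZero.formallySmooth_lifting (algebraMap A (SymAlg f φ) a) fun Q _ _ J hJ hh hu => ?_, ?_⟩
  swap
  · haveI : Algebra.FinitePresentation (SymAlg f φ) (Localization.Away (algebraMap A (SymAlg f φ) a)) :=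
      IsLocalization.Away.finitePresentation (algebraMap A (SymAlg f φ) a)
    exact Algebra.FinitePresentation.trans R (SymAlg f φ) _
  let hA : A →ₐ[R] Q ⧸ J := hh.comp (IsScalarTower.toAlgHom R A (SymAlg f φ))
  have hua : IsUnit (hA a) := hu
  have hM : ∀ y : Submonoid.powers a, IsUnit (hA y) := by
    rintro ⟨_, k, rfl⟩
    rw [map_pow]; exact hua.pow k
  obtain ⟨k₁, hk₁⟩ := Algebra.FormallySmooth.comp_surjective R (Localization.Away a) J hJ
    (IsLocalization.liftAlgHom (M := Submonoid.powers a) (f := hA) hM)
  let kA : A →ₐ[R] Q := k₁.comp (IsScalarTower.toAlgHom R A _)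
  have hkA : ∀ x, Ideal.Quotient.mk J (kA x) = hA x := fun x =>
    (DFunLike.congr_fun hk₁ (algebraMap A _ x)).trans (IsLocalization.lift_eq _ _)
  have hka : IsUnit (kA a) := (IsLocalization.Away.algebraMap_isUnit a).map k₁
  let u : Q := ↑hka.unit⁻¹
  let y : Fin m → Q ⧸ J := fun i => hh (Ideal.Quotient.mk _ (X i))
  choose w hw using fun k => Ideal.Quotient.mk_surjective (∑ i, hA (P i k) * y i)
  let z : Fin m → Q := fun j => u ^ N * ∑ k, kA (φ (pderiv k (f j))) * w k
  have hrel : ∀ v, Rel f φ v → ∑ j, hA (v j) * y j = 0 := by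
    intro v hv
    have h0 : Ideal.Quotient.mk (relIdeal f φ) (∑ j, C (v j) * X j) = 0 :=
      Ideal.Quotient.eq_zero_iff_mem.2 (Ideal.subset_span ⟨v, hv, rfl⟩)
    have h1 := congrArg hh h0
    simp only [map_sum, map_mul, map_zero] at h1
    exact h1
  have hz : ∀ j, Ideal.Quotient.mk J (z j) = y j := by
    intro j
    have h1 := hrel _ (hl j)
    simp only [map_sub, map_mul, map_sum, map_pow, apply_ite hA, map_zero, sub_mul, Finset.sum_mul,
      ite_mul, zero_mul, Finset.sum_sub_distrib, Finset.sum_ite_eq', Finset.mem_univ, if_true, pow_add] at h1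
    have h2 : hA a ^ l j * (hA a ^ N * y j - ∑ k, hA (φ (pderiv k (f j))) * ∑ i, hA (P i k) * y i) = 0 := by
      rw [mul_sub, ← mul_assoc, mul_comm (hA a ^ l j) (hA a ^ N), ← h1]
      congr 1
      simp only [Finset.mul_sum]
      rw [Finset.sum_comm]
      refine Finset.sum_congr rfl fun i _ => ?_
      rw [Finset.sum_mul]
      exact Finset.sum_congr rfl fun k _ => by ring
    rw [(hua.pow _).mul_right_eq_zero, sub_eq_zero] at h2
    have hu1 : Ideal.Quotient.mk J u * hA a = 1 := by
      rw [← hkA, ← map_mul, hka.val_inv_mul, map_one]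
    simp only [z, map_mul, map_pow, map_sum, hkA, hw]
    rw [← h2, ← mul_assoc, ← mul_pow, hu1, one_pow, one_mul]
  let k₀ : MvPolynomial (Fin m) A →ₐ[R] Q := MvPolynomial.aevalTower kA z
  have hk0 : ∀ p ∈ relIdeal f φ, k₀ p = 0 := by
    have hle : relIdeal f φ ≤ RingHom.ker k₀.toRingHom := by
      refine Ideal.span_le.2 ?_
      rintro _ ⟨v, hv, rfl⟩
      show k₀ (∑ j, C (v j) * X j) = 0
      simp only [map_sum, map_mul, k₀, MvPolynomial.aevalTower_C, MvPolynomial.aevalTower_X, z]
      rw [show ∑ j, kA (v j) * (u ^ N * ∑ k, kA (φ (pderiv k (f j))) * w k) =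
          u ^ N * ∑ k, (∑ j, kA (v j * φ (pderiv k (f j)))) * w k from by
        simp only [Finset.mul_sum, Finset.sum_mul, map_mul]
        rw [Finset.sum_comm]
        exact Finset.sum_congr rfl fun k _ => Finset.sum_congr rfl fun j _ => by ring]
      simp only [← map_sum, rel_jacobian f φ hker hv, map_zero, zero_mul, Finset.sum_const_zero, mul_zero]
    exact fun p hp => hle hp
  refine ⟨Ideal.Quotient.liftₐ (R₁ := R) (relIdeal f φ) k₀ hk0, Ideal.Quotient.algHom_ext _ ?_⟩
  refine AlgHom.coe_ringHom_injective (MvPolynomial.ringHom_ext (fun x => ?_) fun x => ?_)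
  · show Ideal.Quotient.mk J (k₀ (C x)) = hA x
    rw [show k₀ (C x) = kA x from MvPolynomial.aevalTower_C _ _ _, hkA]
  · show Ideal.Quotient.mk J (k₀ (X x)) = y x
    rw [show k₀ (X x) = z x from MvPolynomial.aevalTower_X _ _ _, hz]

omit [IsNoetherianRing R] in
theorem smooth_away_of_mem {a : A} [Algebra.FinitePresentation R A] (ha : a ∈ Smoothing.singularIdeal R A) :
    Algebra.Smooth R (Localization.Away a) := DimZero.smooth_away_of_mem ha

/-- a retraction in which powers of the elements of the singular ideal are strictly standard -/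
theorem exists_retract_strictlyStandard [Algebra.FinitePresentation R A] :
    ∃ (C : Type u) (_ : CommRing C) (_ : Algebra R C), Algebra.FinitePresentation R C ∧
      ∃ (ι : A →ₐ[R] C) (ρ : C →ₐ[R] A), ρ.comp ι = AlgHom.id R A ∧
        (∀ a ∈ Smoothing.singularIdeal R A, ι a ∈ Smoothing.singularIdeal R C) ∧
        ∀ a ∈ Smoothing.singularIdeal R A, ∃ e₀ : ℕ, ∀ k, e₀ ≤ k →
          Smoothing.IsStrictlyStandard R C (ι a ^ k) := by
  obtain ⟨n, φ, hφ, hfg⟩ := ‹Algebra.FinitePresentation R A›.out
  obtain ⟨m, f, hf⟩ := Submodule.fg_iff_exists_fin_generating_family.1 hfg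
  haveI := finitePresentation_symAlg (f := f) (φ := φ)
  obtain ⟨-, ⟨ρ⟩⟩ := exists_retraction (f := f) (φ := φ)
  refine ⟨SymAlg f φ, inferInstance, inferInstance, inferInstance, IsScalarTower.toAlgHom R A _,
    ρ.restrictScalars R, AlgHom.ext fun a => ρ.commutes a, fun a ha => ?_, fun a ha => ?_⟩
  · haveI := smooth_away_of_mem ha
    haveI := smooth_away hφ hf.symm a
    exact DimZero.mem_singularIdeal_of_smooth (algebraMap A (SymAlg f φ) a)
  · haveI := smooth_away_of_mem ha
    haveI := smooth_away hφ hf.symm a
    haveI := free_kaehler hφ hf.symm a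
    let T := Localization.Away (algebraMap A (SymAlg f φ) a)
    haveI : Module.Finite T Ω[T⁄R] := inferInstance
    by_cases hT : Nontrivial T
    · haveI := hT
      let b := Module.finBasis T Ω[T⁄R]
      exact StrictExt.exists_pow_isStrictlyStandard (algebraMap A (SymAlg f φ) a) 0 _
        ((LinearEquiv.prodUnique).trans b.equivFun)
    · rw [not_nontrivial_iff_subsingleton] at hT
      exact StrictExt.exists_pow_isStrictlyStandard (algebraMap A (SymAlg f φ) a) 0 0
        { toFun := fun _ => 0, invFun := fun _ => 0, map_add' := fun _ _ => by simp,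
          map_smul' := fun _ _ => by simp, left_inv := fun x => by
            haveI : Subsingleton Ω[T⁄R] := Module.subsingleton T _
            exact Subsingleton.elim _ _, right_inv := fun x => Subsingleton.elim _ _ }

end Groth.Agent.SmoothingLib.SymSmooth
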